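import Cfsg.Agent.Lib.InvChar.SporHNTrace

/-! The saturation. -/

set_option autoImplicit false
set_option maxRecDepth 100000

namespace CfsgLib.InvChar.SporHN

open CfsgLib.InvChar.Coset

/-- hints -/
def relA0 : List (List (List (ℕ × List ℕ × ℕ) × ℕ)) := [
[([(0, [], 0), (1, [], 0), (4, [], 0), (3, [], 0), (2, [], 0)], 0), ([(1, [], 0), (4, [], 0), (3, [], 0), (2, [], 0), (0, [], 0)], 0), ([(2, [], 0), (0, [], 0), (1, [], 0), (4, [], 0), (3, [], 0)], 0), ([(3, [], 0), (2, [], 0), (0, [], 0), (1, [], 0), (4, [], 0)], 0), ([(4, [], 0), (3, [], 0), (2, [], 0), (0, [], 0), (1, [], 0)], 0), ([(5, [], 0), (6, [], 0), (13, [], 0), (27, [], 0), (12, [], 0)], 0), ([(6, [], 0), (13, [], 0), (27, [], 0), (12, [], 0), (5, [], 0)], 0),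 ([(7, [], 0), (26, [], 0), (8, [], 0), (15, [], 0), (14, [], 0)], 0), ([(8, [], 0), (15, [], 0), (14, [], 0), (7, [], 0), (26, [], 0)], 0), ([(9, [], 0), (16, [], 2985), (32, [], 1337), (33, [], 752), (17, [], 4192)], 0), ([(10, [], 0), (30, [], 0), (23, [2, 2, 1, 3, 0, 3, 1, 2, 0, 2, 1, 3, 0, 1, 3, 0], 2983), (22, [1, 3, 0, 2], 888), (31, [], 721)], 94616), ([(11, [], 0), (76, [], 0), (79, [1, 2, 0, 1, 2, 0, 2, 1, 3, 0], 49), (78, [2, 1, 3, 0, 3, 3], 116), (77, [], 49)], 0), ([(12, [], 0), (5, [], 0), (6, [], 0), (13, [], 0), (27, [], 0)], 0), ([(13, [], 0), (27, [], 0), (12, [], 0), (5, [], 0), (6, [], 0)], 0), ([(14, [], 0), (7, [], 0), (26, [], 0), (8, [], 0), (15, [], 0)], 0), ([(15, [], 0), (14, [], 0), (7, [], 0), (26,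 [], 0), (8, [], 0)], 0), ([(16, [], 0), (32, [], 1337), (33, [], 752), (17, [], 4192), (9, [], 0)], 2985), ([(17, [], 0), (9, [], 0), (16, [], 2985), (32, [], 1337), (33, [], 752)], 4192), ([(18, [], 0), (46, [], 0), (37, [], 0), (47, [2, 1, 2, 0, 2, 2, 2, 1, 2, 0, 2, 2], 0), (19, [2, 1, 2, 0, 2, 2, 2, 1, 2, 0, 2, 2], 0)], 2648), ([(19, [], 0), (18, [2, 1, 2, 0, 2, 2, 2, 1, 2, 0, 2, 2], 2648), (46, [2, 1, 2, 0, 2, 2, 2, 1, 2, 0, 2, 2], 0), (37, [2, 1, 2, 0, 2, 2, 2, 1, 2, 0, 2, 2], 0), (47, [], 146)], 0), ([(20, [], 0), (48, [], 0), (49, [2, 1, 2, 0, 2, 2, 2, 1, 2, 0, 2, 2], 132), (21, [2, 1, 2, 0, 2, 2, 2, 1, 2, 0, 2, 2], 0), (34, [], 459)], 0), ([(21, [], 0), (34, [2, 1, 2, 0, 2, 2, 2, 1, 2, 0, 2, 2], 459), (20, [2, 1, 2,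 0, 2, 2, 2, 1, 2, 0, 2, 2], 0), (48, [2, 1, 2, 0, 2, 2, 2, 1, 2, 0, 2, 2], 0), (49, [], 132)], 0), ([(22, [], 0), (31, [3, 1, 2, 0], 721), (10, [3, 1, 2, 0], 94616), (30, [3, 1, 2, 0], 0), (23, [1, 2, 0, 1, 2, 0, 2, 1, 3, 0, 2, 2, 1, 3, 0, 1, 3, 0], 5006)], 2302), ([(23, [], 0), (22, [1, 2, 0, 1, 2, 0, 2, 1, 3, 0, 2, 2, 1, 3, 0, 1, 3, 0], 1488), (31, [2, 2, 1, 2, 0, 2, 2, 1, 2, 0, 3, 1, 3, 0], 884), (10, [2, 2, 1, 2, 0, 2, 2, 1, 2, 0, 3, 1, 3, 0], 94616), (30, [2, 2, 1, 2, 0, 2, 2, 1, 2, 0, 3, 1, 3, 0], 0)], 2646), ([(24, [], 0), (81, [], 300), (64, [], 0), (63, [2, 2, 1, 2, 0, 1, 2, 0, 3, 1, 3, 0, 2, 1, 2, 0, 2, 1, 2, 0, 1, 2, 0, 1, 2, 0], 228), (80, [2, 2, 1, 2, 0, 1, 2, 0, 3, 1, 3, 0, 2, 1, 2, 0, 2, 1, 2, 0, 1, 2, 0, 1,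 2, 0], 462)], 2230), ([(25, [], 0), (57, [], 184), (85, [1, 2, 0, 1, 2, 0, 2, 2, 1, 3, 0, 3, 3, 1, 3, 0], 433), (84, [2, 2, 2, 1, 2, 0, 2, 1, 2, 0, 1, 2, 0, 2, 1, 3, 0, 3, 1, 2, 0, 3], 86), (58, [], 35)], 4816), ([(26, [], 0), (8, [], 0), (15, [], 0), (14, [], 0), (7, [], 0)], 0), ([(27, [], 0), (12, [], 0), (5, [], 0), (6, [], 0), (13, [], 0)], 0), ([(28, [], 0), (35, [], 569), (52, [], 48), (53, [], 0), (36, [], 0)], 0), ([(29, [], 0), (51, [], 0), (39, [], 0), (38, [], 668), (50, [], 0)], 0), ([(30, [], 0), (23, [2, 2, 1, 3, 0, 3, 1, 2, 0, 2, 1, 3, 0, 1, 3, 0], 2983), (22, [1, 3, 0, 2], 888), (31, [], 721), (10, [], 94616)], 0), ([(31, [], 0), (10, [], 94616), (30, [], 0), (23, [2, 2, 1, 3, 0, 3, 1, 2, 0, 2, 1, 3, 0, 1,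 3, 0], 2983), (22, [1, 3, 0, 2], 888)], 721), ([(32, [], 0), (33, [], 752), (17, [], 4192), (9, [], 0), (16, [], 2985)], 1337), ([(33, [], 0), (17, [], 4192), (9, [], 0), (16, [], 2985), (32, [], 1337)], 752), ([(34, [], 0), (20, [], 0), (48, [], 0), (49, [2, 1, 2, 0, 2, 2, 2, 1, 2, 0, 2, 2], 132), (21, [2, 1, 2, 0, 2, 2, 2, 1, 2, 0, 2, 2], 0)], 459), ([(35, [], 0), (52, [], 48), (53, [], 0), (36, [], 0), (28, [], 0)], 569), ([(36, [], 0), (28, [], 0), (35, [], 569), (52, [], 48), (53, [], 0)], 0), ([(37, [], 0), (47, [2, 1, 2, 0, 2, 2, 2, 1, 2, 0, 2, 2], 0), (19, [2, 1, 2, 0, 2, 2, 2, 1, 2, 0, 2, 2], 0), (18, [], 2648), (46, [], 0)], 0), ([(38, [], 0), (50, [], 0), (29, [], 0), (51, [], 0), (39, [], 0)], 668), ([(39, [],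 0), (38, [], 668), (50, [], 0), (29, [], 0), (51, [], 0)], 0), ([(40, [], 0), (83, [], 0), (82, [2, 1, 3, 0, 1, 3, 0, 2, 2, 1, 3, 0, 1, 3, 0, 3, 1, 2, 0, 1, 2, 0, 1, 2, 0], 411), (41, [2, 1, 3, 0, 1, 3, 0, 2, 2, 1, 3, 0, 1, 3, 0, 3, 1, 2, 0, 1, 2, 0, 1, 2, 0], 0), (56, [], 12)], 1341), ([(41, [], 0), (56, [2, 1, 3, 0, 3, 3, 1, 2, 0, 1, 2, 0, 3, 3, 1, 3, 0, 3, 1, 2, 0], 32), (40, [2, 1, 3, 0, 3, 3, 1, 2, 0, 1, 2, 0, 3, 3, 1, 3, 0, 3, 1, 2, 0], 1341), (83, [2, 1, 3, 0, 3, 3, 1, 2, 0, 1, 2, 0, 3, 3, 1, 3, 0, 3, 1, 2, 0], 0), (82, [], 304)], 0), ([(42, [], 0), (86, [1, 2, 0, 2, 2, 1, 2, 0, 3, 1, 3, 0], 294), (65, [2, 2, 2, 1, 2, 0, 2, 1, 3, 0, 3, 1, 2, 0, 1, 2, 0, 2], 76), (87, [1, 2, 0, 3, 3, 1, 2, 0, 2, 2, 1, 2, 0, 3, 3, 1,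 2, 0], 126), (43, [2, 1, 3, 0, 1, 3, 0, 2, 2, 1, 3, 0, 1, 3, 0, 3, 1, 2, 0, 1, 2, 0, 1, 2, 0], 841)], 61), ([(43, [], 0), (42, [2, 1, 3, 0, 3, 3, 1, 2, 0, 1, 2, 0, 3, 3, 1, 3, 0, 3, 1, 2, 0], 94), (86, [1, 2, 0, 3, 3, 1, 2, 0, 2, 2, 1, 2, 0, 3, 3, 1, 2, 0], 295), (65, [2, 1, 2, 0, 2, 2, 1, 2, 0, 3, 1, 3, 0, 3, 3], 108), (87, [2, 2, 2, 1, 2, 0, 2, 1, 2, 0, 1, 2, 0, 3, 3, 1, 3, 0, 1, 3, 0, 3, 1, 2, 0], 229)], 807), ([(44, [], 0), (66, [2, 1, 2, 0, 2, 1, 3, 0, 3, 1, 3, 0, 2, 1, 2, 0, 1, 2, 0, 2, 1, 3, 0, 1, 3, 0], 177), (96, [2, 1, 2, 0, 2, 1, 3, 0, 3, 1, 3, 0, 2, 1, 2, 0, 1, 2, 0, 2, 1, 3, 0, 1, 3, 0], 522), (97, [2, 1, 3, 0, 3, 1, 2, 0, 2, 1, 3, 0], 517), (67, [2, 1, 3, 0, 3, 1, 2, 0, 2, 1, 3, 0], 0)], 537), ([(45, [], 0),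 (93, [], 0), (70, [2, 1, 2, 0, 2, 1, 3, 0, 3, 1, 3, 0, 2, 1, 2, 0, 1, 2, 0, 2, 1, 3, 0, 1, 3, 0], 56), (71, [2, 1, 3, 0, 3, 1, 2, 0, 2, 1, 3, 0], 146), (94, [], 411)], 0), ([(46, [], 0), (37, [], 0), (47, [2, 1, 2, 0, 2, 2, 2, 1, 2, 0, 2, 2], 0), (19, [2, 1, 2, 0, 2, 2, 2, 1, 2, 0, 2, 2], 0), (18, [], 2648)], 0), ([(47, [], 0), (19, [], 0), (18, [2, 1, 2, 0, 2, 2, 2, 1, 2, 0, 2, 2], 2648), (46, [2, 1, 2, 0, 2, 2, 2, 1, 2, 0, 2, 2], 0), (37, [2, 1, 2, 0, 2, 2, 2, 1, 2, 0, 2, 2], 0)], 146), ([(48, [], 0), (49, [2, 1, 2, 0, 2, 2, 2, 1, 2, 0, 2, 2], 132), (21, [2, 1, 2, 0, 2, 2, 2, 1, 2, 0, 2, 2], 0), (34, [], 459), (20, [], 0)], 0), ([(49, [], 0), (21, [], 0), (34, [2, 1, 2, 0, 2, 2, 2, 1, 2, 0, 2, 2], 459), (20, [2, 1, 2, 0,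 2, 2, 2, 1, 2, 0, 2, 2], 0), (48, [2, 1, 2, 0, 2, 2, 2, 1, 2, 0, 2, 2], 0)], 132), ([(50, [], 0), (29, [], 0), (51, [], 0), (39, [], 0), (38, [], 668)], 0), ([(51, [], 0), (39, [], 0), (38, [], 668), (50, [], 0), (29, [], 0)], 0), ([(52, [], 0), (53, [], 0), (36, [], 0), (28, [], 0), (35, [], 569)], 48), ([(53, [], 0), (36, [], 0), (28, [], 0), (35, [], 569), (52, [], 48)], 0), ([(54, [], 0), (88, [], 26), (89, [2, 1, 2, 0, 2, 1, 3, 0, 2, 1, 2, 0, 2, 1, 2, 0, 1, 2, 0, 1, 2, 0, 2, 1, 2, 0, 2], 194), (55, [2, 1, 2, 0, 2, 1, 3, 0, 2, 1, 2, 0, 2, 1, 2, 0, 1, 2, 0, 1, 2, 0, 2, 1, 2, 0, 2], 0), (92, [], 379)], 0), ([(55, [], 0), (92, [2, 1, 2, 0, 2, 1, 3, 0, 2, 1, 2, 0, 2, 1, 2, 0, 1, 2, 0, 1, 2, 0, 2, 1, 2, 0, 2], 379), (54, [2,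 1, 2, 0, 2, 1, 3, 0, 2, 1, 2, 0, 2, 1, 2, 0, 1, 2, 0, 1, 2, 0, 2, 1, 2, 0, 2], 0), (88, [2, 1, 2, 0, 2, 1, 3, 0, 2, 1, 2, 0, 2, 1, 2, 0, 1, 2, 0, 1, 2, 0, 2, 1, 2, 0, 2], 26), (89, [], 194)], 0), ([(56, [], 0), (40, [], 1341), (83, [], 0), (82, [2, 1, 3, 0, 1, 3, 0, 2, 2, 1, 3, 0, 1, 3, 0, 3, 1, 2, 0, 1, 2, 0, 1, 2, 0], 411), (41, [2, 1, 3, 0, 1, 3, 0, 2, 2, 1, 3, 0, 1, 3, 0, 3, 1, 2, 0, 1, 2, 0, 1, 2, 0], 0)], 12), ([(57, [], 0), (85, [1, 2, 0, 1, 2, 0, 2, 2, 1, 3, 0, 3, 3, 1, 3, 0], 433), (84, [2, 2, 2, 1, 2, 0, 2, 1, 2, 0, 1, 2, 0, 2, 1, 3, 0, 3, 1, 2, 0, 3], 86), (58, [], 35), (25, [], 4816)], 184), ([(58, [], 0), (25, [], 4816), (57, [], 184), (85, [1, 2, 0, 1, 2, 0, 2, 2, 1, 3, 0, 3, 3, 1, 3, 0], 433), (84, [2, 2, 2,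 1, 2, 0, 2, 1, 2, 0, 1, 2, 0, 2, 1, 3, 0, 3, 1, 2, 0, 3], 86)], 35), ([(59, [], 0), (60, [2, 2, 1, 2, 0, 2, 1, 3, 0, 2, 1, 2, 0, 2, 1, 3, 0, 3], 208), (91, [2, 2, 1, 2, 0, 2, 1, 3, 0, 2, 1, 2, 0, 2, 1, 3, 0, 3], 0), (95, [1, 2, 0, 2, 1, 2, 0, 1, 2, 0, 1, 2, 0, 2, 1, 2, 0, 2, 1, 3, 0, 1, 3, 0, 3], 379), (90, [], 49)], 146), ([(60, [], 0), (91, [], 0), (95, [3, 1, 3, 0, 2, 1, 2, 0], 379), (90, [2, 2, 1, 2, 0, 2, 1, 3, 0, 2, 1, 2, 0, 2, 1, 3, 0, 3], 49), (59, [2, 2, 1, 2, 0, 2, 1, 3, 0, 2, 1, 2, 0, 2, 1, 3, 0, 3], 146)], 208), ([(61, [], 0), (99, [], 2342), (62, [], 0), (69, [2, 1, 3, 0], 146), (68, [2, 1, 3, 0], 110)], 146), ([(62, [], 0), (69, [2, 1, 3, 0], 146), (68, [2, 1, 3, 0], 110), (61, [], 146), (99, [], 2342)], 0),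 ([(63, [], 0), (80, [], 462), (24, [1, 2, 0, 1, 2, 0, 1, 2, 0, 3, 3, 1, 2, 0, 3, 1, 3, 0, 2, 1, 2, 0, 2, 2], 2230), (81, [1, 2, 0, 1, 2, 0, 1, 2, 0, 3, 3, 1, 2, 0, 3, 1, 3, 0, 2, 1, 2, 0, 2, 2], 300), (64, [1, 2, 0, 1, 2, 0, 1, 2, 0, 3, 3, 1, 2, 0, 3, 1, 3, 0, 2, 1, 2, 0, 2, 2], 0)], 228), ([(64, [], 0), (63, [2, 2, 1, 2, 0, 1, 2, 0, 3, 1, 3, 0, 2, 1, 2, 0, 2, 1, 2, 0, 1, 2, 0, 1, 2, 0], 228), (80, [2, 2, 1, 2, 0, 1, 2, 0, 3, 1, 3, 0, 2, 1, 2, 0, 2, 1, 2, 0, 1, 2, 0, 1, 2, 0], 462), (24, [], 2230), (81, [], 300)], 0), ([(65, [], 0), (87, [1, 2, 0, 3, 1, 3, 0, 1, 3, 0, 2, 2, 1, 3, 0, 1, 3, 0, 3, 3], 229), (43, [2, 2, 1, 2, 0, 2, 1, 3, 0, 3, 3, 1, 3, 0, 3], 807), (42, [2, 2, 2, 1, 2, 0, 2, 1, 3, 0, 3, 1, 2, 0, 2, 2], 94), (86,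 [3, 1, 2, 0, 3, 3, 1, 3, 0, 2, 1, 2, 0, 3, 1, 3, 0, 1, 3, 0], 426)], 63), ([(66, [], 0), (96, [], 522), (97, [3, 3, 1, 3, 0, 2, 1, 2, 0, 3, 1, 3, 0, 2, 1, 2, 0, 2], 517), (67, [3, 3, 1, 3, 0, 2, 1, 2, 0, 3, 1, 3, 0, 2, 1, 2, 0, 2], 0), (44, [1, 2, 0, 2, 2, 1, 2, 0, 2, 1, 3, 0, 1, 3, 0, 2, 1, 2, 0, 1, 2, 0, 2, 1, 3, 0], 537)], 177), ([(67, [], 0), (44, [1, 2, 0, 3, 1, 3, 0, 2, 1, 2, 0, 3], 537), (66, [3, 3, 1, 3, 0, 2, 1, 2, 0, 3, 1, 3, 0, 2, 1, 2, 0, 2], 177), (96, [3, 3, 1, 3, 0, 2, 1, 2, 0, 3, 1, 3, 0, 2, 1, 2, 0, 2], 522), (97, [], 517)], 0), ([(68, [], 0), (61, [1, 2, 0, 3], 146), (99, [1, 2, 0, 3], 2342), (62, [1, 2, 0, 3], 0), (69, [], 146)], 110), ([(69, [], 0), (68, [], 110), (61, [1, 2, 0, 3], 146), (99, [1, 2, 0,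 3], 2342), (62, [1, 2, 0, 3], 0)], 146), ([(70, [], 0), (71, [3, 3, 1, 3, 0, 2, 1, 2, 0, 3, 1, 3, 0, 2, 1, 2, 0, 2], 146), (94, [1, 2, 0, 2, 2, 1, 2, 0, 2, 1, 3, 0, 1, 3, 0, 2, 1, 2, 0, 1, 2, 0, 2, 1, 3, 0], 411), (45, [1, 2, 0, 2, 2, 1, 2, 0, 2, 1, 3, 0, 1, 3, 0, 2, 1, 2, 0, 1, 2, 0, 2, 1, 3, 0], 0), (93, [1, 2, 0, 2, 2, 1, 2, 0, 2, 1, 3, 0, 1, 3, 0, 2, 1, 2, 0, 1, 2, 0, 2, 1, 3, 0], 0)], 56), ([(71, [], 0), (94, [1, 2, 0, 3, 1, 3, 0, 2, 1, 2, 0, 3], 411), (45, [1, 2, 0, 3, 1, 3, 0, 2, 1, 2, 0, 3], 0), (93, [1, 2, 0, 3, 1, 3, 0, 2, 1, 2, 0, 3], 0), (70, [3, 3, 1, 3, 0, 2, 1, 2, 0, 3, 1, 3, 0, 2, 1, 2, 0, 2], 56)], 146), ([(72, [], 0), (72, [2, 1, 2, 0, 3, 3, 1, 2, 0, 1, 2, 0, 2, 1, 2, 0, 1, 2, 0, 1, 2, 0, 3], 40), (72, [2,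 2, 1, 2, 0, 3, 1, 3, 0, 3, 1, 2, 0, 3, 3, 1, 3, 0, 1, 3, 0], 220), (72, [1, 2, 0, 1, 2, 0, 2, 2, 1, 3, 0, 2, 1, 2, 0, 2, 1, 3, 0, 3, 3], 220), (72, [2, 1, 2, 0, 1, 2, 0, 1, 2, 0, 3, 3, 1, 3, 0, 2, 2, 1, 3, 0, 1, 3, 0], 220)], 40), ([(73, [], 0), (73, [2, 1, 2, 0, 1, 2, 0, 1, 2, 0, 3, 3, 1, 3, 0, 2, 2, 1, 3, 0, 1, 3, 0], 34), (73, [1, 2, 0, 1, 2, 0, 2, 2, 1, 3, 0, 2, 1, 2, 0, 2, 1, 3, 0, 3, 3], 209), (73, [2, 2, 1, 2, 0, 3, 1, 3, 0, 3, 1, 2, 0, 3, 3, 1, 3, 0, 1, 3, 0], 209), (73, [2, 1, 2, 0, 3, 3, 1, 2, 0, 1, 2, 0, 2, 1, 2, 0, 1, 2, 0, 1, 2, 0, 3], 209)], 34), ([(74, [], 0), (74, [2, 2, 1, 2, 0, 3, 3, 1, 3, 0, 1, 3, 0, 3, 1, 2, 0, 2, 1, 3, 0], 68), (74, [1, 2, 0, 1, 2, 0, 3, 3, 1, 3, 0, 2, 2, 1, 2, 0, 1, 2, 0, 2, 1, 3, 0],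 159), (74, [1, 2, 0, 3, 1, 3, 0, 1, 3, 0, 3, 3, 1, 2, 0, 2, 2, 1, 3, 0, 1, 3, 0], 159), (74, [1, 2, 0, 2, 1, 2, 0, 3, 1, 3, 0, 1, 3, 0, 3, 3, 1, 2, 0, 2, 2], 159)], 68), ([(75, [], 0), (75, [1, 2, 0, 2, 1, 2, 0, 3, 1, 3, 0, 1, 3, 0, 3, 3, 1, 2, 0, 2, 2], 159), (75, [1, 2, 0, 3, 1, 3, 0, 1, 3, 0, 3, 3, 1, 2, 0, 2, 2, 1, 3, 0, 1, 3, 0], 68), (75, [1, 2, 0, 1, 2, 0, 3, 3, 1, 3, 0, 2, 2, 1, 2, 0, 1, 2, 0, 2, 1, 3, 0], 68), (75, [2, 2, 1, 2, 0, 3, 3, 1, 3, 0, 1, 3, 0, 3, 1, 2, 0, 2, 1, 3, 0], 68)], 159), ([(76, [], 0), (79, [1, 2, 0, 1, 2, 0, 2, 1, 3, 0], 49), (78, [2, 1, 3, 0, 3, 3], 116), (77, [], 49), (11, [], 0)], 0), ([(77, [], 0), (11, [], 0), (76, [], 0), (79, [1, 2, 0, 1, 2, 0, 2, 1, 3, 0], 49), (78, [2, 1, 3, 0, 3, 3],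 116)], 49), ([(78, [], 0), (77, [2, 2, 1, 2, 0, 3], 0), (11, [2, 2, 1, 2, 0, 3], 0), (76, [2, 2, 1, 2, 0, 3], 0), (79, [2, 1, 2, 0, 1, 2, 0, 2, 1, 3, 0, 3], 82)], 230), ([(79, [], 0), (78, [2, 1, 2, 0, 1, 2, 0, 2, 1, 3, 0, 3], 248), (77, [1, 2, 0, 3, 1, 3, 0, 1, 3, 0], 154), (11, [1, 2, 0, 3, 1, 3, 0, 1, 3, 0], 0), (76, [1, 2, 0, 3, 1, 3, 0, 1, 3, 0], 0)], 49), ([(80, [], 0), (24, [1, 2, 0, 1, 2, 0, 1, 2, 0, 3, 3, 1, 2, 0, 3, 1, 3, 0, 2, 1, 2, 0, 2, 2], 2230), (81, [1, 2, 0, 1, 2, 0, 1, 2, 0, 3, 3, 1, 2, 0, 3, 1, 3, 0, 2, 1, 2, 0, 2, 2], 300), (64, [1, 2, 0, 1, 2, 0, 1, 2, 0, 3, 3, 1, 2, 0, 3, 1, 3, 0, 2, 1, 2, 0, 2, 2], 0), (63, [], 228)], 462), ([(81, [], 0), (64, [], 0), (63, [2, 2, 1, 2, 0, 1, 2, 0, 3, 1, 3, 0, 2, 1, 2,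 0, 2, 1, 2, 0, 1, 2, 0, 1, 2, 0], 228), (80, [2, 2, 1, 2, 0, 1, 2, 0, 3, 1, 3, 0, 2, 1, 2, 0, 2, 1, 2, 0, 1, 2, 0, 1, 2, 0], 462), (24, [], 2230)], 300), ([(82, [], 0), (41, [], 0), (56, [2, 1, 3, 0, 3, 3, 1, 2, 0, 1, 2, 0, 3, 3, 1, 3, 0, 3, 1, 2, 0], 32), (40, [2, 1, 3, 0, 3, 3, 1, 2, 0, 1, 2, 0, 3, 3, 1, 3, 0, 3, 1, 2, 0], 1341), (83, [2, 1, 3, 0, 3, 3, 1, 2, 0, 1, 2, 0, 3, 3, 1, 3, 0, 3, 1, 2, 0], 0)], 304), ([(83, [], 0), (82, [2, 1, 3, 0, 1, 3, 0, 2, 2, 1, 3, 0, 1, 3, 0, 3, 1, 2, 0, 1, 2, 0, 1, 2, 0], 411), (41, [2, 1, 3, 0, 1, 3, 0, 2, 2, 1, 3, 0, 1, 3, 0, 3, 1, 2, 0, 1, 2, 0, 1, 2, 0], 0), (56, [], 12), (40, [], 1341)], 0), ([(84, [], 0), (58, [2, 1, 3, 0, 2, 1, 2, 0, 3, 1, 3, 0, 2, 1, 2, 0, 2, 1, 2, 0, 3, 3], 35),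 (25, [2, 1, 3, 0, 2, 1, 2, 0, 3, 1, 3, 0, 2, 1, 2, 0, 2, 1, 2, 0, 3, 3], 4816), (57, [2, 1, 3, 0, 2, 1, 2, 0, 3, 1, 3, 0, 2, 1, 2, 0, 2, 1, 2, 0, 3, 3], 184), (85, [1, 2, 0, 2, 2, 1, 3, 0, 1, 3, 0, 3, 3, 1, 2, 0, 3, 1, 3, 0], 336)], 230), ([(85, [], 0), (84, [1, 2, 0, 2, 2, 1, 3, 0, 1, 3, 0, 3, 3, 1, 2, 0, 3, 1, 3, 0], 49), (58, [1, 2, 0, 2, 2, 1, 2, 0, 3, 3, 1, 3, 0, 1, 3, 0], 6), (25, [1, 2, 0, 2, 2, 1, 2, 0, 3, 3, 1, 3, 0, 1, 3, 0], 4816), (57, [1, 2, 0, 2, 2, 1, 2, 0, 3, 3, 1, 3, 0, 1, 3, 0], 184)], 433), ([(86, [], 0), (65, [1, 2, 0, 1, 2, 0, 2, 1, 3, 0, 3, 1, 2, 0, 2, 2, 1, 3, 0, 2], 63), (87, [2, 1, 3, 0, 1, 3, 0, 2, 2, 1, 3, 0, 1, 3, 0, 3, 1, 2, 0, 1, 2, 0, 1, 2, 0], 241), (43, [1, 2, 0, 3, 3, 1, 2, 0, 2, 2, 1, 2,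 0, 3, 3, 1, 2, 0], 893), (42, [1, 2, 0, 2, 2, 1, 2, 0, 3, 1, 3, 0], 213)], 295), ([(87, [], 0), (43, [2, 2, 2, 1, 2, 0, 2, 1, 2, 0, 1, 2, 0, 3, 3, 1, 3, 0, 1, 3, 0, 3, 1, 2, 0], 786), (42, [1, 2, 0, 3, 3, 1, 2, 0, 2, 2, 1, 2, 0, 3, 3, 1, 2, 0], 134), (86, [2, 1, 3, 0, 3, 3, 1, 2, 0, 1, 2, 0, 3, 3, 1, 3, 0, 3, 1, 2, 0], 294), (65, [2, 2, 1, 2, 0, 1, 2, 0, 3, 3, 1, 2, 0, 1, 2, 0, 2, 1, 3, 0], 74)], 229), ([(88, [], 0), (89, [2, 1, 2, 0, 2, 1, 3, 0, 2, 1, 2, 0, 2, 1, 2, 0, 1, 2, 0, 1, 2, 0, 2, 1, 2, 0, 2], 194), (55, [2, 1, 2, 0, 2, 1, 3, 0, 2, 1, 2, 0, 2, 1, 2, 0, 1, 2, 0, 1, 2, 0, 2, 1, 2, 0, 2], 0), (92, [], 379), (54, [], 0)], 26), ([(89, [], 0), (55, [], 0), (92, [2, 1, 2, 0, 2, 1, 3, 0, 2, 1, 2, 0, 2, 1, 2, 0, 1, 2, 0,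 1, 2, 0, 2, 1, 2, 0, 2], 379), (54, [2, 1, 2, 0, 2, 1, 3, 0, 2, 1, 2, 0, 2, 1, 2, 0, 1, 2, 0, 1, 2, 0, 2, 1, 2, 0, 2], 0), (88, [2, 1, 2, 0, 2, 1, 3, 0, 2, 1, 2, 0, 2, 1, 2, 0, 1, 2, 0, 1, 2, 0, 2, 1, 2, 0, 2], 26)], 194), ([(90, [], 0), (59, [], 146), (60, [2, 2, 1, 2, 0, 2, 1, 3, 0, 2, 1, 2, 0, 2, 1, 3, 0, 3], 208), (91, [2, 2, 1, 2, 0, 2, 1, 3, 0, 2, 1, 2, 0, 2, 1, 3, 0, 3], 0), (95, [1, 2, 0, 2, 1, 2, 0, 1, 2, 0, 1, 2, 0, 2, 1, 2, 0, 2, 1, 3, 0, 1, 3, 0, 3], 379)], 49), ([(91, [], 0), (95, [3, 1, 3, 0, 2, 1, 2, 0], 379), (90, [2, 2, 1, 2, 0, 2, 1, 3, 0, 2, 1, 2, 0, 2, 1, 3, 0, 3], 49), (59, [2, 2, 1, 2, 0, 2, 1, 3, 0, 2, 1, 2, 0, 2, 1, 3, 0, 3], 146), (60, [], 208)], 0), ([(92, [], 0), (54, [], 0), (88, [], 26), (89, [2,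 1, 2, 0, 2, 1, 3, 0, 2, 1, 2, 0, 2, 1, 2, 0, 1, 2, 0, 1, 2, 0, 2, 1, 2, 0, 2], 194), (55, [2, 1, 2, 0, 2, 1, 3, 0, 2, 1, 2, 0, 2, 1, 2, 0, 1, 2, 0, 1, 2, 0, 2, 1, 2, 0, 2], 0)], 379), ([(93, [], 0), (70, [2, 1, 2, 0, 2, 1, 3, 0, 3, 1, 3, 0, 2, 1, 2, 0, 1, 2, 0, 2, 1, 3, 0, 1, 3, 0], 56), (71, [2, 1, 3, 0, 3, 1, 2, 0, 2, 1, 3, 0], 146), (94, [], 411), (45, [], 0)], 0), ([(94, [], 0), (45, [], 0), (93, [], 0), (70, [2, 1, 2, 0, 2, 1, 3, 0, 3, 1, 3, 0, 2, 1, 2, 0, 1, 2, 0, 2, 1, 3, 0, 1, 3, 0], 56), (71, [2, 1, 3, 0, 3, 1, 2, 0, 2, 1, 3, 0], 146)], 411), ([(95, [], 0), (90, [2, 1, 2, 0, 1, 2, 0, 1, 2, 0, 2, 1, 2, 0, 2, 1, 3, 0, 1, 3, 0, 3, 1, 3, 0], 49), (59, [2, 1, 2, 0, 1, 2, 0, 1, 2, 0, 2, 1, 2, 0, 2, 1, 3, 0, 1, 3, 0, 3,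 1, 3, 0], 146), (60, [3, 1, 3, 0, 2, 1, 2, 0], 204), (91, [3, 1, 3, 0, 2, 1, 2, 0], 0)], 297), ([(96, [], 0), (97, [3, 3, 1, 3, 0, 2, 1, 2, 0, 3, 1, 3, 0, 2, 1, 2, 0, 2], 517), (67, [3, 3, 1, 3, 0, 2, 1, 2, 0, 3, 1, 3, 0, 2, 1, 2, 0, 2], 0), (44, [1, 2, 0, 2, 2, 1, 2, 0, 2, 1, 3, 0, 1, 3, 0, 2, 1, 2, 0, 1, 2, 0, 2, 1, 3, 0], 537), (66, [], 177)], 522), ([(97, [], 0), (67, [], 0), (44, [1, 2, 0, 3, 1, 3, 0, 2, 1, 2, 0, 3], 537), (66, [3, 3, 1, 3, 0, 2, 1, 2, 0, 3, 1, 3, 0, 2, 1, 2, 0, 2], 177), (96, [3, 3, 1, 3, 0, 2, 1, 2, 0, 3, 1, 3, 0, 2, 1, 2, 0, 2], 522)], 517), ([(98, [], 0), (98, [1, 3, 0, 1, 3, 0, 3, 1, 2, 0, 1, 2, 0, 3, 1, 3, 0, 1, 3, 0, 3], 20), (98, [3, 3, 1, 2, 0, 3, 1, 3, 0, 3, 1, 2, 0, 2, 2, 2], 20), (98, [2,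 2, 2, 1, 3, 0, 2, 1, 2, 0, 2, 1, 3, 0, 2, 2], 20), (98, [2, 1, 2, 0, 1, 2, 0, 2, 1, 3, 0, 1, 3, 0, 2, 1, 2, 0, 1, 2, 0], 20)], 20), ([(99, [], 0), (62, [], 0), (69, [2, 1, 3, 0], 146), (68, [2, 1, 3, 0], 110), (61, [], 146)], 2342), ([(100, [], 0), (100, [], 26170), (100, [], 26170), (100, [], 26170), (100, [], 26170)], 26170)]]

end CfsgLib.InvChar.SporHN
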