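import Cfsg.Agent.Lib.InvChar.SporHNTrace

/-! The saturation. -/

set_option autoImplicit false
set_option maxRecDepth 100000

namespace CfsgLib.InvChar.SporHN

open CfsgLib.InvChar.Coset

/-- hints -/
def relB0 : List (List (List (ℕ × List ℕ × ℕ) × ℕ)) := [
[([(0, [], 0), (3, [], 0), (2, [], 0)], 0), ([(4, [], 0), (2, [], 0), (0, [], 0)], 0), ([(3, [], 24400), (4, [], 24400), (3, [], 0)], 0), ([(1, [], 24400), (1, [], 24400), (4, [], 0)], 0), ([(2, [], 24400), (0, [], 0), (1, [], 0)], 0), ([(7, [], 24400), (27, [], 0), (12, [], 0)], 0), ([(8, [], 24400), (12, [], 2983), (5, [], 0)], 0), ([(6, [], 24400), (15, [], 2983), (14, [], 0)], 0), ([(5, [], 24400), (7, [], 24400), (26, [], 0)], 0), ([(10, [2, 2, 1, 2, 0, 2, 2,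 1, 2, 0, 3, 1, 3, 0], 63614), (33, [], 785), (17, [], 4192)], 0), ([(9, [3, 1, 2, 0], 208), (22, [1, 3, 0, 2], 2985), (31, [], 721)], 94616), ([(11, [1, 2, 0, 3, 1, 3, 0, 1, 3, 0], 64464), (78, [2, 1, 3, 0, 3, 3], 49), (77, [], 49)], 0), ([(15, [], 0), (13, [], 0), (27, [], 0)], 0), ([(14, [], 2983), (5, [], 24400), (6, [], 0)], 0), ([(12, [], 2983), (8, [], 24400), (15, [], 0)], 0), ([(13, [], 2983), (26, [], 48925), (8, [], 0)], 0), ([(23, [], 2983), (17, [], 2983), (9, [], 0)], 2985), ([(22, [1, 2, 0, 1, 2, 0, 2, 1, 3, 0, 2, 2, 1, 3, 0, 1, 3, 0], 1488), (32, [], 885), (33, [], 752)], 4192), ([(20, [2, 2, 1, 3, 0, 2, 1, 2, 0, 1, 2, 0, 2, 2, 1, 3, 0, 1, 3, 0], 2731), (47, [2, 1, 2, 0, 2, 2, 2, 1, 2, 0, 2, 2], 148), (19,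 [2, 1, 2, 0, 2, 2, 2, 1, 2, 0, 2, 2], 0)], 2648), ([(21, [2, 2, 1, 3, 0, 2, 1, 2, 0, 1, 2, 0, 2, 2, 1, 3, 0, 1, 3, 0], 2731), (37, [2, 1, 2, 0, 2, 2, 2, 1, 2, 0, 2, 2], 445), (47, [], 146)], 0), ([(19, [2, 2, 1, 3, 0, 2, 1, 2, 0, 1, 2, 0, 2, 2, 1, 3, 0, 1, 3, 0], 2551), (21, [2, 1, 2, 0, 2, 2, 2, 1, 2, 0, 2, 2], 3862), (34, [], 459)], 0), ([(18, [2, 2, 1, 3, 0, 2, 1, 2, 0, 1, 2, 0, 2, 2, 1, 3, 0, 1, 3, 0], 2551), (48, [2, 1, 2, 0, 2, 2, 2, 1, 2, 0, 2, 2], 132), (49, [], 132)], 0), ([(16, [], 2983), (30, [3, 1, 2, 0], 1337), (23, [1, 2, 0, 1, 2, 0, 2, 1, 3, 0, 2, 2, 1, 3, 0, 1, 3, 0], 5006)], 2302), ([(17, [2, 2, 2, 1, 3, 0, 2, 1, 2, 0, 3, 3], 2001), (10, [2, 2, 1, 2, 0, 2, 2, 1, 2, 0, 3, 1, 3, 0], 63934), (30, [2, 2,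 1, 2, 0, 2, 2, 1, 2, 0, 3, 1, 3, 0], 0)], 2646), ([(25, [2, 2, 1, 3, 0, 2, 2, 1, 3, 0, 2, 2, 2, 1, 3, 0], 184), (63, [2, 2, 1, 2, 0, 1, 2, 0, 3, 1, 3, 0, 2, 1, 2, 0, 2, 1, 2, 0, 1, 2, 0, 1, 2, 0], 175), (80, [2, 2, 1, 2, 0, 1, 2, 0, 3, 1, 3, 0, 2, 1, 2, 0, 2, 1, 2, 0, 1, 2, 0, 1, 2, 0], 462)], 2230), ([(24, [1, 3, 0, 1, 3, 0, 2, 1, 2, 0], 2230), (84, [2, 2, 2, 1, 2, 0, 2, 1, 2, 0, 1, 2, 0, 2, 1, 3, 0, 3, 1, 2, 0, 3], 378), (58, [], 35)], 4816), ([(27, [], 48925), (14, [], 0), (7, [], 0)], 0), ([(26, [], 42686), (6, [], 24400), (13, [], 0)], 0), ([(29, [1, 3, 0, 2], 31284), (53, [], 146), (36, [], 0)], 0), ([(28, [1, 3, 0, 2], 36679), (38, [], 786), (50, [], 0)], 0), ([(32, [3, 1, 2, 0], 786), (31, [], 786), (10, [], 94616)],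 0), ([(33, [3, 1, 2, 0], 752), (23, [2, 2, 1, 3, 0, 3, 1, 2, 0, 2, 1, 3, 0, 1, 3, 0], 202), (22, [1, 3, 0, 2], 888)], 721), ([(31, [2, 2, 1, 2, 0, 2, 2, 1, 2, 0, 3, 1, 3, 0], 834), (9, [], 97291), (16, [], 2985)], 1337), ([(30, [2, 2, 1, 2, 0, 2, 2, 1, 2, 0, 3, 1, 3, 0], 785), (16, [], 2646), (32, [], 1337)], 752), ([(37, [1, 3, 0, 2], 368), (49, [2, 1, 2, 0, 2, 2, 2, 1, 2, 0, 2, 2], 129), (21, [2, 1, 2, 0, 2, 2, 2, 1, 2, 0, 2, 2], 0)], 459), ([(39, [1, 3, 0, 2], 668), (36, [], 786), (28, [], 0)], 569), ([(38, [1, 3, 0, 2], 668), (52, [], 146), (53, [], 0)], 0), ([(34, [2, 2, 1, 3, 0, 2, 1, 2, 0, 1, 2, 0, 2, 2, 1, 3, 0, 1, 3, 0], 850), (18, [], 3655), (46, [], 0)], 0), ([(35, [1, 3, 0, 2], 569), (51, [], 48), (39, [],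 0)], 668), ([(36, [1, 3, 0, 2], 569), (29, [], 36679), (51, [], 0)], 0), ([(43, [2, 1, 3, 0, 3, 1, 2, 0, 2, 1, 3, 0, 3, 1, 2, 0], 1053), (41, [2, 1, 3, 0, 1, 3, 0, 2, 2, 1, 3, 0, 1, 3, 0, 3, 1, 2, 0, 1, 2, 0, 1, 2, 0], 292), (56, [], 12)], 1341), ([(42, [2, 1, 3, 0, 3, 1, 2, 0, 2, 1, 3, 0, 3, 1, 2, 0], 948), (83, [2, 1, 3, 0, 3, 3, 1, 2, 0, 1, 2, 0, 3, 3, 1, 3, 0, 3, 1, 2, 0], 12), (82, [], 304)], 0), ([(40, [2, 1, 2, 0, 1, 2, 0, 2, 2, 1, 2, 0, 3, 1, 3, 0], 804), (87, [1, 2, 0, 3, 3, 1, 2, 0, 2, 2, 1, 2, 0, 3, 3, 1, 2, 0], 319), (43, [2, 1, 3, 0, 1, 3, 0, 2, 2, 1, 3, 0, 1, 3, 0, 3, 1, 2, 0, 1, 2, 0, 1, 2, 0], 841)], 61), ([(41, [2, 1, 2, 0, 1, 2, 0, 2, 2, 1, 2, 0, 3, 1, 3, 0], 1037), (65, [2, 1, 2, 0, 2, 2, 1, 2, 0, 3,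 1, 3, 0, 3, 3], 132), (87, [2, 2, 2, 1, 2, 0, 2, 1, 2, 0, 1, 2, 0, 3, 3, 1, 3, 0, 1, 3, 0, 3, 1, 2, 0], 229)], 807), ([(45, [2, 2, 1, 2, 0, 2, 1, 3, 0, 2, 1, 2, 0, 2, 1, 3, 0, 3, 3, 1, 2, 0], 808), (97, [2, 1, 3, 0, 3, 1, 2, 0, 2, 1, 3, 0], 8), (67, [2, 1, 3, 0, 3, 1, 2, 0, 2, 1, 3, 0], 0)], 537), ([(44, [3, 1, 3, 0, 2, 1, 2, 0], 368), (71, [2, 1, 3, 0, 3, 1, 2, 0, 2, 1, 3, 0], 63), (94, [], 411)], 0), ([(49, [1, 3, 0, 2], 146), (19, [2, 1, 2, 0, 2, 2, 2, 1, 2, 0, 2, 2], 2648), (18, [], 2648)], 0), ([(48, [1, 3, 0, 2], 146), (46, [2, 1, 2, 0, 2, 2, 2, 1, 2, 0, 2, 2], 165), (37, [2, 1, 2, 0, 2, 2, 2, 1, 2, 0, 2, 2], 0)], 146), ([(46, [1, 3, 0, 2], 146), (34, [], 368), (20, [], 0)], 0), ([(47, [1, 3, 0, 2], 146), (20, [2,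 1, 2, 0, 2, 2, 2, 1, 2, 0, 2, 2], 3686), (48, [2, 1, 2, 0, 2, 2, 2, 1, 2, 0, 2, 2], 0)], 132), ([(53, [1, 3, 0, 2], 146), (39, [], 668), (38, [], 668)], 0), ([(52, [1, 3, 0, 2], 146), (50, [], 146), (29, [], 0)], 0), ([(50, [1, 3, 0, 2], 146), (28, [], 31284), (35, [], 569)], 48), ([(51, [1, 3, 0, 2], 146), (35, [], 569), (52, [], 48)], 0), ([(59, [3, 1, 3, 0, 2, 1, 2, 0], 146), (55, [2, 1, 2, 0, 2, 1, 3, 0, 2, 1, 2, 0, 2, 1, 2, 0, 1, 2, 0, 1, 2, 0, 2, 1, 2, 0, 2], 208), (92, [], 379)], 0), ([(60, [3, 1, 3, 0, 2, 1, 2, 0], 146), (88, [2, 1, 2, 0, 2, 1, 3, 0, 2, 1, 2, 0, 2, 1, 2, 0, 1, 2, 0, 1, 2, 0, 2, 1, 2, 0, 2], 185), (89, [], 194)], 0), ([(65, [1, 2, 0, 1, 2, 0, 2, 2, 1, 2, 0, 3, 1, 3, 0, 3, 1, 2, 0, 3], 190), (82,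 [2, 1, 3, 0, 1, 3, 0, 2, 2, 1, 3, 0, 1, 3, 0, 3, 1, 2, 0, 1, 2, 0, 1, 2, 0], 180), (41, [2, 1, 3, 0, 1, 3, 0, 2, 2, 1, 3, 0, 1, 3, 0, 3, 1, 2, 0, 1, 2, 0, 1, 2, 0], 0)], 12), ([(64, [1, 3, 0, 1, 3, 0, 2, 1, 2, 0], 149), (58, [], 4), (25, [], 4816)], 184), ([(63, [2, 2, 1, 2, 0, 1, 2, 0, 3, 1, 3, 0, 1, 3, 0, 3], 95), (85, [1, 2, 0, 1, 2, 0, 2, 2, 1, 3, 0, 3, 3, 1, 3, 0], 462), (84, [2, 2, 2, 1, 2, 0, 2, 1, 2, 0, 1, 2, 0, 2, 1, 3, 0, 3, 1, 2, 0, 3], 86)], 35), ([(55, [3, 1, 3, 0, 2, 1, 2, 0], 146), (95, [1, 2, 0, 2, 1, 2, 0, 1, 2, 0, 1, 2, 0, 2, 1, 2, 0, 2, 1, 3, 0, 1, 3, 0, 3], 297), (90, [], 49)], 146), ([(54, [3, 1, 3, 0, 2, 1, 2, 0], 146), (90, [2, 2, 1, 2, 0, 2, 1, 3, 0, 2, 1, 2, 0, 2, 1, 3, 0, 3], 216), (59, [2, 2,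 1, 2, 0, 2, 1, 3, 0, 2, 1, 2, 0, 2, 1, 3, 0, 3], 146)], 208), ([(68, [], 146), (69, [2, 1, 3, 0], 146), (68, [2, 1, 3, 0], 110)], 146), ([(69, [], 146), (61, [], 110), (99, [], 2342)], 0), ([(57, [2, 1, 3, 0, 2, 1, 2, 0, 3, 1, 3, 0, 2, 1, 2, 0, 2, 1, 2, 0, 3, 3], 211), (81, [1, 2, 0, 1, 2, 0, 1, 2, 0, 3, 3, 1, 2, 0, 3, 1, 3, 0, 2, 1, 2, 0, 2, 2], 408), (64, [1, 2, 0, 1, 2, 0, 1, 2, 0, 3, 3, 1, 2, 0, 3, 1, 3, 0, 2, 1, 2, 0, 2, 2], 0)], 228), ([(58, [2, 2, 1, 3, 0, 2, 2, 1, 3, 0, 2, 2, 2, 1, 3, 0], 26), (24, [], 2368), (81, [], 300)], 0), ([(56, [1, 2, 0, 2, 1, 2, 0, 3, 3, 1, 3, 0, 3, 1, 2, 0, 2, 2, 2], 47), (42, [2, 2, 2, 1, 2, 0, 2, 1, 3, 0, 3, 1, 2, 0, 2, 2], 1439), (86, [3, 1, 2, 0, 3, 3, 1, 3, 0, 2, 1, 2, 0, 3, 1,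 3, 0, 1, 3, 0], 426)], 63), ([(70, [3, 1, 3, 0, 2, 1, 2, 0], 146), (67, [3, 3, 1, 3, 0, 2, 1, 2, 0, 3, 1, 3, 0, 2, 1, 2, 0, 2], 146), (44, [1, 2, 0, 2, 2, 1, 2, 0, 2, 1, 3, 0, 1, 3, 0, 2, 1, 2, 0, 1, 2, 0, 2, 1, 3, 0], 537)], 177), ([(71, [3, 1, 3, 0, 2, 1, 2, 0], 146), (96, [3, 3, 1, 3, 0, 2, 1, 2, 0, 3, 1, 3, 0, 2, 1, 2, 0, 2], 58), (97, [], 517)], 0), ([(62, [], 146), (62, [1, 2, 0, 3], 146), (69, [], 146)], 110), ([(61, [], 146), (99, [1, 2, 0, 3], 124), (62, [1, 2, 0, 3], 0)], 146), ([(67, [3, 1, 3, 0, 2, 1, 2, 0], 146), (45, [1, 2, 0, 2, 2, 1, 2, 0, 2, 1, 3, 0, 1, 3, 0, 2, 1, 2, 0, 1, 2, 0, 2, 1, 3, 0], 565), (93, [1, 2, 0, 2, 2, 1, 2, 0, 2, 1, 3, 0, 1, 3, 0, 2, 1, 2, 0, 1, 2, 0, 2, 1, 3, 0], 0)], 56), ([(66, [3,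 1, 3, 0, 2, 1, 2, 0], 146), (93, [1, 2, 0, 3, 1, 3, 0, 2, 1, 2, 0, 3], 246), (70, [3, 3, 1, 3, 0, 2, 1, 2, 0, 3, 1, 3, 0, 2, 1, 2, 0, 2], 56)], 146), ([(74, [2, 1, 2, 0, 3, 1, 3, 0, 1, 3, 0, 2, 2, 1, 2, 0, 2, 1, 3, 0], 68), (72, [1, 2, 0, 1, 2, 0, 2, 2, 1, 3, 0, 2, 1, 2, 0, 2, 1, 3, 0, 3, 3], 146), (72, [2, 1, 2, 0, 1, 2, 0, 1, 2, 0, 3, 3, 1, 3, 0, 2, 2, 1, 3, 0, 1, 3, 0], 220)], 40), ([(75, [2, 1, 2, 0, 3, 1, 3, 0, 1, 3, 0, 2, 2, 1, 2, 0, 2, 1, 3, 0], 68), (73, [2, 2, 1, 2, 0, 3, 1, 3, 0, 3, 1, 2, 0, 3, 3, 1, 3, 0, 1, 3, 0], 110), (73, [2, 1, 2, 0, 3, 3, 1, 2, 0, 1, 2, 0, 2, 1, 2, 0, 1, 2, 0, 1, 2, 0, 3], 209)], 34), ([(73, [2, 1, 3, 0, 3, 1, 3, 0, 1, 3, 0, 2, 2, 1, 2, 0, 3, 1, 3, 0], 109), (74, [1, 2, 0, 3, 1, 3, 0,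 1, 3, 0, 3, 3, 1, 2, 0, 2, 2, 1, 3, 0, 1, 3, 0], 194), (74, [1, 2, 0, 2, 1, 2, 0, 3, 1, 3, 0, 1, 3, 0, 3, 3, 1, 2, 0, 2, 2], 159)], 68), ([(72, [2, 1, 3, 0, 3, 1, 3, 0, 1, 3, 0, 2, 2, 1, 2, 0, 3, 1, 3, 0], 109), (75, [1, 2, 0, 1, 2, 0, 3, 3, 1, 3, 0, 2, 2, 1, 2, 0, 1, 2, 0, 2, 1, 3, 0], 232), (75, [2, 2, 1, 2, 0, 3, 3, 1, 3, 0, 1, 3, 0, 3, 1, 2, 0, 2, 1, 3, 0], 68)], 159), ([(79, [], 0), (77, [], 49), (11, [], 0)], 0), ([(78, [2, 1, 2, 0, 1, 2, 0, 2, 1, 3, 0, 3], 248), (79, [1, 2, 0, 1, 2, 0, 2, 1, 3, 0], 62), (78, [2, 1, 3, 0, 3, 3], 116)], 49), ([(76, [], 49), (76, [2, 2, 1, 2, 0, 3], 49), (79, [2, 1, 2, 0, 1, 2, 0, 2, 1, 3, 0, 3], 82)], 230), ([(77, [1, 2, 0, 2, 2, 1, 2, 0, 3, 1, 3, 0], 230), (11, [1, 2, 0, 3, 1, 3,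 0, 1, 3, 0], 33933), (76, [1, 2, 0, 3, 1, 3, 0, 1, 3, 0], 0)], 49), ([(84, [], 49), (64, [1, 2, 0, 1, 2, 0, 1, 2, 0, 3, 3, 1, 2, 0, 3, 1, 3, 0, 2, 1, 2, 0, 2, 2], 146), (63, [], 228)], 462), ([(85, [2, 1, 3, 0, 1, 3, 0, 2, 1, 2, 0, 1, 2, 0, 2, 1, 3, 0, 1, 3, 0, 2], 103), (80, [2, 2, 1, 2, 0, 1, 2, 0, 3, 1, 3, 0, 2, 1, 2, 0, 2, 1, 2, 0, 1, 2, 0, 1, 2, 0], 180), (24, [], 2230)], 300), ([(87, [2, 1, 2, 0, 1, 2, 0, 2, 2, 1, 2, 0, 3, 1, 3, 0], 145), (40, [2, 1, 3, 0, 3, 3, 1, 2, 0, 1, 2, 0, 3, 3, 1, 3, 0, 3, 1, 2, 0], 905), (83, [2, 1, 3, 0, 3, 3, 1, 2, 0, 1, 2, 0, 3, 3, 1, 3, 0, 3, 1, 2, 0], 0)], 304), ([(86, [2, 1, 2, 0, 1, 2, 0, 2, 2, 1, 2, 0, 3, 1, 3, 0], 381), (56, [], 22), (40, [], 1341)], 0), ([(81, [1, 2, 0, 3, 3,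 1, 2, 0, 2, 2, 1, 2, 0, 3, 3, 1, 2, 0], 188), (57, [2, 1, 3, 0, 2, 1, 2, 0, 3, 1, 3, 0, 2, 1, 2, 0, 2, 1, 2, 0, 3, 3], 166), (85, [1, 2, 0, 2, 2, 1, 3, 0, 1, 3, 0, 3, 3, 1, 2, 0, 3, 1, 3, 0], 336)], 230), ([(80, [], 49), (25, [1, 2, 0, 2, 2, 1, 2, 0, 3, 3, 1, 3, 0, 1, 3, 0], 2983), (57, [1, 2, 0, 2, 2, 1, 2, 0, 3, 3, 1, 3, 0, 1, 3, 0], 184)], 433), ([(82, [2, 1, 3, 0, 3, 1, 2, 0, 2, 1, 3, 0, 3, 1, 2, 0], 2), (43, [1, 2, 0, 3, 3, 1, 2, 0, 2, 2, 1, 2, 0, 3, 3, 1, 2, 0], 784), (42, [1, 2, 0, 2, 2, 1, 2, 0, 3, 1, 3, 0], 213)], 295), ([(83, [2, 1, 3, 0, 3, 1, 2, 0, 2, 1, 3, 0, 3, 1, 2, 0], 434), (86, [2, 1, 3, 0, 3, 3, 1, 2, 0, 1, 2, 0, 3, 3, 1, 3, 0, 3, 1, 2, 0], 282), (65, [2, 2, 1, 2, 0, 1, 2, 0, 3, 3, 1, 2, 0, 1, 2, 0,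 2, 1, 3, 0], 74)], 229), ([(91, [2, 1, 2, 0, 1, 2, 0, 1, 2, 0, 2, 1, 2, 0, 2, 1, 3, 0, 1, 3, 0, 3, 1, 3, 0], 49), (92, [], 291), (54, [], 0)], 26), ([(90, [2, 1, 2, 0, 1, 2, 0, 1, 2, 0, 2, 1, 2, 0, 2, 1, 3, 0, 1, 3, 0, 3, 1, 3, 0], 49), (54, [2, 1, 2, 0, 2, 1, 3, 0, 2, 1, 2, 0, 2, 1, 2, 0, 1, 2, 0, 1, 2, 0, 2, 1, 2, 0, 2], 143), (88, [2, 1, 2, 0, 2, 1, 3, 0, 2, 1, 2, 0, 2, 1, 2, 0, 1, 2, 0, 1, 2, 0, 2, 1, 2, 0, 2], 26)], 194), ([(88, [2, 1, 2, 0, 2, 2, 2, 1, 2, 0, 2, 1, 2, 0, 3, 3, 1, 3, 0], 49), (91, [2, 2, 1, 2, 0, 2, 1, 3, 0, 2, 1, 2, 0, 2, 1, 3, 0, 3], 194), (95, [1, 2, 0, 2, 1, 2, 0, 1, 2, 0, 1, 2, 0, 2, 1, 2, 0, 2, 1, 3, 0, 1, 3, 0, 3], 379)], 49), ([(89, [2, 1, 2, 0, 2, 2, 2, 1, 2, 0, 2, 1, 2, 0, 3, 3, 1, 3, 0],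 49), (59, [2, 2, 1, 2, 0, 2, 1, 3, 0, 2, 1, 2, 0, 2, 1, 3, 0, 3], 143), (60, [], 208)], 0), ([(95, [2, 1, 2, 0, 2, 2, 1, 3, 0, 2, 2, 1, 2, 0, 2, 2, 1, 3, 0, 3, 1, 3, 0], 379), (89, [2, 1, 2, 0, 2, 1, 3, 0, 2, 1, 2, 0, 2, 1, 2, 0, 1, 2, 0, 1, 2, 0, 2, 1, 2, 0, 2], 49), (55, [2, 1, 2, 0, 2, 1, 3, 0, 2, 1, 2, 0, 2, 1, 2, 0, 1, 2, 0, 1, 2, 0, 2, 1, 2, 0, 2], 0)], 379), ([(96, [3, 1, 3, 0, 2, 2, 2, 1, 3, 0, 3, 1, 2, 0, 2, 1, 3, 0], 31), (94, [], 291), (45, [], 0)], 0), ([(97, [2, 1, 3, 0, 3, 1, 2, 0, 2, 1, 3, 0, 3, 1, 3, 0, 2, 1, 2, 0], 569), (70, [2, 1, 2, 0, 2, 1, 3, 0, 3, 1, 3, 0, 2, 1, 2, 0, 1, 2, 0, 2, 1, 3, 0, 1, 3, 0], 93), (71, [2, 1, 3, 0, 3, 1, 2, 0, 2, 1, 3, 0], 146)], 411), ([(92, [], 291), (60, [3, 1, 3, 0, 2,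 1, 2, 0], 146), (91, [3, 1, 3, 0, 2, 1, 2, 0], 0)], 297), ([(94, [3, 1, 3, 0, 2, 1, 2, 0, 2, 1, 3, 0, 3, 1, 2, 0, 2, 1, 3, 0], 528), (44, [1, 2, 0, 2, 2, 1, 2, 0, 2, 1, 3, 0, 1, 3, 0, 2, 1, 2, 0, 1, 2, 0, 2, 1, 3, 0], 807), (66, [], 177)], 522), ([(93, [2, 1, 3, 0, 3, 1, 2, 0, 2, 1, 2, 0, 1, 2, 0, 1, 2, 0, 2, 1, 2, 0], 90), (66, [3, 3, 1, 3, 0, 2, 1, 2, 0, 3, 1, 3, 0, 2, 1, 2, 0, 2], 56), (96, [3, 3, 1, 3, 0, 2, 1, 2, 0, 3, 1, 3, 0, 2, 1, 2, 0, 2], 522)], 517), ([(98, [2, 1, 2, 0, 1, 2, 0, 3, 3, 1, 2, 0, 1, 2, 0, 2, 1, 2, 0, 3], 224), (98, [2, 2, 2, 1, 3, 0, 2, 1, 2, 0, 2, 1, 3, 0, 2, 2], 609), (98, [2, 1, 2, 0, 1, 2, 0, 2, 1, 3, 0, 1, 3, 0, 2, 1, 2, 0, 1, 2, 0], 20)], 20), ([(99, [1, 2, 0, 3], 5017), (68, [2, 1, 3, 0],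 146), (61, [], 146)], 2342), ([(100, [2, 1, 2, 0, 3, 1, 3, 0], 18781), (100, [], 27498), (100, [], 26170)], 26170)]]

end CfsgLib.InvChar.SporHN
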