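import Cfsg.Agent.Lib.InvChar.SporHNTrace

/-! The saturation. -/

set_option autoImplicit false
set_option maxRecDepth 100000

namespace CfsgLib.InvChar.SporHN

open CfsgLib.InvChar.Coset

/-- hints -/
def relC0 : List (List (List (ℕ × List ℕ × ℕ) × ℕ)) := [
[([(0, [], 0), (5, [], 0), (2, [], 24400)], 0), ([(5, [], 0), (2, [], 24400), (0, [], 0)], 0), ([(6, [], 0), (14, [], 2300), (3, [], 24400)], 0), ([(7, [], 0), (26, [], 9832), (4, [], 24400)], 0), ([(8, [], 0), (12, [], 2300), (1, [], 24400)], 0), ([(1, [], 24400), (8, [], 0), (12, [], 2300)], 0), ([(2, [], 24400), (0, [], 0), (5, [], 0)], 0), ([(3, [], 24400), (6, [], 0), (14, [], 2300)], 0), ([(4, [], 24400), (7, [], 0), (26, [], 9832)], 0), ([(5,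 [2], 24400), (9, [2, 2, 2, 1, 3, 0, 2, 1, 2, 0, 3, 3], 93555), (17, [], 4086)], 0), ([(7, [2], 24400), (28, [], 0), (31, [], 569)], 94616), ([(9, [2], 24400), (24, [], 2985), (77, [], 300)], 0), ([(15, [], 2300), (13, [], 2300), (27, [], 4769)], 0), ([(14, [], 2300), (3, [], 24400), (6, [], 0)], 0), ([(13, [], 2300), (27, [], 4769), (15, [], 2300)], 0), ([(12, [], 2300), (1, [], 24400), (8, [], 0)], 0), ([(19, [2, 1, 2, 0, 2, 2, 2, 1, 2, 0, 2, 2], 2999), (12, [2], 2648), (9, [], 0)], 2985), ([(16, [2, 2, 2, 1, 3, 0, 2, 1, 2, 0, 3, 3], 3813), (39, [], 1414), (33, [], 668)], 4192), ([(12, [2], 2983), (9, [], 0), (19, [2, 1, 2, 0, 2, 2, 2, 1, 2, 0, 2, 2], 2983)], 2648), ([(13, [2], 2983), (29, [], 0), (47,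 [], 146)], 0), ([(14, [2], 2983), (10, [], 0), (34, [], 0)], 0), ([(15, [2], 2983), (20, [], 0), (49, [], 14)], 0), ([(21, [1, 3, 0, 2], 2744), (30, [3, 1, 2, 0], 368), (23, [1, 2, 0, 1, 2, 0, 2, 1, 3, 0, 2, 2, 1, 3, 0, 1, 3, 0], 103)], 2302), ([(20, [1, 3, 0, 2], 2744), (53, [1, 3, 0, 2], 146), (30, [2, 2, 1, 2, 0, 2, 2, 1, 2, 0, 3, 1, 3, 0], 415)], 2646), ([(16, [2], 2983), (42, [], 1337), (80, [2, 2, 1, 2, 0, 1, 2, 0, 3, 1, 3, 0, 2, 1, 2, 0, 2, 1, 2, 0, 1, 2, 0, 1, 2, 0], 196)], 2230), ([(20, [2], 2983), (59, [], 0), (58, [], 146)], 4816), ([(26, [], 9832), (4, [], 24400), (7, [], 0)], 0), ([(27, [], 4769), (15, [], 2300), (13, [], 2300)], 0), ([(26, [2], 42686), (10, [2, 2, 2, 1, 3, 0, 2, 1, 2, 0,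 3, 3], 87055), (36, [], 786)], 0), ([(27, [2], 42686), (18, [], 0), (50, [], 0)], 0), ([(34, [], 0), (14, [2], 2983), (10, [], 0)], 0), ([(35, [], 0), (49, [2, 1, 2, 0, 2, 2, 2, 1, 2, 0, 2, 2], 230), (22, [1, 3, 0, 2], 2629)], 721), ([(37, [], 0), (47, [2, 1, 2, 0, 2, 2, 2, 1, 2, 0, 2, 2], 14), (16, [], 2985)], 1337), ([(38, [], 0), (46, [], 146), (32, [], 786)], 752), ([(30, [], 786), (23, [2, 2, 1, 3, 0, 3, 1, 2, 0, 2, 1, 3, 0, 1, 3, 0], 2281), (21, [2, 1, 2, 0, 2, 2, 2, 1, 2, 0, 2, 2], 856)], 459), ([(31, [], 786), (7, [2], 94616), (28, [], 0)], 569), ([(30, [2, 2, 2, 1, 3, 0, 2, 1, 2, 0, 3, 3], 786), (20, [2, 1, 2, 0, 2, 2, 2, 1, 2, 0, 2, 2], 3793), (53, [], 62)], 0), ([(32, [], 786), (38, [], 752),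 (46, [], 146)], 0), ([(33, [], 786), (16, [2, 2, 2, 1, 3, 0, 2, 1, 2, 0, 3, 3], 4141), (39, [], 1414)], 668), ([(32, [2, 2, 2, 1, 3, 0, 2, 1, 2, 0, 3, 3], 850), (37, [2, 1, 2, 0, 2, 2, 2, 1, 2, 0, 2, 2], 381), (51, [], 146)], 0), ([(30, [2], 786), (25, [3, 1, 3, 0, 2, 1, 2, 0, 2, 1, 3, 0, 3, 1, 2, 0, 2, 1, 3, 0], 2230), (56, [], 148)], 1341), ([(31, [2], 786), (11, [2, 1, 2, 0, 2, 2, 1, 2, 0, 1, 2, 0], 64625), (82, [], 49)], 0), ([(32, [2], 786), (43, [], 752), (43, [2, 1, 3, 0, 1, 3, 0, 2, 2, 1, 3, 0, 1, 3, 0, 3, 1, 2, 0, 1, 2, 0, 1, 2, 0], 451)], 61), ([(33, [2], 786), (24, [1, 2, 0, 1, 2, 0, 1, 2, 0, 3, 3, 1, 2, 0, 3, 1, 3, 0, 2, 1, 2, 0, 2, 2], 1099), (87, [2, 2, 2, 1, 2, 0, 2, 1, 2, 0, 1, 2, 0, 3,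 3, 1, 3, 0, 1, 3, 0, 3, 1, 2, 0], 4)], 807), ([(34, [2], 786), (25, [], 0), (67, [2, 1, 3, 0, 3, 1, 2, 0, 2, 1, 3, 0], 146)], 537), ([(37, [2], 786), (55, [2, 2, 1, 3, 0, 3, 1, 2, 0, 3, 1, 3, 0, 3, 1, 2, 0, 2, 1, 2, 0, 2], 168), (94, [], 379)], 0), ([(50, [], 0), (27, [2], 42686), (18, [], 0)], 0), ([(51, [], 0), (32, [2, 2, 2, 1, 3, 0, 2, 1, 2, 0, 3, 3], 850), (37, [2, 1, 2, 0, 2, 2, 2, 1, 2, 0, 2, 2], 381)], 146), ([(49, [], 14), (15, [2], 2983), (20, [], 0)], 0), ([(48, [], 14), (52, [], 90), (48, [2, 1, 2, 0, 2, 2, 2, 1, 2, 0, 2, 2], 62)], 132), ([(46, [], 146), (32, [], 786), (38, [], 752)], 0), ([(47, [], 146), (13, [2], 2983), (29, [], 0)], 0), ([(49, [2, 1, 2, 0, 2, 2, 2, 1, 2, 0, 2, 2], 62),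 (22, [1, 3, 0, 2], 2629), (35, [], 721)], 48), ([(48, [2, 1, 2, 0, 2, 2, 2, 1, 2, 0, 2, 2], 62), (48, [], 9), (52, [], 90)], 0), ([(46, [2], 146), (45, [], 0), (92, [], 291)], 0), ([(47, [2], 146), (24, [2, 1, 2, 0, 2, 2, 2, 1, 2, 0, 2, 1, 3, 0, 3, 3], 1110), (89, [], 419)], 0), ([(57, [3, 1, 3, 0, 2, 1, 2, 0, 2, 1, 3, 0, 3, 1, 2, 0, 2, 1, 3, 0], 188), (82, [2, 2, 2, 1, 2, 0, 2, 1, 2, 0, 1, 2, 0, 3, 3, 1, 3, 0, 1, 3, 0, 3, 1, 2, 0], 180), (41, [2, 1, 3, 0, 1, 3, 0, 2, 2, 1, 3, 0, 1, 3, 0, 3, 1, 2, 0, 1, 2, 0, 1, 2, 0], 1108)], 12), ([(67, [2, 1, 3, 0, 3, 1, 2, 0, 2, 1, 3, 0], 184), (34, [2], 537), (25, [], 0)], 184), ([(60, [2, 2, 1, 2, 0, 2, 1, 3, 0, 2, 1, 2, 0, 2, 1, 3, 0, 3], 208), (85, [1, 3, 0, 1,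 3, 0, 3, 3, 1, 3, 0, 1, 3, 0, 2, 2, 1, 3, 0, 1, 3, 0], 28), (84, [2, 2, 2, 1, 2, 0, 2, 1, 2, 0, 1, 2, 0, 2, 1, 3, 0, 3, 1, 2, 0, 3], 260)], 35), ([(48, [2], 146), (60, [2, 2, 1, 3, 0, 3, 1, 2, 0, 3, 1, 3, 0, 3, 1, 2, 0, 2, 1, 2, 0, 2], 140), (90, [], 491)], 146), ([(49, [2], 146), (25, [2, 2, 1, 3, 0, 3, 1, 2, 0, 2, 2, 1, 3, 0, 3, 1, 3, 0], 3564), (59, [2, 2, 1, 2, 0, 2, 1, 3, 0, 2, 1, 2, 0, 2, 1, 3, 0, 3], 30)], 208), ([(49, [2, 1, 2, 0, 2, 2, 2, 1, 2, 0, 2, 2, 1, 3, 0], 62), (18, [1, 3, 0], 2401), (68, [2, 1, 3, 0], 146)], 146), ([(48, [2, 1, 2, 0, 2, 2, 2, 1, 2, 0, 2, 2, 1, 3, 0], 62), (61, [1, 2, 0, 3], 132), (99, [], 12661)], 0), ([(65, [1, 2, 0, 1, 2, 0, 2, 1, 3, 0, 3, 1, 2, 0, 2, 2, 1, 3, 0, 2],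 187), (81, [2, 2, 1, 2, 0, 2, 1, 3, 0, 3, 1, 3, 0, 2, 1, 2, 0, 3, 3], 324), (64, [1, 2, 0, 1, 2, 0, 1, 2, 0, 3, 3, 1, 2, 0, 3, 1, 3, 0, 2, 1, 2, 0, 2, 2], 222)], 228), ([(65, [2, 2, 1, 2, 0, 1, 2, 0, 3, 3, 1, 2, 0, 1, 2, 0, 2, 1, 3, 0], 108), (78, [2, 1, 3, 0, 3, 3], 229), (81, [], 49)], 0), ([(48, [1, 3, 0, 2, 2], 146), (57, [2, 1, 2, 0, 3, 1, 3, 0, 1, 3, 0, 3, 1, 3, 0, 1, 3, 0, 3, 1, 2, 0], 191), (86, [3, 1, 2, 0, 3, 3, 1, 3, 0, 2, 1, 2, 0, 3, 1, 3, 0, 1, 3, 0], 140)], 63), ([(50, [2], 146), (28, [1, 3, 0, 2, 1, 2, 0], 53297), (44, [1, 2, 0, 2, 2, 1, 2, 0, 2, 1, 3, 0, 1, 3, 0, 2, 1, 2, 0, 1, 2, 0, 2, 1, 3, 0], 708)], 177), ([(51, [2], 146), (45, [2, 1, 3, 0, 3, 1, 2, 0, 2, 1, 2, 0, 1, 2, 0, 1, 2, 0,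 2, 1, 2, 0], 637), (97, [], 282)], 0), ([(46, [2, 1, 2, 0, 2, 2, 2, 1, 2, 0, 2, 2, 1, 3, 0], 110), (37, [1, 3, 0], 178), (69, [], 110)], 110), ([(47, [2, 1, 2, 0, 2, 2, 2, 1, 2, 0, 2, 2, 1, 3, 0], 110), (20, [1, 3, 0], 2246), (62, [1, 2, 0, 3], 146)], 146), ([(52, [2], 146), (71, [], 0), (93, [1, 2, 0, 2, 2, 1, 2, 0, 2, 1, 3, 0, 1, 3, 0, 2, 1, 2, 0, 1, 2, 0, 2, 1, 3, 0], 541)], 56), ([(53, [2], 146), (44, [2, 1, 3, 0, 3, 1, 2, 0, 2, 1, 2, 0, 1, 2, 0, 1, 2, 0, 2, 1, 2, 0], 587), (70, [3, 3, 1, 3, 0, 2, 1, 2, 0, 3, 1, 3, 0, 2, 1, 2, 0, 2], 182)], 146), ([(54, [2], 146), (81, [2, 2, 1, 2, 0, 1, 2, 0, 2, 2, 1, 2, 0, 2, 1, 2, 0, 3], 247), (72, [2, 1, 2, 0, 1, 2, 0, 1, 2, 0, 3, 3, 1, 3, 0, 2, 2, 1, 3, 0, 1,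 3, 0], 224)], 40), ([(55, [2], 146), (92, [1, 3, 0, 3, 3, 1, 3, 0, 2, 1, 2, 0, 1, 2, 0], 93), (73, [2, 1, 2, 0, 3, 3, 1, 2, 0, 1, 2, 0, 2, 1, 2, 0, 1, 2, 0, 1, 2, 0, 3], 124)], 34), ([(59, [2], 146), (73, [1, 2, 0, 2, 1, 3, 0, 2, 1, 2, 0, 2, 1, 2, 0], 27), (74, [1, 2, 0, 2, 1, 2, 0, 3, 1, 3, 0, 1, 3, 0, 3, 3, 1, 2, 0, 2, 2], 88)], 68), ([(60, [2], 146), (89, [1, 2, 0, 1, 2, 0, 1, 2, 0, 3, 1, 3, 0, 1, 3, 0, 2, 2, 2, 1, 3, 0, 3, 1, 3, 0], 322), (75, [2, 2, 1, 2, 0, 3, 3, 1, 3, 0, 1, 3, 0, 3, 1, 2, 0, 2, 1, 3, 0], 113)], 159), ([(80, [], 0), (17, [2], 2679), (11, [], 0)], 0), ([(81, [], 0), (65, [2, 2, 1, 2, 0, 1, 2, 0, 3, 3, 1, 2, 0, 1, 2, 0, 2, 1, 3, 0], 108), (78, [2, 1, 3, 0, 3, 3], 229)], 49), ([(84,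 [], 0), (57, [2, 2, 1, 3, 0, 2, 2, 1, 3, 0, 2, 2, 2, 1, 3, 0], 215), (79, [2, 1, 2, 0, 1, 2, 0, 2, 1, 3, 0, 3], 481)], 230), ([(85, [], 0), (83, [3, 3, 1, 2, 0, 2, 2, 1, 3, 0, 3, 1, 2, 0, 2, 1, 3, 0], 30), (76, [1, 2, 0, 3, 1, 3, 0, 1, 3, 0], 274)], 49), ([(76, [], 49), (86, [], 0), (63, [], 50)], 462), ([(77, [], 49), (9, [2], 24400), (24, [], 2985)], 300), ([(76, [2, 1, 2, 0, 2, 2, 1, 2, 0, 1, 2, 0], 49), (85, [1, 2, 0, 2, 2, 1, 2, 0, 1, 2, 0, 2, 1, 3, 0, 3], 137), (83, [2, 1, 3, 0, 3, 3, 1, 2, 0, 1, 2, 0, 3, 3, 1, 3, 0, 3, 1, 2, 0], 5)], 304), ([(77, [2, 1, 2, 0, 2, 2, 1, 2, 0, 1, 2, 0], 296), (10, [2], 44872), (40, [], 0)], 0), ([(78, [], 49), (83, [2, 1, 3, 0, 3, 1, 2, 0, 2, 1, 3, 0, 3, 1, 2, 0],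 421), (85, [1, 2, 0, 2, 2, 1, 3, 0, 1, 3, 0, 3, 3, 1, 2, 0, 3, 1, 3, 0], 57)], 230), ([(79, [], 49), (84, [2, 1, 3, 0, 1, 3, 0, 2, 1, 2, 0, 1, 2, 0, 2, 1, 3, 0, 1, 3, 0, 2], 103), (57, [1, 2, 0, 2, 2, 1, 2, 0, 3, 3, 1, 3, 0, 1, 3, 0], 183)], 433), ([(79, [1, 2, 0, 1, 2, 0, 2, 1, 3, 0], 49), (87, [], 116), (42, [1, 2, 0, 2, 2, 1, 2, 0, 3, 1, 3, 0], 1081)], 295), ([(78, [2, 1, 3, 0, 3, 3], 49), (81, [], 49), (65, [2, 2, 1, 2, 0, 1, 2, 0, 3, 3, 1, 2, 0, 1, 2, 0, 2, 1, 3, 0], 108)], 229), ([(80, [3, 1, 2, 0, 1, 2, 0, 2, 1, 3, 0, 2, 2, 1, 3, 0], 22), (18, [2], 3089), (54, [], 0)], 26), ([(81, [2, 1, 2, 0, 2, 2, 2, 1, 2, 0, 2, 1, 3, 0, 3, 3], 76), (54, [3, 1, 3, 0, 2, 2], 107), (88, [2, 1, 2, 0, 2, 1, 3, 0,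 2, 1, 2, 0, 2, 1, 2, 0, 1, 2, 0, 1, 2, 0, 2, 1, 2, 0, 2], 449)], 194), ([(91, [2, 2, 1, 3, 0, 3, 1, 2, 0, 3, 1, 3, 0, 3, 1, 2, 0, 2, 1, 2, 0, 2], 491), (96, [2, 1, 3, 0, 3, 1, 2, 0, 2, 1, 3, 0], 569), (95, [1, 2, 0, 2, 1, 2, 0, 1, 2, 0, 1, 2, 0, 2, 1, 2, 0, 2, 1, 3, 0, 1, 3, 0, 3], 230)], 49), ([(90, [2, 2, 1, 3, 0, 3, 1, 2, 0, 3, 1, 3, 0, 3, 1, 2, 0, 2, 1, 2, 0, 2], 491), (48, [3, 3, 1, 3, 0, 2, 2, 2, 1, 3, 0], 133), (60, [], 132)], 0), ([(93, [], 0), (64, [1, 3, 0, 2], 146), (55, [2, 1, 2, 0, 2, 1, 3, 0, 2, 1, 2, 0, 2, 1, 2, 0, 1, 2, 0, 1, 2, 0, 2, 1, 2, 0, 2], 102)], 379), ([(92, [], 291), (46, [2], 146), (45, [], 0)], 0), ([(92, [3, 1, 3, 0, 2, 2], 291), (64, [2, 1, 2, 0, 2, 2, 2, 1, 2, 0, 2, 1, 3,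 0, 3, 3], 115), (71, [2, 1, 3, 0, 3, 1, 2, 0, 2, 1, 3, 0], 48)], 411), ([(96, [3, 1, 3, 0, 2, 2, 2, 1, 3, 0, 3, 1, 2, 0, 2, 1, 3, 0], 31), (95, [1, 3, 0, 3, 1, 2, 0, 1, 2, 0], 291), (91, [3, 1, 3, 0, 2, 1, 2, 0], 491)], 297), ([(94, [3, 1, 3, 0, 2, 1, 2, 0, 2, 1, 3, 0, 3, 1, 2, 0, 2, 1, 3, 0], 204), (38, [2], 587), (66, [], 0)], 522), ([(93, [2, 1, 3, 0, 3, 1, 2, 0, 2, 1, 2, 0, 1, 2, 0, 1, 2, 0, 2, 1, 2, 0], 155), (66, [3, 3, 1, 3, 0, 2, 1, 2, 0, 3, 1, 3, 0, 2, 1, 2, 0, 2], 63), (96, [3, 3, 1, 3, 0, 2, 1, 2, 0, 3, 1, 3, 0, 2, 1, 2, 0, 2], 187)], 517), ([(92, [2, 2, 2, 1, 2, 0, 3, 3, 1, 3, 0, 3, 3, 1, 2, 0, 2, 1, 2, 0], 587), (55, [1, 3, 0, 1, 3, 0, 3, 1, 2, 0, 2, 1, 3, 0, 3, 3, 1, 2, 0, 3, 1, 3, 0], 1),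 (98, [2, 1, 2, 0, 1, 2, 0, 2, 1, 3, 0, 1, 3, 0, 2, 1, 2, 0, 1, 2, 0], 432)], 20), ([(99, [1, 2, 0, 3], 4358), (48, [1, 3, 0], 146), (61, [], 90)], 2342), ([(99, [2, 1, 2, 0, 1, 2, 0, 3, 1, 3, 0, 2, 1, 2, 0, 2, 2], 3824), (61, [2, 1, 2, 0, 1, 2, 0, 3, 1, 3, 0, 2, 1, 2, 0, 2, 2], 228), (100, [], 8986)], 26170)],
[([(0, [], 0), (5, [], 0), (2, [], 24400)], 0), ([(5, [], 25770), (2, [], 24400), (0, [], 0)], 8232), ([(6, [], 25770), (14, [], 2300), (3, [], 24400)], 8232), ([(7, [], 13988), (26, [], 9832), (4, [], 24400)], 628), ([(8, [], 13988), (12, [], 2300), (1, [], 24400)], 628), ([(9, [1, 3, 0], 13988), (19, [3], 2758), (12, [3], 2569)], 0), ([(9, [2, 2, 2, 1, 3, 0, 2, 1, 2, 0, 3, 3, 1, 3, 0], 107028),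 (17, [1, 3, 0], 3054), (5, [3], 628)], 0), ([(10, [1, 3, 0], 25770), (34, [2, 1, 2, 0, 2, 2, 2, 1, 2, 0, 2], 949), (14, [3], 2629)], 0), ([(10, [2, 2, 2, 1, 3, 0, 2, 1, 2, 0, 3, 3, 1, 3, 0], 103486), (36, [3], 658), (26, [3], 25175)], 0), ([(7, [2, 2, 1, 2, 0, 3, 1, 3, 0, 2, 2], 43151), (27, [2, 2, 1, 2, 0, 3, 1, 3, 0, 2, 2], 64047), (17, [3], 4192)], 0), ([(6, [2, 2, 1, 2, 0, 3, 1, 3, 0, 2, 2], 47204), (16, [2, 2, 1, 3, 0, 3, 1, 2, 0, 2, 2], 219), (31, [3], 988)], 94616), ([(10, [1, 3, 0, 1, 3, 0, 2], 117646), (40, [1, 3, 0, 2, 2, 1, 2, 0, 1, 2, 0, 1, 2, 0, 2, 1, 2, 0], 1056), (77, [3], 277)], 0), ([(18, [2, 1, 2, 0, 2, 2, 2, 1, 2, 0, 2], 2999), (50, [3], 110), (27, [3], 25175)], 0), ([(19, [2, 1, 2,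 0, 2, 2, 2, 1, 2, 0, 2], 2999), (17, [2, 2, 2, 1, 3, 0, 2, 1, 2, 0, 3, 3, 1, 3, 0], 1456), (6, [3], 110913)], 0), ([(20, [2, 1, 2, 0, 2, 2, 2, 1, 2, 0, 2], 3083), (49, [2, 1, 2, 0, 2, 2, 2, 1, 2, 0, 2], 14), (15, [3], 2629)], 0), ([(21, [2, 1, 2, 0, 2, 2, 2, 1, 2, 0, 2], 3083), (31, [2, 2, 2, 1, 3, 0, 2, 1, 2, 0, 3, 3, 1, 3, 0], 777), (8, [3], 115699)], 0), ([(23, [1, 3, 0], 2300), (14, [2, 2, 1, 2, 0, 3, 1, 3, 0, 2, 2], 3082), (9, [3], 32214)], 2985), ([(12, [2, 2, 1, 2, 0, 3, 1, 3, 0, 2, 2], 3311), (10, [2, 2, 1, 3, 0, 3, 1, 2, 0, 2, 2], 96587), (33, [3], 1288)], 4192), ([(17, [2, 2, 2, 1, 3, 0, 2, 1, 2, 0, 3, 3, 1, 3, 0], 1936), (6, [3], 110913), (19, [2, 1, 2, 0, 2, 2, 2, 1, 2, 0, 2], 2999)], 2648),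 ([(16, [1, 3, 0], 2569), (37, [2, 1, 2, 0, 2, 2, 2, 1, 2, 0, 2], 1132), (47, [3], 14)], 0), ([(23, [3, 1, 2, 0, 3], 2569), (22, [2, 2, 2, 1, 2, 0, 2, 1, 3, 0, 3, 1, 2, 0, 1, 2, 0], 3645), (34, [3], 426)], 0), ([(22, [3, 1, 2, 0, 3], 2569), (35, [3], 661), (49, [3], 48)], 0), ([(21, [2, 1, 2, 0, 2, 2, 2, 1, 2, 0, 2, 1, 2, 0, 3], 3083), (30, [3, 1, 2, 0, 3], 459), (23, [2, 2, 1, 3, 0, 1, 3, 0, 3, 1, 3, 0, 2, 1, 2, 0, 1, 2, 0], 765)], 1024), ([(20, [2, 1, 2, 0, 2, 2, 2, 1, 2, 0, 2, 1, 2, 0, 3], 3083), (53, [3, 1, 2, 0, 3], 62), (30, [2, 2, 1, 2, 0, 2, 2, 1, 2, 0, 3, 1, 3, 0, 3], 840)], 2646), ([(18, [2, 1, 2, 0, 2, 2, 2, 1, 2, 0, 2, 1, 3, 0, 2], 1441), (54, [2, 1, 2, 0, 2, 2, 2, 1, 2, 0, 2, 1, 2, 0, 3, 3,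 1, 3, 0, 3], 149), (80, [2, 1, 3, 0, 2, 2, 1, 2, 0, 3, 1, 3, 0, 1, 3, 0, 3, 1, 2, 0, 1, 2, 0], 70)], 1469), ([(19, [2, 2, 1, 2, 0, 3, 1, 3, 0, 3, 3, 1, 2, 0, 2], 2522), (20, [2, 1, 2, 0, 2, 1, 3, 0, 2, 1, 2, 0, 3, 3, 1, 3, 0], 573), (58, [3], 70)], 4816), ([(28, [3], 32257), (31, [1, 3, 0], 752), (7, [3], 48493)], 0), ([(29, [3], 32257), (47, [2, 1, 2, 0, 2, 2, 2, 1, 2, 0, 2], 110), (13, [3], 2985)], 0), ([(26, [3], 25175), (10, [2, 2, 2, 1, 3, 0, 2, 1, 2, 0, 3, 3, 1, 3, 0], 103486), (36, [3], 658)], 0), ([(27, [3], 25175), (18, [2, 1, 2, 0, 2, 2, 2, 1, 2, 0, 2], 2999), (50, [3], 110)], 0), ([(31, [2, 2, 1, 3, 0, 3, 1, 2, 0, 2, 2], 154), (5, [2, 2, 1, 2, 0, 3, 1, 3, 0, 2, 2], 49248), (10, [3], 73659)],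 0), ([(32, [2, 2, 1, 3, 0, 3, 1, 2, 0, 2, 2], 1406), (33, [2, 2, 1, 3, 0, 3, 1, 2, 0, 2, 2], 170), (22, [1, 3, 0], 4804)], 721), ([(32, [3], 154), (30, [2, 2, 1, 3, 0, 3, 1, 2, 0, 2, 2], 1091), (16, [3], 1754)], 1337), ([(30, [2, 2, 1, 3, 0, 3, 1, 2, 0, 2, 2], 1260), (16, [3], 1754), (32, [3], 412)], 752), ([(31, [2, 2, 2, 1, 3, 0, 2, 1, 2, 0, 3, 3, 1, 3, 0], 380), (8, [3], 115699), (21, [2, 1, 2, 0, 2, 2, 2, 1, 2, 0, 2], 3083)], 459), ([(31, [1, 3, 0], 658), (7, [3], 48493), (28, [3], 32257)], 569), ([(30, [2, 2, 2, 1, 3, 0, 2, 1, 2, 0, 3, 3, 1, 3, 0], 658), (20, [3], 4153), (53, [3], 146)], 0), ([(33, [2, 2, 2, 1, 3, 0, 2, 1, 2, 0, 3, 3, 1, 3, 0], 369), (18, [3], 33), (46, [3], 14)], 0), ([(33, [1,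 3, 0], 675), (16, [2, 2, 2, 1, 3, 0, 2, 1, 2, 0, 3, 3, 1, 3, 0], 4660), (39, [3], 355)], 668), ([(32, [2, 2, 2, 1, 3, 0, 2, 1, 2, 0, 3, 3, 1, 3, 0], 654), (37, [3], 637), (51, [3], 110)], 0), ([(42, [1, 3, 0, 1, 3, 0, 2, 2, 1, 3, 0], 1184), (90, [2, 1, 2, 0, 2, 1, 3, 0, 3, 1, 2, 0, 1, 2, 0, 1, 2, 0, 3, 1, 3, 0, 2, 1, 2, 0, 2, 2], 390), (56, [3], 119)], 1341), ([(41, [1, 3, 0, 1, 3, 0, 2, 2, 1, 3, 0], 89), (65, [2, 2, 1, 2, 0, 1, 2, 0, 3, 3, 1, 3, 0, 1, 3, 0, 3, 3, 1, 2, 0, 2, 2], 58), (82, [3], 307)], 0), ([(40, [1, 3, 0, 1, 3, 0, 2, 2, 1, 3, 0], 1188), (87, [2, 1, 3, 0, 3, 1, 2, 0, 2, 1, 3, 0, 3], 238), (43, [1, 2, 0, 3, 3, 1, 2, 0, 2, 2, 1, 2, 0, 3, 1, 3, 0, 1, 3, 0, 2], 242)], 344), ([(42, [2, 1, 2,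 0, 3, 3, 1, 2, 0, 2, 2, 1, 3, 0, 3, 1, 2, 0, 2], 348), (83, [2, 2, 1, 3, 0, 3, 1, 2, 0, 1, 2, 0, 2, 1, 2, 0, 1, 2, 0], 389), (87, [1, 2, 0, 2, 1, 2, 0, 3, 3, 1, 3, 0, 3, 1, 2, 0, 3, 3, 1, 2, 0, 1, 2, 0], 4)], 770), ([(43, [1, 2, 0, 2, 1, 2, 0, 3, 3, 1, 3, 0, 3, 1, 2, 0, 2, 2], 867), (41, [2, 2, 1, 3, 0, 3, 1, 2, 0, 1, 2, 0, 2, 1, 2, 0, 2], 625), (67, [2, 1, 3, 0, 3, 1, 2, 0, 2, 1, 3, 0, 3], 130)], 537), ([(40, [2, 1, 2, 0, 1, 2, 0, 2, 1, 3, 0, 1, 3, 0, 3, 1, 2, 0, 2, 1, 3, 0, 1, 3, 0, 3], 895), (91, [1, 2, 0, 2, 1, 2, 0, 1, 2, 0, 2, 1, 2, 0, 3, 1, 3, 0, 1, 3, 0, 3, 1, 2, 0, 1, 2, 0, 2], 488), (94, [3], 246)], 0), ([(46, [3], 14), (33, [2, 2, 2, 1, 3, 0, 2, 1, 2, 0, 3, 3, 1, 3, 0], 369), (18, [3], 33)],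 0), ([(47, [3], 14), (16, [1, 3, 0], 2569), (37, [2, 1, 2, 0, 2, 2, 2, 1, 2, 0, 2], 1132)], 146), ([(53, [3], 146), (30, [2, 2, 2, 1, 3, 0, 2, 1, 2, 0, 3, 3, 1, 3, 0], 658), (20, [3], 4153)], 0), ([(52, [3], 146), (48, [3], 146), (48, [2, 1, 2, 0, 2, 2, 2, 1, 2, 0, 2], 9)], 132), ([(46, [2, 1, 2, 0, 2, 2, 2, 1, 2, 0, 2], 110), (32, [1, 3, 0], 754), (38, [3], 668)], 0), ([(47, [2, 1, 2, 0, 2, 2, 2, 1, 2, 0, 2], 110), (13, [3], 2985), (29, [3], 32257)], 0), ([(49, [3], 146), (22, [3, 1, 2, 0, 3], 2569), (35, [3], 661)], 48), ([(48, [3], 146), (48, [2, 1, 2, 0, 2, 2, 2, 1, 2, 0, 2], 9), (52, [3], 132)], 0), ([(57, [2, 2, 1, 2, 0, 1, 2, 0, 2, 1, 2, 0, 1, 2, 0, 1, 2, 0, 3, 1, 3, 0, 3], 136), (91, [2, 1, 2,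 0, 2, 1, 3, 0, 2, 1, 2, 0, 2, 1, 2, 0, 1, 2, 0, 1, 2, 0, 2, 1, 2, 0], 408), (92, [3], 6)], 0), ([(58, [2, 1, 3, 0, 2, 2, 2, 1, 2, 0, 1, 2, 0, 3, 3, 1, 3, 0], 4), (24, [2, 2, 1, 3, 0, 3, 1, 2, 0, 1, 2, 0, 2, 1, 2, 0, 2], 4272), (89, [3], 451)], 0), ([(59, [2, 1, 2, 0, 2, 1, 3, 0, 3, 1, 2, 0, 1, 2, 0, 1, 2, 0, 3, 1, 3, 0, 2, 1, 2, 0, 2, 2], 99), (56, [1, 2, 0, 1, 2, 0, 3, 3, 1, 2, 0, 1, 2, 0, 1, 2, 0, 2, 1, 3, 0], 227), (41, [1, 2, 0, 3, 3, 1, 2, 0, 2, 2, 1, 2, 0, 3, 1, 3, 0, 1, 3, 0, 2], 406)], 29), ([(64, [1, 2, 0, 1, 2, 0, 1, 2, 0, 2, 1, 2, 0, 3, 1, 3, 0, 2, 1, 2, 0], 10), (47, [2, 2, 1, 2, 0, 3, 1, 3, 0, 3, 3, 1, 2, 0, 2], 231), (25, [3], 3291)], 184), ([(48, [2, 1, 2, 0, 2, 1, 3, 0, 2, 1, 2, 0, 3,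 3, 1, 3, 0], 117), (65, [2, 2, 1, 2, 0, 3, 3, 1, 2, 0, 2, 2, 1, 3, 0, 3, 1, 3, 0, 1, 3, 0, 2], 74), (84, [2, 1, 3, 0, 1, 3, 0, 2, 1, 2, 0, 1, 2, 0, 2, 1, 3, 0, 1, 3, 0, 3, 1, 2, 0], 267)], 35), ([(56, [1, 2, 0, 2, 2, 1, 3, 0, 1, 3, 0, 3, 1, 3, 0, 2, 1, 2, 0, 2], 112), (42, [1, 2, 0, 3, 3, 1, 2, 0, 2, 2, 1, 2, 0, 3, 3], 780), (90, [3], 332)], 146), ([(56, [1, 2, 0, 2, 1, 2, 0, 1, 2, 0, 1, 2, 0, 3, 1, 3, 0, 2, 1, 2, 0, 2], 178), (41, [1, 2, 0, 2, 1, 3, 0, 1, 3, 0, 3, 1, 2, 0, 2, 1, 3, 0, 1, 3, 0, 3], 418), (59, [2, 2, 1, 2, 0, 2, 1, 3, 0, 2, 1, 2, 0, 2, 1, 3, 0, 3, 3], 204)], 208), ([(71, [2, 1, 2, 0, 3, 1, 3, 0, 2, 2, 2, 1, 3, 0, 3, 1, 2, 0, 2], 76), (97, [2, 1, 2, 0, 3, 1, 3, 0, 2, 2, 2, 1, 3, 0, 3, 1,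 2, 0, 2], 244), (68, [2, 1, 3, 0, 3], 76)], 146), ([(70, [2, 1, 2, 0, 3, 1, 3, 0, 2, 2, 2, 1, 3, 0, 3, 1, 2, 0, 2], 76), (61, [1, 2, 0, 3, 1, 3, 0], 175), (99, [3], 52)], 0), ([(57, [1, 2, 0, 1, 2, 0, 2, 1, 2, 0, 3, 1, 3, 0, 3, 1, 2, 0, 2, 1, 3, 0, 2, 2], 176), (89, [3, 3, 1, 2, 0, 1, 2, 0, 3], 326), (64, [1, 2, 0, 1, 2, 0, 1, 2, 0, 3, 3, 1, 2, 0, 3, 1, 3, 0, 2, 1, 2, 0, 2], 82)], 228), ([(70, [3, 1, 2, 0, 2, 2, 2, 1, 2, 0, 2, 1, 3, 0, 3, 1, 2, 0, 2], 221), (63, [2, 1, 3, 0, 1, 3, 0, 2, 1, 2, 0, 1, 2, 0, 3, 3, 1, 2, 0, 1, 2, 0], 142), (81, [3], 53)], 0), ([(63, [3, 1, 2, 0, 1, 2, 0, 2, 2, 1, 2, 0, 3, 3, 1, 2, 0, 1, 2, 0], 193), (76, [2, 1, 2, 0, 3, 3, 1, 3, 0, 1, 3, 0, 2], 348), (86, [3, 1, 2, 0, 1, 2,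 0, 2, 2, 1, 2, 0, 3, 3, 1, 2, 0, 1, 2, 0], 105)], 89), ([(58, [2, 1, 2, 0, 3, 3, 1, 2, 0, 2, 1, 3, 0, 3, 1, 3, 0, 2, 1, 2, 0], 114), (21, [2, 2, 1, 3, 0, 3, 1, 2, 0, 2, 1, 3, 0, 1, 3, 0], 2555), (44, [2, 1, 3, 0, 1, 3, 0, 3, 3, 1, 2, 0, 3, 1, 3, 0, 3, 3, 1, 2, 0, 2], 1057)], 104), ([(57, [2, 1, 3, 0, 3, 1, 2, 0, 2, 1, 3, 0, 1, 3, 0], 184), (91, [3, 3, 1, 2, 0, 2, 2, 1, 3, 0, 3, 1, 2, 0, 2, 1, 3, 0, 1, 3, 0], 268), (97, [3], 8)], 0), ([(55, [2, 1, 2, 0, 3, 1, 3, 0, 2, 2, 2, 1, 3, 0, 3, 1, 2, 0, 2], 232), (92, [2, 1, 2, 0, 3, 1, 3, 0, 2, 2, 2, 1, 3, 0, 3, 1, 2, 0, 2], 484), (69, [3], 232)], 110), ([(54, [2, 1, 2, 0, 3, 1, 3, 0, 2, 2, 2, 1, 3, 0, 3, 1, 2, 0, 2], 232), (90, [1, 2, 0, 1, 2, 0, 1, 2, 0, 2,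 1, 2, 0, 3, 1, 3, 0, 2, 1, 2, 0, 1, 2, 0, 3, 3], 387), (62, [1, 2, 0, 3, 3], 51)], 146), ([(64, [1, 2, 0, 2, 2, 1, 3, 0, 1, 3, 0, 3, 1, 3, 0, 2, 1, 2, 0, 2], 51), (55, [3, 1, 3, 0, 2, 2, 2, 1, 3, 0, 3, 1, 2, 0, 2, 1, 3, 0, 1, 3, 0], 119), (93, [2, 1, 3, 0, 1, 3, 0, 3, 3, 1, 2, 0, 3, 1, 3, 0, 3, 3, 1, 2, 0, 2], 132)], 221), ([(63, [1, 2, 0, 1, 2, 0, 1, 2, 0, 2, 1, 2, 0, 1, 2, 0, 2, 1, 3, 0, 1, 3, 0, 2, 1, 2, 0], 78), (81, [1, 2, 0, 3, 1, 3, 0, 2, 1, 2, 0, 3, 1, 3, 0], 48), (70, [3, 3, 1, 3, 0, 2, 1, 2, 0, 3, 1, 3, 0, 2, 1, 2, 0], 56)], 146), ([(59, [1, 2, 0, 2, 2, 1, 3, 0, 3, 3, 1, 3, 0, 2, 1, 2, 0, 2, 1, 2, 0, 1, 2, 0, 1, 2, 0], 139), (75, [2, 2, 2, 1, 2, 0, 3, 1, 3, 0, 3, 1, 2, 0, 2, 1, 2, 0, 1, 2, 0,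 2], 38), (72, [3, 1, 2, 0, 1, 2, 0, 2, 1, 2, 0, 1, 2, 0, 3, 3, 1, 2, 0, 1, 2, 0, 1, 2, 0], 225)], 40), ([(60, [1, 2, 0, 2, 2, 1, 3, 0, 3, 3, 1, 3, 0, 2, 1, 2, 0, 2, 1, 2, 0, 1, 2, 0, 1, 2, 0], 139), (89, [3, 3, 1, 2, 0, 3, 3, 1, 3, 0, 3, 1, 2, 0, 2, 1, 3, 0], 355), (73, [2, 1, 2, 0, 2, 1, 2, 0, 3, 1, 3, 0, 1, 3, 0, 3, 3, 1, 3, 0, 2], 86)], 34), ([(55, [1, 2, 0, 2, 2, 1, 3, 0, 3, 3, 1, 3, 0, 2, 1, 2, 0, 2, 1, 2, 0, 1, 2, 0, 1, 2, 0], 120), (92, [3, 1, 2, 0, 2, 1, 3, 0, 3, 1, 2, 0, 1, 2, 0, 1, 2, 0, 2], 507), (74, [1, 2, 0, 2, 1, 2, 0, 3, 1, 3, 0, 1, 3, 0, 3, 3, 1, 2, 0, 2], 113)], 68), ([(54, [1, 2, 0, 2, 2, 1, 3, 0, 3, 3, 1, 3, 0, 2, 1, 2, 0, 2, 1, 2, 0, 1, 2, 0, 1, 2, 0], 120), (90, [1, 2, 0, 3, 3, 1,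 3, 0, 3, 3, 1, 3, 0, 1, 3, 0, 3, 3], 454), (75, [2, 2, 1, 2, 0, 3, 3, 1, 3, 0, 1, 3, 0, 3, 1, 2, 0, 2, 1, 3, 0, 3], 91)], 159), ([(82, [1, 3, 0, 2, 2, 1, 2, 0, 1, 2, 0, 1, 2, 0, 2, 1, 2, 0], 204), (31, [1, 3, 0, 1, 3, 0, 2], 741), (11, [3], 9441)], 0), ([(83, [1, 3, 0, 2, 2, 1, 2, 0, 1, 2, 0, 1, 2, 0, 2, 1, 2, 0], 252), (85, [2, 1, 2, 0, 2, 2, 2, 1, 3, 0, 3, 1, 2, 0, 2, 2], 57), (78, [3, 3, 1, 2, 0], 188)], 23), ([(87, [2, 1, 2, 0, 1, 2, 0, 1, 2, 0, 2, 1, 3, 0, 3, 1, 2, 0, 3, 1, 3, 0, 3], 102), (42, [3, 1, 2, 0, 2, 2, 1, 3, 0, 1, 3, 0, 2, 2, 1, 2, 0, 1, 2, 0], 1354), (79, [1, 3, 0, 1, 3, 0, 2, 2, 1, 3, 0], 493)], 49), ([(86, [2, 2, 1, 2, 0, 1, 2, 0, 3, 1, 3, 0, 1, 3, 0, 3, 3], 183), (63, [2, 2, 1, 2,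 0, 1, 2, 0, 3, 1, 3, 0, 1, 3, 0, 3, 3], 50), (76, [1, 2, 0, 3, 1, 3, 0, 1, 3, 0, 3], 299)], 49), ([(80, [1, 2, 0, 1, 2, 0, 3, 3, 1, 2, 0, 1, 2, 0, 2], 252), (25, [1, 2, 0, 1, 2, 0, 2, 1, 2, 0, 3, 1, 3, 0, 3, 1, 2, 0, 2, 1, 3, 0, 2, 2], 1150), (63, [3], 221)], 462), ([(80, [2, 1, 3, 0, 1, 3, 0, 2, 1, 2, 0, 1, 2, 0, 3, 3, 1, 2, 0, 1, 2, 0], 330), (19, [1, 2, 0, 3], 4550), (24, [3], 2230)], 300), ([(87, [1, 2, 0, 1, 2, 0, 3, 3, 1, 2, 0, 1, 2, 0, 2], 419), (42, [2, 2, 1, 3, 0, 3, 1, 2, 0, 1, 2, 0, 2, 1, 2, 0, 1, 2, 0], 201), (83, [2, 1, 2, 0, 3, 1, 3, 0, 2, 2, 2, 1, 3, 0, 3, 1, 2, 0, 2, 1, 2, 0], 469)], 383), ([(87, [2, 1, 3, 0, 1, 3, 0, 2, 1, 2, 0, 1, 2, 0, 3, 3, 1, 2, 0, 1, 2, 0], 18), (43, [1, 2, 0, 3,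 3, 1, 2, 0, 2, 2, 1, 2, 0, 2, 2, 2, 1, 2, 0], 5), (40, [3], 608)], 0), ([(84, [3, 3, 1, 3, 0, 2, 1, 2, 0, 3, 1, 3, 0, 2, 1, 2, 0], 413), (60, [2, 1, 2, 0, 3, 1, 3, 0, 3, 1, 2, 0, 1, 2, 0, 2, 1, 2, 0, 1, 2, 0, 2, 1, 3, 0, 1, 3, 0], 96), (85, [2, 2, 2, 1, 2, 0, 2, 2, 1, 2, 0, 3, 3, 1, 2, 0, 1, 2, 0], 218)], 185), ([(85, [3, 3, 1, 3, 0, 2, 1, 2, 0, 3, 1, 3, 0, 2, 1, 2, 0], 413), (90, [3, 3, 1, 2, 0, 2, 2, 1, 3, 0, 3, 1, 2, 0, 2, 1, 3, 0, 1, 3, 0], 30), (57, [2, 1, 3, 0, 2, 1, 2, 0, 2, 2, 2, 1, 2, 0, 2], 110)], 286), ([(82, [2, 1, 3, 0, 1, 3, 0, 2, 1, 2, 0, 1, 2, 0, 3, 3, 1, 2, 0, 1, 2, 0], 454), (43, [2, 1, 3, 0, 3, 1, 2, 0, 2, 1, 3, 0, 3], 1403), (42, [3, 1, 2, 0, 3, 1, 3, 0, 2], 967)], 403), ([(82, [1,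 2, 0, 1, 2, 0, 3, 3, 1, 2, 0, 1, 2, 0, 2], 275), (41, [2, 1, 2, 0, 1, 2, 0, 2, 2, 1, 2, 0, 3, 1, 3, 0, 1, 3, 0], 153), (65, [2, 2, 1, 2, 0, 1, 2, 0, 3, 3, 1, 2, 0, 1, 2, 0, 2, 1, 3, 0, 3], 12)], 229), ([(80, [1, 2, 0, 3, 1, 3, 0, 2, 1, 2, 0, 3, 1, 3, 0, 1, 3, 0, 2], 69), (25, [2, 2, 1, 2, 0, 1, 2, 0, 2, 1, 2, 0, 1, 2, 0, 1, 2, 0, 3, 1, 3, 0, 3], 2214), (54, [3], 197)], 26), ([(81, [2, 2, 1, 3, 0, 3, 1, 2, 0, 1, 2, 0, 2, 1, 2, 0, 2], 180), (60, [1, 2, 0, 2, 2, 1, 2, 0, 2, 1, 3, 0, 1, 3, 0, 2, 1, 2, 0, 1, 2, 0, 2, 1, 3, 0, 1, 3, 0], 168), (88, [2, 1, 2, 0, 2, 1, 3, 0, 2, 1, 2, 0, 2, 1, 2, 0, 1, 2, 0, 1, 2, 0, 2, 1, 2, 0], 302)], 194), ([(86, [2, 1, 3, 0, 3, 3, 1, 2, 0, 1, 2, 0, 3, 3, 1, 3, 0, 3], 188),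 (55, [2, 2, 2, 1, 2, 0, 2, 1, 3, 0, 3, 1, 2, 0, 1, 2, 0], 8), (95, [1, 2, 0, 2, 1, 3, 0, 3, 3, 1, 2, 0, 3, 3, 1, 2, 0, 1, 2, 0, 2], 539)], 49), ([(87, [2, 2, 2, 1, 2, 0, 2, 1, 2, 0, 1, 2, 0, 3, 3, 1, 3, 0, 1, 3, 0, 3], 5), (41, [1, 2, 0, 1, 2, 0, 1, 2, 0, 2, 1, 2, 0, 1, 2, 0, 2, 1, 3, 0, 1, 3, 0, 2, 1, 2, 0], 1362), (60, [3], 7)], 0), ([(95, [2, 1, 3, 0, 3, 3, 1, 2, 0, 3, 3, 1, 3, 0, 3, 3, 1, 2, 0, 2], 32), (89, [3, 3, 1, 2, 0, 2, 1, 2, 0, 3, 1, 3, 0, 2, 1, 2, 0, 3, 1, 3, 0], 330), (55, [2, 1, 2, 0, 2, 1, 3, 0, 2, 1, 2, 0, 2, 1, 2, 0, 1, 2, 0, 1, 2, 0, 2, 1, 2, 0], 212)], 379), ([(97, [3, 1, 3, 0, 2, 2, 2, 1, 3, 0, 3, 1, 2, 0, 2, 1, 3, 0, 1, 3, 0], 358), (56, [2, 1, 2, 0, 1, 2, 0, 2, 1, 3, 0, 1, 3, 0,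 3, 1, 2, 0, 2, 1, 3, 0, 1, 3, 0, 3], 193), (45, [3], 1212)], 0), ([(95, [2, 1, 2, 0, 3, 1, 3, 0, 2, 2, 2, 1, 3, 0, 3, 1, 2, 0, 2, 2, 1, 3, 0, 2], 129), (86, [1, 2, 0, 3, 1, 3, 0, 2, 1, 2, 0, 3, 1, 3, 0, 1, 3, 0, 2], 227), (71, [2, 1, 3, 0, 3, 1, 2, 0, 2, 1, 3, 0, 3], 120)], 411), ([(92, [2, 2, 2, 1, 2, 0, 2, 2, 1, 3, 0, 2, 2, 1, 2, 0, 2, 2, 1, 3, 0, 3], 489), (63, [2, 2, 1, 2, 0, 3, 3, 1, 2, 0, 2, 1, 3, 0, 3, 1, 3, 0, 1, 3, 0], 21), (91, [1, 3, 0, 3, 1, 2, 0], 419)], 379), ([(95, [2, 1, 2, 0, 3, 1, 3, 0, 3, 1, 2, 0, 1, 2, 0, 2, 1, 2, 0, 1, 2, 0, 2, 1, 3, 0, 3], 478), (84, [2, 2, 1, 3, 0, 3, 1, 2, 0, 1, 2, 0, 1, 2, 0, 2, 1, 2, 0], 161), (66, [3], 184)], 522), ([(95, [1, 3, 0, 1, 3, 0, 2, 2, 2, 1, 3, 0,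 3, 1, 2, 0, 2, 1, 3, 0, 1, 3, 0], 528), (91, [2, 1, 3, 0, 3, 1, 2, 0, 2, 1, 3, 0, 1, 3, 0], 491), (96, [3, 3, 1, 3, 0, 2, 1, 2, 0, 3, 1, 3, 0, 2, 1, 2, 0], 622)], 517), ([(95, [2, 2, 2, 1, 3, 0, 1, 3, 0, 3, 3, 1, 3, 0, 3, 1, 2, 0, 3, 1, 3, 0], 568), (91, [3, 3, 1, 3, 0, 2, 1, 2, 0, 1, 2, 0, 3, 1, 3, 0, 2], 478), (98, [1, 2, 0, 3, 3, 1, 3, 0, 3, 1, 2, 0, 2, 1, 3, 0, 1, 3, 0], 598)], 50), ([(99, [1, 2, 0, 3, 1, 3, 0], 2314), (70, [1, 2, 0, 1, 2, 0, 1, 2, 0, 2, 1, 2, 0, 3, 1, 3, 0, 2, 1, 2, 0, 2, 1, 3, 0, 1, 3, 0], 162), (61, [3], 76)], 2342), ([(99, [3, 1, 2, 0, 3, 1, 3, 0, 3, 1, 2, 0, 1, 2, 0], 2883), (61, [3, 1, 2, 0, 3, 1, 3, 0, 3, 1, 2, 0, 1, 2, 0], 239), (100, [3], 16839)], 26170)],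
[([(0, [], 0), (5, [], 0), (2, [], 24400)], 0), ([(5, [], 13988), (2, [], 24400), (0, [], 0)], 628), ([(6, [], 13988), (14, [], 2300), (3, [], 24400)], 628), ([(7, [], 25770), (26, [], 9832), (4, [], 24400)], 8232), ([(8, [], 25770), (12, [], 2300), (1, [], 24400)], 8232), ([(9, [3, 1, 2, 0, 3], 9979), (19, [2, 1, 2, 0, 2, 2, 2, 1, 2, 0, 2, 1, 2, 0, 3], 2983), (12, [1, 3, 0], 3318)], 0), ([(9, [2, 2, 1, 2, 0, 2, 2, 1, 2, 0, 3, 1, 3, 0, 3], 47889), (17, [3, 1, 2, 0, 3], 4916), (5, [1, 3, 0], 994)], 0), ([(10, [3, 1, 2, 0, 3], 9979), (34, [3, 1, 2, 0, 3], 786), (14, [1, 3, 0], 2569)], 0), ([(10, [2, 2, 1, 2, 0, 2, 2, 1, 2, 0, 3, 1, 3, 0, 3], 45729), (36, [3, 1, 2, 0, 3], 754), (26, [1, 3, 0], 40539)], 0),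 ([(5, [3], 628), (9, [2, 2, 2, 1, 3, 0, 2, 1, 2, 0, 3, 3, 1, 3, 0], 107028), (17, [1, 3, 0], 3054)], 0), ([(7, [3], 8232), (28, [3], 32257), (31, [1, 3, 0], 752)], 94616), ([(10, [1, 2, 0, 1, 2, 0, 2, 2, 1, 2, 0, 2, 2], 96678), (40, [3, 1, 2, 0, 1, 2, 0, 2, 2, 1, 2, 0, 3, 3, 1, 2, 0, 1, 2, 0], 1069), (77, [1, 3, 0], 404)], 0), ([(18, [3, 1, 2, 0, 3], 2744), (50, [3, 1, 2, 0, 3], 146), (27, [1, 3, 0], 40539)], 0), ([(19, [3, 1, 2, 0, 3], 2744), (17, [2, 2, 1, 2, 0, 2, 2, 1, 2, 0, 3, 1, 3, 0, 3], 1167), (6, [1, 3, 0], 63591)], 0), ([(20, [3, 1, 2, 0, 3], 2744), (49, [3, 1, 2, 0, 3], 14), (15, [1, 3, 0], 2569)], 0), ([(21, [3, 1, 2, 0, 3], 2744), (31, [2, 2, 1, 2, 0, 2, 2, 1, 2, 0, 3, 1, 3, 0, 3], 834),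 (8, [1, 3, 0], 114258)], 0), ([(19, [3], 2744), (12, [3], 2569), (9, [1, 3, 0], 13988)], 2985), ([(16, [2, 2, 2, 1, 3, 0, 2, 1, 2, 0, 3, 3, 1, 3, 0], 3261), (39, [3], 355), (33, [1, 3, 0], 752)], 4192), ([(21, [2, 1, 2, 0, 2, 2, 2, 1, 2, 0, 2, 2, 1, 3, 0], 1788), (34, [1, 3, 0], 4), (19, [2, 1, 2, 0, 2, 2, 2, 1, 2, 0, 2, 2, 1, 3, 0], 701)], 2648), ([(20, [2, 1, 2, 0, 2, 2, 2, 1, 2, 0, 2, 2, 1, 3, 0], 1788), (62, [], 62), (47, [1, 3, 0], 146)], 0), ([(19, [2, 1, 2, 0, 2, 2, 2, 1, 2, 0, 2, 2, 1, 3, 0], 701), (21, [2, 1, 2, 0, 2, 2, 2, 1, 2, 0, 2, 2, 1, 3, 0], 2246), (34, [1, 3, 0], 4)], 0), ([(18, [2, 1, 2, 0, 2, 2, 2, 1, 2, 0, 2, 2, 1, 3, 0], 701), (68, [], 110), (49, [1, 3, 0], 146)], 0), ([(17, [2, 2,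 1, 3, 0, 3, 1, 2, 0, 2, 2], 4131), (8, [2, 2, 1, 2, 0, 3, 1, 3, 0, 2, 2], 96537), (23, [1, 2, 0, 1, 2, 0, 3, 1, 3, 0, 2, 1, 2, 0, 1, 2, 0], 1818)], 1488), ([(16, [3], 2300), (32, [3], 412), (30, [2, 2, 1, 3, 0, 3, 1, 2, 0, 2, 2], 1091)], 2664), ([(25, [3, 3, 1, 3, 0, 2, 1, 2, 0, 3, 1, 3, 0, 2, 1, 2, 0, 2, 1, 3, 0], 4134), (60, [3, 1, 3, 0, 2, 2, 2, 1, 3, 0, 3, 1, 2, 0, 2, 1, 3, 0, 1, 3, 0], 14), (80, [2, 2, 1, 2, 0, 1, 2, 0, 3, 1, 3, 0, 2, 1, 2, 0, 2, 1, 2, 0, 1, 2, 0], 211)], 2230), ([(22, [2, 2, 1, 2, 0, 3, 1, 3, 0, 2, 2], 1048), (41, [3, 1, 2, 0, 1, 2, 0, 2, 2, 1, 2, 0, 3, 3, 1, 2, 0, 1, 2, 0], 843), (58, [1, 3, 0], 9)], 4816), ([(28, [3, 1, 2, 0, 3], 41609), (31, [3, 1, 2, 0, 3], 569), (7, [1, 3,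 0], 48130)], 0), ([(29, [3, 1, 2, 0, 3], 41609), (47, [3, 1, 2, 0, 3], 146), (13, [1, 3, 0], 2569)], 0), ([(28, [1, 3, 0], 71842), (39, [1, 3, 0], 1422), (36, [1, 3, 0], 1132)], 0), ([(29, [1, 3, 0], 57557), (69, [1, 2, 0, 3], 14), (50, [1, 3, 0], 191)], 0), ([(34, [2, 1, 2, 0, 2, 2, 2, 1, 2, 0, 2], 949), (14, [3], 2629), (10, [1, 3, 0], 25770)], 0), ([(35, [3], 658), (49, [3], 48), (22, [3, 1, 2, 0, 3], 2569)], 721), ([(37, [2, 1, 2, 0, 2, 2, 2, 1, 2, 0, 2], 840), (47, [3], 14), (16, [1, 3, 0], 2569)], 1337), ([(38, [3], 675), (46, [2, 1, 2, 0, 2, 2, 2, 1, 2, 0, 2], 110), (32, [1, 3, 0], 754)], 752), ([(34, [1, 3, 0], 1430), (19, [2, 1, 2, 0, 2, 2, 2, 1, 2, 0, 2, 2, 1, 3, 0], 701), (21, [2, 1, 2, 0,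 2, 2, 2, 1, 2, 0, 2, 2, 1, 3, 0], 2246)], 459), ([(39, [1, 3, 0], 109), (36, [1, 3, 0], 1132), (28, [1, 3, 0], 71842)], 569), ([(38, [1, 3, 0], 109), (68, [1, 2, 0, 3], 14), (53, [1, 3, 0], 14)], 0), ([(37, [2, 1, 2, 0, 2, 2, 2, 1, 2, 0, 2, 2, 1, 3, 0], 257), (69, [2, 1, 3, 0], 146), (46, [1, 3, 0], 110)], 0), ([(36, [1, 3, 0], 52), (28, [1, 3, 0], 71842), (39, [1, 3, 0], 1422)], 668), ([(35, [1, 3, 0], 52), (62, [2, 1, 3, 0], 154), (51, [1, 3, 0], 14)], 0), ([(40, [1, 2, 0, 1, 2, 0, 1, 2, 0, 2, 1, 2, 0, 1, 2, 0, 2, 1, 3, 0, 1, 3, 0, 2, 1, 2, 0], 345), (86, [2, 2, 1, 3, 0, 3, 1, 2, 0, 1, 2, 0, 2, 1, 2, 0, 1, 2, 0], 140), (56, [1, 3, 0], 77)], 1341), ([(43, [1, 2, 0, 1, 2, 0, 1, 2, 0, 2, 1, 2, 0, 1, 2,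 0, 2, 1, 3, 0, 1, 3, 0, 2, 1, 2, 0], 1193), (42, [2, 2, 1, 2, 0, 2, 1, 3, 0, 3, 1, 2, 0, 2, 1, 2, 0, 2], 945), (82, [1, 3, 0], 49)], 0), ([(43, [1, 2, 0, 2, 2, 1, 3, 0, 1, 3, 0, 3, 1, 3, 0, 2, 1, 2, 0, 2], 269), (43, [3], 932), (43, [2, 1, 3, 0, 1, 3, 0, 2, 2, 1, 3, 0, 1, 3, 0, 3, 1, 2, 0, 1, 2, 0], 898)], 61), ([(41, [1, 2, 0, 1, 2, 0, 1, 2, 0, 2, 1, 2, 0, 1, 2, 0, 2, 1, 3, 0, 1, 3, 0, 2, 1, 2, 0], 1119), (60, [3], 7), (87, [2, 2, 2, 1, 2, 0, 2, 1, 2, 0, 1, 2, 0, 3, 3, 1, 3, 0, 1, 3, 0, 3], 5)], 807), ([(36, [2, 2, 1, 2, 0, 1, 2, 0, 3, 3, 1, 2, 0, 1, 2, 0, 2], 723), (29, [2, 2, 1, 3, 0, 3, 1, 2, 0, 2, 1, 3, 0, 1, 3, 0], 54435), (67, [2, 1, 3, 0, 3, 1, 2, 0, 2, 1, 3, 0, 1, 3, 0], 146)], 537), ([(39, [2,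 2, 1, 2, 0, 1, 2, 0, 3, 3, 1, 2, 0, 1, 2, 0, 2], 776), (45, [1, 2, 0, 2, 1, 3, 0, 3, 3, 1, 2, 0, 3, 3, 1, 2, 0, 1, 2, 0, 2], 1008), (94, [1, 3, 0], 510)], 0), ([(68, [2, 1, 3, 0], 146), (49, [2, 1, 2, 0, 2, 2, 2, 1, 2, 0, 2, 2, 1, 3, 0], 62), (18, [1, 3, 0], 2401)], 0), ([(69, [2, 1, 3, 0], 146), (46, [1, 3, 0], 110), (37, [2, 1, 2, 0, 2, 2, 2, 1, 2, 0, 2, 2, 1, 3, 0], 257)], 146), ([(62, [1, 2, 0, 3], 146), (47, [2, 1, 2, 0, 2, 2, 2, 1, 2, 0, 2, 2, 1, 3, 0], 110), (20, [1, 3, 0], 2246)], 0), ([(61, [1, 2, 0, 3], 146), (99, [], 12661), (48, [2, 1, 2, 0, 2, 2, 2, 1, 2, 0, 2, 2, 1, 3, 0], 62)], 132), ([(68, [1, 2, 0, 3], 14), (53, [1, 3, 0], 14), (38, [1, 3, 0], 109)], 0), ([(69, [1, 2, 0, 3], 14), (50,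 [1, 3, 0], 191), (29, [1, 3, 0], 57557)], 0), ([(62, [2, 1, 3, 0], 14), (51, [1, 3, 0], 14), (35, [1, 3, 0], 52)], 48), ([(61, [2, 1, 3, 0], 14), (99, [2, 1, 3, 0], 9678), (52, [1, 3, 0], 14)], 0), ([(63, [2, 1, 2, 0, 1, 2, 0, 2, 1, 3, 0, 1, 3, 0, 3, 1, 2, 0, 2, 1, 3, 0, 1, 3, 0, 3], 39), (91, [2, 1, 2, 0, 1, 2, 0, 1, 2, 0, 2, 1, 2, 0, 2, 1, 3, 0, 2, 1, 2, 0, 2, 1, 2, 0], 324), (92, [1, 3, 0], 606)], 0), ([(64, [1, 2, 0, 2, 1, 2, 0, 3, 3, 1, 3, 0, 3, 1, 2, 0, 2, 2], 76), (57, [2, 1, 3, 0, 2, 1, 2, 0, 2, 1, 2, 0, 1, 2, 0, 3, 3, 1, 3, 0, 2, 2], 231), (89, [1, 3, 0], 334)], 0), ([(65, [1, 2, 0, 1, 2, 0, 2, 2, 1, 2, 0, 3, 1, 3, 0, 3, 1, 2, 0, 3, 3], 158), (82, [1, 2, 0, 2, 1, 2, 0, 3, 3, 1, 3, 0, 3, 1, 2,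 0, 3, 3, 1, 2, 0, 1, 2, 0], 458), (41, [2, 1, 3, 0, 1, 3, 0, 2, 2, 1, 3, 0, 1, 3, 0, 3, 1, 2, 0, 1, 2, 0], 152)], 12), ([(58, [2, 2, 1, 2, 0, 1, 2, 0, 3, 3, 1, 3, 0, 1, 3, 0], 74), (23, [2, 2, 1, 2, 0, 1, 2, 0, 2, 1, 3, 0, 1, 3, 0], 1346), (25, [1, 3, 0], 4621)], 184), ([(56, [2, 2, 2, 1, 3, 0, 3, 1, 3, 0, 1, 3, 0, 2, 2, 1, 3, 0, 1, 3, 0], 136), (40, [2, 2, 2, 1, 2, 0, 2, 1, 3, 0, 3, 1, 2, 0, 2], 864), (84, [2, 1, 3, 0, 1, 3, 0, 2, 1, 2, 0, 1, 2, 0, 2, 1, 3, 0, 3, 1, 3, 0, 2], 22)], 26), ([(57, [1, 3, 0, 3, 3, 1, 2, 0, 2, 1, 3, 0, 2, 2, 2], 111), (85, [2, 1, 3, 0, 1, 3, 0, 2, 1, 2, 0, 1, 2, 0, 2, 1, 3, 0, 3, 1, 2, 0, 3], 208), (90, [1, 3, 0], 90)], 146), ([(58, [2, 1, 2, 0, 1, 2, 0, 3, 3, 1, 3, 0, 1,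 3, 0, 3, 1, 3, 0], 201), (20, [2, 1, 2, 0, 2, 1, 3, 0, 2, 1, 2, 0, 2, 2, 2], 4758), (59, [2, 2, 1, 2, 0, 2, 1, 3, 0, 2, 1, 2, 0, 2, 1, 3, 0, 3, 1, 3, 0], 128)], 208), ([(60, [2, 1, 2, 0, 1, 2, 0, 2, 1, 2, 0, 2, 2, 1, 3, 0, 1, 3, 0, 3, 1, 3, 0, 2, 1, 2, 0], 194), (89, [1, 2, 0, 1, 2, 0, 1, 2, 0, 2, 1, 2, 0, 3, 1, 3, 0, 2, 1, 2, 0, 2, 1, 3, 0, 1, 3, 0], 327), (68, [2, 1, 3, 0, 1, 3, 0], 59)], 146), ([(59, [2, 1, 2, 0, 1, 2, 0, 2, 1, 2, 0, 2, 2, 1, 3, 0, 1, 3, 0, 3, 1, 3, 0, 2, 1, 2, 0], 194), (61, [3, 1, 3, 0, 2, 1, 2, 0, 3, 1, 3, 0, 2], 175), (99, [1, 3, 0], 12153)], 0), ([(71, [2, 2, 2, 1, 2, 0, 2, 1, 3, 0, 3, 1, 2, 0, 1, 2, 0], 142), (92, [3, 3, 1, 2, 0, 2, 2, 1, 3, 0, 3, 1, 2, 0, 2, 1, 3, 0, 3], 139),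 (64, [1, 2, 0, 2, 2, 1, 3, 0, 1, 3, 0, 3, 1, 3, 0, 2, 1, 2, 0, 2, 1, 3, 0, 2], 118)], 229), ([(58, [2, 1, 2, 0, 3, 1, 3, 0, 1, 3, 0, 3, 1, 2, 0, 1, 2, 0, 2], 114), (24, [1, 3, 0, 3, 1, 3, 0, 2, 1, 2, 0, 3, 1, 3, 0, 2, 1, 2, 0], 3046), (81, [1, 3, 0], 65)], 0), ([(71, [1, 3, 0, 3, 1, 2, 0], 143), (95, [2, 2, 1, 2, 0, 2, 1, 3, 0, 3, 1, 3, 0, 2, 1, 2, 0, 2, 2, 1, 2, 0], 338), (86, [1, 2, 0, 2, 1, 3, 0, 1, 3, 0, 3, 1, 2, 0, 2, 1, 3, 0, 1, 3, 0, 3], 37)], 76), ([(56, [2, 2, 1, 2, 0, 1, 2, 0, 3, 1, 3, 0, 1, 3, 0, 3, 1, 3, 0, 1, 3, 0, 2], 227), (43, [2, 2, 1, 2, 0, 2, 1, 3, 0, 3, 1, 2, 0, 2, 1, 2, 0, 2], 841), (44, [2, 2, 2, 1, 2, 0, 1, 2, 0, 2, 1, 2, 0, 3, 1, 3, 0, 3, 3, 1, 2, 0, 1, 2, 0], 30)], 104), ([(56,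 [1, 2, 0, 2, 1, 2, 0, 3, 3, 1, 3, 0, 3, 1, 2, 0, 2, 2], 47), (45, [1, 2, 0, 3, 1, 3, 0, 2, 1, 2, 0, 3, 1, 3, 0, 3, 1, 2, 0], 46), (97, [1, 3, 0], 262)], 0), ([(67, [1, 2, 0, 1, 2, 0, 1, 2, 0, 2, 1, 2, 0, 3, 1, 3, 0, 2, 1, 2, 0, 2, 1, 3, 0, 1, 3, 0], 125), (44, [3, 3, 1, 3, 0, 2, 1, 2, 0, 3, 1, 3, 0, 2], 1270), (69, [1, 3, 0], 166)], 110), ([(66, [1, 2, 0, 1, 2, 0, 1, 2, 0, 2, 1, 2, 0, 3, 1, 3, 0, 2, 1, 2, 0, 2, 1, 3, 0, 1, 3, 0], 125), (93, [3, 3, 1, 3, 0, 2, 1, 2, 0, 3, 1, 3, 0, 2], 588), (62, [1, 2, 0, 3, 1, 3, 0], 23)], 146), ([(65, [1, 2, 0, 1, 2, 0, 1, 2, 0, 2, 1, 2, 0, 3, 1, 3, 0, 2, 2], 154), (91, [2, 1, 3, 0, 3, 3, 1, 2, 0, 1, 2, 0, 2, 1, 2, 0, 2, 1, 3, 0, 2, 2], 162), (93, [2, 2, 2, 1, 2, 0,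 1, 2, 0, 2, 1, 2, 0, 3, 1, 3, 0, 3, 3, 1, 2, 0, 1, 2, 0], 347)], 221), ([(65, [2, 2, 1, 3, 0, 2, 1, 2, 0, 1, 2, 0, 2, 2, 1, 3, 0, 1, 3, 0, 3], 90), (89, [2, 2, 1, 2, 0, 2, 1, 3, 0, 3, 1, 3, 0, 2, 1, 2, 0, 3, 3, 1, 3, 0], 172), (70, [3, 3, 1, 3, 0, 2, 1, 2, 0, 3, 1, 3, 0, 2, 1, 2, 0, 2, 1, 3, 0], 143)], 146), ([(64, [2, 2, 1, 2, 0, 2, 1, 3, 0, 2, 2, 2], 236), (72, [2, 2, 1, 3, 0, 2, 2, 2, 1, 2, 0, 2, 1, 3, 0, 3, 3], 43), (72, [3, 3, 1, 2, 0, 2, 2, 1, 2, 0, 1, 2, 0, 2, 2, 1, 2, 0, 2], 167)], 40), ([(63, [2, 1, 3, 0, 3, 1, 2, 0, 1, 2, 0, 2, 1, 3, 0, 3, 1, 2, 0, 1, 2, 0], 168), (89, [2, 2, 1, 2, 0, 3, 3, 1, 2, 0, 2, 1, 3, 0, 3, 1, 3, 0, 2], 364), (73, [2, 1, 2, 0, 3, 3, 1, 2, 0, 1, 2, 0, 2, 1, 2, 0, 1, 2,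 0, 1, 2, 0, 3, 1, 3, 0], 143)], 34), ([(65, [2, 1, 2, 0, 2, 1, 2, 0, 1, 2, 0, 2, 1, 3, 0, 3, 3], 135), (90, [2, 2, 1, 3, 0, 3, 3, 1, 2, 0, 3, 1, 3, 0, 3], 71), (74, [1, 2, 0, 2, 1, 2, 0, 3, 1, 3, 0, 1, 3, 0, 3, 3, 1, 2, 0, 2, 2, 1, 3, 0], 152)], 68), ([(65, [2, 2, 1, 2, 0, 3, 3, 1, 2, 0, 2], 68), (90, [2, 2, 1, 2, 0, 2, 2, 2, 1, 2, 0, 2, 1, 3, 0, 2, 2, 1, 3, 0, 1, 3, 0], 232), (75, [2, 2, 1, 2, 0, 3, 3, 1, 3, 0, 1, 3, 0, 3, 1, 2, 0, 2, 1, 3, 0, 1, 3, 0], 81)], 159), ([(82, [3, 1, 2, 0, 1, 2, 0, 2, 2, 1, 2, 0, 3, 3, 1, 2, 0, 1, 2, 0], 79), (31, [1, 2, 0, 1, 2, 0, 2, 2, 1, 2, 0, 2, 2], 940), (11, [1, 3, 0], 25524)], 0), ([(83, [3, 1, 2, 0, 1, 2, 0, 2, 2, 1, 2, 0, 3, 3, 1, 2, 0, 1, 2, 0], 291), (85, [2,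 1, 3, 0, 1, 3, 0, 2, 1, 2, 0, 1, 2, 0, 2, 1, 3, 0, 3, 1, 3, 0, 2], 190), (78, [2, 1, 3, 0, 3, 3, 1, 3, 0], 47)], 49), ([(87, [3, 1, 3, 0, 2, 2, 1, 3, 0], 139), (42, [1, 3, 0, 1, 3, 0, 2], 1093), (79, [3, 1, 2, 0, 3, 3, 1, 2, 0], 410)], 185), ([(86, [2, 1, 3, 0, 1, 3, 0, 2, 2, 1, 3, 0, 1, 3, 0, 3, 1, 2, 0, 2], 114), (63, [2, 1, 3, 0, 1, 3, 0, 2, 2, 1, 3, 0, 1, 3, 0, 3, 1, 2, 0, 2], 50), (76, [1, 3, 0, 1, 3, 0, 2], 329)], 54), ([(81, [2, 2, 2, 1, 3, 0, 3, 3, 1, 3, 0, 2, 2, 1, 3, 0, 3], 291), (70, [3, 1, 3, 0, 2], 230), (63, [1, 3, 0], 142)], 462), ([(81, [1, 3, 0, 3, 1, 3, 0, 2, 1, 2, 0, 3, 1, 3, 0, 2, 1, 2, 0], 424), (58, [3, 3, 1, 3, 0, 2, 1, 2, 0, 3, 1, 3, 0, 2, 1, 2, 0, 2, 1, 3, 0], 103), (24, [1, 3,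 0], 4254)], 300), ([(86, [2, 2, 2, 1, 3, 0, 3, 3, 1, 3, 0, 2, 2, 1, 3, 0, 3], 273), (54, [3, 1, 3, 0, 2], 186), (83, [2, 1, 3, 0, 3, 3, 1, 2, 0, 1, 2, 0, 3, 3, 1, 3, 0, 3], 465)], 304), ([(86, [1, 3, 0, 3, 1, 3, 0, 2, 1, 2, 0, 3, 1, 3, 0, 2, 1, 2, 0], 99), (56, [1, 2, 0, 1, 2, 0, 1, 2, 0, 2, 1, 2, 0, 1, 2, 0, 2, 1, 3, 0, 1, 3, 0, 2, 1, 2, 0], 60), (40, [1, 3, 0], 594)], 0), ([(85, [2, 2, 1, 3, 0, 1, 3, 0, 2, 2, 1, 2, 0], 252), (88, [1, 2, 0, 2, 1, 3, 0, 3, 3, 1, 2, 0, 3, 3, 1, 2, 0, 1, 2, 0, 1, 2, 0], 218), (85, [1, 2, 0, 2, 2, 1, 3, 0, 1, 3, 0, 3, 3, 1, 2, 0, 3, 1, 3, 0, 1, 3, 0], 54)], 230), ([(84, [2, 2, 1, 3, 0, 1, 3, 0, 2, 2, 1, 2, 0], 252), (59, [1, 2, 0, 2, 1, 3, 0, 3, 3, 1, 2, 0, 3, 3, 1, 2, 0,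 1, 2, 0, 2], 104), (57, [1, 2, 0, 2, 2, 1, 2, 0, 3, 3, 1, 2, 0, 1, 2, 0, 1, 2, 0], 54)], 433), ([(83, [1, 3, 0, 3, 1, 3, 0, 2, 1, 2, 0, 3, 1, 3, 0, 2, 1, 2, 0], 236), (87, [3], 121), (42, [3, 3, 1, 2, 0, 1, 2, 0, 3], 85)], 432), ([(83, [2, 2, 2, 1, 3, 0, 3, 3, 1, 3, 0, 2, 2, 1, 3, 0, 3], 154), (89, [2, 2, 2, 1, 2, 0, 2, 1, 3, 0, 3, 1, 2, 0, 1, 2, 0], 408), (65, [2, 2, 1, 2, 0, 1, 2, 0, 3, 3, 1, 2, 0, 1, 2, 0, 2, 1, 3, 0, 1, 3, 0], 200)], 229), ([(84, [2, 2, 2, 1, 2, 0, 2, 1, 3, 0, 2, 2, 1, 2, 0, 1, 2, 0, 1, 2, 0, 2], 165), (64, [2, 1, 2, 0, 3, 3, 1, 2, 0, 2, 2, 1, 3, 0, 3, 1, 2, 0, 2], 231), (54, [1, 3, 0], 79)], 26), ([(85, [2, 2, 2, 1, 2, 0, 2, 1, 3, 0, 2, 2, 1, 2, 0, 1, 2, 0, 1, 2, 0, 2], 165), (85,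 [2, 2, 1, 3, 0, 1, 3, 0, 3, 3, 1, 3, 0, 1, 3, 0, 2], 252), (88, [2, 2, 2, 1, 2, 0, 2, 2, 1, 3, 0, 2, 2, 1, 2, 0, 2, 2, 1, 3, 0, 3], 218)], 194), ([(84, [2, 1, 3, 0, 2, 2, 1, 2, 0, 3, 3, 1, 2, 0, 3, 1, 3, 0, 3], 218), (66, [2, 1, 3, 0, 1, 3, 0, 2, 2, 1, 2, 0, 3, 3, 1, 2, 0, 2], 184), (95, [2, 1, 2, 0, 2, 2, 2, 1, 2, 0, 2, 1, 2, 0, 3, 3, 1, 3, 0, 3], 347)], 49), ([(85, [2, 1, 3, 0, 2, 2, 1, 2, 0, 3, 3, 1, 2, 0, 3, 1, 3, 0, 3], 218), (84, [2, 1, 3, 0, 1, 3, 0, 2, 2, 1, 2, 0, 3, 3, 1, 2, 0, 2], 379), (60, [1, 3, 0], 96)], 0), ([(95, [2, 2, 1, 2, 0, 2, 2, 1, 3, 0, 2, 2, 1, 2, 0, 2, 2, 1, 3, 0, 3, 1, 3, 0], 489), (81, [3, 1, 3, 0, 3, 1, 2, 0, 1, 2, 0, 3, 1, 3, 0, 1, 3, 0, 3, 3], 177), (55, [2, 2, 2, 1, 2, 0,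 2, 2, 1, 3, 0, 2, 2, 1, 2, 0, 2, 2, 1, 3, 0, 3], 89)], 379), ([(97, [3, 1, 3, 0, 2, 2, 2, 1, 3, 0, 3, 1, 2, 0, 2, 1, 3, 0, 3], 286), (51, [2, 2, 1, 2, 0, 1, 2, 0, 3, 3, 1, 2, 0, 1, 2, 0, 2], 94), (45, [1, 3, 0], 1065)], 0), ([(93, [1, 2, 0, 2, 1, 3, 0, 3, 3, 1, 2, 0, 3, 3, 1, 2, 0, 1, 2, 0, 2], 510), (52, [2, 2, 1, 3, 0, 3, 1, 2, 0, 2, 1, 3, 0, 1, 3, 0], 56), (71, [2, 1, 3, 0, 3, 1, 2, 0, 2, 1, 3, 0, 1, 3, 0], 146)], 411), ([(92, [2, 1, 2, 0, 2, 1, 3, 0, 2, 1, 2, 0, 2, 1, 2, 0, 1, 2, 0, 1, 2, 0, 2, 1, 2, 0], 32), (54, [3, 3, 1, 2, 0, 2, 1, 2, 0, 3, 1, 3, 0, 2, 1, 2, 0, 3, 1, 3, 0], 219), (91, [3, 1, 3, 0, 2], 397)], 297), ([(94, [3, 1, 3, 0, 2, 2, 1, 2, 0, 3, 1, 3, 0, 2, 1, 2, 0, 3, 1, 3, 0], 274), (41,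 [2, 1, 2, 0, 1, 2, 0, 2, 1, 3, 0, 1, 3, 0, 3, 1, 2, 0, 2, 1, 3, 0, 1, 3, 0, 3], 477), (66, [1, 3, 0], 60)], 522), ([(93, [1, 2, 0, 3, 1, 3, 0, 2, 1, 2, 0, 3, 1, 3, 0, 3, 1, 2, 0], 422), (55, [2, 1, 3, 0, 1, 3, 0, 3, 1, 3, 0, 2, 1, 2, 0, 2, 2, 1, 2, 0, 1, 2, 0, 1, 2, 0, 2], 182), (96, [3, 3, 1, 3, 0, 2, 1, 2, 0, 3, 1, 3, 0, 2, 1, 2, 0, 2, 1, 3, 0], 564)], 517), ([(97, [2, 2, 1, 2, 0, 1, 2, 0, 2, 1, 2, 0, 3, 1, 3, 0, 2, 2, 2, 1, 3, 0], 4), (71, [1, 2, 0, 1, 2, 0, 2, 1, 2, 0, 3, 1, 3, 0, 2, 2, 2, 1, 3, 0, 2], 35), (98, [2, 1, 2, 0, 1, 2, 0, 2, 1, 3, 0, 1, 3, 0, 2, 1, 2, 0], 402)], 20), ([(99, [3, 1, 3, 0, 2, 1, 2, 0, 3, 1, 3, 0, 2], 28755), (59, [3, 1, 3, 0, 2, 2, 2, 1, 3, 0, 3, 1, 2, 0, 2, 1, 3, 0, 1, 3,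 0, 3], 194), (61, [1, 3, 0], 175)], 2342), ([(99, [2, 2, 2, 1, 3, 0, 1, 3, 0, 3, 1, 3, 0, 1, 3, 0], 19861), (61, [2, 2, 2, 1, 3, 0, 1, 3, 0, 3, 1, 3, 0, 1, 3, 0], 191), (100, [1, 3, 0], 9940)], 26170)],
[([(0, [], 0), (5, [], 0), (2, [], 24400)], 0), ([(5, [], 8232), (2, [], 24400), (0, [], 0)], 25770), ([(6, [], 8232), (14, [], 2300), (3, [], 24400)], 25770), ([(7, [], 628), (26, [], 9832), (4, [], 24400)], 13988), ([(8, [], 628), (12, [], 2300), (1, [], 24400)], 13988), ([(9, [], 0), (19, [2, 1, 2, 0, 2, 2, 2, 1, 2, 0, 2, 2], 2983), (12, [2], 2648)], 0), ([(9, [2, 2, 2, 1, 3, 0, 2, 1, 2, 0, 3, 3], 93555), (17, [], 4086), (5, [2], 24400)], 0), ([(10, [], 0), (34, [], 0), (14, [2], 2983)], 0), ([(10,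 [2, 2, 2, 1, 3, 0, 2, 1, 2, 0, 3, 3], 87055), (36, [], 786), (26, [2], 42686)], 0), ([(11, [], 0), (80, [], 0), (17, [2], 2679)], 0), ([(11, [2, 1, 2, 0, 2, 2, 1, 2, 0, 1, 2, 0], 93624), (82, [], 49), (31, [2], 786)], 94616), ([(9, [1, 3, 0, 2, 2, 2, 1, 3, 0, 3], 5872), (24, [3, 1, 3, 0, 2, 2, 2, 1, 3, 0, 3], 2985), (77, [2], 441)], 0), ([(18, [], 0), (50, [], 0), (27, [2], 42686)], 0), ([(19, [], 0), (17, [2, 2, 2, 1, 3, 0, 2, 1, 2, 0, 3, 3], 1936), (6, [2], 94337)], 0), ([(20, [], 0), (49, [], 14), (15, [2], 2983)], 0), ([(21, [], 0), (31, [2, 2, 2, 1, 3, 0, 2, 1, 2, 0, 3, 3], 843), (8, [2], 117107)], 0), ([(24, [], 0), (77, [], 300), (9, [2], 24400)], 2985), ([(24, [1, 2, 0, 1, 2, 0, 1, 2, 0, 3, 3,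 1, 2, 0, 3, 1, 3, 0, 2, 1, 2, 0, 2, 2], 695), (87, [2, 2, 2, 1, 2, 0, 2, 1, 2, 0, 1, 2, 0, 3, 3, 1, 3, 0, 1, 3, 0, 3, 1, 2, 0], 4), (33, [2], 807)], 4192), ([(24, [1, 2, 0, 1, 2, 0, 3, 3, 1, 2, 0, 1, 2, 0, 2, 2, 1, 3, 0, 2], 818), (80, [1, 2, 0, 3, 3, 1, 2, 0, 2, 2, 1, 2, 0, 3], 181), (19, [3, 3, 1, 3, 0, 2, 2, 2, 1, 3, 0], 3296)], 2648), ([(24, [2, 1, 2, 0, 2, 2, 2, 1, 2, 0, 2, 1, 3, 0, 3, 3], 1110), (89, [], 419), (47, [2], 146)], 0), ([(25, [], 0), (67, [2, 1, 3, 0, 3, 1, 2, 0, 2, 1, 3, 0], 146), (34, [2], 537)], 0), ([(25, [2, 2, 1, 3, 0, 3, 1, 2, 0, 2, 2, 1, 3, 0, 3, 1, 3, 0], 3564), (59, [2, 2, 1, 2, 0, 2, 1, 3, 0, 2, 1, 2, 0, 2, 1, 3, 0, 3], 30), (49, [2], 208)], 0), ([(22, [2], 2281), (34, [1,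 2, 0, 1, 2, 0, 2, 1, 3, 0, 2, 2, 1, 2, 0, 1, 2, 0, 3], 502), (23, [2, 1, 2, 0, 3, 3, 1, 3, 0, 3, 1, 2, 0, 2, 1, 3, 0], 2797)], 2136), ([(23, [2], 2281), (21, [1, 2, 0, 1, 2, 0, 2, 1, 3, 0, 2, 2, 1, 2, 0, 1, 2, 0, 3], 1970), (30, [2, 2, 1, 3, 0, 3, 1, 2, 0, 2, 1, 3, 0], 488)], 2983), ([(24, [2, 2, 2, 1, 3, 0, 2, 2, 1, 2, 0, 2, 1, 3, 0, 1, 3, 0, 3], 312), (88, [3, 3, 1, 2, 0, 2, 1, 2, 0, 3, 3, 1, 3, 0, 3, 3, 1, 2, 0, 1, 2, 0], 315), (80, [2, 2, 1, 2, 0, 2, 1, 3, 0, 1, 3, 0, 2, 1, 2, 0, 1, 2, 0, 2, 1, 2, 0, 3], 248)], 1873), ([(24, [2, 1, 2, 0, 3, 3, 1, 3, 0, 1, 3, 0, 2, 1, 2, 0], 2556), (90, [1, 2, 0, 2, 1, 2, 0, 3, 3, 1, 3, 0, 2, 1, 2, 0, 2, 2, 1, 3, 0, 1, 3, 0, 2], 437), (58, [2], 237)], 4816), ([(28,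 [], 0), (31, [], 569), (7, [2], 94616)], 0), ([(29, [], 0), (47, [], 146), (13, [2], 2983)], 0), ([(29, [1, 3, 0, 2, 1, 2, 0], 60961), (67, [3, 1, 3, 0, 2, 1, 2, 0], 146), (36, [2], 1035)], 0), ([(28, [1, 3, 0, 2, 1, 2, 0], 53297), (44, [1, 2, 0, 2, 2, 1, 2, 0, 2, 1, 3, 0, 1, 3, 0, 2, 1, 2, 0, 1, 2, 0, 2, 1, 3, 0], 708), (50, [2], 177)], 0), ([(40, [], 0), (77, [2, 1, 2, 0, 2, 2, 1, 2, 0, 1, 2, 0], 296), (10, [2], 44872)], 0), ([(41, [], 786), (58, [2, 2, 1, 2, 0, 3, 1, 3, 0, 2, 2, 2, 1, 3, 0, 3], 27), (22, [1, 3, 0, 2, 2], 1841)], 721), ([(42, [], 0), (80, [2, 2, 1, 2, 0, 1, 2, 0, 3, 1, 3, 0, 2, 1, 2, 0, 2, 1, 2, 0, 1, 2, 0, 1, 2, 0], 196), (16, [2], 2230)], 1337), ([(43, [], 786), (43, [2, 1, 3, 0,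 1, 3, 0, 2, 2, 1, 3, 0, 1, 3, 0, 3, 1, 2, 0, 1, 2, 0, 1, 2, 0], 451), (32, [2], 61)], 752), ([(44, [], 0), (58, [2, 2, 1, 2, 0, 2, 1, 3, 0, 2, 2, 1, 3, 0, 1, 3, 0, 3], 85), (21, [3, 3, 1, 3, 0, 2, 2, 2, 1, 3, 0], 3473)], 459), ([(44, [3, 1, 3, 0, 2, 1, 2, 0, 2, 1, 3, 0, 3, 1, 2, 0, 2, 1, 3, 0], 558), (50, [1, 3, 0, 2, 1, 2, 0], 63), (28, [2], 60961)], 569), ([(44, [2, 1, 3, 0, 3, 1, 2, 0, 2, 1, 2, 0, 1, 2, 0, 1, 2, 0, 2, 1, 2, 0], 587), (70, [3, 3, 1, 3, 0, 2, 1, 2, 0, 3, 1, 3, 0, 2, 1, 2, 0, 2], 182), (53, [2], 146)], 0), ([(45, [], 0), (92, [], 291), (46, [2], 146)], 0), ([(45, [3, 1, 3, 0, 2, 1, 2, 0, 2, 1, 3, 0, 3, 1, 2, 0, 2, 1, 3, 0], 524), (94, [2, 1, 3, 0, 3, 1, 2, 0, 2, 1, 2, 0, 1, 2, 0, 1, 2,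 0, 2, 1, 2, 0], 97), (39, [2], 367)], 668), ([(45, [2, 1, 3, 0, 3, 1, 2, 0, 2, 1, 2, 0, 1, 2, 0, 1, 2, 0, 2, 1, 2, 0], 637), (97, [], 282), (51, [2], 146)], 0), ([(44, [3, 1, 3, 0, 3, 3, 1, 2, 0, 1, 2, 0, 1, 2, 0, 2, 1, 2, 0, 3], 925), (73, [3, 1, 2, 0, 2, 2, 1, 2, 0, 3, 1, 3, 0, 3, 1, 2, 0, 1, 2, 0, 2], 56), (56, [2], 80)], 1341), ([(44, [1, 2, 0, 2, 1, 3, 0, 2, 1, 2, 0, 1, 2, 0, 2, 1, 3, 0, 3, 1, 2, 0, 2], 458), (54, [1, 3, 0, 3, 1, 2, 0, 3, 3, 1, 3, 0, 2, 2, 1, 3, 0, 2], 122), (82, [2], 100)], 0), ([(45, [3, 1, 3, 0, 3, 3, 1, 2, 0, 1, 2, 0, 1, 2, 0, 2, 1, 2, 0, 3], 946), (94, [3, 1, 3, 0, 3, 1, 2, 0, 3, 1, 3, 0, 2, 2, 2, 1, 2, 0, 1, 2, 0], 76), (43, [1, 3, 0, 2, 1, 2, 0, 2, 2, 1, 3, 0, 1, 3, 0, 2,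 2, 1, 2, 0], 437)], 94), ([(45, [1, 2, 0, 2, 1, 3, 0, 2, 1, 2, 0, 1, 2, 0, 2, 1, 3, 0, 3, 1, 2, 0, 2], 434), (95, [2, 1, 3, 0, 3, 3, 1, 2, 0, 2, 2, 1, 2, 0, 3, 3, 1, 2, 0, 1, 2, 0], 215), (87, [2, 2, 1, 2, 0, 3, 1, 3, 0, 1, 3, 0, 3, 1, 3, 0, 2, 2, 1, 2, 0, 3], 39)], 786), ([(44, [2, 1, 2, 0, 1, 2, 0, 2, 1, 2, 0, 3, 1, 3, 0, 3, 1, 2, 0, 2, 1, 2, 0], 293), (75, [2, 2, 1, 3, 0, 3, 1, 2, 0, 3, 1, 3, 0, 1, 3, 0, 3], 38), (67, [2, 1, 3, 0, 3, 1, 2, 0, 2, 1, 3, 0, 2], 213)], 537), ([(45, [2, 1, 3, 0, 1, 3, 0, 3, 1, 2, 0, 2, 1, 2, 0, 3, 3, 1, 2, 0], 57), (96, [2, 1, 2, 0, 3, 3, 1, 2, 0, 3, 1, 3, 0, 2, 1, 2, 0, 3, 1, 3, 0], 329), (94, [2], 7)], 0), ([(54, [], 0), (80, [3, 1, 2, 0, 1, 2, 0, 2, 1, 3, 0, 2, 2, 1,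 3, 0], 70), (18, [2], 3089)], 0), ([(55, [], 0), (94, [2, 2, 1, 3, 0, 3, 1, 2, 0, 3, 1, 3, 0, 3, 1, 2, 0, 2, 1, 2, 0, 2], 379), (37, [3, 3, 1, 3, 0, 2, 2, 2, 1, 3, 0], 834)], 146), ([(59, [], 0), (58, [], 146), (20, [2], 4816)], 0), ([(60, [], 0), (90, [2, 2, 1, 3, 0, 3, 1, 2, 0, 3, 1, 3, 0, 3, 1, 2, 0, 2, 1, 2, 0, 2], 491), (48, [3, 3, 1, 3, 0, 2, 2, 2, 1, 3, 0], 133)], 132), ([(66, [], 0), (94, [3, 1, 3, 0, 2, 1, 2, 0, 2, 1, 3, 0, 3, 1, 2, 0, 2, 1, 3, 0], 606), (38, [2], 587)], 0), ([(67, [], 0), (36, [1, 3, 0, 2, 1, 2, 0], 786), (29, [2], 53297)], 0), ([(70, [], 0), (67, [2, 2, 2, 1, 2, 0, 2, 1, 3, 0, 3, 1, 2, 0, 1, 2, 0, 1, 2, 0], 204), (35, [2], 719)], 48), ([(71, [], 0), (93, [1, 2, 0, 2, 2, 1,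 2, 0, 2, 1, 3, 0, 1, 3, 0, 2, 1, 2, 0, 1, 2, 0, 2, 1, 3, 0], 541), (52, [2], 56)], 0), ([(72, [], 0), (55, [1, 3, 0, 3, 3, 1, 3, 0, 2, 1, 2, 0, 1, 2, 0], 57), (92, [2], 545)], 0), ([(73, [], 0), (63, [1, 2, 0, 1, 2, 0, 2, 1, 3, 0, 3, 3, 1, 3, 0, 2, 2, 1, 2, 0, 1, 2, 0], 16), (89, [2], 367)], 0), ([(73, [2, 2, 1, 2, 0, 3, 1, 3, 0, 3, 1, 2, 0, 3, 3, 1, 3, 0, 1, 3, 0, 2, 1, 2, 0, 1, 2, 0], 229), (67, [2, 1, 3, 0, 2, 2, 1, 2, 0, 2, 1, 3, 0, 1, 3, 0, 3, 1, 3, 0, 2, 1, 2, 0], 71), (41, [1, 3, 0, 2, 1, 2, 0, 2, 2, 1, 3, 0, 1, 3, 0, 2, 2, 1, 2, 0], 1011)], 32), ([(63, [2, 1, 2, 0, 2, 2, 1, 2, 0, 2, 1, 3, 0, 2, 2, 1, 2, 0, 3], 172), (80, [1, 2, 0, 2, 1, 2, 0, 1, 2, 0, 2, 1, 2, 0, 3, 1, 3, 0, 2, 2, 1, 3, 0], 44),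 (25, [2], 912)], 184), ([(59, [1, 2, 0, 2, 1, 2, 0, 3, 3, 1, 3, 0, 2, 1, 2, 0, 2, 2, 1, 3, 0, 1, 3, 0, 2], 223), (57, [2, 2, 1, 2, 0, 2, 2, 2, 1, 2, 0, 2, 1, 3, 0, 3], 57), (84, [2, 2, 2, 1, 2, 0, 2, 1, 2, 0, 1, 2, 0, 2, 1, 3, 0, 3, 1, 2, 0], 125)], 35), ([(74, [], 0), (54, [1, 2, 0, 1, 2, 0, 1, 2, 0, 3, 1, 3, 0, 1, 3, 0, 2, 2, 2, 1, 3, 0, 3, 1, 3, 0], 139), (90, [2], 363)], 146), ([(75, [], 0), (72, [2, 1, 2, 0, 1, 2, 0, 1, 2, 0, 3, 3, 1, 3, 0, 2, 1, 2, 0, 1, 2, 0, 2, 1, 2, 0], 190), (59, [2, 2, 1, 2, 0, 2, 1, 3, 0, 2, 1, 2, 0, 2, 1, 3, 0], 214)], 208), ([(49, [3, 1, 2, 0], 146), (18, [2, 1, 2, 0, 2, 2, 2, 1, 2, 0, 2, 1, 2, 0], 701), (68, [2, 1, 3, 0, 2], 110)], 146), ([(48, [3, 1, 2, 0], 146), (61,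 [2, 1, 3, 0, 2], 90), (99, [2], 13573)], 0), ([(73, [1, 2, 0, 1, 2, 0, 1, 2, 0, 2, 1, 2, 0, 3, 1, 3, 0, 1, 3, 0, 2, 1, 2, 0], 168), (73, [2, 1, 3, 0, 1, 3, 0, 2, 1, 2, 0, 2], 64), (64, [1, 2, 0, 1, 2, 0, 1, 2, 0, 3, 1, 3, 0, 3, 1, 2, 0, 2, 1, 3, 0, 1, 3, 0, 3], 92)], 228), ([(73, [3, 3, 1, 3, 0, 2, 1, 2, 0, 3, 3, 1, 3, 0, 2, 1, 2, 0, 1, 2, 0], 205), (54, [1, 2, 0, 2, 1, 2, 0, 1, 2, 0, 3, 1, 3, 0, 1, 3, 0, 3, 3, 1, 3, 0, 3, 3], 44), (81, [2], 116)], 0), ([(74, [1, 3, 0, 1, 3, 0, 3, 1, 2, 0, 1, 2, 0, 3, 1, 3, 0], 62), (60, [2, 2, 1, 3, 0, 3, 1, 3, 0, 2, 1, 2, 0, 2, 1, 3, 0, 3], 118), (86, [3, 3, 1, 3, 0, 3, 1, 2, 0, 2, 2, 1, 2, 0, 3, 3], 50)], 68), ([(72, [3, 1, 2, 0, 2, 2, 1, 2, 0, 3, 3, 1, 2, 0, 3], 41),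 (56, [3, 1, 2, 0, 1, 2, 0, 2, 1, 3, 0, 1, 3, 0, 2, 1, 2, 0, 1, 2, 0, 2, 1, 3, 0], 170), (44, [1, 2, 0, 1, 2, 0, 3, 1, 3, 0, 1, 3, 0, 3, 1, 2, 0, 2, 1, 2, 0, 3, 1, 3, 0], 246)], 177), ([(73, [3, 1, 2, 0, 2, 2, 1, 2, 0, 3, 3, 1, 2, 0, 3], 41), (55, [2, 1, 3, 0, 1, 3, 0, 2, 2, 1, 2, 0, 1, 2, 0, 3, 3, 1, 3, 0, 1, 3, 0], 0), (97, [2], 480)], 0), ([(50, [3, 1, 2, 0], 14), (29, [3, 1, 2, 0], 57557), (69, [2], 14)], 110), ([(51, [3, 1, 2, 0], 14), (35, [3, 1, 2, 0], 52), (62, [1, 2, 0], 154)], 146), ([(74, [2, 1, 3, 0, 2, 2, 1, 3, 0, 3, 3, 1, 3, 0, 2], 47), (71, [1, 2, 0, 2, 2, 1, 3, 0, 2, 1, 2, 0, 2, 1, 2, 0, 3], 223), (93, [1, 2, 0, 1, 2, 0, 3, 1, 3, 0, 1, 3, 0, 3, 1, 2, 0, 2, 1, 2, 0, 3, 1, 3, 0], 542)], 56),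 ([(75, [2, 1, 3, 0, 2, 2, 1, 3, 0, 3, 3, 1, 3, 0, 2], 47), (59, [1, 2, 0, 2, 1, 2, 0, 1, 2, 0, 2, 2, 1, 2, 0, 1, 2, 0, 3, 1, 3, 0, 3, 1, 2, 0], 158), (70, [3, 3, 1, 2, 0, 3, 1, 3, 0, 2, 1, 2, 0, 3, 1, 3, 0, 3, 3], 207)], 146), ([(55, [3, 1, 2, 0, 3, 3, 1, 3, 0, 2, 1, 2, 0, 2, 1, 3, 0, 3, 1, 3, 0, 2], 68), (92, [1, 3, 0, 3, 1, 2, 0, 3, 1, 3, 0, 2, 1, 2, 0, 1, 2, 0, 3, 3], 592), (72, [2, 1, 2, 0, 1, 2, 0, 1, 2, 0, 3, 1, 3, 0, 1, 3, 0, 2, 2, 1, 3, 0], 170)], 40), ([(54, [3, 1, 2, 0, 3, 3, 1, 3, 0, 2, 1, 2, 0, 2, 1, 3, 0, 3, 1, 3, 0, 2], 68), (90, [1, 2, 0, 3, 3, 1, 2, 0, 1, 2, 0, 2, 1, 2, 0, 3, 1, 3, 0, 2, 2, 2], 298), (73, [2, 1, 2, 0, 3, 3, 1, 2, 0, 1, 2, 0, 2, 1, 2, 0, 1, 2, 0, 1, 2, 0], 159)], 34), ([(71,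 [1, 2, 0, 2, 1, 2, 0, 3, 1, 3, 0, 3, 1, 2, 0, 1, 2, 0, 2, 2], 32), (93, [2, 2, 1, 2, 0, 1, 2, 0, 2, 1, 2, 0, 2, 2, 1, 2, 0, 1, 2, 0], 536), (74, [1, 2, 0, 3, 1, 3, 0, 2, 1, 2, 0, 1, 2, 0, 2, 2, 1, 3, 0, 3], 145)], 68), ([(70, [1, 2, 0, 2, 1, 2, 0, 3, 1, 3, 0, 3, 1, 2, 0, 1, 2, 0, 2, 2], 32), (59, [2, 1, 2, 0, 2, 2, 1, 3, 0, 3, 1, 3, 0, 1, 3, 0, 2, 2, 2, 1, 3, 0], 169), (75, [2, 2, 1, 2, 0, 3, 3, 1, 3, 0, 1, 3, 0, 3, 1, 2, 0, 2, 1, 3, 0, 2], 186)], 159), ([(80, [3, 1, 3, 0, 2, 2, 2, 1, 3, 0, 3], 54), (17, [1, 3, 0, 2, 2, 2, 1, 3, 0, 3], 2679), (11, [2], 5872)], 0), ([(81, [3, 1, 3, 0, 2, 2, 2, 1, 3, 0, 3], 23), (65, [1, 3, 0, 3, 1, 3, 0, 2, 2, 1, 3, 0, 2, 1, 2, 0, 2, 2, 2], 88), (78, [2, 1, 3, 0, 3], 134)],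 49), ([(84, [2, 1, 3, 0, 1, 3, 0, 3, 1, 3, 0, 1, 3, 0, 3, 1, 2, 0, 1, 2, 0, 3], 187), (57, [3, 1, 2, 0, 3, 1, 3, 0, 3, 3, 1, 2, 0], 234), (79, [2, 1, 2, 0, 1, 2, 0, 2, 1, 3, 0], 265)], 230), ([(85, [2, 1, 3, 0, 1, 3, 0, 3, 1, 3, 0, 1, 3, 0, 3, 1, 2, 0, 1, 2, 0, 3], 187), (83, [3, 3, 1, 3, 0, 3, 3, 1, 2, 0, 2, 2, 1, 2, 0, 1, 2, 0], 59), (76, [1, 2, 0, 2, 1, 3, 0, 1, 3, 0], 409)], 109), ([(89, [2, 2, 1, 2, 0, 3, 3, 1, 3, 0, 2, 2, 1, 3, 0, 2, 1, 2, 0, 1, 2, 0, 3], 194), (73, [2, 1, 2, 0, 3, 3, 1, 3, 0, 2, 2, 1, 3, 0, 2, 1, 2, 0, 1, 2, 0, 3], 146), (63, [2], 16)], 462), ([(88, [1, 2, 0, 2, 1, 2, 0, 1, 2, 0, 3, 1, 3, 0, 1, 3, 0, 3, 3, 1, 3, 0, 3, 3], 208), (80, [1, 2, 0, 2, 2, 1, 3, 0, 3, 1, 2, 0, 3, 3, 1,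 2, 0], 26), (24, [2], 4609)], 300), ([(88, [1, 3, 0, 3, 1, 2, 0, 3, 3, 1, 3, 0, 2, 2, 1, 3, 0, 2], 69), (88, [3, 1, 3, 0, 3, 1, 2, 0, 2, 2, 1, 2, 0, 2, 1, 3, 0, 1, 3, 0], 460), (83, [1, 2, 0, 1, 2, 0, 1, 2, 0, 2, 1, 2, 0, 1, 2, 0, 3, 3, 1, 2, 0, 1, 2, 0], 484)], 411), ([(89, [1, 2, 0, 3, 1, 3, 0, 2, 2, 2, 1, 2, 0, 1, 2, 0, 2, 2], 276), (67, [1, 3, 0, 2, 1, 2, 0, 1, 2, 0, 3, 1, 3, 0, 3, 1, 2, 0, 2, 2], 104), (40, [2], 773)], 0), ([(91, [2, 1, 3, 0, 3, 1, 2, 0, 2, 1, 2, 0, 2, 1, 3, 0, 2, 1, 2, 0], 36), (95, [1, 3, 0, 3, 1, 3, 0, 1, 3, 0, 3, 3, 1, 3, 0, 1, 3, 0, 3, 1, 3, 0, 1, 3, 0], 77), (85, [1, 2, 0, 2, 2, 1, 3, 0, 1, 3, 0, 3, 3, 1, 2, 0, 3, 1, 3, 0, 2], 138)], 230), ([(90, [2, 1, 3, 0, 3, 1, 2, 0, 2,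 1, 2, 0, 2, 1, 3, 0, 2, 1, 2, 0], 36), (75, [1, 2, 0, 2, 1, 3, 0, 3, 1, 3, 0, 2, 1, 2, 0, 1, 2, 0, 3], 62), (57, [2, 1, 3, 0, 3, 3, 1, 3, 0, 2, 2, 2, 1, 3, 0], 238)], 286), ([(91, [1, 2, 0, 2, 1, 2, 0, 2, 2, 1, 2, 0, 1, 2, 0, 3, 1, 3, 0, 3, 1, 2, 0, 3], 91), (94, [2, 1, 2, 0, 2, 1, 3, 0, 2, 1, 2, 0, 3, 3, 1, 3, 0, 3, 1, 2, 0], 360), (42, [1, 2, 0, 2, 2, 1, 2, 0, 3, 1, 3, 0, 2], 752)], 295), ([(90, [3, 1, 2, 0, 2, 2, 2, 1, 3, 0, 2, 2, 1, 3, 0, 2], 173), (75, [1, 2, 0, 2, 1, 2, 0, 1, 2, 0, 2, 1, 3, 0, 3, 3, 1, 2, 0, 3, 1, 3, 0, 3], 122), (65, [2, 2, 1, 3, 0, 2, 2, 1, 2, 0, 1, 2, 0, 1, 2, 0, 2, 1, 2, 0], 170)], 229), ([(81, [2, 2, 1, 2, 0, 1, 2, 0, 2, 2, 1, 2, 0, 2, 1, 2, 0, 3], 195), (72, [2, 1, 2, 0, 1,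 2, 0, 1, 2, 0, 3, 3, 1, 3, 0, 2, 2, 1, 3, 0, 1, 3, 0], 224), (54, [2], 40)], 26), ([(80, [1, 2, 0, 1, 2, 0, 2, 1, 3, 0, 3, 3, 1, 3, 0, 2, 2, 1, 2, 0, 1, 2, 0], 237), (24, [2, 2, 1, 2, 0, 3, 1, 3, 0, 3, 3, 1, 2, 0, 2, 1, 3, 0], 3269), (88, [1, 2, 0, 2, 1, 2, 0, 2, 1, 3, 0, 2, 1, 2, 0, 2, 1, 2, 0, 1, 2, 0, 3, 1, 3, 0], 266)], 194), ([(88, [1, 2, 0, 1, 2, 0, 1, 2, 0, 3, 1, 3, 0, 1, 3, 0, 2, 2, 2, 1, 3, 0, 3, 1, 3, 0], 322), (91, [3, 1, 2, 0, 1, 2, 0, 2, 1, 2, 0, 2, 2, 1, 2, 0, 3, 1, 3, 0, 1, 3, 0], 330), (95, [1, 2, 0, 2, 1, 2, 0, 1, 2, 0, 1, 2, 0, 2, 1, 2, 0, 2, 1, 3, 0, 1, 3, 0], 95)], 49), ([(89, [1, 2, 0, 1, 2, 0, 1, 2, 0, 3, 1, 3, 0, 1, 3, 0, 2, 2, 2, 1, 3, 0, 3, 1, 3, 0], 322), (75, [2, 2, 1, 2, 0,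 3, 3, 1, 3, 0, 1, 3, 0, 3, 1, 2, 0, 2, 1, 3, 0], 113), (60, [2], 159)], 0), ([(92, [3, 3, 1, 2, 0, 1, 2, 0, 2, 2, 1, 3, 0, 1, 3, 0, 2], 66), (73, [2, 1, 2, 0, 3, 3, 1, 3, 0, 2, 2, 2, 1, 3, 0, 1, 3, 0, 3, 1, 2, 0], 125), (55, [1, 2, 0, 2, 1, 2, 0, 2, 1, 3, 0, 2, 1, 2, 0, 2, 1, 2, 0, 1, 2, 0, 3, 1, 3, 0], 34)], 379), ([(96, [3, 1, 2, 0, 2, 2, 2, 1, 2, 0, 3, 1, 3, 0, 2, 1, 2, 0], 135), (94, [2, 1, 3, 0, 1, 3, 0, 3, 1, 2, 0, 2, 1, 2, 0, 3, 3, 1, 2, 0], 33), (45, [2], 22)], 0), ([(97, [1, 2, 0, 3, 1, 3, 0, 2, 1, 2, 0, 2, 1, 3, 0, 3, 1, 3, 0], 280), (72, [2, 1, 2, 0, 1, 2, 0, 2, 2, 1, 2, 0, 3, 1, 3, 0, 2, 1, 2, 0, 3], 220), (71, [2, 1, 3, 0, 3, 1, 2, 0, 2, 1, 3, 0, 2], 61)], 411), ([(96, [1, 2, 0, 1, 2, 0,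 1, 2, 0, 2, 1, 2, 0, 2, 2, 1, 2, 0, 2], 80), (95, [1, 3, 0, 1, 3, 0, 3, 3, 1, 2, 0, 3, 1, 3, 0, 3, 1, 2, 0, 3, 3], 226), (91, [3, 1, 3, 0, 2, 1, 2, 0, 2], 360)], 297), ([(92, [2, 1, 3, 0, 1, 3, 0, 2, 2, 1, 2, 0, 1, 2, 0, 3, 3, 1, 3, 0, 1, 3, 0], 102), (72, [2, 1, 2, 0, 2, 2, 1, 3, 0, 2, 1, 2, 0, 2, 2, 1, 3, 0, 1, 3, 0, 3, 1, 2, 0], 121), (66, [2], 144)], 522), ([(92, [1, 2, 0, 2, 1, 3, 0, 2, 2, 2, 1, 2, 0, 1, 2, 0, 1, 2, 0], 77), (66, [1, 2, 0, 2, 2, 1, 3, 0, 3], 102), (96, [3, 3, 1, 2, 0, 3, 1, 3, 0, 2, 1, 2, 0, 3, 1, 3, 0, 3, 3], 183)], 517), ([(92, [1, 2, 0, 3, 3, 1, 3, 0, 2, 2, 1, 3, 0, 2, 2, 1, 3, 0, 3, 1, 3, 0], 635), (55, [1, 2, 0, 2, 2, 1, 2, 0, 3, 1, 3, 0, 2, 2, 1, 3, 0, 2, 1, 2, 0, 1, 2, 0],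 28), (98, [1, 2, 0, 2, 2, 2, 1, 2, 0, 3, 1, 3, 0, 2, 1, 2, 0], 39)], 50), ([(99, [2, 1, 3, 0, 2], 2342), (48, [2, 1, 2, 0, 2, 2, 2, 1, 2, 0, 2, 1, 2, 0], 62), (61, [2], 132)], 2342), ([(99, [3, 1, 2, 0, 3, 1, 3, 0, 2, 1, 2, 0, 2], 3034), (61, [3, 1, 2, 0, 3, 1, 3, 0, 2, 1, 2, 0, 2], 184), (100, [2], 19269)], 26170)],
[([(0, [], 0), (5, [], 0), (2, [], 24400)], 0), ([(5, [], 628), (2, [], 24400), (0, [], 0)], 13988), ([(6, [], 628), (14, [], 2300), (3, [], 24400)], 13988), ([(7, [], 8232), (26, [], 9832), (4, [], 24400)], 25770), ([(8, [], 8232), (12, [], 2300), (1, [], 24400)], 25770), ([(9, [3, 1, 2, 0], 208), (19, [1, 3, 0, 2], 2758), (12, [1, 2, 0], 2983)], 0), ([(9, [2, 2, 1, 2, 0, 2, 2, 1, 2, 0,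 3, 1, 3, 0], 15571), (17, [3, 1, 2, 0], 4587), (5, [1, 2, 0], 4220)], 0), ([(10, [3, 1, 2, 0], 4220), (34, [2, 2, 1, 3, 0, 2, 1, 2, 0, 1, 2, 0, 2, 2, 1, 3, 0, 1, 3, 0], 850), (14, [1, 2, 0], 3655)], 0), ([(10, [2, 2, 1, 2, 0, 2, 2, 1, 2, 0, 3, 1, 3, 0], 63614), (36, [1, 3, 0, 2], 568), (26, [1, 2, 0], 31284)], 0), ([(6, [1, 3, 0, 1, 3, 0, 3, 1, 2, 0, 2, 1, 3, 0], 68371), (19, [2, 2, 1, 3, 0, 3, 1, 2, 0, 2, 2, 2, 1, 2, 0], 4955), (17, [1, 2, 0], 1936)], 0), ([(8, [1, 3, 0, 1, 3, 0, 3, 1, 2, 0, 2, 1, 3, 0], 44291), (21, [2, 2, 1, 3, 0, 3, 1, 2, 0, 2, 2, 2, 1, 2, 0], 4639), (31, [1, 2, 0], 843)], 94616), ([(9, [2, 2, 1, 3, 0, 3, 1, 3, 0], 55577), (24, [1, 2, 0, 3, 3, 1, 3, 0, 3, 3, 1, 3, 0, 2, 2, 1, 3, 0],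 2963), (77, [1, 2, 0], 447)], 0), ([(18, [2, 2, 1, 3, 0, 2, 1, 2, 0, 1, 2, 0, 2, 2, 1, 3, 0, 1, 3, 0], 2551), (50, [1, 3, 0, 2], 90), (27, [1, 2, 0], 31284)], 0), ([(19, [2, 2, 1, 3, 0, 2, 1, 2, 0, 1, 2, 0, 2, 2, 1, 3, 0, 1, 3, 0], 2551), (17, [2, 2, 1, 2, 0, 2, 2, 1, 2, 0, 3, 1, 3, 0], 51), (6, [1, 2, 0], 44960)], 0), ([(20, [2, 2, 1, 3, 0, 2, 1, 2, 0, 1, 2, 0, 2, 2, 1, 3, 0, 1, 3, 0], 2731), (49, [2, 2, 1, 3, 0, 2, 1, 2, 0, 1, 2, 0, 2, 2, 1, 3, 0, 1, 3, 0], 14), (15, [1, 2, 0], 3655)], 0), ([(21, [2, 2, 1, 3, 0, 2, 1, 2, 0, 1, 2, 0, 2, 2, 1, 3, 0, 1, 3, 0], 2731), (31, [2, 2, 1, 2, 0, 2, 2, 1, 2, 0, 3, 1, 3, 0], 844), (8, [1, 2, 0], 97291)], 0), ([(17, [2, 2, 2, 1, 2, 0, 3, 3, 1, 2, 0, 2, 1, 3, 0],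 2990), (5, [1, 3, 0, 1, 3, 0, 3, 1, 2, 0, 2, 1, 3, 0], 72294), (9, [1, 2, 0], 65180)], 2985), ([(18, [1, 2, 0, 1, 2, 0, 1, 2, 0, 3, 3, 1, 3, 0, 2, 2, 1, 3, 0], 227), (46, [1, 2, 0, 1, 2, 0, 1, 2, 0, 3, 3, 1, 3, 0, 2, 2, 1, 3, 0], 14), (33, [1, 2, 0], 380)], 4192), ([(20, [1, 2, 0, 1, 2, 0, 1, 2, 0, 2, 1, 2, 0, 3, 1, 3, 0, 2, 2, 2], 224), (58, [3, 3, 1, 3, 0, 2, 2, 1, 3, 0, 2, 1, 2, 0, 2, 2, 1, 3, 0], 89), (19, [2, 1, 2, 0, 2, 2, 2, 1, 2, 0, 2, 2, 1, 2, 0], 4727)], 2648), ([(21, [1, 2, 0, 1, 2, 0, 1, 2, 0, 2, 1, 2, 0, 3, 1, 3, 0, 2, 2, 2], 224), (41, [2, 2, 1, 2, 0, 1, 2, 0, 3, 1, 3, 0, 1, 3, 0, 3, 3, 1, 2, 0], 301), (47, [1, 2, 0], 146)], 0), ([(18, [1, 2, 0, 1, 2, 0, 1, 2, 0, 2, 1, 2, 0, 3, 1, 3, 0,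 2, 2, 2], 224), (56, [1, 2, 0, 3, 1, 3, 0, 3, 3, 1, 3, 0, 2, 1, 2, 0, 2, 1, 3, 0], 207), (34, [1, 2, 0], 700)], 0), ([(19, [1, 2, 0, 1, 2, 0, 1, 2, 0, 2, 1, 2, 0, 3, 1, 3, 0, 2, 2, 2], 224), (25, [1, 3, 0, 3, 3, 1, 2, 0, 2, 1, 3, 0, 3, 3], 2523), (49, [1, 2, 0], 129)], 0), ([(25, [2, 2, 1, 3, 0, 2, 2, 1, 3, 0, 2, 2, 2, 1, 3, 0], 184), (58, [2, 1, 3, 0, 2, 1, 2, 0, 3, 1, 3, 0, 2, 1, 2, 0, 2, 1, 2, 0, 3, 3], 11), (23, [1, 2, 0, 1, 2, 0, 2, 1, 3, 0, 2, 2, 1, 3, 0], 80)], 2302), ([(25, [3, 1, 3, 0, 2, 2], 2230), (56, [2, 1, 3, 0, 3, 1, 2, 0, 2, 1, 3, 0, 3, 1, 2, 0], 148), (30, [2, 2, 1, 2, 0, 2, 2, 1, 2, 0, 3], 1134)], 2646), ([(24, [1, 3, 0, 3, 3, 1, 3, 0, 1, 3, 0, 2, 1, 2, 0, 1, 2, 0, 3], 514), (88, [2,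 1, 3, 0, 2, 2, 2, 1, 2, 0, 3, 1, 3, 0, 2, 2, 1, 3, 0], 309), (80, [2, 2, 1, 2, 0, 1, 2, 0, 3, 1, 3, 0, 2, 1, 2, 0, 2, 1, 3, 0, 1, 3, 0], 86)], 2230), ([(21, [2, 1, 2, 0, 2, 1, 3, 0, 3, 1, 2, 0, 2, 1, 3, 0], 4816), (44, [1, 3, 0, 2, 1, 2, 0, 2, 2, 1, 2, 0, 3, 3, 1, 3, 0, 1, 3, 0], 485), (58, [1, 2, 0], 105)], 4816), ([(28, [1, 3, 0, 2], 31284), (31, [3, 1, 2, 0], 752), (7, [1, 2, 0], 93538)], 0), ([(29, [1, 3, 0, 2], 31284), (47, [2, 2, 1, 3, 0, 2, 1, 2, 0, 1, 2, 0, 2, 2, 1, 3, 0, 1, 3, 0], 102), (13, [1, 2, 0], 3811)], 0), ([(28, [2, 2, 1, 2, 0, 3, 1, 3, 0, 3, 3, 1, 2, 0, 2, 2], 65977), (43, [2, 1, 3, 0, 2, 2, 1, 2, 0, 3, 1, 3, 0, 1, 3, 0, 3, 3], 1145), (36, [1, 2, 0], 658)], 0), ([(29, [2, 2, 1, 2, 0,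 3, 1, 3, 0, 3, 3, 1, 2, 0, 2, 2], 64553), (64, [2, 1, 2, 0, 2, 2, 1, 3, 0, 3, 3, 1, 2, 0, 1, 2, 0, 3, 1, 3, 0, 1, 3, 0], 124), (50, [1, 2, 0], 71)], 0), ([(36, [2, 2, 1, 3, 0, 3, 1, 2, 0, 2, 2, 2, 1, 2, 0], 786), (26, [1, 3, 0, 1, 3, 0, 3, 1, 2, 0, 2, 1, 3, 0], 46300), (10, [1, 2, 0], 94616)], 0), ([(34, [1, 2, 0, 1, 2, 0, 1, 2, 0, 3, 3, 1, 3, 0, 2, 2, 1, 3, 0], 686), (23, [2, 2, 1, 3, 0, 3, 1, 2, 0, 2, 1, 3, 0], 2752), (22, [1, 3, 0, 2, 1, 2, 0], 4976)], 721), ([(39, [2, 2, 1, 3, 0, 3, 1, 2, 0, 2, 2, 2, 1, 2, 0], 804), (33, [2, 2, 2, 1, 2, 0, 3, 3, 1, 2, 0, 2, 1, 3, 0], 618), (16, [1, 2, 0], 4643)], 1337), ([(37, [1, 2, 0, 1, 2, 0, 1, 2, 0, 3, 3, 1, 3, 0, 2, 2, 1, 3, 0], 380), (51, [2, 2, 1, 3, 0, 3,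 1, 2, 0, 2, 2, 2, 1, 2, 0], 132), (32, [1, 2, 0], 850)], 752), ([(40, [1, 2, 0, 3, 1, 3, 0, 3, 3, 1, 3, 0, 2, 1, 2, 0, 2, 1, 3, 0], 7), (80, [1, 2, 0, 2, 1, 2, 0, 3, 3, 1, 3, 0, 3, 1, 2, 0, 2, 2, 2], 86), (21, [2, 1, 2, 0, 2, 2, 2, 1, 2, 0, 2, 2, 1, 2, 0], 4966)], 459), ([(43, [1, 2, 0, 3, 1, 3, 0, 3, 3, 1, 3, 0, 2, 1, 2, 0, 2, 1, 3, 0], 1104), (36, [2, 2, 1, 2, 0, 3, 1, 3, 0, 3, 3, 1, 2, 0, 2, 2], 722), (28, [1, 2, 0], 65022)], 569), ([(42, [1, 2, 0, 2, 2, 1, 3, 0, 1, 3, 0, 3, 1, 3, 0, 2, 1, 2, 0, 2, 2], 1131), (84, [2, 2, 1, 3, 0, 1, 3, 0, 2, 2, 1, 2, 0, 2], 207), (53, [1, 2, 0], 132)], 0), ([(43, [1, 2, 0, 2, 2, 1, 3, 0, 1, 3, 0, 3, 1, 3, 0, 2, 1, 2, 0, 2, 2], 269), (41, [2, 1, 2, 0, 1, 2, 0, 2, 1,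 3, 0, 1, 3, 0, 3, 1, 2, 0, 2, 1, 3, 0, 1, 3, 0], 1016), (46, [1, 2, 0], 60)], 0), ([(41, [1, 2, 0, 3, 1, 3, 0, 3, 3, 1, 3, 0, 2, 1, 2, 0, 2, 1, 3, 0], 1187), (56, [1, 2, 0, 2, 2, 1, 3, 0, 1, 3, 0, 3, 1, 3, 0, 2, 1, 2, 0, 2, 2], 94), (39, [1, 2, 0], 823)], 668), ([(40, [1, 2, 0, 2, 2, 1, 3, 0, 1, 3, 0, 3, 1, 3, 0, 2, 1, 2, 0, 2, 2], 1137), (81, [1, 2, 0, 2, 1, 2, 0, 3, 3, 1, 3, 0, 3, 1, 2, 0, 2, 2, 2], 22), (51, [1, 2, 0], 76)], 0), ([(44, [2, 1, 2, 0, 2, 2, 1, 2, 0, 2, 1, 3, 0, 3, 1, 2, 0, 3], 385), (73, [1, 2, 0, 1, 2, 0, 2, 2, 2, 1, 3, 0, 2, 1, 2, 0, 2, 2, 2, 1, 2, 0], 182), (56, [1, 2, 0], 69)], 1341), ([(44, [1, 2, 0, 1, 2, 0, 3, 1, 3, 0, 3, 1, 2, 0, 3, 3, 1, 3, 0, 2, 2, 2], 886), (54, [1, 3, 0, 2,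 1, 2, 0, 2, 2, 1, 3, 0, 3, 3, 1, 2, 0, 2, 1, 3, 0], 74), (82, [1, 2, 0], 145)], 0), ([(45, [2, 1, 2, 0, 2, 2, 1, 2, 0, 2, 1, 3, 0, 3, 1, 2, 0, 3], 546), (94, [2, 2, 1, 3, 0, 3, 1, 2, 0, 1, 2, 0, 2, 1, 2, 0, 2], 615), (43, [2, 1, 3, 0, 1, 3, 0, 2, 2, 1, 3, 0, 1, 3, 0, 3, 1, 3, 0, 1, 3, 0], 437)], 61), ([(45, [1, 2, 0, 1, 2, 0, 3, 1, 3, 0, 3, 1, 2, 0, 3, 3, 1, 3, 0, 2, 2, 2], 969), (95, [2, 1, 2, 0, 3, 3, 1, 2, 0, 3, 3, 1, 3, 0, 2, 2, 1, 3, 0, 2, 1, 2, 0], 2), (87, [1, 2, 0, 2, 1, 2, 0, 1, 2, 0, 3, 1, 3, 0, 1, 3, 0, 3, 1, 2, 0, 2, 1, 3, 0, 3], 83)], 770), ([(41, [2, 1, 3, 0, 3, 1, 3, 0, 2, 2, 1, 3, 0, 2, 1, 2, 0, 2, 1, 3, 0, 2], 864), (73, [2, 1, 2, 0, 2, 2, 1, 2, 0, 2, 2, 2, 1, 2, 0, 2, 1, 3, 0], 60),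 (67, [2, 1, 3, 0, 3, 1, 2, 0, 2], 129)], 537), ([(43, [2, 1, 3, 0, 3, 1, 3, 0, 2, 2, 1, 3, 0, 2, 1, 2, 0, 2, 1, 3, 0, 2], 1066), (45, [2, 1, 2, 0, 2, 2, 2, 1, 3, 0, 3, 3, 1, 3, 0, 2], 192), (94, [1, 2, 0], 60)], 0), ([(56, [2, 1, 3, 0, 2, 2, 1, 2, 0, 3, 1, 3, 0, 1, 3, 0, 3, 3], 225), (34, [1, 2, 0, 1, 2, 0, 1, 2, 0, 2, 1, 2, 0, 3, 1, 3, 0, 2, 2, 2], 470), (18, [1, 2, 0], 1056)], 0), ([(56, [1, 2, 0, 2, 1, 2, 0, 3, 3, 1, 3, 0, 3, 1, 2, 0, 2, 2, 2], 47), (43, [3, 1, 2, 0, 3, 3, 1, 2, 0, 1, 2, 0], 443), (37, [2, 1, 2, 0, 2, 2, 2, 1, 2, 0, 2, 2, 1, 2, 0], 375)], 146), ([(58, [1, 2, 0, 2, 2, 2, 1, 2, 0, 1, 2, 0, 1, 2, 0, 3, 1, 3, 0], 99), (19, [2, 2, 1, 2, 0, 3, 1, 3, 0, 3, 3, 1, 2, 0, 2, 2], 3649), (20, [1,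 2, 0], 1118)], 0), ([(57, [1, 3, 0, 3, 3, 1, 2, 0, 2, 1, 3, 0, 3, 3], 192), (86, [2, 1, 3, 0, 2, 2, 1, 2, 0, 3, 1, 3, 0, 1, 3, 0, 3, 3], 36), (48, [2, 1, 2, 0, 2, 2, 2, 1, 2, 0, 2, 2, 1, 2, 0], 111)], 132), ([(63, [2, 1, 2, 0, 1, 2, 0, 2, 1, 3, 0, 1, 3, 0, 3, 1, 2, 0, 2, 1, 3, 0, 1, 3, 0], 39), (82, [1, 2, 0, 3, 1, 3, 0, 3, 3, 1, 3, 0, 2, 1, 2, 0, 2, 1, 3, 0], 205), (38, [1, 2, 0], 1125)], 0), ([(64, [1, 2, 0, 2, 1, 2, 0, 3, 3, 1, 3, 0, 3, 1, 2, 0, 2, 2, 2], 76), (50, [2, 2, 1, 2, 0, 3, 1, 3, 0, 3, 3, 1, 2, 0, 2, 2], 178), (29, [1, 2, 0], 67137)], 0), ([(57, [2, 1, 3, 0, 1, 3, 0, 2, 2, 1, 2, 0, 2, 2, 2], 178), (87, [2, 1, 3, 0, 2, 2, 1, 2, 0, 3, 1, 3, 0, 1, 3, 0, 3, 3], 246), (35, [1, 2, 0], 1193)], 48),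 ([(58, [1, 2, 0, 1, 2, 0, 3, 3, 1, 3, 0, 2, 2, 1, 2, 0, 1, 2, 0, 3, 1, 3, 0], 49), (25, [2, 1, 3, 0, 1, 3, 0, 2, 2, 1, 2, 0, 2, 2, 2], 129), (52, [1, 2, 0], 185)], 0), ([(67, [2, 1, 2, 0, 2, 2, 1, 2, 0, 2, 1, 3, 0, 3, 1, 2, 0, 3], 61), (45, [2, 2, 2, 1, 2, 0, 3, 1, 3, 0, 3, 1, 2, 0, 1, 2, 0, 2, 1, 3, 0, 3], 1391), (92, [1, 2, 0], 306)], 0), ([(66, [2, 1, 2, 0, 2, 2, 1, 2, 0, 2, 1, 3, 0, 3, 1, 2, 0, 3], 61), (95, [1, 3, 0, 2, 2, 2, 1, 3, 0, 3, 1, 3, 0, 2, 2, 1, 2, 0, 2], 340), (89, [1, 2, 0], 258)], 0), ([(73, [2, 1, 2, 0, 3, 3, 1, 2, 0, 2, 1, 3, 0, 3, 1, 3, 0, 2, 2], 15), (67, [1, 2, 0, 3, 3, 1, 2, 0, 3, 1, 3, 0, 2, 1, 2, 0, 1, 2, 0, 3], 159), (41, [2, 1, 3, 0, 1, 3, 0, 2, 2, 1, 3, 0, 1, 3, 0, 3, 1, 3,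 0, 1, 3, 0], 912)], 12), ([(59, [2, 2, 2, 1, 3, 0, 2, 1, 2, 0, 2, 2, 2, 1, 3, 0, 3], 110), (49, [2, 1, 2, 0, 2, 1, 3, 0, 3, 1, 2, 0, 2, 1, 3, 0], 211), (25, [1, 2, 0], 4816)], 184), ([(66, [3, 1, 3, 0, 3, 1, 2, 0, 2, 2, 1, 3, 0, 1, 3, 0, 2, 2, 1, 3, 0], 64), (95, [1, 3, 0, 3, 3, 1, 3, 0, 2, 1, 2, 0, 2, 2, 2, 1, 3, 0, 3], 401), (84, [2, 2, 2, 1, 2, 0, 2, 1, 2, 0, 1, 2, 0, 2, 1, 3, 0, 1, 3, 0, 2], 161)], 35), ([(59, [2, 2, 2, 1, 3, 0, 2, 1, 2, 0, 2, 2, 1, 2, 0, 1, 2, 0, 3], 39), (60, [1, 2, 0, 2, 1, 2, 0, 2, 1, 3, 0, 3, 3, 1, 3, 0, 1, 3, 0, 2], 78), (90, [1, 2, 0], 412)], 146), ([(60, [2, 2, 2, 1, 3, 0, 2, 1, 2, 0, 2, 2, 1, 2, 0, 1, 2, 0, 3], 39), (90, [1, 2, 0, 2, 1, 2, 0, 1, 2, 0, 1, 2, 0, 2, 1, 3, 0,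 3, 1, 2, 0, 2, 1, 3, 0], 412), (59, [2, 2, 1, 2, 0, 2, 1, 3, 0, 2, 1, 2, 0, 2, 1, 3, 0, 3, 1, 2, 0], 29)], 208), ([(53, [3, 1, 2, 0], 14), (38, [3, 1, 2, 0], 109), (68, [2], 14)], 146), ([(52, [3, 1, 2, 0], 14), (61, [1, 2, 0], 14), (99, [1, 2, 0], 9678)], 0), ([(73, [2, 1, 3, 0, 1, 3, 0, 3, 1, 2, 0, 2, 1, 3, 0, 2, 1, 2, 0, 2, 1, 2, 0, 3], 84), (73, [3, 1, 2, 0, 1, 2, 0, 1, 2, 0, 2, 1, 3, 0, 3, 3], 155), (64, [3, 1, 2, 0, 2, 2, 1, 3, 0, 2, 1, 2, 0, 3, 1, 3, 0, 1, 3, 0, 2], 87)], 205), ([(73, [3, 3, 1, 3, 0, 2, 2, 2, 1, 2, 0, 1, 2, 0, 1, 2, 0], 234), (54, [3, 1, 3, 0, 1, 3, 0, 2, 1, 2, 0, 1, 2, 0, 2, 2, 1, 3, 0, 3, 1, 3, 0], 44), (81, [1, 2, 0], 126)], 0), ([(70, [1, 3, 0, 3, 1, 3, 0, 2, 2, 1, 3, 0, 2,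 1, 2, 0, 2, 2, 1, 3, 0], 171), (54, [2, 1, 2, 0, 2, 1, 3, 0, 3, 1, 2, 0, 2, 2, 1, 2, 0, 2, 2, 2], 146), (86, [3, 1, 2, 0, 3, 3, 1, 3, 0, 2, 1, 2, 0, 3, 1, 3, 0], 75)], 63), ([(55, [2, 2, 2, 1, 3, 0, 2, 1, 2, 0, 2, 2, 1, 2, 0, 1, 2, 0, 3], 178), (94, [1, 2, 0, 2, 1, 3, 0, 3, 1, 3, 0, 2, 1, 2, 0, 1, 2, 0, 2, 2, 1, 3, 0], 141), (44, [1, 2, 0, 2, 2, 1, 2, 0, 2, 1, 3, 0, 1, 3, 0, 2, 1, 2, 0, 1, 2, 0, 2], 198)], 177), ([(54, [2, 2, 2, 1, 3, 0, 2, 1, 2, 0, 2, 2, 1, 2, 0, 1, 2, 0, 3], 178), (91, [3, 1, 2, 0, 2, 1, 2, 0, 3, 3, 1, 3, 0, 3, 1, 2, 0, 2, 1, 2, 0], 329), (97, [1, 2, 0], 497)], 0), ([(46, [3, 1, 2, 0], 146), (37, [2, 1, 2, 0, 2, 2, 2, 1, 2, 0, 2, 1, 2, 0], 257), (69, [1, 2, 0], 146)], 110), ([(47, [3,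 1, 2, 0], 146), (20, [2, 1, 2, 0, 2, 2, 2, 1, 2, 0, 2, 1, 2, 0], 1788), (62, [2, 1, 3, 0, 2], 62)], 146), ([(59, [2, 1, 2, 0, 2, 2, 1, 2, 0, 2, 1, 3, 0, 3, 1, 2, 0, 3], 74), (55, [1, 2, 0, 1, 2, 0, 2, 1, 2, 0, 2, 2, 1, 2, 0, 3, 3, 1, 3, 0, 2, 2, 1, 2, 0], 125), (93, [1, 2, 0, 2, 2, 1, 2, 0, 2, 1, 3, 0, 1, 3, 0, 2, 1, 2, 0, 1, 2, 0, 2], 384)], 56), ([(60, [2, 1, 2, 0, 2, 2, 1, 2, 0, 2, 1, 3, 0, 3, 1, 2, 0, 3], 74), (90, [1, 2, 0, 2, 1, 3, 0, 2, 2, 1, 3, 0, 1, 3, 0, 3, 3, 1, 3, 0, 2], 293), (70, [1, 2, 0, 2, 2, 1, 3, 0, 2, 1, 2, 0, 2, 1, 2, 0, 1, 2, 0, 3, 3], 107)], 143), ([(55, [2, 2, 1, 3, 0, 1, 3, 0, 3, 1, 2, 0, 2, 2, 1, 2, 0, 3], 172), (92, [2, 2, 1, 2, 0, 1, 2, 0, 1, 2, 0, 3, 3, 1, 3, 0, 2, 2, 1, 3,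 0], 480), (72, [2, 1, 2, 0, 1, 2, 0, 1, 2, 0, 3, 3, 1, 3, 0, 2, 2, 1, 3, 0], 146)], 40), ([(54, [2, 2, 1, 3, 0, 1, 3, 0, 3, 1, 2, 0, 2, 2, 1, 2, 0, 3], 172), (81, [2, 1, 2, 0, 1, 2, 0, 2, 1, 2, 0, 1, 2, 0, 3, 3, 1, 3, 0, 2], 131), (73, [1, 2, 0, 1, 2, 0, 2, 1, 2, 0, 1, 2, 0, 1, 2, 0, 3, 1, 3, 0, 1, 3, 0, 3, 3], 206)], 34), ([(60, [2, 2, 1, 3, 0, 1, 3, 0, 3, 1, 2, 0, 2, 2, 1, 2, 0, 3], 175), (89, [2, 1, 3, 0, 1, 3, 0, 3, 3, 1, 3, 0, 2, 2, 1, 3, 0, 2], 308), (74, [2, 2, 2, 1, 3, 0, 3, 1, 2, 0, 2, 1, 2, 0, 3, 1, 3, 0, 3, 3], 178)], 159), ([(59, [2, 2, 1, 3, 0, 1, 3, 0, 3, 1, 2, 0, 2, 2, 1, 2, 0, 3], 175), (72, [3, 1, 3, 0, 1, 3, 0, 3, 1, 3, 0, 2, 1, 2, 0, 2, 1, 3, 0, 2, 1, 2, 0], 19), (75, [2, 2, 1, 2, 0,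 3, 3, 1, 3, 0, 1, 3, 0, 3, 1, 2, 0, 2], 63)], 159), ([(80, [1, 2, 0, 3, 3, 1, 3, 0, 3, 3, 1, 3, 0, 2, 2, 1, 3, 0], 187), (17, [2, 2, 1, 3, 0, 3, 1, 3, 0], 4340), (11, [1, 2, 0], 66940)], 0), ([(81, [1, 2, 0, 3, 3, 1, 3, 0, 3, 3, 1, 3, 0, 2, 2, 1, 3, 0], 40), (65, [2, 2, 1, 2, 0, 1, 2, 0, 2, 1, 3, 0, 3, 1, 3, 0, 2, 1, 2, 0, 3], 68), (78, [2, 1, 2, 0, 3, 3], 16)], 122), ([(84, [1, 3, 0, 3, 1, 2, 0, 1, 2, 0, 1, 2, 0, 3, 1, 3, 0], 54), (57, [2, 2, 1, 2, 0, 1, 2, 0, 2, 2, 2, 1, 3, 0], 226), (79, [2, 1, 2, 0, 2, 2, 2, 1, 3, 0], 322)], 41), ([(85, [1, 3, 0, 3, 1, 2, 0, 1, 2, 0, 1, 2, 0, 3, 1, 3, 0], 54), (83, [2, 2, 1, 2, 0, 2, 2, 1, 2, 0, 3, 3, 1, 3, 0, 2, 1, 2, 0, 2], 198), (76, [1, 2, 0, 3, 1, 3, 0], 404)],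 49), ([(89, [1, 3, 0, 3, 3, 1, 3, 0, 2, 2, 1, 2, 0, 1, 2, 0, 2, 2, 1, 3, 0, 1, 3, 0], 36), (73, [1, 3, 0, 1, 3, 0, 3, 3, 1, 2, 0, 2, 2, 1, 2, 0, 2, 2, 2], 110), (63, [1, 2, 0], 197)], 462), ([(88, [3, 1, 3, 0, 1, 3, 0, 2, 1, 2, 0, 1, 2, 0, 2, 2, 1, 3, 0, 3, 1, 3, 0], 88), (80, [2, 2, 1, 3, 0, 3, 3, 1, 2, 0, 3, 3, 1, 2, 0], 154), (24, [1, 2, 0], 3053)], 300), ([(88, [1, 3, 0, 2, 1, 2, 0, 2, 2, 1, 3, 0, 3, 3, 1, 2, 0, 2, 1, 3, 0], 177), (88, [2, 1, 2, 0, 1, 2, 0, 3, 1, 3, 0, 1, 3, 0, 3, 1, 2, 0, 2, 1, 3, 0, 3], 395), (83, [1, 2, 0, 1, 2, 0, 1, 2, 0, 2, 2, 1, 2, 0, 3, 3, 1, 2, 0, 2], 302)], 411), ([(89, [3, 1, 2, 0, 2, 1, 3, 0, 2, 2, 1, 2, 0, 1, 2, 0, 2, 1, 2, 0], 313), (67, [1, 3, 0, 1, 3, 0, 3, 3, 1, 3,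 0, 3, 3, 1, 2, 0, 2, 1, 3, 0], 177), (40, [1, 2, 0], 391)], 0), ([(91, [2, 1, 3, 0, 3, 1, 3, 0, 2, 1, 2, 0, 2, 1, 3, 0, 3, 3, 1, 2, 0], 194), (95, [3, 1, 3, 0, 1, 3, 0, 3, 3, 1, 2, 0, 3, 1, 3, 0, 1, 3, 0, 2, 2], 66), (85, [1, 2, 0, 2, 2, 1, 3, 0, 1, 3, 0, 3, 3, 1, 2, 0, 3], 183)], 230), ([(90, [2, 1, 3, 0, 3, 1, 3, 0, 2, 1, 2, 0, 2, 1, 3, 0, 3, 3, 1, 2, 0], 194), (75, [1, 2, 0, 1, 2, 0, 2, 1, 2, 0, 2, 2, 1, 3, 0, 3], 62), (57, [1, 2, 0, 2, 2, 1, 2, 0, 3, 3, 1, 3, 0], 234)], 433), ([(91, [1, 3, 0, 2, 1, 2, 0, 2, 1, 3, 0, 2, 2, 2, 1, 2, 0, 1, 2, 0], 210), (94, [1, 2, 0, 2, 1, 2, 0, 2, 1, 3, 0], 318), (42, [1, 2, 0, 2, 2, 1, 2, 0, 3], 840)], 295), ([(90, [3, 1, 2, 0, 2, 1, 3, 0, 3, 3, 1, 2, 0, 2, 1, 2, 0,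 3, 1, 3, 0], 133), (75, [2, 1, 2, 0, 1, 2, 0, 2, 1, 2, 0, 3, 1, 3, 0, 2, 1, 2, 0, 1, 2, 0, 2, 1, 2, 0, 2], 88), (65, [2, 2, 1, 2, 0, 1, 2, 0, 3, 3, 1, 2, 0, 1, 2, 0, 2], 85)], 229), ([(91, [3, 1, 3, 0, 2, 1, 2, 0, 2, 2, 1, 2, 0, 3], 370), (97, [2, 1, 2, 0, 2, 2, 1, 2, 0, 2, 1, 3, 0, 3, 1, 2, 0, 3], 614), (54, [1, 2, 0], 74)], 26), ([(90, [3, 1, 3, 0, 2, 1, 2, 0, 2, 2, 1, 2, 0, 3], 370), (54, [3, 3, 1, 3, 0, 3, 1, 2, 0, 2, 2, 2, 1, 2, 0, 3, 1, 3, 0], 188), (88, [2, 1, 2, 0, 2, 1, 3, 0, 2, 1, 2, 0, 2, 1, 2, 0, 1, 2, 0, 3, 1, 3, 0, 3], 383)], 194), ([(91, [1, 2, 0, 2, 1, 2, 0, 2, 1, 3, 0, 3, 3, 1, 3, 0, 1, 3, 0, 2], 318), (98, [1, 2, 0, 2, 1, 3, 0, 2, 2, 1, 2, 0, 3, 1, 3, 0, 1, 3, 0, 3, 1, 3, 0], 82), (95,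 [1, 2, 0, 2, 1, 2, 0, 1, 2, 0, 1, 2, 0, 2, 1, 2, 0, 2, 1, 3, 0, 1, 3, 0, 3, 1, 2, 0], 108)], 49), ([(90, [1, 2, 0, 2, 1, 2, 0, 2, 1, 3, 0, 3, 3, 1, 3, 0, 1, 3, 0, 2], 318), (59, [2, 2, 1, 3, 0, 3, 1, 2, 0, 2, 1, 2, 0, 1, 2, 0, 3], 50), (60, [1, 2, 0], 61)], 0), ([(93, [2, 2, 2, 1, 2, 0, 3, 1, 3, 0, 3, 1, 2, 0, 1, 2, 0, 2, 1, 3, 0, 3], 354), (59, [2, 1, 2, 0, 2, 2, 1, 3, 0, 3, 1, 3, 0, 2, 1, 2, 0, 2, 2], 12), (55, [2, 1, 2, 0, 2, 1, 3, 0, 2, 1, 2, 0, 2, 1, 2, 0, 1, 2, 0, 3, 1, 3, 0, 3], 124)], 379), ([(95, [1, 2, 0, 2, 1, 2, 0, 2, 2, 1, 2, 0, 2], 131), (87, [2, 1, 3, 0, 2, 2, 2, 1, 2, 0, 2, 1, 3, 0, 3], 70), (45, [1, 2, 0], 815)], 0), ([(93, [2, 1, 2, 0, 2, 2, 2, 1, 3, 0, 3, 3, 1, 3, 0, 2], 544), (75,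 [3, 1, 2, 0, 2, 1, 3, 0, 2, 2, 2, 1, 3, 0, 1, 3, 0, 3, 1, 2, 0, 2], 83), (71, [2, 1, 3, 0, 3, 1, 2, 0, 2], 11)], 411), ([(95, [3, 1, 3, 0, 1, 3, 0, 3, 1, 2, 0, 2, 2], 93), (85, [1, 3, 0, 3, 1, 2, 0, 1, 2, 0, 2, 2, 1, 3, 0, 3, 1, 3, 0], 0), (91, [3, 1, 3, 0, 2, 1, 2, 0, 1, 2, 0], 222)], 297), ([(95, [1, 2, 0, 3, 1, 3, 0, 1, 3, 0, 2, 2, 1, 2, 0, 3, 3], 473), (89, [2, 2, 2, 1, 3, 0, 2, 1, 2, 0, 2, 2, 1, 2, 0, 1, 2, 0, 3], 304), (66, [1, 2, 0], 163)], 522), ([(95, [1, 2, 0, 3, 3, 1, 2, 0, 2, 1, 2, 0, 1, 2, 0, 2, 1, 3, 0, 3, 1, 3, 0, 2, 2], 611), (91, [1, 2, 0, 2, 1, 2, 0, 1, 2, 0, 2, 2, 2, 1, 2, 0, 3, 3], 417), (96, [1, 2, 0, 2, 2, 1, 3, 0, 2, 1, 2, 0, 2, 1, 2, 0, 1, 2, 0, 3, 3], 486)], 498), ([(93, [3, 1,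 2, 0, 1, 2, 0, 2, 1, 3, 0, 1, 3, 0, 3, 3, 1, 3, 0], 201), (66, [1, 3, 0, 1, 3, 0, 2, 2, 1, 2, 0, 2, 1, 3, 0, 1, 3, 0, 2, 1, 2, 0], 115), (98, [1, 2, 0, 2, 1, 3, 0, 3, 1, 2, 0, 3, 3, 1, 3, 0, 2], 314)], 535), ([(99, [1, 2, 0], 20599), (52, [3, 1, 2, 0], 14), (61, [1, 2, 0], 14)], 2342), ([(99, [2, 2, 1, 3, 0, 3, 3, 1, 3, 0, 2], 28107), (61, [2, 2, 1, 3, 0, 3, 3, 1, 3, 0, 2], 184), (100, [1, 2, 0], 6760)], 26170)]]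

end CfsgLib.InvChar.SporHN
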