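import Cfsg.Agent.Lib.InvChar.SporHNTrace

/-! The saturation. -/

set_option autoImplicit false
set_option maxRecDepth 100000

namespace CfsgLib.InvChar.SporHN

open CfsgLib.InvChar.Coset

/-- hints -/
def relC1 : List (List (List (ℕ × List ℕ × ℕ) × ℕ)) := [
[([(0, [], 0), (5, [], 0), (2, [], 24400)], 0), ([(5, [], 41912), (2, [], 24400), (0, [], 0)], 14092), ([(6, [], 41912), (14, [], 2300), (3, [], 24400)], 14092), ([(7, [], 7824), (26, [], 9832), (4, [], 24400)], 1750), ([(8, [], 7824), (12, [], 2300), (1, [], 24400)], 1750), ([(9, [1, 2, 0, 3, 1, 3, 0, 3, 3], 36552), (19, [2, 1, 2, 0, 2, 1, 3, 0, 2, 1, 2, 0, 2, 2], 3805), (12, [3, 3], 2719)], 0), ([(9, [2, 1, 2, 0, 3, 1, 3, 0,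 2, 1, 2, 0, 2], 97888), (17, [1, 2, 0, 3, 1, 3, 0, 3, 3], 3154), (5, [3, 3], 13320)], 0), ([(10, [1, 2, 0, 3, 1, 3, 0, 3, 3], 22859), (34, [3, 1, 2, 0, 1, 2, 0, 3, 1, 3, 0], 1018), (14, [3, 3], 4209)], 0), ([(10, [2, 1, 2, 0, 3, 1, 3, 0, 2, 1, 2, 0, 2], 112322), (36, [3, 1, 2, 0, 1, 2, 0, 3, 1, 3, 0], 1047), (26, [3, 3], 48139)], 0), ([(11, [1, 2, 0, 3, 1, 3, 0, 1, 3, 0, 3, 3], 40842), (80, [3, 1, 2, 0, 3, 3, 1, 2, 0, 3], 34), (17, [3, 3], 4051)], 0), ([(11, [1, 2, 0, 3, 1, 3, 0, 2, 1, 2, 0, 1, 2, 0], 106760), (82, [3, 1, 2, 0, 3, 3, 1, 2, 0, 3], 75), (31, [3, 3], 723)], 94616), ([(9, [1, 2, 0, 1, 2, 0, 2, 2, 1, 2, 0, 2], 95418), (24, [1, 2, 0, 1, 2, 0, 2, 2, 1, 2, 0, 1, 2, 0, 3, 3,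 1, 3, 0, 3, 1, 2, 0], 4327), (77, [3, 3], 419)], 0), ([(18, [3, 1, 2, 0, 1, 2, 0, 3, 1, 3, 0], 4307), (50, [3, 1, 2, 0, 1, 2, 0, 3, 1, 3, 0], 146), (27, [3, 3], 48139)], 0), ([(19, [3, 1, 2, 0, 1, 2, 0, 3, 1, 3, 0], 4307), (17, [2, 1, 2, 0, 3, 1, 3, 0, 2, 1, 2, 0, 2], 225), (6, [3, 3], 64257)], 0), ([(20, [3, 1, 2, 0, 1, 2, 0, 3, 1, 3, 0], 4307), (49, [3, 1, 2, 0, 1, 2, 0, 3, 1, 3, 0], 14), (15, [3, 3], 4209)], 0), ([(21, [3, 1, 2, 0, 1, 2, 0, 3, 1, 3, 0], 4307), (31, [2, 1, 2, 0, 3, 1, 3, 0, 2, 1, 2, 0, 2], 819), (8, [3, 3], 59415)], 0), ([(24, [3, 1, 2, 0, 3, 3, 1, 2, 0, 3], 2673), (77, [1, 2, 0, 3, 1, 3, 0, 1, 3, 0, 3, 3], 422), (9, [3, 3], 12560)], 2985), ([(24, [1, 2, 0, 2, 1,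 2, 0, 3, 3, 1, 3, 0, 3, 1, 2, 0, 3, 3, 1, 2, 0], 494), (87, [1, 2, 0, 2, 2, 1, 3, 0, 1, 3, 0, 2, 1, 2, 0, 1, 2, 0, 2, 1, 3, 0, 3, 3], 137), (33, [3, 3], 1039)], 4192), ([(24, [1, 3, 0, 2, 2, 1, 2, 0, 1, 2, 0, 1, 2, 0, 2], 2296), (80, [2, 1, 3, 0, 3, 3, 1, 2, 0, 1, 2, 0, 2, 1, 2, 0, 2, 1, 3, 0, 2], 184), (19, [2, 1, 2, 0, 2, 2, 2, 1, 2, 0], 4121)], 2648), ([(24, [3, 1, 2, 0, 1, 2, 0, 2, 1, 3, 0, 2, 2, 1, 3, 0, 3, 1, 3, 0], 66), (89, [3, 1, 2, 0, 3, 3, 1, 2, 0, 3], 377), (47, [3, 3], 134)], 0), ([(25, [3, 1, 2, 0, 3, 3, 1, 2, 0, 3], 2930), (67, [1, 2, 0, 3, 1, 3, 0, 2, 1, 2, 0, 3, 1, 3, 0, 3, 1, 2, 0, 3], 146), (34, [3, 3], 546)], 0), ([(25, [2, 2, 1, 2, 0, 2, 1, 3, 0, 2, 2, 1, 2, 0,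 2], 4979), (59, [2, 1, 3, 0, 3, 3, 1, 2, 0, 3, 3, 1, 3, 0, 3, 3, 1, 2, 0], 54), (49, [3, 3], 193)], 0), ([(22, [3, 3], 2018), (34, [2, 2, 2, 1, 2, 0, 2, 1, 3, 0, 3, 1, 2, 0], 426), (23, [1, 2, 0, 1, 2, 0, 2, 1, 3, 0, 3, 1, 3, 0, 1, 3, 0, 2], 2643)], 2318), ([(23, [3, 3], 2018), (21, [2, 2, 2, 1, 2, 0, 2, 1, 3, 0, 3, 1, 2, 0], 867), (30, [2, 2, 1, 2, 0, 1, 2, 0, 2, 1, 3, 0, 1, 3, 0, 2], 448)], 4383), ([(17, [1, 2, 0, 1, 2, 0, 2, 2, 1, 2, 0, 2], 2245), (11, [3, 3], 53117), (80, [1, 2, 0, 1, 2, 0, 2, 2, 1, 2, 0, 1, 2, 0, 3, 3, 1, 3, 0, 3, 1, 2, 0], 130)], 513), ([(24, [2, 1, 2, 0, 2, 2, 1, 2, 0, 1, 2, 0, 3, 1, 3, 0, 2, 1, 2, 0, 2, 1, 2, 0], 2721), (90, [2, 1, 2, 0, 2, 2, 1, 2, 0, 2, 1,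 3, 0, 3, 3, 1, 3, 0, 2, 2], 253), (58, [3, 3], 212)], 4816), ([(28, [3, 1, 2, 0, 1, 2, 0, 3, 1, 3, 0], 48335), (31, [1, 2, 0, 3, 1, 3, 0, 3, 3], 695), (7, [3, 3], 63369)], 0), ([(29, [3, 1, 2, 0, 1, 2, 0, 3, 1, 3, 0], 48335), (47, [3, 1, 2, 0, 1, 2, 0, 3, 1, 3, 0], 146), (13, [3, 3], 4209)], 0), ([(29, [3, 1, 2, 0, 3, 1, 3, 0], 71850), (67, [3, 3, 1, 2, 0, 1, 2, 0, 3, 3], 124), (36, [3, 3], 723)], 0), ([(28, [3, 1, 2, 0, 3, 1, 3, 0], 71843), (44, [3, 1, 2, 0, 3, 1, 3, 0, 3, 1, 2, 0, 2, 1, 3, 0, 3, 1, 2, 0], 886), (50, [3, 3], 87)], 0), ([(40, [3, 1, 2, 0, 3, 3, 1, 2, 0, 3], 744), (77, [1, 2, 0, 3, 1, 3, 0, 2, 1, 2, 0, 1, 2, 0], 297), (10, [3, 3], 51340)], 0), ([(41, [3, 1, 2, 0, 3,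 3, 1, 2, 0, 3], 837), (58, [1, 2, 0, 1, 2, 0, 1, 2, 0, 2, 1, 2, 0, 3, 1, 3, 0, 2], 34), (22, [2, 1, 2, 0], 2404)], 800), ([(42, [3, 1, 2, 0, 3, 3, 1, 2, 0, 3], 1065), (80, [2, 2, 1, 2, 0, 1, 2, 0, 3, 1, 3, 0, 1, 3, 0, 2, 2, 2], 243), (16, [3, 3], 528)], 1337), ([(43, [3, 1, 2, 0, 3, 3, 1, 2, 0, 3], 888), (43, [1, 2, 0, 3, 1, 3, 0, 3, 3, 1, 2, 0, 1, 2, 0, 3, 3, 1, 3, 0, 2], 612), (32, [3, 3], 100)], 752), ([(44, [3, 1, 2, 0, 3, 3, 1, 2, 0, 3], 744), (58, [3, 1, 2, 0, 1, 2, 0, 2, 1, 3, 0, 3, 3, 1, 3, 0, 3, 3, 1, 3, 0], 79), (21, [2, 1, 2, 0, 2, 2, 2, 1, 2, 0], 3645)], 459), ([(44, [2, 1, 3, 0, 2, 1, 2, 0, 2, 1, 2, 0, 1, 2, 0, 3, 3, 1, 3, 0, 2], 794), (50, [3, 1, 2, 0, 3, 1, 3, 0], 164),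 (28, [3, 3], 71850)], 569), ([(44, [2, 1, 3, 0, 1, 3, 0, 2, 2, 1, 2, 0, 3, 3, 1, 2, 0], 553), (70, [1, 2, 0, 2, 1, 3, 0, 3, 1, 2, 0, 1, 2, 0, 1, 2, 0, 3, 1, 3, 0, 2, 1, 2, 0], 9), (53, [3, 3], 118)], 0), ([(45, [3, 1, 2, 0, 3, 3, 1, 2, 0, 3], 1065), (92, [3, 1, 2, 0, 3, 3, 1, 2, 0, 3], 291), (46, [3, 3], 134)], 0), ([(45, [2, 1, 3, 0, 2, 1, 2, 0, 2, 1, 2, 0, 1, 2, 0, 3, 3, 1, 3, 0, 2], 772), (94, [2, 1, 3, 0, 1, 3, 0, 2, 2, 1, 2, 0, 3, 3, 1, 2, 0], 580), (39, [3, 3], 370)], 668), ([(45, [2, 1, 3, 0, 1, 3, 0, 2, 2, 1, 2, 0, 3, 3, 1, 2, 0], 387), (97, [3, 1, 2, 0, 3, 3, 1, 2, 0, 3], 282), (51, [3, 3], 134)], 0), ([(39, [2, 1, 2, 0, 3, 1, 3, 0, 2, 1, 2, 0, 2], 1152), (41, [1, 2, 0, 1,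 2, 0, 2, 1, 3, 0, 3, 1, 3, 0, 2, 1, 2, 0, 3, 1, 3, 0, 3, 1, 2, 0], 30), (56, [3, 3], 80)], 1341), ([(34, [1, 2, 0, 1, 2, 0, 2, 1, 3, 0, 3, 1, 2, 0, 2, 1, 3, 0], 1352), (24, [1, 2, 0, 1, 2, 0, 1, 2, 0, 3, 3, 1, 2, 0, 3, 1, 3, 0, 2, 1, 2, 0], 142), (82, [3, 3], 117)], 0), ([(36, [2, 1, 2, 0, 3, 1, 3, 0, 2, 1, 2, 0, 2], 1163), (28, [2, 2, 2, 1, 3, 0, 3, 3, 1, 3, 0, 2, 1, 2, 0], 54328), (43, [1, 2, 0, 3, 3, 1, 2, 0, 2, 2, 1, 2, 0, 3, 1, 3, 0, 1, 3, 0], 1358)], 344), ([(37, [2, 1, 2, 0, 3, 1, 3, 0, 2, 1, 2, 0, 2], 294), (63, [3, 1, 2, 0, 3, 1, 3, 0], 146), (87, [3, 1, 2, 0, 2, 2, 1, 3, 0, 1, 3, 0, 2, 2, 1, 2, 0, 2, 1, 3, 0], 90)], 893), ([(42, [2, 1, 2, 0, 2, 2, 1, 2, 0, 1, 2, 0, 3, 1,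 3, 0, 2, 1, 2, 0, 2, 1, 2, 0], 509), (90, [2, 2, 2, 1, 2, 0, 2, 1, 3, 0, 3, 1, 2, 0, 1, 2, 0, 1, 2, 0, 3, 3], 285), (67, [2, 1, 3, 0, 3, 1, 2, 0, 2, 1, 3, 0, 3, 3], 91)], 537), ([(41, [1, 2, 0, 2, 1, 2, 0, 3, 1, 3, 0, 2, 1, 2, 0, 2, 2, 1, 2, 0, 3], 384), (66, [2, 1, 3, 0, 3, 1, 2, 0, 2, 1, 3, 0, 3, 3, 1, 2, 0, 3], 64), (94, [3, 3], 612)], 0), ([(54, [3, 1, 2, 0, 3, 3, 1, 2, 0, 3], 124), (80, [1, 2, 0, 2, 1, 3, 0, 1, 3, 0, 3, 1, 2, 0, 2, 1, 2, 0, 1, 2, 0], 20), (18, [3, 3], 2725)], 0), ([(55, [3, 1, 2, 0, 3, 3, 1, 2, 0, 3], 124), (94, [2, 1, 2, 0, 3, 1, 3, 0, 2, 2, 2, 1, 3, 0, 3, 1, 2, 0, 2], 292), (37, [2, 1, 2, 0, 2, 2, 2, 1, 2, 0], 492)], 146), ([(59, [3, 1, 2, 0, 3, 3, 1, 2, 0,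 3], 165), (58, [3, 1, 2, 0, 3, 3, 1, 2, 0, 3], 146), (20, [3, 3], 4580)], 0), ([(60, [3, 1, 2, 0, 3, 3, 1, 2, 0, 3], 165), (90, [2, 1, 2, 0, 1, 2, 0, 2, 1, 2, 0, 1, 2, 0, 3, 3, 1, 2, 0, 1, 2, 0, 2, 1, 2, 0, 1, 2, 0, 2], 491), (48, [2, 1, 2, 0, 2, 2, 2, 1, 2, 0], 127)], 132), ([(66, [3, 1, 2, 0, 3, 3, 1, 2, 0, 3], 124), (94, [2, 1, 3, 0, 2, 1, 2, 0, 2, 1, 2, 0, 1, 2, 0, 3, 3, 1, 3, 0, 2], 487), (38, [3, 3], 1076)], 0), ([(67, [3, 1, 2, 0, 3, 3, 1, 2, 0, 3], 124), (36, [3, 1, 2, 0, 3, 1, 3, 0], 892), (29, [3, 3], 71843)], 0), ([(70, [3, 1, 2, 0, 3, 3, 1, 2, 0, 3], 165), (67, [2, 2, 2, 1, 2, 0, 2, 1, 3, 0, 3, 1, 2, 0, 2, 1, 2, 0, 3, 3], 208), (35, [3, 3], 490)], 48), ([(71, [3, 1, 2,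 0, 3, 3, 1, 2, 0, 3], 165), (93, [3, 1, 2, 0, 3, 1, 3, 0, 3, 1, 2, 0, 2, 1, 3, 0, 3, 1, 2, 0], 624), (52, [3, 3], 215)], 0), ([(65, [3, 1, 2, 0, 2, 1, 3, 0, 2, 1, 2, 0, 3, 1, 3, 0, 1, 3, 0, 3, 1, 3, 0, 2], 45), (91, [2, 2, 2, 1, 2, 0, 2, 1, 3, 0, 3, 1, 2, 0], 43), (92, [3, 3], 539)], 0), ([(65, [3, 1, 2, 0, 3, 1, 3, 0], 208), (83, [1, 2, 0, 3, 1, 3, 0, 3, 1, 2, 0, 3, 3, 1, 3, 0, 3, 3, 1, 2, 0], 162), (89, [3, 3], 443)], 0), ([(56, [3, 1, 2, 0, 3, 1, 3, 0], 214), (39, [2, 2, 2, 1, 3, 0, 3, 3, 1, 3, 0, 2, 1, 2, 0], 607), (41, [1, 2, 0, 3, 3, 1, 2, 0, 2, 2, 1, 2, 0, 3, 1, 3, 0, 1, 3, 0], 1169)], 29), ([(63, [1, 2, 0, 3, 1, 3, 0, 3, 1, 2, 0, 3, 3, 1, 3, 0, 3, 3, 1, 2, 0], 151), (80, [1,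 2, 0, 2, 2, 1, 3, 0, 3, 1, 2, 0, 2, 1, 2, 0, 1, 2, 0], 204), (25, [3, 3], 2366)], 184), ([(59, [2, 1, 2, 0, 2, 2, 1, 2, 0, 2, 1, 3, 0, 3, 3, 1, 3, 0, 2, 2], 219), (57, [2, 2, 2, 1, 2, 0, 2, 1, 3, 0, 3, 1, 2, 0, 1, 2, 0, 1, 2, 0, 3, 3], 58), (84, [2, 1, 3, 0, 3, 3, 1, 2, 0, 1, 2, 0, 2, 1, 2, 0, 2, 1, 3, 0, 2], 53)], 13), ([(63, [3, 1, 2, 0, 1, 2, 0, 2, 1, 3, 0, 2, 2, 1, 3, 0, 3, 1, 3, 0], 194), (88, [1, 2, 0, 3, 1, 3, 0, 3, 1, 2, 0, 3, 3, 1, 3, 0, 3, 3, 1, 2, 0], 253), (90, [3, 3], 423)], 146), ([(64, [1, 2, 0, 2, 1, 3, 0, 1, 3, 0, 3, 1, 2, 0, 2, 1, 2, 0, 1, 2, 0], 145), (59, [1, 2, 0, 1, 2, 0, 2, 1, 2, 0, 3, 3, 1, 2, 0, 3, 1, 3, 0, 2, 1, 2, 0, 2, 2], 167), (59, [2, 2, 1, 3, 0, 3, 1,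 2, 0, 3, 1, 3, 0, 3, 1, 2, 0, 2], 156)], 204), ([(74, [1, 3, 0, 3, 1, 3, 0, 2, 1, 2, 0, 1, 2, 0, 3, 1, 3, 0, 3, 3, 1, 2, 0], 173), (73, [2, 2, 2, 1, 2, 0, 3, 1, 3, 0, 3, 1, 2, 0, 2, 1, 3, 0, 2, 1, 2, 0, 3], 10), (68, [2, 1, 3, 0, 3, 3], 202)], 146), ([(75, [1, 3, 0, 3, 1, 3, 0, 2, 1, 2, 0, 1, 2, 0, 3, 1, 3, 0, 3, 3, 1, 2, 0], 173), (61, [1, 2, 0, 3, 1, 3, 0, 1, 3, 0], 132), (99, [3, 3], 13034)], 0), ([(47, [2, 2, 2, 1, 3, 0, 3, 3, 1, 3, 0, 2, 1, 2, 0], 141), (25, [1, 2, 0, 3, 3, 1, 2, 0, 1, 2, 0, 2, 1, 2, 0, 2], 3282), (64, [1, 2, 0, 1, 2, 0, 1, 2, 0, 3, 3, 1, 2, 0, 3, 1, 3, 0, 2, 1, 2, 0], 108)], 228), ([(64, [3, 1, 2, 0, 3, 1, 3, 0], 183), (65, [1, 3, 0, 2, 1, 2, 0, 2, 1, 2, 0, 1,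 2, 0, 1, 2, 0, 2, 1, 2, 0], 167), (81, [3, 3], 498)], 0), ([(55, [3, 1, 2, 0, 3, 1, 3, 0], 204), (95, [2, 1, 2, 0, 2, 2, 1, 2, 0, 2, 1, 3, 0, 3, 3, 1, 3, 0, 2, 2], 539), (86, [3, 1, 2, 0, 1, 2, 0, 2, 1, 2, 0, 1, 2, 0, 3, 3, 1, 2, 0], 108)], 89), ([(58, [2, 1, 3, 0, 2, 1, 2, 0, 3, 1, 3, 0, 1, 3, 0, 3, 1, 3, 0, 2], 155), (21, [2, 2, 1, 3, 0, 2, 2, 1, 2, 0, 1, 2, 0, 1, 2, 0, 2], 4012), (44, [2, 1, 3, 0, 1, 3, 0, 3, 3, 1, 2, 0, 3, 1, 3, 0, 3, 3, 1, 2, 0], 387)], 104), ([(57, [2, 1, 3, 0, 2, 1, 2, 0, 2, 2, 2, 1, 2, 0], 52), (91, [2, 1, 2, 0, 3, 1, 3, 0, 2, 2, 2, 1, 3, 0, 3, 1, 2, 0, 2, 2, 1, 3, 0], 267), (97, [3, 3], 625)], 0), ([(73, [1, 3, 0, 3, 3, 1, 3, 0, 2, 1, 2, 0, 3, 1, 3, 0, 1,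 3, 0, 2, 2, 1, 2, 0], 161), (72, [1, 3, 0, 3, 3, 1, 2, 0, 3, 1, 3, 0, 1, 3, 0, 3, 1, 3, 0, 2], 98), (69, [3, 3], 24)], 110), ([(72, [1, 3, 0, 3, 3, 1, 3, 0, 2, 1, 2, 0, 3, 1, 3, 0, 1, 3, 0, 2, 2, 1, 2, 0], 161), (75, [1, 3, 0, 3, 3, 1, 3, 0, 1, 3, 0, 2, 1, 2, 0, 2, 1, 3, 0, 3, 1, 3, 0], 89), (62, [1, 2, 0, 2, 2, 2], 71)], 146), ([(64, [1, 2, 0, 2, 2, 1, 3, 0, 3, 1, 2, 0, 2, 1, 2, 0, 1, 2, 0], 235), (55, [2, 2, 1, 2, 0, 2, 1, 3, 0, 3, 1, 2, 0, 3, 3, 1, 2, 0, 2, 1, 2, 0, 1, 2, 0], 119), (93, [2, 1, 3, 0, 1, 3, 0, 3, 3, 1, 2, 0, 3, 1, 3, 0, 3, 3, 1, 2, 0], 297)], 221), ([(63, [1, 2, 0, 1, 2, 0, 1, 2, 0, 2, 1, 2, 0, 3, 1, 3, 0, 2], 142), (81, [1, 2, 0, 3, 1, 3, 0, 3, 1, 2, 0, 3, 3, 1,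 3, 0, 3, 3, 1, 2, 0], 120), (70, [3, 1, 3, 0, 3, 1, 2, 0, 2, 1, 3, 0, 3, 1, 2, 0], 182)], 146), ([(72, [1, 2, 0, 2, 1, 3, 0, 3, 1, 2, 0, 2], 54), (75, [2, 1, 2, 0, 2, 1, 2, 0, 1, 2, 0, 3, 3, 1, 3, 0, 2, 2, 1, 3, 0, 2], 85), (72, [3, 1, 2, 0, 1, 2, 0, 2, 1, 3, 0, 2, 2, 1, 2, 0, 1, 2, 0, 1, 2, 0, 2], 204)], 40), ([(73, [1, 2, 0, 2, 1, 3, 0, 3, 1, 2, 0, 2], 54), (73, [2, 1, 2, 0, 2, 2, 1, 3, 0, 1, 3, 0, 3, 3, 1, 3, 0, 1, 3, 0, 2, 2], 161), (73, [2, 1, 2, 0, 2, 1, 2, 0, 3, 1, 3, 0, 1, 3, 0, 3, 3, 1, 3, 0], 161)], 34), ([(75, [1, 2, 0, 2, 1, 3, 0, 3, 3, 1, 3, 0, 2, 2, 1, 2, 0, 2, 2, 2], 52), (73, [2, 2, 1, 3, 0, 2, 1, 2, 0, 2, 1, 3, 0, 3, 1, 3, 0, 1, 3, 0], 184), (74, [1, 2, 0, 2, 1, 2,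 0, 3, 1, 3, 0, 1, 3, 0, 3, 3, 1, 2, 0], 106)], 68), ([(74, [1, 2, 0, 2, 1, 3, 0, 3, 3, 1, 3, 0, 2, 2, 1, 2, 0, 2, 2, 2], 52), (73, [1, 3, 0, 1, 3, 0, 3, 1, 2, 0, 1, 2, 0, 2, 1, 3, 0, 3, 1, 2, 0], 32), (75, [1, 2, 0, 2, 2, 1, 2, 0, 2, 1, 3, 0, 3, 1, 3, 0, 2, 1, 2, 0, 2], 161)], 68), ([(80, [1, 2, 0, 1, 2, 0, 2, 2, 1, 2, 0, 1, 2, 0, 3, 3, 1, 3, 0, 3, 1, 2, 0], 130), (17, [1, 2, 0, 1, 2, 0, 2, 2, 1, 2, 0, 2], 3465), (11, [3, 3], 53117)], 0), ([(81, [1, 2, 0, 1, 2, 0, 2, 2, 1, 2, 0, 1, 2, 0, 3, 3, 1, 3, 0, 3, 1, 2, 0], 76), (65, [2, 2, 1, 3, 0, 2, 1, 2, 0, 3, 1, 3, 0, 1, 3, 0, 2, 2, 1, 2, 0, 3], 88), (78, [2, 1, 3, 0, 2, 2], 54)], 49), ([(87, [2, 1, 2, 0, 2, 1, 3, 0, 3, 1, 3, 0, 2, 1,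 2, 0, 1, 2, 0, 2, 1, 2, 0, 1, 2, 0], 238), (42, [2, 2, 1, 3, 0, 2, 1, 2, 0, 2, 2, 1, 2, 0, 3, 3, 1, 2, 0, 1, 2, 0], 1213), (79, [1, 2, 0, 1, 2, 0, 2, 1, 3, 0, 3, 1, 3, 0], 453)], 214), ([(86, [3, 1, 2, 0, 3, 3, 1, 2, 0, 3], 227), (63, [3, 1, 2, 0, 3, 3, 1, 2, 0, 3], 50), (76, [1, 2, 0, 3, 1, 3, 0, 1, 3, 0, 3, 3], 375)], 49), ([(87, [1, 2, 0, 1, 2, 0, 1, 2, 0, 3, 3, 1, 2, 0, 3, 1, 3, 0, 2, 1, 2, 0], 428), (37, [2, 2, 1, 2, 0, 2, 2, 1, 3, 0, 1, 3, 0, 2, 1, 2, 0], 85), (63, [3, 3], 174)], 462), ([(87, [2, 1, 2, 0, 1, 2, 0, 3, 3, 1, 3, 0, 3, 1, 2, 0, 2, 2], 281), (33, [1, 2, 0, 1, 2, 0, 2, 2, 1, 2, 0, 2], 882), (24, [3, 3], 951)], 300), ([(81, [1, 2, 0, 1, 2, 0, 1, 2, 0, 3, 3, 1, 2, 0,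 3, 1, 3, 0, 2, 1, 2, 0], 290), (57, [1, 2, 0, 3, 3, 1, 2, 0, 1, 2, 0, 2, 1, 2, 0, 2], 14), (83, [2, 1, 2, 0, 1, 2, 0, 2, 1, 3, 0, 1, 3, 0, 3, 1, 2, 0, 2, 1, 2, 0, 1, 2, 0, 2, 1, 3, 0], 288)], 411), ([(81, [2, 1, 2, 0, 1, 2, 0, 3, 3, 1, 3, 0, 3, 1, 2, 0, 2, 2], 65), (51, [2, 1, 2, 0, 3, 1, 3, 0, 2, 1, 2, 0, 2], 73), (40, [3, 3], 1189)], 0), ([(90, [2, 1, 2, 0, 3, 1, 3, 0, 2, 2, 2, 1, 3, 0, 3, 1, 2, 0, 2, 2, 1, 3, 0], 198), (57, [2, 1, 3, 0, 3, 1, 2, 0, 2, 1, 3, 0, 1, 3, 0, 3], 115), (85, [2, 2, 2, 1, 2, 0, 2, 1, 2, 0, 1, 2, 0, 3, 3, 1, 2, 0], 237)], 185), ([(91, [2, 1, 2, 0, 3, 1, 3, 0, 2, 2, 2, 1, 3, 0, 3, 1, 2, 0, 2, 2, 1, 3, 0], 198), (97, [3, 3], 625), (57, [2, 1, 3, 0, 2, 1, 2,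 0, 2, 2, 2, 1, 2, 0], 52)], 286), ([(84, [3, 1, 2, 0, 2, 2, 1, 3, 0, 1, 3, 0, 2, 2, 1, 2, 0, 1, 2, 0], 392), (53, [2, 2, 2, 1, 3, 0, 3, 3, 1, 3, 0, 2, 1, 2, 0], 66), (42, [3, 1, 2, 0, 3, 1, 3, 0], 79)], 403), ([(84, [1, 2, 0, 2, 1, 2, 0, 3, 1, 3, 0, 2, 2, 1, 3, 0, 2, 2], 338), (48, [2, 2, 1, 2, 0, 2, 2, 1, 3, 0, 1, 3, 0, 2, 1, 2, 0], 186), (65, [1, 2, 0, 3, 3, 1, 3, 0, 3, 1, 2, 0, 2, 1, 3, 0, 3, 1, 3, 0], 117)], 170), ([(83, [2, 1, 2, 0, 2, 2, 1, 2, 0, 2, 1, 3, 0, 3, 3, 1, 3, 0, 2, 2], 499), (86, [1, 2, 0, 2, 2, 1, 3, 0, 3, 1, 2, 0, 2, 1, 2, 0, 1, 2, 0], 27), (54, [3, 3], 209)], 26), ([(82, [1, 2, 0, 2, 1, 2, 0, 3, 3, 1, 3, 0, 3, 1, 2, 0, 2], 165), (40, [2, 1, 3, 0, 3, 1, 3, 0, 2,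 1, 2, 0, 3, 3, 1, 3, 0, 2, 1, 2, 0, 2], 252), (88, [2, 2, 1, 2, 0, 2, 1, 3, 0, 2, 1, 2, 0, 2, 1, 3, 0, 3, 3, 1, 3, 0], 297)], 238), ([(89, [1, 2, 0, 1, 2, 0, 1, 2, 0, 2, 1, 2, 0, 3, 1, 3, 0, 2, 2, 2, 1, 3, 0, 3], 302), (55, [2, 2, 1, 3, 0, 3, 1, 2, 0, 3, 1, 3, 0, 3, 1, 2, 0, 2], 212), (95, [1, 2, 0, 2, 1, 3, 0, 3, 3, 1, 2, 0, 3, 3, 1, 2, 0, 1, 2, 0], 532)], 49), ([(88, [1, 2, 0, 1, 2, 0, 1, 2, 0, 2, 1, 2, 0, 3, 1, 3, 0, 2, 2, 2, 1, 3, 0, 3], 302), (81, [1, 2, 0, 2, 1, 3, 0, 1, 3, 0, 3, 1, 2, 0, 2, 1, 2, 0, 1, 2, 0], 151), (60, [3, 3], 145)], 0), ([(95, [1, 3, 0, 3, 1, 3, 0, 2, 1, 2, 0, 3, 1, 3, 0, 2], 497), (86, [2, 2, 1, 2, 0, 3, 3, 1, 3, 0, 2, 1, 2, 0, 1, 2, 0, 2], 184), (55, [2,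 2, 1, 2, 0, 2, 1, 3, 0, 2, 1, 2, 0, 2, 1, 3, 0, 3, 3, 1, 3, 0], 25)], 297), ([(95, [2, 2, 1, 2, 0, 2, 2, 1, 2, 0, 1, 2, 0, 2, 2, 1, 2, 0, 1, 2, 0, 2, 1, 2, 0, 1, 2, 0], 129), (82, [1, 2, 0, 2, 1, 2, 0, 3, 1, 3, 0, 2, 1, 2, 0, 2, 2, 1, 2, 0, 3], 60), (45, [3, 3], 455)], 0), ([(96, [2, 1, 3, 0, 3, 1, 2, 0, 2, 1, 3, 0, 3, 3, 1, 2, 0, 3], 339), (92, [2, 1, 2, 0, 1, 2, 0, 2, 2, 1, 2, 0, 1, 2, 0, 3, 3, 1, 3, 0, 3, 1, 2, 0, 2, 2], 347), (71, [2, 1, 3, 0, 3, 1, 2, 0, 2, 1, 3, 0, 3, 3], 143)], 411), ([(97, [2, 1, 3, 0, 1, 3, 0, 2, 1, 2, 0, 1, 2, 0, 3, 3, 1, 2, 0], 622), (57, [3, 3, 1, 2, 0, 1, 2, 0, 3, 3], 187), (91, [1, 3, 0, 3, 1, 2, 0, 3], 362)], 379), ([(95, [2, 1, 3, 0, 3, 1, 2, 0, 2,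 1, 2, 0, 1, 2, 0, 1, 2, 0, 2, 1, 3, 0], 90), (84, [3, 3], 169), (66, [3, 3], 47)], 522), ([(95, [1, 2, 0, 2, 1, 2, 0, 1, 2, 0, 2, 1, 2, 0, 3, 1, 3, 0, 1, 3, 0, 3, 1, 2, 0, 1, 2, 0], 68), (91, [2, 1, 2, 0, 2, 1, 3, 0, 3, 1, 3, 0, 2, 1, 2, 0, 1, 2, 0, 2, 1, 2, 0, 1, 2, 0], 491), (96, [3, 1, 3, 0, 3, 1, 2, 0, 2, 1, 3, 0, 3, 1, 2, 0], 498)], 517), ([(95, [1, 2, 0, 2, 1, 2, 0, 2, 2, 2, 1, 3, 0, 2, 1, 2, 0, 2, 1, 3, 0], 466), (91, [2, 1, 3, 0, 3, 3, 1, 2, 0, 3, 3, 1, 3, 0, 3, 1, 2, 0, 3, 1, 3, 0, 3], 318), (98, [1, 2, 0, 2, 1, 3, 0, 2, 2, 1, 3, 0, 2, 2, 2, 1, 3, 0], 618)], 535), ([(99, [1, 2, 0, 3, 1, 3, 0, 1, 3, 0], 25260), (74, [1, 2, 0, 2, 1, 2, 0, 2, 2, 1, 3, 0, 1, 3, 0, 2, 2, 1, 2,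 0, 3, 1, 3, 0], 164), (61, [3, 3], 62)], 2342), ([(99, [1, 2, 0, 1, 2, 0, 3, 1, 3, 0, 1, 3, 0, 3, 1, 2, 0], 22060), (61, [1, 2, 0, 1, 2, 0, 3, 1, 3, 0, 1, 3, 0, 3, 1, 2, 0], 239), (100, [3, 3], 12680)], 26170)],
[([(0, [], 0), (5, [], 0), (2, [], 24400)], 0), ([(5, [], 73002), (2, [], 24400), (0, [], 0)], 14724), ([(6, [], 73002), (14, [], 2300), (3, [], 24400)], 14724), ([(7, [], 14664), (26, [], 9832), (4, [], 24400)], 1278), ([(8, [], 14664), (12, [], 2300), (1, [], 24400)], 1278), ([(10, [2, 2, 2, 1, 2, 0, 2, 1, 3, 0, 3, 3], 121217), (33, [2, 2, 2, 1, 2, 0, 2, 1, 3, 0, 3, 1, 2, 0], 1350), (12, [2, 1, 2, 0], 2983)], 43414), ([(10, [2, 2, 2, 1, 2, 0, 2, 1, 3, 0, 3, 1, 2, 0], 53887),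 (31, [2, 2, 2, 1, 2, 0, 2, 1, 3, 0, 3, 3], 278), (5, [2, 1, 2, 0], 55398)], 43414), ([(9, [2, 2, 2, 1, 2, 0, 2, 1, 3, 0, 3, 1, 2, 0], 111136), (23, [2, 2, 1, 2, 0, 1, 2, 0, 2, 1, 2, 0, 1, 2, 0, 3], 1249), (14, [2, 1, 2, 0], 4132)], 6272), ([(9, [2, 2, 2, 1, 2, 0, 2, 1, 3, 0, 3, 3], 98729), (13, [2, 1, 2, 0], 1321), (26, [2, 1, 2, 0], 64047)], 6272), ([(11, [2, 1, 2, 0, 2, 1, 3, 0, 1, 3, 0, 3], 13022), (80, [1, 2, 0, 1, 2, 0, 3, 3, 1, 2, 0, 1, 2, 0], 93), (17, [1, 3, 0, 3], 4109)], 0), ([(11, [3, 3, 1, 2, 0, 3], 27950), (82, [1, 2, 0, 1, 2, 0, 3, 3, 1, 2, 0, 1, 2, 0], 204), (31, [1, 3, 0, 3], 741)], 94616), ([(9, [2, 2, 1, 2, 0, 2, 2, 1, 3, 0, 1, 3, 0, 2], 41141), (24, [2, 1, 3, 0,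 1, 3, 0, 2, 2, 1, 3, 0, 1, 3, 0, 3, 1, 2, 0, 1, 2, 0, 3], 4255), (77, [1, 3, 0, 3], 378)], 0), ([(17, [2, 2, 2, 1, 2, 0, 2, 1, 3, 0, 3, 1, 2, 0], 2941), (7, [2, 1, 2, 0], 43151), (27, [2, 1, 2, 0], 64047)], 3338), ([(16, [2, 2, 2, 1, 2, 0, 2, 1, 3, 0, 3, 3], 932), (31, [2, 2, 2, 1, 2, 0, 2, 1, 3, 0, 3, 1, 2, 0], 1019), (6, [2, 1, 2, 0], 59371)], 3338), ([(22, [2, 2, 1, 2, 0, 1, 2, 0, 2, 1, 2, 0, 1, 2, 0, 1, 2, 0], 219), (30, [2, 2, 2, 1, 2, 0, 2, 1, 3, 0, 3, 1, 2, 0], 93), (15, [2, 1, 2, 0], 2129)], 2664), ([(23, [2, 2, 1, 2, 0, 1, 2, 0, 2, 1, 2, 0, 1, 2, 0, 1, 2, 0], 219), (17, [2, 2, 2, 1, 2, 0, 2, 1, 3, 0, 3, 3], 450), (8, [2, 1, 2, 0], 68717)], 2664), ([(24, [1, 2, 0, 1, 2, 0,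 3, 3, 1, 2, 0, 1, 2, 0], 5038), (77, [2, 1, 2, 0, 2, 1, 3, 0, 1, 3, 0, 3], 366), (9, [1, 3, 0, 3], 68594)], 2985), ([(24, [1, 2, 0, 2, 1, 2, 0, 3, 1, 3, 0, 2, 1, 2, 0, 2, 2], 2062), (87, [1, 2, 0, 2, 2, 1, 3, 0, 3, 1, 2, 0, 2, 1, 2, 0, 1, 2, 0, 2, 1, 3, 0], 217), (33, [1, 3, 0, 3], 868)], 4192), ([(25, [3, 1, 3, 0, 3, 1, 2, 0, 2, 1, 3, 0, 2, 2, 1, 2, 0, 1, 2, 0, 1, 2, 0], 4597), (49, [1, 3, 0, 3, 1, 3, 0, 2, 1, 2, 0, 3, 1, 3, 0, 2], 150), (19, [3, 3, 1, 3, 0, 3, 3, 1, 2, 0, 2, 1, 2, 0], 749)], 2648), ([(25, [3, 1, 3, 0, 3, 1, 2, 0, 2, 2, 1, 2, 0, 3, 3, 1, 2, 0], 4884), (64, [2, 2, 1, 3, 0, 3, 1, 2, 0, 1, 2, 0, 2, 1, 2, 0], 94), (47, [1, 3, 0, 3], 205)], 0), ([(24, [1, 3, 0, 1, 3, 0,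 3, 1, 2, 0, 2, 1, 3, 0, 3, 1, 2, 0], 423), (82, [1, 2, 0, 2, 1, 2, 0, 3, 1, 3, 0, 2, 1, 2, 0, 2, 2], 49), (34, [1, 3, 0, 3], 1431)], 0), ([(24, [2, 2, 1, 3, 0, 1, 3, 0, 3, 1, 2, 0, 2, 2, 1, 3, 0, 2, 1, 2, 0, 2], 1247), (86, [1, 2, 0, 2, 2, 1, 3, 0, 3, 1, 2, 0, 2, 1, 2, 0, 1, 2, 0, 2, 1, 3, 0], 89), (49, [1, 3, 0, 3], 139)], 0), ([(25, [1, 2, 0, 1, 2, 0, 1, 2, 0, 2, 1, 2, 0, 3, 1, 3, 0, 2], 505), (58, [2, 1, 3, 0, 1, 3, 0, 3, 1, 3, 0, 2, 1, 2, 0, 2, 2, 1, 2, 0, 1, 2, 0, 1, 2, 0], 11), (23, [2, 1, 2, 0, 3, 3, 1, 3, 0, 3, 1, 2, 0, 2], 61)], 878), ([(25, [1, 2, 0, 1, 2, 0, 2, 2, 1, 2, 0, 1, 2, 0, 2, 1, 3, 0, 2, 2], 1498), (56, [2, 1, 2, 0, 2, 1, 3, 0, 3, 1, 3, 0, 2, 1, 2, 0, 1, 2, 0, 2,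 1, 2, 0, 1, 2, 0], 168), (30, [2, 2, 1, 3, 0, 3, 1, 2, 0, 2], 1290)], 2664), ([(20, [1, 3, 0, 1, 3, 0, 3, 1, 2, 0, 2, 1, 3, 0, 3, 1, 2, 0], 423), (65, [3, 1, 2, 0, 2, 2, 2, 1, 2, 0, 2, 1, 3, 0, 3, 1, 2, 0], 165), (80, [2, 2, 1, 2, 0, 1, 2, 0, 3, 1, 3, 0, 2, 1, 2, 0, 2, 1, 2, 0, 1, 2, 0, 3], 471)], 2230), ([(24, [3, 1, 2, 0, 3, 3], 2725), (89, [2, 2, 1, 3, 0, 2, 2, 1, 2, 0, 2, 2, 1, 3, 0, 3, 1, 3, 0, 2, 2], 388), (58, [1, 3, 0, 3], 14)], 4816), ([(27, [2, 1, 2, 0], 56597), (17, [2, 2, 2, 1, 2, 0, 2, 1, 3, 0, 3, 1, 2, 0], 4192), (7, [2, 1, 2, 0], 43151)], 44236), ([(26, [2, 1, 2, 0], 71455), (9, [2, 2, 2, 1, 2, 0, 2, 1, 3, 0, 3, 3], 75854), (13, [2, 1, 2, 0], 1321)], 40968), ([(28, [1,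 3, 0, 3, 1, 3, 0, 2, 1, 2, 0, 3, 1, 3, 0, 2], 74759), (43, [2, 2, 1, 2, 0, 2, 1, 3, 0, 3, 1, 2, 0, 2, 1, 2, 0], 90), (36, [1, 3, 0, 3], 792)], 0), ([(29, [1, 3, 0, 3, 1, 3, 0, 2, 1, 2, 0, 3, 1, 3, 0, 2], 79744), (64, [1, 2, 0, 3, 1, 3, 0, 2, 1, 2, 0, 3, 1, 3, 0, 1, 3, 0], 81), (50, [1, 3, 0, 3], 163)], 0), ([(40, [1, 2, 0, 1, 2, 0, 3, 3, 1, 2, 0, 1, 2, 0], 1056), (77, [3, 3, 1, 2, 0, 3], 277), (10, [1, 3, 0, 3], 117646)], 0), ([(41, [1, 2, 0, 1, 2, 0, 3, 3, 1, 2, 0, 1, 2, 0], 998), (58, [2, 2, 1, 2, 0, 3, 1, 3, 0, 2, 1, 2, 0, 2, 1, 3, 0, 2], 27), (22, [3, 1, 2, 0, 3, 3], 1878)], 721), ([(42, [1, 2, 0, 1, 2, 0, 3, 3, 1, 2, 0, 1, 2, 0], 822), (80, [2, 2, 1, 2, 0, 2, 1, 3, 0, 3, 1, 2,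 0, 2, 1, 2, 0], 238), (16, [1, 3, 0, 3], 1013)], 1337), ([(43, [1, 2, 0, 1, 2, 0, 3, 3, 1, 2, 0, 1, 2, 0], 954), (43, [1, 2, 0, 3, 1, 3, 0, 2, 1, 2, 0, 3, 1, 3, 0, 1, 3, 0], 543), (32, [1, 3, 0, 3], 20)], 752), ([(41, [1, 2, 0, 2, 1, 2, 0, 3, 1, 3, 0, 2, 1, 2, 0, 2, 2], 1195), (47, [1, 3, 0, 3, 1, 3, 0, 2, 1, 2, 0, 3, 1, 3, 0, 2], 164), (21, [3, 3, 1, 3, 0, 3, 3, 1, 2, 0, 2, 1, 2, 0], 392)], 459), ([(43, [2, 2, 1, 3, 0, 1, 3, 0, 3, 1, 2, 0, 2, 2, 1, 3, 0, 2, 1, 2, 0, 2], 173), (36, [1, 3, 0, 3, 1, 3, 0, 2, 1, 2, 0, 3, 1, 3, 0, 2], 674), (28, [1, 3, 0, 3], 873)], 569), ([(42, [1, 2, 0, 2, 1, 2, 0, 3, 1, 3, 0, 2, 1, 2, 0, 2, 2], 33), (84, [3, 1, 3, 0], 119), (53, [1, 3, 0, 3], 75)],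 0), ([(42, [2, 2, 1, 3, 0, 1, 3, 0, 3, 1, 2, 0, 2, 2, 1, 3, 0, 2, 1, 2, 0, 2], 1097), (81, [2, 2, 1, 2, 0, 2, 1, 3, 0, 3, 1, 2, 0, 2, 1, 2, 0], 12), (46, [1, 3, 0, 3], 201)], 0), ([(41, [2, 2, 1, 3, 0, 1, 3, 0, 3, 1, 2, 0, 2, 2, 1, 3, 0, 2, 1, 2, 0, 2], 12), (56, [1, 2, 0, 2, 1, 2, 0, 3, 1, 3, 0, 2, 1, 2, 0, 2, 2], 76), (39, [1, 3, 0, 3], 376)], 668), ([(40, [1, 2, 0, 2, 1, 2, 0, 3, 1, 3, 0, 2, 1, 2, 0, 2, 2], 284), (81, [1, 2, 0, 2, 2, 1, 3, 0, 3, 1, 2, 0, 2, 1, 2, 0, 1, 2, 0, 2, 1, 3, 0], 22), (51, [1, 3, 0, 3], 143)], 0), ([(40, [1, 2, 0, 1, 2, 0, 1, 2, 0, 2, 1, 2, 0, 1, 2, 0, 2, 1, 3, 0, 1, 3, 0, 2], 1146), (84, [2, 2, 2, 1, 2, 0, 2, 1, 3, 0, 3, 1, 2, 0, 2, 2, 1, 3, 0, 1, 3, 0],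 161), (56, [1, 3, 0, 3], 14)], 1341), ([(42, [1, 2, 0, 2, 2, 1, 3, 0, 1, 3, 0, 3, 1, 3, 0, 2, 1, 2, 0, 2, 1, 3, 0], 134), (85, [2, 1, 3, 0, 3, 1, 2, 0, 2, 1, 3, 0, 3, 3], 50), (82, [1, 3, 0, 3], 263)], 0), ([(43, [1, 2, 0, 2, 2, 1, 3, 0, 1, 3, 0, 3, 1, 3, 0, 2, 1, 2, 0, 2, 1, 3, 0], 1168), (32, [2, 2, 1, 2, 0, 2, 2, 1, 3, 0, 1, 3, 0, 2], 352), (43, [2, 1, 3, 0, 1, 3, 0, 2, 2, 1, 3, 0, 1, 3, 0, 3, 1, 2, 0, 1, 2, 0, 3], 748)], 61), ([(40, [1, 2, 0, 2, 2, 1, 3, 0, 1, 3, 0, 3, 1, 3, 0, 2, 1, 2, 0, 2, 1, 3, 0], 132), (85, [2, 1, 2, 0, 2, 1, 3, 0, 3, 1, 2, 0, 2, 1, 2, 0, 1, 2, 0], 97), (87, [1, 2, 0, 2, 1, 2, 0, 3, 3, 1, 3, 0, 3, 1, 2, 0, 2, 2, 1, 3, 0], 412)], 929), ([(44, [1, 2, 0, 2,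 1, 3, 0, 3, 3, 1, 2, 0, 3, 3, 1, 2, 0, 1, 2, 0], 47), (69, [3, 3, 1, 3, 0, 2, 1, 2, 0, 2, 2, 1, 2, 0, 1, 2, 0, 1, 2, 0], 115), (67, [2, 1, 3, 0, 3, 1, 2, 0, 2, 1, 3, 0, 1, 3, 0, 3], 171)], 537), ([(45, [1, 3, 0, 3], 1430), (96, [2, 2, 1, 2, 0, 2, 1, 3, 0, 3, 3, 1, 3, 0, 3, 1, 2, 0, 2], 220), (94, [1, 3, 0, 3], 24)], 0), ([(64, [2, 2, 1, 2, 0, 2, 1, 3, 0, 3, 1, 2, 0, 2, 1, 2, 0], 236), (58, [3, 1, 3, 0, 3, 1, 2, 0, 2, 1, 3, 0, 2, 2, 1, 2, 0, 1, 2, 0, 1, 2, 0], 127), (18, [1, 3, 0, 3], 3019)], 0), ([(63, [2, 2, 2, 1, 3, 0, 2, 1, 2, 0, 3, 1, 3, 0, 3, 3, 1, 2, 0], 122), (87, [2, 2, 1, 3, 0, 3, 1, 2, 0, 1, 2, 0, 2, 1, 2, 0], 113), (37, [3, 3, 1, 3, 0, 3, 3, 1, 2, 0, 2, 1, 2, 0], 68)], 146),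 ([(65, [3, 1, 2, 0, 3, 3, 1, 2, 0, 3], 165), (80, [1, 2, 0, 2, 1, 2, 0, 3, 1, 3, 0, 2, 1, 2, 0, 2, 2], 334), (20, [1, 3, 0, 3], 3617)], 0), ([(65, [2, 1, 2, 0, 3, 1, 3, 0, 2, 2, 2, 1, 3, 0, 3, 1, 2, 0, 2], 76), (84, [2, 1, 3, 0, 1, 3, 0, 2, 1, 2, 0, 1, 2, 0, 2, 1, 2, 0, 1, 2, 0, 1, 2, 0], 429), (48, [3, 3, 1, 3, 0, 3, 3, 1, 2, 0, 2, 1, 2, 0], 228)], 132), ([(63, [1, 3, 0, 1, 3, 0, 3, 1, 2, 0, 2, 1, 3, 0, 3, 1, 2, 0], 220), (82, [2, 2, 1, 3, 0, 1, 3, 0, 3, 1, 2, 0, 2, 2, 1, 3, 0, 2, 1, 2, 0, 2], 205), (38, [1, 3, 0, 3], 166)], 0), ([(64, [1, 2, 0, 2, 2, 1, 3, 0, 3, 1, 2, 0, 2, 1, 2, 0, 1, 2, 0, 2, 1, 3, 0], 143), (50, [1, 3, 0, 3, 1, 3, 0, 2, 1, 2, 0, 3, 1, 3, 0, 2], 61), (29, [1, 3,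 0, 3], 5946)], 0), ([(57, [1, 2, 0, 2, 2, 1, 3, 0, 1, 3, 0, 2, 2, 1, 2, 0, 3], 95), (87, [2, 2, 1, 2, 0, 2, 1, 3, 0, 3, 1, 2, 0, 2, 1, 2, 0], 125), (35, [1, 3, 0, 3], 194)], 48), ([(58, [1, 2, 0, 1, 2, 0, 2, 1, 2, 0, 3, 1, 3, 0, 1, 3, 0, 2, 1, 2, 0, 1, 2, 0, 2], 213), (25, [1, 2, 0, 2, 2, 1, 3, 0, 1, 3, 0, 2, 2, 1, 2, 0, 3], 851), (52, [1, 3, 0, 3], 29)], 0), ([(54, [2, 2, 1, 2, 0, 3, 3, 1, 3, 0, 2, 2, 2, 1, 3, 0, 1, 3, 0, 3, 1, 2, 0], 219), (91, [2, 1, 2, 0, 1, 2, 0, 1, 2, 0, 2, 1, 2, 0, 2, 1, 3, 0, 2, 1, 2, 0, 2], 341), (92, [1, 3, 0, 3], 612)], 0), ([(55, [2, 2, 1, 2, 0, 3, 3, 1, 3, 0, 2, 2, 2, 1, 3, 0, 1, 3, 0, 3, 1, 2, 0], 219), (95, [2, 1, 3, 0, 3, 3, 1, 3, 0, 3, 3, 1, 3, 0,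 1, 3, 0, 3, 1, 3, 0, 2, 1, 2, 0], 532), (89, [1, 3, 0, 3], 330)], 0), ([(58, [2, 1, 3, 0, 1, 3, 0, 2, 2, 1, 2, 0, 2, 2, 1, 3, 0], 179), (22, [2, 2, 1, 3, 0, 1, 3, 0, 3, 1, 3, 0, 2, 1, 2, 0], 468), (41, [2, 1, 3, 0, 1, 3, 0, 2, 2, 1, 3, 0, 1, 3, 0, 3, 1, 2, 0, 1, 2, 0, 3], 859)], 12), ([(54, [2, 1, 3, 0, 1, 3, 0, 2, 1, 2, 0, 1, 2, 0, 3, 3, 1, 2, 0], 179), (80, [2, 2, 1, 2, 0, 1, 2, 0, 3, 1, 3, 0, 1, 3, 0, 3, 3, 1, 3, 0], 75), (25, [1, 3, 0, 3], 7)], 184), ([(55, [2, 2, 1, 3, 0, 2, 2, 1, 2, 0, 2, 2, 1, 3, 0, 3, 1, 3, 0, 2, 2], 14), (95, [2, 2, 1, 3, 0, 3, 3, 1, 2, 0, 3, 3, 1, 3, 0, 3, 3, 1, 2, 0, 2], 6), (84, [2, 1, 3, 0, 1, 3, 0, 2, 1, 2, 0, 1, 2, 0, 2, 1, 3, 0, 3, 1, 3, 0], 84)], 26),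 ([(60, [2, 2, 1, 2, 0, 3, 3, 1, 3, 0, 2, 2, 2, 1, 3, 0, 1, 3, 0, 3, 1, 2, 0], 212), (85, [2, 1, 3, 0, 2, 2, 1, 2, 0, 3, 1, 3, 0, 2, 1, 2, 0, 1, 2, 0], 63), (90, [1, 3, 0, 3], 179)], 146), ([(59, [2, 2, 1, 2, 0, 3, 3, 1, 3, 0, 2, 2, 2, 1, 3, 0, 1, 3, 0, 3, 1, 2, 0], 212), (64, [3, 1, 2, 0, 3, 3], 197), (59, [2, 1, 2, 0, 1, 2, 0, 1, 2, 0, 2, 1, 2, 0, 2, 1, 3, 0, 2, 1, 2, 0, 2], 130)], 208), ([(60, [1, 2, 0, 1, 2, 0, 1, 2, 0, 2, 1, 2, 0, 3, 1, 3, 0, 3, 3, 1, 2, 0, 2, 1, 2, 0], 48), (89, [1, 2, 0, 1, 2, 0, 1, 2, 0, 2, 1, 2, 0, 1, 2, 0, 2, 1, 3, 0, 1, 3, 0, 2, 1, 2, 0, 2], 424), (68, [2, 1, 3, 0, 1, 3, 0, 3], 219)], 146), ([(59, [1, 2, 0, 1, 2, 0, 1, 2, 0, 2, 1, 2, 0, 3, 1, 3, 0, 3, 3,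 1, 2, 0, 2, 1, 2, 0], 48), (61, [1, 3, 0, 3, 1, 2, 0, 2, 1, 3, 0, 3, 3], 134), (99, [1, 3, 0, 3], 8350)], 0), ([(50, [1, 3, 0, 1, 3, 0, 3, 1, 2, 0, 2, 1, 3, 0, 3, 1, 2, 0], 197), (29, [1, 3, 0, 1, 3, 0], 79744), (64, [1, 2, 0, 2, 2, 1, 3, 0, 1, 3, 0, 3, 1, 3, 0, 2, 1, 2, 0, 2, 1, 3, 0], 66)], 229), ([(57, [2, 2, 2, 1, 2, 0, 2, 1, 3, 0, 3, 1, 2, 0], 10), (83, [1, 2, 0, 2, 2, 1, 3, 0, 1, 3, 0, 3, 1, 3, 0, 2, 1, 2, 0, 2, 1, 3, 0], 288), (81, [1, 3, 0, 3], 129)], 0), ([(65, [1, 3, 0, 3], 14), (85, [2, 2, 2, 1, 2, 0, 2, 2, 1, 2, 0, 3, 3, 1, 2, 0], 303), (86, [2, 2, 2, 1, 3, 0, 2, 1, 2, 0, 3, 1, 3, 0, 3, 3, 1, 2, 0], 323)], 104), ([(66, [1, 3, 0, 1, 3, 0, 3, 1, 2, 0, 2, 1, 3, 0, 3, 1, 2,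 0], 43), (94, [1, 2, 0, 1, 2, 0, 3, 1, 3, 0, 1, 3, 0, 3, 1, 2, 0, 2, 1, 2, 0, 1, 2, 0, 2, 1, 2, 0], 438), (44, [1, 2, 0, 1, 2, 0, 3, 1, 3, 0, 1, 3, 0, 3, 1, 2, 0, 2, 1, 2, 0, 1, 2, 0, 2, 1, 2, 0], 333)], 177), ([(67, [1, 3, 0, 1, 3, 0, 3, 1, 2, 0, 2, 1, 3, 0, 3, 1, 2, 0], 43), (45, [1, 2, 0, 2, 1, 3, 0, 3, 1, 2, 0, 1, 2, 0, 1, 2, 0, 3, 1, 3, 0, 2, 1, 2, 0], 1366), (97, [1, 3, 0, 3], 370)], 0), ([(55, [1, 2, 0, 1, 2, 0, 1, 2, 0, 2, 1, 2, 0, 3, 1, 3, 0, 3, 3, 1, 2, 0, 2, 1, 2, 0], 48), (92, [1, 2, 0, 1, 2, 0, 1, 2, 0, 2, 1, 2, 0, 3, 1, 3, 0, 3, 3, 1, 2, 0, 2, 1, 2, 0], 484), (69, [1, 3, 0, 3], 48)], 110), ([(54, [1, 2, 0, 1, 2, 0, 1, 2, 0, 2, 1, 2, 0, 3, 1, 3, 0, 3, 3, 1, 2, 0, 2, 1,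 2, 0], 48), (90, [1, 2, 0, 1, 2, 0, 1, 2, 0, 2, 1, 2, 0, 1, 2, 0, 2, 1, 3, 0, 1, 3, 0, 2, 1, 2, 0, 2], 387), (62, [1, 2, 0, 3, 1, 3, 0, 3], 212)], 146), ([(71, [1, 3, 0, 1, 3, 0, 3, 1, 2, 0, 2, 1, 3, 0, 3, 1, 2, 0], 43), (96, [3, 1, 3, 0], 405), (93, [1, 2, 0, 1, 2, 0, 3, 1, 3, 0, 1, 3, 0, 3, 1, 2, 0, 2, 1, 2, 0, 1, 2, 0, 2, 1, 2, 0], 97)], 56), ([(70, [1, 3, 0, 1, 3, 0, 3, 1, 2, 0, 2, 1, 3, 0, 3, 1, 2, 0], 43), (70, [3, 1, 3, 0], 219), (70, [2, 2, 2, 1, 2, 0, 2, 1, 3, 0, 3, 1, 2, 0, 1, 2, 0, 1, 2, 0, 3, 1, 3, 0], 219)], 143), ([(72, [2, 2, 2, 1, 3, 0, 2, 1, 2, 0, 3, 1, 3, 0, 1, 3, 0, 3], 46), (72, [1, 3, 0, 3, 1, 2, 0, 3, 3, 1, 3, 0, 1, 3, 0, 3, 3, 1, 3, 0], 131), (72, [3, 3, 1, 2,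 0, 2, 2, 1, 2, 0, 1, 2, 0, 2, 2, 1, 2, 0], 131)], 40), ([(73, [2, 2, 2, 1, 3, 0, 2, 1, 2, 0, 3, 1, 3, 0, 1, 3, 0, 3], 46), (74, [3, 1, 2, 0, 1, 2, 0, 2, 2, 1, 2, 0, 2, 1, 3, 0, 3, 3, 1, 3, 0, 1, 3, 0, 3], 85), (73, [2, 1, 2, 0, 3, 1, 3, 0, 2, 1, 2, 0, 1, 2, 0, 2, 1, 2, 0, 2, 1, 3, 0, 1, 3, 0], 24)], 34), ([(75, [1, 3, 0, 1, 3, 0, 3, 1, 2, 0, 2, 1, 3, 0, 3, 1, 2, 0], 11), (59, [1, 2, 0, 2, 1, 3, 0, 1, 3, 0, 3, 1, 3, 0, 2, 2, 1, 2, 0, 3, 1, 3, 0], 143), (74, [1, 2, 0, 2, 1, 2, 0, 3, 1, 3, 0, 1, 3, 0, 3, 3, 1, 2, 0, 2, 2, 1, 3, 0, 3], 197)], 68), ([(74, [1, 3, 0, 1, 3, 0, 3, 1, 2, 0, 2, 1, 3, 0, 3, 1, 2, 0], 11), (59, [3, 1, 2, 0, 3, 3, 1, 3, 0, 2, 1, 2, 0, 3, 1, 3, 0, 3, 3, 1, 3, 0],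 134), (75, [2, 2, 1, 2, 0, 3, 3, 1, 3, 0, 1, 3, 0, 3, 1, 2, 0, 2, 1, 3, 0, 1, 3, 0, 3], 54)], 159), ([(80, [2, 1, 3, 0, 1, 3, 0, 2, 2, 1, 3, 0, 1, 3, 0, 3, 1, 2, 0, 1, 2, 0, 3], 3), (17, [2, 2, 1, 2, 0, 2, 2, 1, 3, 0, 1, 3, 0, 2], 4537), (11, [1, 3, 0, 3], 104476)], 0), ([(81, [2, 1, 3, 0, 1, 3, 0, 2, 2, 1, 3, 0, 1, 3, 0, 3, 1, 2, 0, 1, 2, 0, 3], 240), (65, [1, 2, 0, 1, 2, 0, 2, 1, 3, 0, 3, 1, 2, 0, 2, 1, 2, 0, 3, 3], 104), (78, [3, 1, 2, 0, 3, 1, 3, 0], 168)], 214), ([(84, [2, 1, 2, 0, 2, 1, 3, 0, 3, 1, 3, 0, 2, 1, 2, 0, 1, 2, 0, 2, 1, 2, 0, 1, 2, 0], 132), (57, [1, 2, 0, 2, 2, 1, 3, 0, 1, 3, 0, 3, 3, 1, 3, 0, 1, 3, 0], 226), (79, [2, 1, 3, 0, 3, 3, 1, 3, 0, 1, 3, 0], 321)], 9), ([(85,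 [2, 1, 2, 0, 2, 1, 3, 0, 3, 1, 3, 0, 2, 1, 2, 0, 1, 2, 0, 2, 1, 2, 0, 1, 2, 0], 132), (83, [2, 2, 1, 3, 0, 3, 1, 2, 0, 3, 1, 3, 0, 3, 1, 2, 0, 2], 30), (76, [1, 3, 0, 1, 3, 0], 420)], 54), ([(82, [1, 2, 0, 2, 1, 2, 0, 1, 2, 0, 1, 2, 0, 3, 1, 3, 0, 2, 1, 2, 0, 2, 1, 3, 0], 304), (38, [1, 3, 0, 1, 3, 0, 3, 1, 2, 0, 2, 1, 3, 0, 3, 1, 2, 0], 146), (63, [1, 3, 0, 3], 220)], 462), ([(82, [2, 2, 1, 2, 0, 1, 2, 0, 3, 1, 3, 0, 2, 1, 2, 0, 2, 1, 2, 0, 1, 2, 0, 3], 383), (34, [1, 3, 0, 1, 3, 0, 3, 1, 2, 0, 2, 1, 3, 0, 3, 1, 2, 0], 1202), (24, [1, 3, 0, 3], 423)], 300), ([(84, [2, 1, 2, 0, 1, 2, 0, 2, 2, 1, 3, 0, 3, 1, 2, 0, 2, 1, 2, 0, 1, 2, 0], 368), (63, [1, 2, 0, 2, 2, 1, 3, 0, 1, 3, 0, 3,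 1, 3, 0, 2, 1, 2, 0, 2, 1, 3, 0], 60), (83, [2, 1, 3, 0, 3, 3, 1, 2, 0, 1, 2, 0, 3, 3, 1, 3, 0, 3, 3], 254)], 304), ([(84, [1, 2, 0, 1, 2, 0, 2, 1, 2, 0, 3, 1, 3, 0, 2, 1, 2, 0, 2], 215), (56, [1, 2, 0, 1, 2, 0, 1, 2, 0, 2, 1, 2, 0, 1, 2, 0, 2, 1, 3, 0, 1, 3, 0, 2], 10), (40, [1, 3, 0, 3], 972)], 0), ([(86, [3, 1, 2, 0, 1, 2, 0, 2, 2, 1, 2, 0, 3, 3, 1, 2, 0], 262), (65, [1, 2, 0, 2], 182), (85, [2, 1, 3, 0, 3, 1, 3, 0, 1, 3, 0, 3, 1, 2, 0, 2, 2, 1, 3, 0, 2, 2], 304)], 79), ([(87, [3, 1, 2, 0, 1, 2, 0, 2, 2, 1, 3, 0, 1, 3, 0, 2, 2, 2], 426), (35, [1, 2, 0, 2], 167), (57, [2, 1, 3, 0, 3, 3, 1, 3, 0, 3, 3, 1, 2, 0, 2, 1, 2, 0], 211)], 286), ([(80, [1, 2, 0, 2, 1, 2, 0, 1, 2, 0, 1, 2,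 0, 3, 1, 3, 0, 2, 1, 2, 0, 2, 1, 3, 0], 295), (16, [3, 1, 2, 0, 3, 1, 3, 0], 528), (42, [3, 3, 1, 2, 0, 1, 2, 0, 3, 3], 1113)], 432), ([(80, [2, 2, 1, 2, 0, 1, 2, 0, 3, 1, 3, 0, 2, 1, 2, 0, 2, 1, 2, 0, 1, 2, 0, 3], 406), (20, [1, 3, 0, 1, 3, 0, 3, 1, 2, 0, 2, 1, 3, 0, 3, 1, 2, 0], 2825), (65, [3, 1, 2, 0, 2, 2, 2, 1, 2, 0, 2, 1, 3, 0, 3, 1, 2, 0], 165)], 7), ([(91, [3, 1, 2, 0, 3, 3, 1, 3, 0, 2, 1, 2, 0, 3, 1, 3, 0, 2], 302), (92, [2, 2, 1, 2, 0, 3, 3, 1, 3, 0, 2, 2, 2, 1, 3, 0, 1, 3, 0, 3, 1, 2, 0], 612), (54, [1, 3, 0, 3], 212)], 26), ([(90, [3, 1, 2, 0, 3, 3, 1, 3, 0, 2, 1, 2, 0, 3, 1, 3, 0, 2], 302), (63, [1, 2, 0, 3, 3, 1, 2, 0, 2, 2, 1, 2, 0, 3, 1, 3, 0, 3], 193), (88, [2, 2,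 1, 3, 0, 2, 2, 1, 2, 0, 2, 2, 1, 3, 0, 3, 1, 3, 0, 2, 2], 437)], 194), ([(84, [2, 1, 3, 0, 1, 3, 0, 2, 1, 2, 0, 1, 2, 0, 2, 1, 3, 0, 3, 1, 3, 0], 84), (55, [2, 2, 1, 3, 0, 2, 2, 1, 2, 0, 2, 2, 1, 3, 0, 3, 1, 3, 0, 2, 2], 124), (95, [2, 2, 1, 3, 0, 3, 3, 1, 2, 0, 3, 3, 1, 3, 0, 3, 3, 1, 2, 0, 2], 6)], 49), ([(85, [2, 1, 3, 0, 1, 3, 0, 2, 1, 2, 0, 1, 2, 0, 2, 1, 3, 0, 3, 1, 3, 0], 84), (90, [2, 2, 1, 2, 0, 3, 3, 1, 3, 0, 2, 2, 2, 1, 3, 0, 1, 3, 0, 3, 1, 2, 0], 111), (60, [1, 3, 0, 3], 219)], 0), ([(95, [2, 2, 1, 3, 0, 3, 3, 1, 2, 0, 3, 3, 1, 3, 0, 3, 3, 1, 2, 0, 2], 587), (84, [2, 1, 3, 0, 1, 3, 0, 2, 1, 2, 0, 1, 2, 0, 2, 1, 3, 0, 3, 1, 3, 0], 84), (55, [2, 2, 1, 3, 0, 2, 2, 1, 2, 0,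 2, 2, 1, 3, 0, 3, 1, 3, 0, 2, 2], 124)], 379), ([(96, [2, 2, 1, 2, 0, 2, 1, 3, 0, 3, 3, 1, 3, 0, 3, 1, 2, 0, 2], 220), (94, [1, 3, 0, 3], 24), (45, [1, 3, 0, 3], 1430)], 0), ([(97, [2, 1, 3, 0, 3, 1, 2, 0, 2, 1, 3, 0, 1, 3, 0, 3], 279), (68, [3, 3, 1, 3, 0, 2, 1, 2, 0, 2, 2, 1, 2, 0, 1, 2, 0, 1, 2, 0], 66), (71, [2, 1, 3, 0, 3, 1, 2, 0, 2, 1, 3, 0, 1, 3, 0, 3], 66)], 411), ([(92, [2, 1, 2, 0, 2, 1, 3, 0, 2, 1, 2, 0, 2, 1, 2, 0, 1, 2, 0, 1, 2, 0, 2], 474), (57, [2, 1, 2, 0, 3, 1, 3, 0, 1, 3, 0, 3, 1, 2, 0, 1, 2, 0], 136), (91, [3, 1, 3, 0], 408)], 297), ([(94, [2, 2, 2, 1, 2, 0, 2, 1, 3, 0, 3, 1, 2, 0, 2, 2, 1, 3, 0, 1, 3, 0], 141), (44, [2, 2, 2, 1, 2, 0, 2, 1, 3, 0, 3, 1, 2, 0, 2,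 2, 1, 3, 0, 1, 3, 0], 333), (66, [1, 3, 0, 3], 53)], 522), ([(93, [1, 2, 0, 2, 1, 3, 0, 3, 1, 2, 0, 1, 2, 0, 1, 2, 0, 3, 1, 3, 0, 2, 1, 2, 0], 227), (71, [3, 1, 3, 0], 103), (96, [2, 2, 2, 1, 2, 0, 2, 1, 3, 0, 3, 1, 2, 0, 1, 2, 0, 1, 2, 0, 3, 1, 3, 0], 405)], 498), ([(98, [2, 1, 3, 0, 3, 1, 2, 0, 3, 1, 3, 0, 2, 1, 2, 0, 3, 1, 3, 0, 3], 430), (96, [1, 3, 0, 1, 3, 0, 3, 3, 1, 2, 0, 3, 1, 3, 0, 3, 3, 1, 2, 0, 1, 2, 0], 283), (98, [2, 1, 2, 0, 2, 2, 1, 3, 0, 1, 3, 0, 2, 2, 1, 3, 0], 374)], 20), ([(99, [1, 3, 0, 3, 1, 2, 0, 2, 1, 3, 0, 3, 3], 24852), (59, [2, 1, 3, 0, 1, 3, 0, 3, 1, 2, 0, 2, 2, 1, 2, 0, 2, 1, 2, 0, 1, 2, 0, 2, 1, 3, 0], 193), (61, [1, 3, 0, 3], 85)], 2342), ([(100, [1,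 3, 0, 3], 317), (100, [1, 3, 0, 3], 17371), (100, [1, 3, 0, 3], 17371)], 26170)],
[([(0, [], 0), (5, [], 0), (2, [], 24400)], 0), ([(5, [], 7824), (2, [], 24400), (0, [], 0)], 1750), ([(6, [], 7824), (14, [], 2300), (3, [], 24400)], 1750), ([(7, [], 41912), (26, [], 9832), (4, [], 24400)], 14092), ([(8, [], 41912), (12, [], 2300), (1, [], 24400)], 14092), ([(9, [2, 1, 3, 0, 3], 125819), (19, [1, 2, 0, 3, 1, 3, 0], 2702), (12, [1, 3, 0, 1, 3, 0], 3442)], 0), ([(9, [2, 2, 1, 2, 0, 2, 1, 3, 0, 3, 1, 3, 0, 2], 54755), (17, [2, 1, 3, 0, 3], 3225), (5, [1, 3, 0, 1, 3, 0], 19540)], 0), ([(10, [2, 1, 3, 0, 3], 103041), (34, [2, 1, 2, 0, 2, 2, 2, 1, 2, 0, 1, 2, 0, 3], 850), (14, [1, 3, 0, 1,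 3, 0], 2685)], 0), ([(10, [2, 2, 1, 2, 0, 2, 1, 3, 0, 3, 1, 3, 0, 2], 113113), (36, [1, 2, 0, 3, 1, 3, 0], 562), (26, [1, 3, 0, 1, 3, 0], 27216)], 0), ([(6, [1, 2, 0, 1, 2, 0, 2, 1, 3, 0, 3, 1, 2, 0], 113693), (19, [1, 2, 0, 1, 2, 0, 3, 1, 3, 0, 2, 1, 2, 0, 1, 2, 0, 2, 1, 2, 0], 2553), (17, [1, 3, 0, 1, 3, 0], 787)], 0), ([(8, [1, 2, 0, 1, 2, 0, 2, 1, 3, 0, 3, 1, 2, 0], 113188), (21, [1, 2, 0, 1, 2, 0, 3, 1, 3, 0, 2, 1, 2, 0, 1, 2, 0, 2, 1, 2, 0], 2728), (31, [1, 3, 0, 1, 3, 0], 759)], 94616), ([(10, [2, 2, 1, 2, 0, 1, 2, 0, 3, 3, 1, 2, 0, 1, 2, 0], 53819), (40, [2, 1, 3, 0, 3, 1, 2, 0, 2, 1, 2, 0, 1, 2, 0, 1, 2, 0, 2, 1, 3, 0], 1074), (77, [1, 3, 0, 1, 3, 0], 379)], 0), ([(18, [2,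 1, 2, 0, 2, 2, 2, 1, 2, 0, 1, 2, 0, 3], 4586), (50, [1, 2, 0, 3, 1, 3, 0], 94), (27, [1, 3, 0, 1, 3, 0], 27216)], 0), ([(19, [2, 1, 2, 0, 2, 2, 2, 1, 2, 0, 1, 2, 0, 3], 4586), (17, [2, 2, 1, 2, 0, 2, 1, 3, 0, 3, 1, 3, 0, 2], 322), (6, [1, 3, 0, 1, 3, 0], 110726)], 0), ([(20, [2, 1, 2, 0, 2, 2, 2, 1, 2, 0, 1, 2, 0, 3], 3567), (49, [2, 1, 2, 0, 2, 2, 2, 1, 2, 0, 1, 2, 0, 3], 14), (15, [1, 3, 0, 1, 3, 0], 2685)], 0), ([(21, [2, 1, 2, 0, 2, 2, 2, 1, 2, 0, 1, 2, 0, 3], 3567), (31, [2, 2, 1, 2, 0, 2, 1, 3, 0, 3, 1, 3, 0, 2], 924), (8, [1, 3, 0, 1, 3, 0], 114539)], 0), ([(17, [2, 2, 1, 2, 0, 3, 1, 3, 0, 3, 3, 1, 2, 0], 3726), (5, [1, 2, 0, 1, 2, 0, 2, 1, 3, 0, 3, 1, 2, 0], 60914), (9, [1,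 3, 0, 1, 3, 0], 28517)], 2985), ([(18, [1, 2, 0, 1, 2, 0, 2, 1, 3, 0, 3, 1, 3, 0, 1, 3, 0, 2], 870), (46, [1, 2, 0, 1, 2, 0, 2, 1, 3, 0, 3, 1, 3, 0, 1, 3, 0, 2], 14), (33, [1, 3, 0, 1, 3, 0], 576)], 4192), ([(20, [2, 2, 1, 2, 0, 3, 1, 3, 0, 3, 3, 1, 2, 0, 2, 1, 3, 0], 394), (58, [2, 2, 2, 1, 2, 0, 2, 1, 3, 0, 3, 1, 2, 0], 101), (19, [3, 1, 2, 0, 1, 2, 0, 2, 2, 1, 3, 0, 1, 3, 0, 2, 2], 4822)], 4270), ([(21, [2, 2, 1, 2, 0, 3, 1, 3, 0, 3, 3, 1, 2, 0, 2, 1, 3, 0], 394), (41, [2, 2, 1, 2, 0, 1, 2, 0, 3, 1, 3, 0, 2, 1, 2, 0, 2, 1, 2, 0, 1, 2, 0, 3], 275), (47, [1, 3, 0, 1, 3, 0], 136)], 0), ([(18, [2, 2, 1, 2, 0, 3, 1, 3, 0, 3, 3, 1, 2, 0, 2, 1, 3, 0], 391), (56, [2, 1, 3, 0, 3, 3, 1, 2,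 0, 1, 2, 0, 3, 3, 1, 3, 0, 3, 3], 223), (34, [1, 3, 0, 1, 3, 0], 645)], 0), ([(19, [2, 2, 1, 2, 0, 3, 1, 3, 0, 3, 3, 1, 2, 0, 2, 1, 3, 0], 391), (25, [2, 2, 1, 2, 0, 1, 2, 0, 2, 1, 3, 0, 1, 3, 0, 2, 1, 2, 0, 2], 4728), (49, [1, 3, 0, 1, 3, 0], 142)], 0), ([(25, [2, 1, 2, 0, 1, 2, 0, 1, 2, 0, 2, 1, 2, 0, 1, 2, 0, 2, 1, 3, 0, 1, 3, 0, 2], 1675), (58, [1, 2, 0, 2, 2, 2, 1, 2, 0, 3, 3, 1, 2, 0, 2, 2, 1, 2, 0, 1, 2, 0], 57), (23, [1, 2, 0, 1, 2, 0, 3, 1, 3, 0, 2, 1, 2, 0], 1362)], 1488), ([(25, [1, 3, 0, 1, 3, 0], 1282), (56, [2, 1, 3, 0, 3, 1, 2, 0, 2, 1, 2, 0, 1, 2, 0, 1, 2, 0, 2, 1, 3, 0], 145), (30, [2, 2, 1, 2, 0, 1, 2, 0, 3, 3, 1, 2, 0, 1, 2, 0], 1297)], 5007), ([(25, [3, 1, 3, 0],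 2725), (54, [1, 2, 0, 3, 1, 3, 0, 2, 1, 2, 0, 3, 1, 3, 0, 3, 1, 2, 0, 3], 219), (80, [2, 2, 1, 2, 0, 1, 2, 0, 3, 1, 3, 0, 2, 1, 2, 0, 2, 1, 2, 0], 113)], 2230), ([(23, [1, 3, 0, 1, 3, 0], 528), (25, [1, 2, 0, 2, 2, 1, 3, 0, 1, 3, 0, 3, 3, 1, 3, 0, 1, 3, 0], 4755), (58, [1, 3, 0, 1, 3, 0], 57)], 4816), ([(28, [1, 2, 0, 3, 1, 3, 0], 37468), (31, [2, 1, 3, 0, 3], 928), (7, [1, 3, 0, 1, 3, 0], 67028)], 0), ([(29, [1, 2, 0, 3, 1, 3, 0], 37468), (47, [2, 1, 2, 0, 2, 2, 2, 1, 2, 0, 1, 2, 0, 3], 104), (13, [1, 3, 0, 1, 3, 0], 3328)], 0), ([(28, [1, 3, 0, 1, 3, 0, 3, 1, 2, 0, 2, 1, 3, 0, 3, 1, 2, 0], 873), (43, [1, 2, 0, 2, 1, 2, 0, 1, 2, 0, 1, 2, 0, 3, 1, 3, 0, 2, 1, 2, 0, 2, 1, 3, 0], 1358),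 (36, [1, 3, 0, 1, 3, 0], 447)], 0), ([(29, [1, 3, 0, 1, 3, 0, 3, 1, 2, 0, 2, 1, 3, 0, 3, 1, 2, 0], 5946), (64, [1, 2, 0, 3, 3, 1, 2, 0, 2, 2, 1, 2, 0, 2, 2, 2], 143), (50, [1, 3, 0, 1, 3, 0], 61)], 0), ([(36, [1, 2, 0, 1, 2, 0, 2, 1, 3, 0, 3, 1, 3, 0, 1, 3, 0, 2], 717), (26, [1, 2, 0, 1, 2, 0, 2, 1, 3, 0, 3, 1, 2, 0], 27708), (10, [1, 3, 0, 1, 3, 0], 93379)], 0), ([(34, [1, 2, 0, 1, 2, 0, 2, 1, 3, 0, 3, 1, 3, 0, 1, 3, 0, 2], 424), (23, [2, 2, 2, 1, 2, 0, 2, 1, 3, 0, 3, 1, 2, 0], 2643), (22, [3, 1, 2, 0, 1, 2, 0, 2], 3806)], 781), ([(39, [1, 2, 0, 1, 2, 0, 2, 1, 3, 0, 3, 1, 3, 0, 1, 3, 0, 2], 663), (33, [2, 2, 1, 2, 0, 3, 1, 3, 0, 3, 3, 1, 2, 0], 940), (16, [1, 3, 0, 1, 3, 0], 4529)],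 1337), ([(37, [1, 2, 0, 1, 2, 0, 2, 1, 3, 0, 3, 1, 3, 0, 1, 3, 0, 2], 364), (51, [1, 2, 0, 1, 2, 0, 2, 1, 3, 0, 3, 1, 3, 0, 1, 3, 0, 2], 110), (32, [1, 3, 0, 1, 3, 0], 408)], 752), ([(40, [2, 1, 3, 0, 3, 3, 1, 2, 0, 1, 2, 0, 3, 3, 1, 3, 0, 3, 3], 9), (80, [1, 2, 0, 2, 2, 1, 3, 0, 1, 3, 0, 3, 1, 3, 0, 2, 1, 2, 0, 2, 1, 3, 0], 185), (21, [3, 1, 2, 0, 1, 2, 0, 2, 2, 1, 3, 0, 1, 3, 0, 2, 2], 3412)], 453), ([(43, [2, 1, 3, 0, 3, 3, 1, 2, 0, 1, 2, 0, 3, 3, 1, 3, 0, 3, 3], 1287), (36, [1, 3, 0, 1, 3, 0, 3, 1, 2, 0, 2, 1, 3, 0, 3, 1, 2, 0], 792), (28, [1, 3, 0, 1, 3, 0], 74759)], 569), ([(42, [1, 2, 0, 2, 1, 2, 0, 3, 3, 1, 3, 0, 3, 1, 2, 0, 2, 2, 1, 3, 0], 1346), (84, [2, 2, 1, 3, 0, 3, 1,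 2, 0, 1, 2, 0, 1, 2, 0, 2], 224), (53, [1, 3, 0, 1, 3, 0], 160)], 0), ([(43, [1, 2, 0, 2, 1, 2, 0, 3, 3, 1, 3, 0, 3, 1, 2, 0, 2, 2, 1, 3, 0], 121), (41, [1, 2, 0, 1, 2, 0, 1, 2, 0, 2, 1, 2, 0, 1, 2, 0, 2, 1, 3, 0, 1, 3, 0, 2], 1026), (46, [1, 3, 0, 1, 3, 0], 94)], 0), ([(41, [2, 1, 3, 0, 3, 3, 1, 2, 0, 1, 2, 0, 3, 3, 1, 3, 0, 3, 3], 1190), (56, [1, 2, 0, 2, 1, 2, 0, 3, 3, 1, 3, 0, 3, 1, 2, 0, 2, 2, 1, 3, 0], 69), (39, [1, 3, 0, 1, 3, 0], 984)], 668), ([(40, [1, 2, 0, 2, 1, 2, 0, 3, 3, 1, 3, 0, 3, 1, 2, 0, 2, 2, 1, 3, 0], 1297), (81, [1, 2, 0, 2, 2, 1, 3, 0, 1, 3, 0, 3, 1, 3, 0, 2, 1, 2, 0, 2, 1, 3, 0], 161), (51, [1, 3, 0, 1, 3, 0], 106)], 0), ([(41, [1, 2, 0, 3, 1, 3, 0, 2, 1, 2,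 0, 3, 1, 3, 0, 3], 114), (59, [1, 2, 0, 3, 1, 3, 0, 2, 1, 2, 0, 3, 1, 3, 0, 3, 1, 2, 0, 3], 236), (56, [1, 3, 0, 1, 3, 0], 218)], 1341), ([(42, [1, 2, 0, 3, 1, 3, 0, 2, 1, 2, 0, 3, 1, 3, 0, 3], 1317), (88, [3, 3, 1, 3, 0, 2, 1, 2, 0, 3, 1, 3, 0, 2, 1, 2, 0, 2, 1, 3, 0, 1, 3, 0], 383), (82, [1, 3, 0, 1, 3, 0], 57)], 0), ([(42, [3, 3, 1, 2, 0, 1, 2, 0, 2, 1, 2, 0, 1, 2, 0, 1, 2, 0, 2], 184), (82, [2, 1, 3, 0, 3, 3, 1, 2, 0, 1, 2, 0, 2, 1, 2, 0, 2, 1, 3, 0, 2], 3), (43, [2, 1, 3, 0, 1, 3, 0, 2, 2, 1, 3, 0, 1, 3, 0, 3, 1, 2, 0], 1376)], 61), ([(40, [1, 2, 0, 3, 1, 3, 0, 2, 1, 2, 0, 3, 1, 3, 0, 3], 1091), (88, [2, 2, 2, 1, 2, 0, 2, 1, 3, 0, 3, 1, 2, 0, 2, 1, 2, 0, 3, 3], 491), (87, [1,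 2, 0, 2, 1, 2, 0, 3, 3, 1, 3, 0, 3, 1, 2, 0, 2, 1, 2, 0, 3], 95)], 929), ([(35, [2, 2, 1, 2, 0, 1, 2, 0, 3, 3, 1, 2, 0, 1, 2, 0], 462), (70, [2, 1, 3, 0, 3, 1, 2, 0, 2, 1, 2, 0, 1, 2, 0, 1, 2, 0, 2, 1, 3, 0], 9), (67, [2, 1, 3, 0, 3, 1, 2, 0, 2, 1, 2, 0, 1, 2, 0, 1, 2, 0], 11)], 537), ([(38, [2, 2, 1, 2, 0, 1, 2, 0, 3, 3, 1, 2, 0, 1, 2, 0], 449), (66, [2, 1, 3, 0, 3, 1, 2, 0, 2, 1, 2, 0, 1, 2, 0, 1, 2, 0, 2, 1, 3, 0], 174), (94, [1, 3, 0, 1, 3, 0], 604)], 0), ([(56, [1, 2, 0, 2, 1, 2, 0, 1, 2, 0, 1, 2, 0, 3, 1, 3, 0, 2, 1, 2, 0, 2, 1, 3, 0], 234), (34, [2, 2, 1, 2, 0, 3, 1, 3, 0, 3, 3, 1, 2, 0, 2, 1, 3, 0], 401), (18, [1, 3, 0, 1, 3, 0], 307)], 0), ([(56, [1, 2, 0, 2, 2, 1, 3, 0, 1,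 3, 0, 3, 1, 3, 0, 2, 1, 2, 0, 2, 1, 3, 0], 1), (43, [1, 3, 0, 3], 443), (37, [3, 1, 2, 0, 1, 2, 0, 2, 2, 1, 3, 0, 1, 3, 0, 2, 2], 423)], 121), ([(58, [1, 2, 0, 1, 2, 0, 2, 1, 2, 0, 2, 2, 1, 2, 0, 2, 1, 3, 0, 2], 62), (19, [1, 3, 0, 1, 3, 0, 3, 1, 2, 0, 2, 1, 3, 0, 3, 1, 2, 0], 4617), (20, [1, 3, 0, 1, 3, 0], 423)], 0), ([(57, [2, 2, 1, 2, 0, 1, 2, 0, 2, 1, 3, 0, 1, 3, 0, 2, 1, 2, 0, 2], 181), (86, [1, 2, 0, 2, 1, 2, 0, 1, 2, 0, 1, 2, 0, 3, 1, 3, 0, 2, 1, 2, 0, 2, 1, 3, 0], 226), (48, [3, 1, 2, 0, 1, 2, 0, 2, 2, 1, 3, 0, 1, 3, 0, 2, 2], 88)], 138), ([(63, [1, 2, 0, 1, 2, 0, 1, 2, 0, 2, 1, 2, 0, 1, 2, 0, 2, 1, 3, 0, 1, 3, 0, 2], 20), (82, [2, 1, 3, 0, 3, 3, 1, 2, 0, 1, 2, 0, 3, 3, 1,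 3, 0, 3, 3], 49), (38, [1, 3, 0, 1, 3, 0], 1433)], 0), ([(64, [1, 2, 0, 2, 2, 1, 3, 0, 1, 3, 0, 3, 1, 3, 0, 2, 1, 2, 0, 2, 1, 3, 0], 66), (50, [1, 3, 0, 1, 3, 0, 3, 1, 2, 0, 2, 1, 3, 0, 3, 1, 2, 0], 147), (29, [1, 3, 0, 1, 3, 0], 79744)], 0), ([(57, [2, 1, 3, 0, 3, 1, 2, 0, 2, 1, 2, 0, 1, 2, 0, 1, 2, 0], 155), (87, [1, 2, 0, 2, 1, 2, 0, 1, 2, 0, 1, 2, 0, 3, 1, 3, 0, 2, 1, 2, 0, 2, 1, 3, 0], 92), (35, [1, 3, 0, 1, 3, 0], 1329)], 48), ([(58, [2, 1, 2, 0, 3, 3, 1, 2, 0, 2, 1, 3, 0, 3, 1, 3, 0, 2], 23), (25, [2, 1, 3, 0, 3, 1, 2, 0, 2, 1, 2, 0, 1, 2, 0, 1, 2, 0], 203), (52, [1, 3, 0, 1, 3, 0], 193)], 0), ([(64, [3, 1, 2, 0, 1, 2, 0, 2, 1, 3, 0, 2, 2, 1, 3, 0, 3, 1, 3, 0], 116), (71, [1,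 2, 0, 3, 1, 3, 0, 2, 1, 2, 0, 3, 1, 3, 0, 3, 1, 2, 0, 3], 30), (92, [1, 3, 0, 1, 3, 0], 282)], 0), ([(63, [1, 2, 0, 2, 1, 3, 0, 1, 3, 0, 3, 1, 2, 0, 2, 1, 2, 0, 1, 2, 0], 9), (88, [3, 1, 2, 0, 3, 3, 1, 2, 0, 3], 488), (89, [1, 3, 0, 1, 3, 0], 496)], 0), ([(60, [1, 2, 0, 3, 1, 3, 0, 3, 1, 2, 0, 3, 3, 1, 3, 0, 3, 3, 1, 2, 0], 151), (87, [1, 2, 0, 3, 3, 1, 2, 0, 2, 2, 1, 2, 0, 3, 1, 3, 0, 3], 23), (41, [2, 1, 3, 0, 1, 3, 0, 2, 2, 1, 3, 0, 1, 3, 0, 3, 1, 2, 0], 1374)], 12), ([(56, [2, 1, 3, 0, 3, 1, 2, 0, 2, 1, 2, 0, 1, 2, 0, 1, 2, 0, 2, 1, 3, 0], 234), (30, [2, 2, 1, 2, 0, 1, 2, 0, 3, 3, 1, 2, 0, 1, 2, 0], 1297), (25, [1, 3, 0, 1, 3, 0], 1215)], 184), ([(57, [1, 2, 0, 2, 2, 1, 3, 0, 1,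 3, 0, 3, 3, 1, 3, 0, 1, 3, 0], 61), (79, [2, 1, 3, 0, 3, 3, 1, 3, 0, 1, 3, 0], 321), (84, [2, 1, 2, 0, 2, 1, 3, 0, 3, 1, 3, 0, 2, 1, 2, 0, 1, 2, 0, 2, 1, 2, 0, 1, 2, 0], 0)], 16), ([(58, [2, 1, 3, 0, 2, 2, 1, 2, 0, 2, 2, 1, 3, 0, 1, 3, 0, 3, 1, 2, 0], 212), (24, [2, 1, 2, 0, 2, 1, 3, 0, 1, 3, 0, 3, 1, 3, 0, 2, 1, 2, 0, 1, 2, 0], 3110), (90, [1, 3, 0, 1, 3, 0], 279)], 146), ([(57, [2, 1, 3, 0, 3, 1, 3, 0, 1, 3, 0, 2, 2, 1, 3, 0, 2, 2], 80), (84, [2, 2, 1, 3, 0, 1, 3, 0, 3, 3, 1, 3, 0, 3], 249), (59, [2, 1, 3, 0, 2, 2, 1, 2, 0, 2, 2, 1, 3, 0, 3, 1, 3, 0, 2], 63)], 204), ([(75, [3, 1, 2, 0, 3, 1, 3, 0, 3, 3, 1, 3, 0, 2, 2], 110), (72, [3, 3, 1, 3, 0, 1, 3, 0, 2, 1, 2, 0, 1, 2, 0, 2, 1,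 2, 0, 1, 2, 0, 3, 3], 31), (68, [2, 1, 2, 0, 1, 2, 0, 1, 2, 0], 206)], 146), ([(74, [3, 1, 2, 0, 3, 1, 3, 0, 3, 3, 1, 3, 0, 2, 2], 110), (61, [1, 2, 0, 2, 2, 2, 1, 3, 0, 3, 1, 2, 0, 2], 71), (99, [1, 3, 0, 1, 3, 0], 8366)], 0), ([(55, [2, 1, 3, 0, 1, 3, 0, 3, 1, 3, 0, 2, 1, 2, 0, 2, 2, 1, 2, 0, 1, 2, 0, 1, 2, 0], 41), (93, [2, 2, 1, 2, 0, 2, 1, 3, 0, 3, 3, 1, 3, 0, 3, 1, 2, 0, 2], 254), (64, [1, 2, 0, 2, 2, 1, 3, 0, 1, 3, 0, 3, 1, 3, 0, 2, 1, 2, 0, 1, 2, 0, 3], 97)], 229), ([(60, [2, 2, 2, 1, 2, 0, 1, 2, 0, 2, 1, 2, 0, 3, 1, 3, 0, 3, 3, 1, 2, 0], 174), (88, [3, 1, 3, 0], 302), (81, [1, 3, 0, 1, 3, 0], 238)], 0), ([(70, [1, 2, 0, 1, 2, 0, 1, 2, 0, 2, 1, 2, 0, 3, 1, 3, 0, 2], 154), (54,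 [3, 3, 1, 2, 0, 2, 2, 1, 3, 0, 3, 1, 2, 0, 2, 1, 3, 0, 3, 3], 143), (86, [3, 1, 2, 0, 1, 2, 0, 2, 1, 3, 0, 2, 2, 1, 3, 0, 3, 3], 214)], 88), ([(56, [3, 1, 2, 0, 1, 2, 0, 2, 1, 3, 0, 2, 2, 1, 3, 0, 3, 1, 3, 0], 57), (43, [2, 2, 1, 2, 0, 3, 3, 1, 3, 0, 2, 1, 2, 0, 1, 2, 0, 2], 988), (44, [2, 2, 2, 1, 2, 0, 1, 2, 0, 2, 1, 2, 0, 3, 1, 3, 0, 3, 3, 1, 2, 0], 1219)], 104), ([(56, [1, 2, 0, 2, 1, 2, 0, 3, 1, 3, 0, 2, 1, 2, 0, 2, 2, 1, 2, 0, 3], 198), (45, [1, 2, 0, 3, 1, 3, 0, 2, 1, 2, 0, 3, 1, 3, 0, 3, 1, 2, 0, 3], 1396), (97, [1, 3, 0, 1, 3, 0], 138)], 0), ([(72, [3, 1, 2, 0, 3, 1, 3, 0, 3, 3, 1, 3, 0, 2, 2], 62), (73, [1, 2, 0, 2, 1, 2, 0, 1, 2, 0, 1, 2, 0, 3, 1, 3, 0, 1, 3, 0, 2, 1, 2,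 0], 60), (69, [1, 3, 0, 1, 3, 0], 211)], 110), ([(73, [3, 1, 2, 0, 3, 1, 3, 0, 3, 3, 1, 3, 0, 2, 2], 62), (74, [2, 2, 2, 1, 2, 0, 3, 1, 3, 0, 2, 1, 2, 0, 1, 2, 0, 3, 1, 3, 0, 3], 158), (62, [1, 2, 0, 3, 1, 3, 0, 1, 3, 0], 132)], 146), ([(65, [1, 3, 0, 3, 1, 3, 0, 2, 2, 1, 3, 0, 3, 3, 1, 3, 0, 2], 105), (91, [2, 1, 3, 0, 3, 1, 2, 0, 2, 1, 3, 0, 3, 3], 168), (93, [2, 2, 2, 1, 2, 0, 1, 2, 0, 2, 1, 2, 0, 3, 1, 3, 0, 3, 3, 1, 2, 0], 246)], 221), ([(65, [1, 3, 0, 3, 1, 2, 0, 3], 143), (89, [2, 1, 3, 0, 1, 3, 0, 3, 1, 3, 0, 2, 1, 2, 0, 2, 2, 1, 3, 0, 1, 3, 0, 3], 141), (70, [3, 3, 1, 3, 0, 2, 1, 2, 0, 3, 1, 3, 0, 2, 1, 2, 0, 2, 1, 3, 0, 1, 3, 0], 93)], 146), ([(63, [2, 1, 3, 0, 3, 1, 2, 0,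 2, 2, 1, 3, 0], 164), (89, [1, 2, 0, 2, 1, 3, 0, 1, 3, 0, 3, 1, 2, 0, 2, 2, 1, 3, 0, 3], 259), (72, [2, 1, 2, 0, 1, 2, 0, 1, 2, 0, 3, 3, 1, 3, 0, 2, 2, 1, 2, 0, 1, 2, 0], 124)], 40), ([(64, [2, 2, 1, 2, 0, 3, 1, 3, 0, 1, 3, 0, 3, 3, 1, 2, 0], 188), (73, [2, 1, 2, 0, 1, 2, 0, 3, 3, 1, 3, 0, 2, 1, 2, 0, 1, 2, 0, 2, 1, 2, 0, 2], 189), (73, [2, 1, 2, 0, 3, 3, 1, 2, 0, 1, 2, 0, 2, 1, 2, 0, 1, 2, 0, 1, 2, 0, 3, 1, 3, 0, 1, 3, 0], 64)], 34), ([(65, [2, 1, 2, 0, 2, 1, 3, 0, 1, 3, 0, 2], 62), (90, [3, 3, 1, 3, 0, 2, 2, 1, 2, 0, 3, 1, 3, 0, 2, 1, 2, 0, 2], 81), (74, [3, 1, 3, 0, 1, 3, 0, 3, 1, 3, 0, 2, 1, 2, 0, 2, 1, 3, 0, 3, 1, 2, 0], 152)], 159), ([(65, [2, 1, 2, 0, 1, 2, 0, 1, 2, 0, 2, 2,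 1, 2, 0, 2, 2, 1, 2, 0], 178), (90, [3, 1, 3, 0, 1, 3, 0, 3, 1, 2, 0, 1, 2, 0, 1, 2, 0, 2, 1, 2, 0, 2], 245), (75, [2, 2, 1, 2, 0, 3, 3, 1, 3, 0, 1, 3, 0, 3, 1, 2, 0, 2, 1, 2, 0, 1, 2, 0, 1, 2, 0], 127)], 159), ([(82, [2, 1, 3, 0, 3, 1, 2, 0, 2, 1, 2, 0, 1, 2, 0, 1, 2, 0, 2, 1, 3, 0], 197), (31, [2, 2, 1, 2, 0, 1, 2, 0, 3, 3, 1, 2, 0, 1, 2, 0], 819), (11, [1, 3, 0, 1, 3, 0], 37112)], 0), ([(83, [2, 1, 3, 0, 3, 1, 2, 0, 2, 1, 2, 0, 1, 2, 0, 1, 2, 0, 2, 1, 3, 0], 379), (85, [1, 2, 0, 2, 1, 3, 0, 3, 1, 2, 0, 1, 2, 0, 1, 2, 0, 3, 1, 3, 0, 2, 1, 2, 0], 111), (78, [2, 1, 3, 0, 3, 3, 1, 3, 0, 1, 3, 0], 109)], 49), ([(84, [2, 2, 1, 2, 0, 1, 2, 0, 2, 2, 1, 3, 0, 1, 3, 0, 3, 1, 3, 0, 2], 130),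 (57, [1, 3, 0, 3, 1, 2, 0, 3], 234), (79, [3, 1, 2, 0, 3, 3], 362)], 185), ([(85, [2, 2, 1, 2, 0, 1, 2, 0, 2, 2, 1, 3, 0, 1, 3, 0, 3, 1, 3, 0, 2], 130), (83, [1, 3, 0, 2, 1, 2, 0, 1, 2, 0, 3, 3, 1, 2, 0, 1, 2, 0, 2, 2], 90), (76, [2, 1, 3, 0, 2, 1, 2, 0], 421)], 49), ([(88, [2, 1, 3, 0, 3, 1, 2, 0, 2, 1, 2, 0, 1, 2, 0, 1, 2, 0, 2, 1, 3, 0], 201), (89, [2, 1, 3, 0, 1, 3, 0, 3, 1, 3, 0, 2, 1, 2, 0, 2, 2, 1, 2, 0, 1, 2, 0, 1, 2, 0], 382), (63, [1, 3, 0, 1, 3, 0], 7)], 462), ([(89, [2, 1, 2, 0, 2, 1, 3, 0, 2, 1, 2, 0, 2, 1, 2, 0, 1, 2, 0, 1, 2, 0, 2], 185), (58, [3, 1, 3, 0], 14), (24, [1, 3, 0, 1, 3, 0], 4561)], 300), ([(89, [1, 2, 0, 2, 1, 3, 0, 3, 1, 2, 0, 1, 2, 0, 1, 2, 0, 3, 1, 3,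 0, 2, 1, 2, 0], 46), (60, [2, 1, 2, 0, 3, 3, 1, 3, 0, 3, 1, 2, 0, 2, 1, 2, 0, 3, 1, 3, 0, 3, 1, 2, 0], 204), (83, [2, 1, 3, 0, 2, 2, 2, 1, 2, 0, 3, 1, 3, 0, 2, 1, 2, 0, 2], 394)], 411), ([(88, [2, 1, 3, 0, 2, 2, 1, 2, 0, 2, 2, 1, 3, 0, 1, 3, 0, 3, 1, 2, 0], 499), (82, [1, 2, 0, 3, 1, 3, 0, 2, 1, 2, 0, 3, 1, 3, 0, 3], 248), (40, [1, 3, 0, 1, 3, 0], 114)], 0), ([(82, [1, 3, 0, 2, 1, 2, 0, 1, 2, 0, 3, 3, 1, 2, 0, 1, 2, 0, 2, 2], 355), (42, [2, 1, 3, 0, 3, 3, 1, 2, 0, 3, 1, 3, 0, 3, 3, 1, 2, 0, 2, 1, 2, 0], 213), (85, [1, 2, 0, 2, 2, 1, 3, 0, 1, 3, 0, 3, 1, 3, 0, 2, 1, 2, 0, 1, 2, 0], 51)], 230), ([(83, [2, 2, 1, 3, 0, 2, 1, 2, 0, 3, 1, 3, 0, 2, 1, 2, 0, 1, 2, 0], 228), (81, [3, 3, 1,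 3, 0, 2, 1, 2, 0, 3, 1, 3, 0, 2], 180), (57, [1, 2, 0, 2, 2, 1, 2, 0, 3, 3, 1, 2, 0, 1, 2, 0], 43)], 433), ([(90, [2, 2, 2, 1, 2, 0, 2, 1, 3, 0, 2, 1, 2, 0, 2, 1, 3, 0, 3, 1, 3, 0, 1, 3, 0, 2], 118), (56, [3, 3, 1, 2, 0, 3], 111), (42, [3, 3, 1, 2, 0, 1, 2, 0, 3, 1, 3, 0], 1033)], 432), ([(91, [1, 2, 0, 2, 2, 1, 3, 0, 1, 3, 0, 3, 1, 3, 0, 2, 1, 2, 0, 2, 2, 2, 1, 2, 0], 232), (93, [3, 3], 246), (65, [3, 1, 2, 0, 3, 1, 3, 0, 3, 1, 2, 0, 2, 1, 3, 0, 3, 1, 2, 0], 53)], 7), ([(88, [2, 1, 3, 0, 2, 2, 1, 2, 0, 2, 2, 1, 3, 0, 3, 1, 3, 0, 2], 432), (81, [3, 1, 2, 0, 1, 2, 0, 2, 1, 3, 0, 2, 2, 1, 3, 0, 3, 1, 3, 0], 16), (54, [1, 3, 0, 1, 3, 0], 116)], 26), ([(89, [2, 1, 3, 0, 2, 2, 1, 2, 0,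 2, 2, 1, 3, 0, 3, 1, 3, 0, 2], 432), (63, [2, 1, 3, 0, 2, 1, 2, 0, 2, 1, 2, 0, 1, 2, 0, 3, 3, 1, 3, 0, 2], 7), (88, [2, 1, 2, 0, 1, 2, 0, 2, 1, 2, 0, 1, 2, 0, 3, 3, 1, 2, 0, 1, 2, 0, 2, 1, 2, 0, 1, 2, 0, 2], 493)], 238), ([(81, [2, 1, 2, 0, 2, 1, 3, 0, 1, 3, 0, 3, 1, 3, 0, 2, 1, 2, 0, 1, 2, 0], 97), (55, [2, 2, 1, 3, 0, 3, 3, 1, 2, 0, 3, 3, 1, 3, 0, 3, 3, 1, 2, 0, 2], 76), (95, [2, 2, 1, 3, 0, 2, 2, 1, 2, 0, 2, 2, 1, 3, 0, 3, 1, 3, 0, 2, 2], 606)], 49), ([(80, [2, 2, 1, 2, 0, 2, 2, 1, 3, 0, 3, 3, 1, 3, 0, 2, 2], 30), (25, [2, 1, 3, 0, 3, 1, 3, 0, 1, 3, 0, 2, 2, 1, 3, 0, 2, 2], 1549), (60, [1, 3, 0, 1, 3, 0], 33)], 0), ([(94, [3, 1, 2, 0, 3, 3, 1, 2, 0, 3], 375), (37, [3, 3], 776),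 (55, [2, 1, 2, 0, 1, 2, 0, 2, 1, 2, 0, 1, 2, 0, 3, 3, 1, 2, 0, 1, 2, 0, 2, 1, 2, 0, 1, 2, 0, 2], 140)], 297), ([(94, [2, 1, 3, 0, 3, 3, 1, 2, 0, 3, 3, 1, 3, 0, 3, 3, 1, 2, 0], 580), (39, [2, 2, 1, 2, 0, 1, 2, 0, 3, 3, 1, 2, 0, 1, 2, 0], 725), (45, [1, 3, 0, 1, 3, 0], 1001)], 0), ([(96, [2, 1, 3, 0, 3, 1, 2, 0, 2, 1, 2, 0, 1, 2, 0, 1, 2, 0, 2, 1, 3, 0], 281), (97, [1, 2, 0, 1, 2, 0, 2, 1, 2, 0, 3, 1, 3, 0, 1, 3, 0, 3, 1, 3, 0, 2, 1, 2, 0], 261), (71, [2, 1, 3, 0, 3, 1, 2, 0, 2, 1, 2, 0, 1, 2, 0, 1, 2, 0], 204)], 411), ([(92, [3, 1, 3, 0, 3, 1, 2, 0, 2, 1, 3, 0, 3, 1, 2, 0], 497), (65, [2, 1, 3, 0, 3, 1, 2, 0, 2, 1, 3, 0, 3, 3], 43), (91, [3, 3, 1, 2, 0, 3], 186)], 297), ([(94, [2, 1,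 3, 0, 1, 3, 0, 3, 1, 3, 0, 2, 1, 2, 0, 2, 2, 1, 3, 0, 3, 1, 3, 0], 341), (41, [2, 1, 2, 0, 2, 2, 1, 2, 0, 1, 2, 0, 3, 1, 3, 0, 2, 1, 2, 0, 2, 1, 2, 0], 947), (66, [1, 3, 0, 1, 3, 0], 137)], 522), ([(93, [1, 2, 0, 3, 1, 3, 0, 2, 1, 2, 0, 3, 1, 3, 0, 3, 1, 2, 0, 3], 180), (55, [2, 2, 1, 3, 0, 3, 3, 1, 2, 0, 1, 2, 0, 1, 2, 0, 3, 1, 3, 0, 3, 1, 2, 0, 2, 1, 2, 0], 56), (96, [3, 3, 1, 3, 0, 2, 1, 2, 0, 3, 1, 3, 0, 2, 1, 2, 0, 2, 1, 3, 0, 1, 3, 0], 48)], 517), ([(96, [1, 2, 0, 1, 2, 0, 2, 1, 2, 0, 3, 1, 3, 0, 2, 2], 623), (98, [3, 3, 1, 2, 0, 3, 3, 1, 2, 0, 1, 2, 0, 1, 2, 0, 3], 339), (98, [2, 1, 2, 0, 1, 2, 0, 2, 1, 3, 0, 1, 3, 0, 2], 164)], 20), ([(99, [1, 2, 0, 2, 2, 2, 1, 3, 0, 3, 1,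 2, 0, 2], 26963), (75, [2, 2, 1, 3, 0, 3, 3, 1, 2, 0, 1, 2, 0, 3, 3, 1, 3, 0], 109), (61, [1, 3, 0, 1, 3, 0], 157)], 2342), ([(99, [1, 3, 0, 2, 1, 2, 0, 2, 1, 3, 0, 2, 2], 24811), (61, [1, 3, 0, 2, 1, 2, 0, 2, 1, 3, 0, 2, 2], 184), (100, [1, 3, 0, 1, 3, 0], 8243)], 26170)],
[([(0, [], 0), (5, [], 0), (2, [], 24400)], 0), ([(5, [], 14092), (2, [], 24400), (0, [], 0)], 41912), ([(6, [], 14092), (14, [], 2300), (3, [], 24400)], 41912), ([(7, [], 1750), (26, [], 9832), (4, [], 24400)], 7824), ([(8, [], 1750), (12, [], 2300), (1, [], 24400)], 7824), ([(9, [3, 3, 1, 2, 0, 2], 33207), (19, [1, 3, 0, 1, 3, 0, 2, 1, 2, 0], 4677), (12, [2, 2], 2745)], 0), ([(9, [2, 1, 2, 0, 3, 1, 3, 0, 2, 1,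 2, 0, 3], 110486), (17, [3, 3, 1, 2, 0, 2], 3166), (5, [2, 2], 5625)], 0), ([(10, [3, 3, 1, 2, 0, 2], 44539), (34, [2, 1, 2, 0, 2, 1, 3, 0, 2, 1, 2, 0, 3, 3], 732), (14, [2, 2], 2947)], 0), ([(10, [2, 1, 2, 0, 3, 1, 3, 0, 2, 1, 2, 0, 3], 14160), (36, [1, 3, 0, 1, 3, 0, 2, 1, 2, 0], 570), (26, [2, 2], 31747)], 0), ([(11, [1, 2, 0, 2, 1, 2, 0, 2, 2, 1, 2, 0], 73721), (80, [1, 2, 0, 2, 1, 2, 0, 2, 2, 1, 3, 0, 1, 3, 0, 2, 2, 1, 3, 0], 103), (17, [2, 2], 3697)], 0), ([(11, [1, 2, 0, 1, 2, 0, 2, 2, 1, 3, 0, 1, 3, 0], 27422), (82, [1, 2, 0, 2, 1, 2, 0, 2, 2, 1, 3, 0, 1, 3, 0, 2, 2, 1, 3, 0], 200), (31, [2, 2], 998)], 94616), ([(10, [1, 2, 0, 2, 1, 3, 0, 2, 2, 2], 469), (40, [1, 3, 0, 2, 2,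 1, 2, 0, 2, 2, 1, 2, 0, 3, 1, 3, 0], 772), (77, [2, 2], 394)], 0), ([(18, [2, 1, 2, 0, 2, 1, 3, 0, 2, 1, 2, 0, 3, 3], 3474), (50, [1, 3, 0, 1, 3, 0, 2, 1, 2, 0], 88), (27, [2, 2], 31747)], 0), ([(19, [2, 1, 2, 0, 2, 1, 3, 0, 2, 1, 2, 0, 3, 3], 3474), (17, [2, 1, 2, 0, 3, 1, 3, 0, 2, 1, 2, 0, 3], 1258), (6, [2, 2], 110486)], 0), ([(20, [2, 1, 2, 0, 2, 1, 3, 0, 2, 1, 2, 0, 3, 3], 2951), (49, [2, 1, 2, 0, 2, 1, 3, 0, 2, 1, 2, 0, 3, 3], 14), (15, [2, 2], 2947)], 0), ([(21, [2, 1, 2, 0, 2, 1, 3, 0, 2, 1, 2, 0, 3, 3], 2951), (31, [2, 1, 2, 0, 3, 1, 3, 0, 2, 1, 2, 0, 3], 806), (8, [2, 2], 6272)], 0), ([(24, [1, 2, 0, 2, 1, 2, 0, 2, 2, 1, 3, 0, 1, 3, 0, 2, 2, 1, 3, 0], 2871), (77, [1, 2, 0,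 2, 1, 2, 0, 2, 2, 1, 2, 0], 268), (9, [2, 2], 96100)], 2985), ([(24, [2, 2, 1, 2, 0, 2, 1, 3, 0, 1, 3, 0, 3, 1, 2, 0, 1, 2, 0, 2, 1, 2, 0], 1135), (87, [2, 1, 2, 0, 2, 1, 2, 0, 3, 1, 3, 0, 3, 3, 1, 2, 0, 1, 2, 0, 2], 28), (33, [2, 2], 954)], 4192), ([(24, [3, 3, 1, 3, 0, 2, 1, 2, 0, 2, 2, 1, 2, 0, 1, 2, 0], 2289), (80, [3, 1, 2, 0, 2, 1, 3, 0, 2, 2, 1, 2, 0, 1, 2, 0, 1, 2, 0, 3], 53), (19, [2, 1, 2, 0, 2, 2, 2, 1, 2, 0, 3, 3], 4082)], 2648), ([(24, [2, 1, 3, 0, 3, 3, 1, 3, 0, 2, 1, 2, 0, 2, 1, 3, 0, 3, 1, 3, 0], 69), (89, [3, 1, 2, 0, 2, 1, 2, 0, 1, 2, 0, 2, 1, 3, 0, 1, 3, 0, 3, 3], 498), (47, [2, 2], 151)], 0), ([(25, [2, 1, 3, 0, 3, 1, 2, 0, 1, 2, 0, 2, 2], 2556), (67, [3, 1, 2,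 0, 1, 2, 0, 2, 1, 3, 0, 3, 3, 1, 3, 0], 63), (34, [2, 2], 943)], 0), ([(25, [2, 1, 2, 0, 3, 1, 3, 0, 2, 1, 2, 0, 3], 4816), (59, [1, 2, 0, 3, 1, 3, 0, 2, 2, 2, 1, 2, 0, 1, 2, 0, 1, 2, 0, 3], 7), (49, [2, 2], 211)], 0), ([(25, [2, 1, 2, 0, 1, 2, 0, 1, 2, 0, 2, 1, 2, 0], 2288), (58, [2, 2, 1, 2, 0, 2, 2, 1, 2, 0, 3, 1, 3, 0, 3], 34), (23, [1, 2, 0, 1, 2, 0, 2, 1, 3, 0, 3, 1, 3, 0, 1, 3, 0, 3], 49)], 2318), ([(25, [3, 1, 2, 0, 3, 1, 3, 0, 1, 3, 0, 3, 1, 3, 0], 1830), (56, [2, 1, 2, 0, 2, 2, 1, 2, 0, 3, 1, 3, 0, 2, 2], 151), (30, [1, 2, 0, 1, 2, 0, 3, 1, 3, 0, 2, 1, 2, 0], 1151)], 2983), ([(25, [1, 2, 0, 1, 2, 0, 3, 1, 3, 0, 3, 3, 1, 2, 0, 2, 2, 1, 3, 0], 2923), (54, [3, 1, 2, 0, 2, 1,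 2, 0, 2, 2, 1, 2, 0, 3, 1, 3, 0], 234), (80, [2, 2, 1, 2, 0, 2, 1, 3, 0, 1, 3, 0, 2, 1, 2, 0, 1, 2, 0, 2, 1, 2, 0], 75)], 1873), ([(25, [1, 2, 0, 2, 1, 3, 0, 2, 1, 2, 0, 1, 2, 0, 3, 3, 1, 3, 0], 950), (74, [2, 1, 3, 0, 1, 3, 0, 3, 1, 2, 0, 2, 1, 3, 0, 3, 3, 1, 2, 0, 1, 2, 0, 2], 156), (58, [2, 2], 152)], 4816), ([(28, [1, 3, 0, 1, 3, 0, 2, 1, 2, 0], 12494), (31, [3, 3, 1, 2, 0, 2], 1018), (7, [2, 2], 99160)], 0), ([(29, [1, 3, 0, 1, 3, 0, 2, 1, 2, 0], 12494), (47, [2, 1, 2, 0, 2, 1, 3, 0, 2, 1, 2, 0, 3, 3], 82), (13, [2, 2], 3779)], 0), ([(29, [1, 3, 0, 1, 3, 0, 2, 1, 2, 0, 1, 2, 0, 3, 1, 3, 0, 3, 3], 71879), (67, [2, 1, 2, 0, 2, 1, 3, 0, 2, 2, 1, 3, 0, 3, 3, 1, 2, 0, 2], 109), (36,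 [2, 2], 524)], 0), ([(28, [1, 3, 0, 1, 3, 0, 2, 1, 2, 0, 1, 2, 0, 3, 1, 3, 0, 3, 3], 57343), (44, [2, 2, 1, 2, 0, 3, 3, 1, 3, 0, 2, 1, 2, 0, 1, 2, 0, 3], 459), (50, [2, 2], 168)], 0), ([(40, [1, 2, 0, 2, 1, 2, 0, 2, 2, 1, 3, 0, 1, 3, 0, 2, 2, 1, 3, 0], 914), (77, [1, 2, 0, 1, 2, 0, 2, 2, 1, 3, 0, 1, 3, 0], 406), (10, [2, 2], 53819)], 0), ([(41, [1, 2, 0, 2, 1, 2, 0, 2, 2, 1, 3, 0, 1, 3, 0, 2, 2, 1, 3, 0], 741), (58, [1, 3, 0, 3, 1, 3, 0, 1, 3, 0, 3, 3, 1, 3, 0, 3, 3, 1, 2, 0], 4), (22, [2, 1, 2, 0, 3, 3], 400)], 800), ([(42, [1, 2, 0, 2, 1, 2, 0, 2, 2, 1, 3, 0, 1, 3, 0, 2, 2, 1, 3, 0], 720), (80, [2, 1, 2, 0, 3, 1, 3, 0, 2, 2, 2], 194), (16, [2, 2], 2134)], 1337), ([(43, [1, 2, 0,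 2, 1, 2, 0, 2, 2, 1, 3, 0, 1, 3, 0, 2, 2, 1, 3, 0], 976), (43, [3, 3, 1, 2, 0, 2, 2, 1, 3, 0, 2, 1, 2, 0, 3, 1, 3, 0, 1, 3, 0], 451), (32, [2, 2], 256)], 752), ([(44, [2, 1, 3, 0, 3, 1, 2, 0, 2, 2, 1, 3, 0, 3, 3, 1, 3, 0], 445), (58, [2, 1, 3, 0, 3, 1, 2, 0, 3, 1, 3, 0, 3, 3, 1, 3, 0], 145), (21, [2, 1, 2, 0, 2, 2, 2, 1, 2, 0, 3, 3], 3280)], 459), ([(44, [1, 2, 0, 1, 2, 0, 2, 2, 1, 3, 0, 1, 3, 0], 471), (50, [1, 3, 0, 1, 3, 0, 2, 1, 2, 0, 1, 2, 0, 3, 1, 3, 0, 3, 3], 100), (28, [2, 2], 57663)], 569), ([(44, [3, 1, 2, 0, 2, 1, 3, 0, 2, 2, 1, 2, 0, 1, 2, 0, 1, 2, 0, 3], 752), (70, [1, 2, 0, 1, 2, 0, 2, 2, 1, 3, 0, 2, 1, 2, 0, 2, 1, 2, 0, 3, 3], 221), (53, [2, 2], 86)], 0), ([(45, [2,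 1, 3, 0, 3, 1, 2, 0, 2, 2, 1, 3, 0, 3, 3, 1, 3, 0], 637), (92, [3, 1, 2, 0, 2, 1, 2, 0, 1, 2, 0, 2, 1, 3, 0, 1, 3, 0, 3, 3], 331), (46, [2, 2], 151)], 0), ([(45, [1, 2, 0, 1, 2, 0, 2, 2, 1, 3, 0, 1, 3, 0], 397), (94, [3, 1, 2, 0, 2, 1, 3, 0, 2, 2, 1, 2, 0, 1, 2, 0, 1, 2, 0, 3], 510), (39, [2, 2], 726)], 668), ([(45, [3, 1, 2, 0, 2, 1, 3, 0, 2, 2, 1, 2, 0, 1, 2, 0, 1, 2, 0, 3], 726), (97, [1, 2, 0, 1, 2, 0, 3, 1, 3, 0, 2, 1, 2, 0, 1, 2, 0, 3, 1, 3, 0], 282), (51, [2, 2], 114)], 0), ([(41, [1, 3, 0, 2, 2, 1, 2, 0, 2, 1, 3, 0, 3, 3, 1, 2, 0, 3, 1, 3, 0], 209), (59, [3, 1, 2, 0, 2, 1, 2, 0, 2, 2, 1, 2, 0, 3, 1, 3, 0], 222), (56, [2, 2], 184)], 1341), ([(42, [1, 3, 0, 2, 2, 1, 2, 0, 2,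 1, 3, 0, 3, 3, 1, 2, 0, 3, 1, 3, 0], 1305), (88, [2, 2, 2, 1, 3, 0, 3, 3, 1, 3, 0, 2, 1, 2, 0, 3, 1, 3, 0, 3], 338), (82, [2, 2], 21)], 0), ([(42, [2, 2, 1, 2, 0, 1, 2, 0, 2, 2, 1, 2, 0, 1, 2, 0], 42), (82, [2, 1, 3, 0, 3, 3, 1, 3, 0, 3, 1, 2, 0, 1, 2, 0, 2, 1, 3, 0], 126), (43, [2, 1, 3, 0, 2, 1, 2, 0, 2, 2, 1, 3, 0, 2, 2, 1, 3, 0], 1274)], 344), ([(40, [1, 3, 0, 2, 2, 1, 2, 0, 2, 1, 3, 0, 3, 3, 1, 2, 0, 3, 1, 3, 0], 1177), (88, [2, 2, 2, 1, 2, 0, 2, 1, 3, 0, 2, 1, 2, 0, 3, 1, 3, 0, 1, 3, 0, 2, 1, 2, 0, 2, 1, 3, 0], 300), (87, [2, 2, 1, 2, 0, 3, 1, 3, 0, 1, 3, 0, 3, 1, 3, 0, 2, 2, 1, 2, 0], 76)], 786), ([(41, [2, 1, 3, 0, 3, 1, 3, 0, 1, 3, 0, 2, 1, 2, 0, 1, 2, 0], 455), (72, [2, 1,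 3, 0, 3, 1, 2, 0, 3, 3, 1, 2, 0, 1, 2, 0, 2, 1, 2, 0, 3, 3], 78), (67, [2, 1, 3, 0, 3, 1, 2, 0, 2, 1, 3, 0, 2, 2], 103)], 537), ([(43, [2, 1, 3, 0, 3, 1, 3, 0, 1, 3, 0, 2, 1, 2, 0, 1, 2, 0], 541), (45, [2, 1, 3, 0, 3, 1, 3, 0, 1, 3, 0, 3, 3, 1, 3, 0, 3, 1, 2, 0, 1, 2, 0], 181), (94, [2, 2], 442)], 0), ([(54, [3, 1, 2, 0, 2, 1, 2, 0, 1, 2, 0, 2, 1, 3, 0, 1, 3, 0, 3, 3], 174), (80, [1, 2, 0, 1, 2, 0, 2, 2, 1, 3, 0, 1, 3, 0], 222), (18, [2, 2], 4130)], 0), ([(55, [3, 1, 2, 0, 2, 1, 2, 0, 1, 2, 0, 2, 1, 3, 0, 1, 3, 0, 3, 3], 174), (94, [1, 2, 0, 1, 2, 0, 3, 1, 3, 0, 2, 1, 2, 0, 1, 2, 0, 3, 1, 3, 0], 379), (37, [2, 1, 2, 0, 2, 2, 2, 1, 2, 0, 3, 3], 815)], 146), ([(59, [3, 1, 2, 0, 2, 1,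 2, 0, 1, 2, 0, 2, 1, 3, 0, 1, 3, 0, 3, 3], 150), (58, [2, 1, 3, 0, 3, 1, 2, 0, 1, 2, 0, 2, 2], 130), (20, [2, 2], 2833)], 0), ([(60, [3, 1, 2, 0, 2, 1, 2, 0, 1, 2, 0, 2, 1, 3, 0, 1, 3, 0, 3, 3], 150), (90, [1, 2, 0, 1, 2, 0, 3, 1, 3, 0, 2, 1, 2, 0, 1, 2, 0, 3, 1, 3, 0], 491), (48, [2, 1, 2, 0, 2, 2, 2, 1, 2, 0, 3, 3], 169)], 132), ([(66, [1, 2, 0, 1, 2, 0, 3, 1, 3, 0, 2, 1, 2, 0, 1, 2, 0, 3, 1, 3, 0], 64), (94, [1, 2, 0, 1, 2, 0, 2, 2, 1, 3, 0, 1, 3, 0], 471), (38, [2, 2], 449)], 0), ([(67, [1, 2, 0, 1, 2, 0, 3, 1, 3, 0, 2, 1, 2, 0, 1, 2, 0, 3, 1, 3, 0], 64), (36, [1, 3, 0, 1, 3, 0, 2, 1, 2, 0, 1, 2, 0, 3, 1, 3, 0, 3, 3], 519), (29, [2, 2], 63414)], 0), ([(70, [1, 2, 0, 1, 2, 0, 3,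 1, 3, 0, 2, 1, 2, 0, 1, 2, 0, 3, 1, 3, 0], 81), (67, [2, 1, 3, 0, 3, 1, 2, 0, 2, 1, 2, 0, 2, 2, 1, 3, 0, 1, 3, 0], 204), (35, [2, 2], 1072)], 48), ([(71, [1, 2, 0, 1, 2, 0, 3, 1, 3, 0, 2, 1, 2, 0, 1, 2, 0, 3, 1, 3, 0], 81), (93, [2, 2, 1, 2, 0, 3, 3, 1, 3, 0, 2, 1, 2, 0, 1, 2, 0, 3], 624), (52, [2, 2], 48)], 0), ([(54, [2, 1, 2, 0, 1, 2, 0, 2, 1, 2, 0, 3, 3, 1, 2, 0, 3], 12), (91, [3, 3, 1, 2, 0, 2, 2, 1, 3, 0, 3, 1, 3, 0], 268), (92, [2, 2], 457)], 0), ([(55, [2, 1, 2, 0, 1, 2, 0, 2, 1, 2, 0, 3, 3, 1, 2, 0, 3], 12), (95, [1, 2, 0, 2, 1, 2, 0, 1, 2, 0, 2, 2, 1, 3, 0, 1, 3, 0, 3, 1, 3, 0, 1, 3, 0, 3], 10), (89, [2, 2], 486)], 0), ([(60, [2, 1, 2, 0, 2, 2, 2, 1, 2, 0, 1, 2, 0, 2, 1,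 3, 0, 1, 3, 0], 131), (87, [3, 1, 2, 0, 2, 1, 3, 0, 3, 1, 2, 0, 1, 2, 0, 1, 2, 0], 35), (41, [2, 1, 3, 0, 2, 1, 2, 0, 2, 2, 1, 3, 0, 2, 2, 1, 3, 0], 1153)], 29), ([(74, [2, 2, 1, 2, 0, 2, 1, 2, 0, 3, 1, 3, 0, 1, 3, 0, 3, 1, 3, 0, 2], 231), (58, [1, 2, 0, 2, 1, 3, 0, 2, 1, 2, 0, 1, 2, 0, 3, 3, 1, 3, 0], 155), (25, [2, 2], 1540)], 184), ([(74, [2, 2, 1, 2, 0, 3, 1, 3, 0, 3, 1, 2, 0, 1, 2, 0, 2, 2, 1, 2, 0, 2, 1, 3, 0], 127), (60, [1, 2, 0, 3, 1, 3, 0, 1, 3, 0, 3, 1, 2, 0, 2, 1, 2, 0, 2, 1, 3, 0, 2], 70), (84, [2, 1, 3, 0, 3, 3, 1, 2, 0, 1, 2, 0, 2, 1, 2, 0, 2, 1, 3, 0, 3], 206)], 13), ([(71, [2, 1, 3, 0, 3, 1, 2, 0, 1, 2, 0, 2, 2], 104), (95, [1, 2, 0, 3, 1, 3, 0, 2, 2, 2, 1, 2, 0, 1,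 2, 0], 232), (90, [2, 2], 414)], 146), ([(70, [2, 1, 3, 0, 3, 1, 2, 0, 1, 2, 0, 2, 2], 104), (75, [1, 3, 0, 2, 1, 2, 0, 2, 2, 1, 2, 0, 1, 2, 0, 1, 2, 0, 2, 1, 3, 0], 198), (59, [2, 1, 2, 0, 3, 1, 3, 0, 3, 1, 2, 0, 3, 1, 3, 0], 152)], 208), ([(71, [1, 3, 0, 3, 1, 3, 0, 2, 1, 2, 0, 3, 1, 3, 0, 2, 1, 2, 0, 1, 2, 0], 156), (97, [1, 3, 0, 3, 1, 3, 0, 2, 1, 2, 0, 3, 1, 3, 0, 2, 1, 2, 0, 1, 2, 0], 244), (68, [2, 1, 3, 0, 2, 2], 156)], 146), ([(70, [1, 3, 0, 3, 1, 3, 0, 2, 1, 2, 0, 3, 1, 3, 0, 2, 1, 2, 0, 1, 2, 0], 156), (61, [2, 1, 3, 0, 2, 1, 2, 0], 84), (99, [2, 2], 14390)], 0), ([(55, [2, 1, 2, 0, 3, 1, 3, 0, 2, 1, 2, 0, 2, 2, 1, 3, 0, 2, 2], 36), (93, [1, 2, 0, 2, 2, 2, 1, 2, 0, 3, 3,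 1, 2, 0, 2, 2, 2, 1, 2, 0], 297), (64, [1, 2, 0, 1, 2, 0, 1, 2, 0, 3, 1, 3, 0, 3, 1, 2, 0, 2, 1, 3, 0, 1, 3, 0], 158)], 228), ([(60, [3, 1, 3, 0, 1, 3, 0, 3, 1, 3, 0, 2, 1, 2, 0, 3, 1, 3, 0], 138), (88, [2, 2, 1, 2, 0, 3, 1, 3, 0, 2, 2, 2, 1, 2, 0, 1, 2, 0, 2], 302), (81, [2, 2], 150)], 0), ([(75, [1, 3, 0, 3, 1, 3, 0, 2, 2, 1, 3, 0], 109), (60, [1, 2, 0, 2, 1, 3, 0, 1, 3, 0, 3, 3, 1, 2, 0, 3, 1, 3, 0, 3, 1, 2, 0, 3], 140), (86, [3, 3, 1, 3, 0, 3, 1, 2, 0, 2, 2, 1, 2, 0, 3], 124)], 68), ([(54, [2, 1, 3, 0, 3, 1, 2, 0, 1, 2, 0, 2, 2], 92), (82, [1, 2, 0, 3, 1, 3, 0, 3, 3, 1, 2, 0], 159), (44, [1, 2, 0, 3, 3, 1, 3, 0, 3, 1, 2, 0, 3, 3, 1, 3, 0, 1, 3, 0, 3], 386)], 63), ([(55, [2, 1,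 3, 0, 3, 1, 2, 0, 1, 2, 0, 2, 2], 92), (96, [2, 2, 1, 2, 0, 2, 1, 3, 0, 1, 3, 0, 2, 1, 2, 0, 1, 2, 0, 2, 2], 583), (97, [2, 2], 144)], 0), ([(55, [2, 2, 1, 3, 0, 2, 2, 1, 2, 0, 1, 2, 0, 3, 1, 3, 0, 1, 3, 0, 3, 3, 1, 3, 0, 3], 212), (92, [2, 2, 1, 3, 0, 2, 2, 1, 2, 0, 1, 2, 0, 3, 1, 3, 0, 1, 3, 0, 3, 3, 1, 3, 0, 3], 484), (69, [2, 2], 219)], 110), ([(54, [2, 2, 1, 3, 0, 2, 2, 1, 2, 0, 1, 2, 0, 3, 1, 3, 0, 1, 3, 0, 3, 3, 1, 3, 0, 3], 212), (90, [1, 3, 0, 3, 1, 3, 0, 2, 1, 2, 0, 3, 1, 3, 0, 2, 1, 2, 0, 1, 2, 0], 348), (62, [1, 2, 0, 2], 43)], 146), ([(60, [2, 1, 2, 0, 1, 2, 0, 2, 1, 2, 0, 3, 3, 1, 2, 0, 3], 132), (91, [1, 2, 0, 1, 2, 0, 1, 2, 0, 2, 2, 1, 2, 0, 3, 3, 1, 3, 0], 468), (93,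 [1, 2, 0, 3, 3, 1, 3, 0, 3, 1, 2, 0, 3, 3, 1, 3, 0, 1, 3, 0, 3], 360)], 182), ([(59, [2, 1, 2, 0, 1, 2, 0, 2, 1, 2, 0, 3, 3, 1, 2, 0, 3], 132), (74, [1, 2, 0, 2, 2, 1, 3, 0, 1, 3, 0, 3, 1, 2, 0, 2, 1, 3, 0, 2, 2], 206), (70, [3, 3, 1, 2, 0, 3, 1, 3, 0, 2, 1, 2, 0, 3, 1, 3, 0, 3], 191)], 146), ([(67, [2, 1, 3, 0, 3, 1, 2, 0, 1, 2, 0, 1, 2, 0, 2, 1, 2, 0, 3], 197), (44, [1, 2, 0, 2, 1, 2, 0, 1, 2, 0, 2, 2, 1, 2, 0, 1, 2, 0, 2, 1, 3, 0, 2, 1, 2, 0], 1), (72, [2, 1, 2, 0, 1, 2, 0, 1, 2, 0, 3, 1, 3, 0, 1, 3, 0, 2, 2, 1, 3, 0, 2], 230)], 40), ([(66, [2, 1, 3, 0, 3, 1, 2, 0, 1, 2, 0, 1, 2, 0, 2, 1, 2, 0, 3], 197), (93, [1, 2, 0, 2, 1, 3, 0, 2, 1, 2, 0, 2, 2, 1, 2, 0, 1, 2, 0, 2, 1, 3, 0],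 425), (73, [2, 1, 2, 0, 3, 3, 1, 2, 0, 1, 2, 0, 2, 1, 2, 0, 1, 2, 0, 1, 2, 0, 2], 86)], 34), ([(60, [2, 1, 3, 0, 3, 1, 2, 0, 1, 2, 0, 1, 2, 0, 2, 1, 2, 0, 3], 87), (86, [2, 2, 1, 3, 0, 1, 3, 0, 3, 1, 2, 0, 2, 2, 1, 3, 0, 2, 1, 2, 0], 186), (74, [1, 2, 0, 3, 1, 3, 0, 2, 1, 2, 0, 1, 2, 0, 2, 2, 1, 3, 0], 105)], 68), ([(59, [2, 1, 3, 0, 3, 1, 2, 0, 1, 2, 0, 1, 2, 0, 2, 1, 2, 0, 3], 87), (70, [3, 1, 2, 0, 1, 2, 0, 2, 1, 2, 0, 1, 2, 0, 2, 2, 2, 1, 2, 0, 2], 205), (75, [1, 2, 0, 2, 2, 1, 2, 0, 2, 1, 3, 0, 3, 1, 3, 0, 2, 1, 2, 0, 3], 47)], 68), ([(82, [1, 3, 0, 2, 2, 1, 2, 0, 2, 2, 1, 2, 0, 3, 1, 3, 0], 54), (31, [1, 2, 0, 2, 1, 3, 0, 2, 2, 2], 1039), (11, [2, 2], 67371)], 0), ([(83, [1,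 3, 0, 2, 2, 1, 2, 0, 2, 2, 1, 2, 0, 3, 1, 3, 0], 385), (85, [2, 1, 3, 0, 2, 2, 1, 2, 0, 2, 1, 3, 0, 2, 2, 2], 179), (78, [2, 1, 3, 0], 54)], 49), ([(87, [2, 1, 3, 0, 1, 3, 0, 2, 1, 2, 0, 1, 2, 0, 2, 1, 3, 0, 3], 103), (42, [2, 2, 1, 3, 0, 2, 1, 2, 0, 2, 1, 2, 0, 1, 2, 0, 2, 2, 1, 2, 0], 1213), (79, [2, 1, 2, 0, 1, 2, 0, 2, 1, 3, 0, 2], 458)], 230), ([(86, [1, 2, 0, 2, 1, 3, 0, 1, 3, 0, 2], 107), (63, [1, 2, 0, 2, 1, 3, 0, 1, 3, 0, 2], 50), (76, [1, 2, 0, 2, 1, 3, 0, 1, 3, 0, 2], 462)], 109), ([(88, [1, 3, 0, 2, 2, 1, 2, 0, 2, 2, 1, 2, 0, 3, 1, 3, 0], 90), (89, [2, 1, 2, 0, 3, 1, 3, 0, 2, 1, 2, 0, 2, 2, 1, 3, 0, 2, 2], 496), (63, [2, 2], 1)], 462), ([(89, [2, 1, 2, 0, 2, 1, 2, 0, 3,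 3, 1, 3, 0, 1, 3, 0, 3, 1, 2, 0, 1, 2, 0], 248), (58, [1, 2, 0, 1, 2, 0, 3, 1, 3, 0, 3, 3, 1, 2, 0, 2, 2, 1, 3, 0], 34), (24, [2, 2], 4450)], 300), ([(89, [1, 2, 0, 2, 2, 2, 1, 2, 0, 2, 1, 2, 0, 1, 2, 0, 3, 3, 1, 2, 0, 3, 3], 183), (60, [1, 2, 0, 1, 2, 0, 2, 2, 1, 2, 0, 2, 1, 2, 0, 1, 2, 0, 3, 3, 1, 3, 0, 2], 208), (83, [2, 1, 3, 0, 3, 1, 2, 0, 2, 2, 1, 3, 0, 3, 1, 2, 0, 2, 1, 2, 0], 363)], 312), ([(88, [2, 1, 2, 0, 3, 3, 1, 3, 0, 3, 3, 1, 2, 0, 1, 2, 0, 3, 3, 1, 3, 0], 475), (82, [1, 3, 0, 2, 2, 1, 2, 0, 2, 1, 3, 0, 3, 3, 1, 2, 0, 3, 1, 3, 0], 108), (40, [2, 2], 350)], 0), ([(90, [3, 1, 2, 0, 1, 2, 0, 3, 3, 1, 3, 0, 3, 1, 2, 0, 2, 1, 3, 0, 3], 165), (57, [2, 1, 3, 0, 3, 3, 1, 3, 0,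 3, 3, 1, 2, 0, 2, 2], 118), (85, [3, 3, 1, 3, 0, 2, 2, 1, 3, 0, 2, 1, 2, 0, 2, 1, 2, 0], 65)], 248), ([(91, [3, 1, 2, 0, 1, 2, 0, 3, 3, 1, 3, 0, 3, 1, 2, 0, 2, 1, 3, 0, 3], 165), (97, [1, 2, 0, 2, 1, 2, 0, 2, 1, 3, 0, 1, 3, 0, 2, 1, 2, 0], 593), (57, [2, 1, 3, 0, 2, 1, 2, 0, 2, 2, 2, 1, 2, 0, 3, 3], 232)], 286), ([(90, [1, 2, 0, 2, 2, 1, 3, 0, 1, 3, 0, 2, 2, 1, 2, 0, 2], 97), (56, [2, 1, 2, 0, 2, 1, 2, 0, 1, 2, 0, 2, 1, 3, 0, 2], 112), (42, [3, 1, 2, 0, 3, 1, 3, 0, 3, 3], 783)], 403), ([(91, [2, 1, 3, 0, 3, 3, 1, 2, 0, 2, 2, 1, 2, 0, 3, 1, 3, 0, 3, 1, 2, 0], 242), (93, [1, 2, 0, 2, 2, 2, 1, 3, 0, 3, 3, 1, 2, 0, 1, 2, 0, 2, 2], 246), (65, [2, 1, 2, 0, 3, 3, 1, 2, 0, 3, 1, 3, 0, 2, 1,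 2, 0, 1, 2, 0], 31)], 241), ([(91, [2, 1, 2, 0, 1, 2, 0, 2, 1, 3, 0, 1, 3, 0, 3, 1, 2, 0, 1, 2, 0, 3, 1, 3, 0], 441), (92, [2, 1, 2, 0, 1, 2, 0, 2, 1, 2, 0, 3, 3, 1, 2, 0, 3], 500), (54, [2, 2], 13)], 26), ([(90, [2, 1, 2, 0, 1, 2, 0, 2, 1, 3, 0, 1, 3, 0, 3, 1, 2, 0, 1, 2, 0, 3, 1, 3, 0], 441), (60, [1, 2, 0, 1, 2, 0, 2, 1, 3, 0, 3, 3, 1, 2, 0, 1, 2, 0, 2, 1, 2, 0, 3], 10), (88, [2, 1, 2, 0, 2, 2, 2, 1, 3, 0, 3, 1, 3, 0, 1, 3, 0, 3, 3, 1, 2, 0], 263)], 194), ([(90, [1, 2, 0, 2, 2, 1, 2, 0, 1, 2, 0, 1, 2, 0, 2, 1, 3, 0, 1, 3, 0, 2], 348), (71, [2, 2, 1, 2, 0, 2, 1, 3, 0, 3, 3, 1, 2, 0, 1, 2, 0], 73), (95, [1, 2, 0, 2, 2, 1, 2, 0, 2, 1, 2, 0, 1, 2, 0, 1, 2, 0, 3, 1, 3, 0], 324)], 49),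 ([(91, [1, 2, 0, 2, 2, 1, 2, 0, 1, 2, 0, 1, 2, 0, 2, 1, 3, 0, 1, 3, 0, 2], 348), (93, [1, 2, 0, 1, 2, 0, 1, 2, 0, 2, 2, 1, 2, 0, 2, 2, 1, 3, 0, 3], 352), (60, [2, 2], 232)], 0), ([(95, [1, 3, 0, 1, 3, 0, 2, 2, 2, 1, 3, 0, 3, 1, 3, 0], 441), (89, [3, 1, 2, 0, 3, 1, 3, 0, 1, 3, 0, 2, 1, 2, 0, 2, 2], 263), (55, [2, 1, 2, 0, 2, 2, 2, 1, 3, 0, 3, 1, 3, 0, 1, 3, 0, 3, 3, 1, 2, 0], 16)], 379), ([(95, [2, 1, 3, 0, 3, 1, 3, 0, 1, 3, 0, 3, 3, 1, 3, 0, 3, 1, 2, 0, 2], 233), (87, [2, 2, 1, 2, 0, 2, 1, 2, 0, 3, 1, 3, 0, 2, 2, 1, 3, 0], 2), (45, [2, 2], 418)], 0), ([(93, [2, 1, 3, 0, 3, 1, 3, 0, 1, 3, 0, 3, 3, 1, 3, 0, 3, 1, 2, 0, 1, 2, 0], 76), (74, [3, 1, 2, 0, 1, 2, 0, 2, 2, 1, 3, 0, 2, 2, 2,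 1, 2, 0, 1, 2, 0], 71), (71, [2, 1, 3, 0, 3, 1, 2, 0, 2, 1, 3, 0, 2, 2], 7)], 411), ([(92, [3, 3, 1, 2, 0, 1, 2, 0, 2, 1, 3, 0, 3, 1, 3, 0, 2, 1, 2, 0, 2, 1, 2, 0], 634), (54, [2, 1, 3, 0, 3, 1, 3, 0, 2, 1, 2, 0, 1, 2, 0, 2, 1, 2, 0, 2, 1, 3, 0, 3], 13), (91, [3, 1, 3, 0, 2, 1, 2, 0, 2, 2], 442)], 297), ([(96, [2, 2, 1, 3, 0, 2, 2, 2, 1, 3, 0, 2, 1, 2, 0, 2, 2, 1, 3, 0], 56), (92, [2, 1, 3, 0, 3, 1, 2, 0, 1, 2, 0, 2, 2], 124), (66, [2, 2], 75)], 522), ([(97, [2, 2, 1, 3, 0, 2, 2, 2, 1, 3, 0, 2, 1, 2, 0, 2, 2, 1, 3, 0], 56), (55, [2, 1, 3, 0, 3, 3, 1, 2, 0, 2, 2, 1, 3, 0], 94), (96, [3, 3, 1, 2, 0, 3, 1, 3, 0, 2, 1, 2, 0, 3, 1, 3, 0, 3], 443)], 517), ([(95, [2, 2, 1, 2, 0, 3, 1, 3,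 0, 2, 2, 1, 2, 0, 1, 2, 0, 3, 3], 83), (91, [2, 2, 1, 2, 0, 1, 2, 0, 2, 1, 2, 0, 2, 2, 1, 3, 0, 3, 1, 2, 0, 2, 2], 378), (98, [1, 2, 0, 2, 2, 2, 1, 2, 0, 3, 1, 3, 0, 2, 1, 2, 0, 2], 100)], 50), ([(99, [2, 1, 3, 0, 2, 1, 2, 0], 21568), (70, [1, 2, 0, 1, 2, 0, 1, 2, 0, 2, 1, 2, 0, 3, 1, 3, 0, 2, 2, 2], 154), (61, [2, 2], 84)], 2342), ([(99, [1, 3, 0, 3, 3, 1, 2, 0, 2, 1, 2, 0, 1, 2, 0, 3, 1, 3, 0], 20649), (61, [1, 3, 0, 3, 3, 1, 2, 0, 2, 1, 2, 0, 1, 2, 0, 3, 1, 3, 0], 239), (100, [2, 2], 13926)], 26170)],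
[([(0, [], 0), (5, [], 0), (2, [], 24400)], 0), ([(5, [], 1750), (2, [], 24400), (0, [], 0)], 7824), ([(6, [], 1750), (14, [], 2300), (3, [], 24400)], 7824), ([(7, [], 14092), (26, [], 9832), (4, [], 24400)], 41912), ([(8, [], 14092), (12, [], 2300), (1, [], 24400)], 41912), ([(9, [2, 1, 3, 0, 2], 51016), (19, [1, 2, 0, 1, 2, 0, 2, 1, 2, 0, 3, 3, 1, 3, 0, 3], 2952), (12, [1, 2, 0, 1, 2, 0], 3172)], 0), ([(9, [2, 2, 2, 1, 3, 0, 2, 1, 2, 0, 3, 1, 3, 0, 2], 784), (17, [2, 1, 3, 0, 2], 4086), (5, [1, 2, 0, 1, 2, 0], 6342)], 0), ([(10, [2, 1, 3, 0, 2], 6342), (34, [2, 1, 3, 0, 2], 786), (14, [1, 2, 0, 1, 2, 0], 3403)], 0), ([(10, [2, 2, 2, 1, 3, 0, 2, 1, 2, 0, 3, 1, 3, 0, 2], 86001), (36,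 [2, 1, 3, 0, 2], 786), (26, [1, 2, 0, 1, 2, 0], 40994)], 0), ([(11, [1, 2, 0, 2, 1, 2, 0, 1, 2, 0, 2, 2, 2], 22666), (80, [1, 3, 0, 3, 1, 2, 0, 1, 2, 0, 1, 2, 0, 2, 1, 2, 0], 72), (17, [1, 2, 0, 1, 2, 0], 3770)], 0), ([(11, [3, 1, 2, 0, 2, 2, 1, 2, 0, 3, 3], 47102), (82, [1, 3, 0, 3, 1, 2, 0, 1, 2, 0, 1, 2, 0, 2, 1, 2, 0], 57), (31, [1, 2, 0, 1, 2, 0], 1017)], 94616), ([(10, [1, 2, 0, 2, 1, 3, 0, 2, 1, 2, 0, 1, 2, 0, 3], 75143), (40, [3, 1, 2, 0, 1, 2, 0, 3, 3, 1, 3, 0, 2, 2, 1, 3, 0, 1, 3, 0], 942), (77, [1, 2, 0, 1, 2, 0], 326)], 0), ([(18, [2, 1, 3, 0, 2], 3403), (50, [2, 1, 3, 0, 2], 146), (27, [1, 2, 0, 1, 2, 0], 44486)], 0), ([(19, [2, 1, 3, 0, 2], 3403), (17, [2, 2, 2, 1, 3,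 0, 2, 1, 2, 0, 3, 1, 3, 0, 2], 1936), (6, [1, 2, 0, 1, 2, 0], 99326)], 0), ([(20, [2, 1, 3, 0, 2], 2677), (49, [2, 1, 3, 0, 2], 14), (15, [1, 2, 0, 1, 2, 0], 3403)], 0), ([(21, [2, 1, 3, 0, 2], 2677), (31, [2, 2, 2, 1, 3, 0, 2, 1, 2, 0, 3, 1, 3, 0, 2], 843), (8, [1, 2, 0, 1, 2, 0], 96871)], 0), ([(24, [1, 3, 0, 3, 1, 2, 0, 1, 2, 0, 1, 2, 0, 2, 1, 2, 0], 4954), (77, [1, 2, 0, 2, 1, 2, 0, 1, 2, 0, 2, 2, 2], 440), (9, [1, 2, 0, 1, 2, 0], 33801)], 2985), ([(24, [1, 2, 0, 2, 1, 2, 0, 3, 3, 1, 3, 0, 3, 3], 979), (87, [1, 3, 0, 2, 1, 2, 0, 2, 2, 1, 2, 0, 3, 1, 3, 0, 3, 1, 2, 0, 1, 2, 0], 22), (33, [1, 2, 0, 1, 2, 0], 901)], 4192), ([(24, [3, 1, 2, 0, 2, 2, 1, 2, 0, 3, 3], 2294), (80, [2,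 1, 2, 0, 2, 1, 3, 0, 2, 2, 1, 3, 0, 3, 1, 3, 0], 92), (19, [1, 2, 0, 2, 1, 3, 0, 3, 3, 1, 2, 0, 3, 3], 3190)], 3203), ([(24, [1, 3, 0, 2, 2, 1, 3, 0, 3, 3, 1, 2, 0, 1, 2, 0, 2, 1, 3, 0], 92), (89, [1, 2, 0, 3, 3, 1, 2, 0, 1, 2, 0, 1, 2, 0, 2, 1, 2, 0, 1, 2, 0, 2, 1, 3, 0, 3], 288), (47, [1, 2, 0, 1, 2, 0], 123)], 0), ([(25, [2, 1, 3, 0, 1, 3, 0, 2, 2, 2, 1, 3, 0, 2, 1, 2, 0, 1, 2, 0], 3996), (67, [2, 1, 2, 0, 1, 2, 0, 3, 1, 3, 0, 1, 3, 0, 3, 1, 2, 0, 1, 2, 0, 1, 2, 0, 3], 122), (34, [1, 2, 0, 1, 2, 0], 678)], 0), ([(25, [1, 2, 0, 2, 1, 3, 0, 1, 3, 0, 3, 1, 3, 0, 2, 1, 2, 0, 2, 1, 2, 0], 3538), (59, [2, 1, 2, 0, 2, 1, 3, 0, 3, 1, 3, 0, 1, 3, 0, 2, 2, 1, 2, 0, 1, 2, 0, 2], 54), (49,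 [1, 2, 0, 1, 2, 0], 180)], 0), ([(25, [2, 2, 2, 1, 2, 0, 3, 1, 3, 0, 2, 1, 2, 0, 3], 950), (58, [1, 2, 0, 1, 2, 0, 2, 1, 3, 0, 2, 2], 20), (23, [1, 2, 0, 1, 2, 0, 2, 1, 3, 0, 2, 2], 1976)], 2302), ([(25, [1, 2, 0, 3, 1, 3, 0, 2, 2, 1, 2, 0, 3, 1, 3, 0, 1, 3, 0], 2081), (56, [2, 1, 2, 0, 2, 2, 1, 3, 0, 1, 3, 0, 2, 2, 2, 1, 2, 0], 168), (30, [2, 2, 1, 2, 0, 1, 2, 0, 3, 3], 1152)], 5007), ([(25, [1, 3, 0, 2, 1, 2, 0, 1, 2, 0, 2, 1, 2, 0, 1, 2, 0], 2879), (54, [1, 2, 0, 3, 1, 3, 0, 3, 3, 1, 2, 0, 1, 2, 0, 3, 3], 220), (80, [2, 2, 1, 2, 0, 1, 2, 0, 3, 1, 3, 0, 2, 1, 2, 0, 2, 1, 3, 0], 163)], 2230), ([(25, [2, 1, 3, 0, 2, 2, 1, 2, 0, 2, 2, 1, 2, 0], 2342), (75, [1, 2, 0, 3, 3, 1, 3, 0, 2,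 1, 2, 0, 2, 2, 1, 2, 0, 1, 2, 0, 3, 1, 3, 0], 114), (58, [1, 2, 0, 1, 2, 0], 149)], 4816), ([(28, [2, 1, 3, 0, 2], 44486), (31, [2, 1, 3, 0, 2], 569), (7, [1, 2, 0, 1, 2, 0], 110311)], 0), ([(29, [2, 1, 3, 0, 2], 40994), (47, [2, 1, 3, 0, 2], 146), (13, [1, 2, 0, 1, 2, 0], 2677)], 0), ([(29, [1, 3, 0, 3, 3, 1, 2, 0, 3, 3], 8825), (67, [2, 1, 2, 0, 1, 2, 0, 2, 1, 3, 0, 3, 1, 2, 0, 1, 2, 0, 1, 2, 0, 2, 1, 2, 0], 102), (36, [1, 2, 0, 1, 2, 0], 727)], 0), ([(28, [1, 3, 0, 3, 3, 1, 2, 0, 3, 3], 5598), (44, [1, 3, 0, 2, 2, 2, 1, 2, 0, 3, 1, 3, 0, 2, 1, 2, 0, 3], 384), (50, [1, 2, 0, 1, 2, 0], 66)], 0), ([(40, [1, 3, 0, 3, 1, 2, 0, 1, 2, 0, 1, 2, 0, 2, 1, 2, 0], 1018), (77, [3, 1, 2, 0, 2,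 2, 1, 2, 0, 3, 3], 315), (10, [1, 2, 0, 1, 2, 0], 101331)], 0), ([(41, [1, 3, 0, 3, 1, 2, 0, 1, 2, 0, 1, 2, 0, 2, 1, 2, 0], 906), (58, [1, 3, 0, 3, 3, 1, 2, 0, 1, 2, 0, 3, 3], 14), (22, [1, 3, 0, 2, 1, 2, 0, 1, 2, 0], 1231)], 721), ([(42, [1, 3, 0, 3, 1, 2, 0, 1, 2, 0, 1, 2, 0, 2, 1, 2, 0], 1015), (80, [2, 1, 3, 0, 1, 3, 0, 2, 1, 2, 0, 1, 2, 0, 2, 2, 1, 2, 0, 3], 150), (16, [1, 2, 0, 1, 2, 0], 2403)], 1337), ([(43, [1, 3, 0, 3, 1, 2, 0, 1, 2, 0, 1, 2, 0, 2, 1, 2, 0], 1003), (43, [3, 1, 2, 0, 1, 2, 0, 3, 3, 1, 3, 0, 3, 1, 2, 0, 2, 2], 543), (32, [1, 2, 0, 1, 2, 0], 336)], 752), ([(44, [1, 2, 0, 3, 3, 1, 2, 0, 1, 2, 0, 1, 2, 0, 2, 1, 2, 0, 1, 2, 0, 2, 1, 3, 0, 3], 778), (58, [2, 1, 3,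 0, 2, 1, 2, 0, 2, 1, 2, 0, 3, 1, 3, 0, 2, 1, 2, 0, 1, 2, 0, 3], 114), (21, [1, 2, 0, 2, 1, 3, 0, 3, 3, 1, 2, 0, 3, 3], 3996)], 380), ([(44, [1, 2, 0, 2, 1, 3, 0, 3, 1, 2, 0, 2, 1, 2, 0, 1, 2, 0, 3, 1, 3, 0, 1, 3, 0], 641), (50, [1, 3, 0, 3, 3, 1, 2, 0, 3, 3], 143), (28, [1, 2, 0, 1, 2, 0], 78915)], 569), ([(44, [1, 3, 0, 2, 1, 2, 0, 2, 1, 2, 0, 1, 2, 0, 2, 1, 3, 0, 1, 3, 0, 2], 654), (70, [1, 2, 0, 2, 1, 3, 0, 2, 1, 2, 0, 3, 1, 3, 0, 1, 3, 0, 2, 1, 2, 0, 2, 1, 3, 0], 56), (53, [1, 2, 0, 1, 2, 0], 100)], 0), ([(45, [1, 2, 0, 3, 3, 1, 2, 0, 1, 2, 0, 1, 2, 0, 2, 1, 2, 0, 1, 2, 0, 2, 1, 3, 0, 3], 919), (92, [1, 2, 0, 3, 3, 1, 2, 0, 1, 2, 0, 1, 2, 0, 2, 1, 2, 0, 1, 2, 0, 2, 1, 3, 0, 3],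 291), (46, [1, 2, 0, 1, 2, 0], 123)], 0), ([(45, [1, 2, 0, 2, 1, 3, 0, 3, 1, 2, 0, 2, 1, 2, 0, 1, 2, 0, 3, 1, 3, 0, 1, 3, 0], 363), (94, [1, 3, 0, 2, 1, 2, 0, 2, 1, 2, 0, 1, 2, 0, 2, 1, 3, 0, 1, 3, 0, 2], 100), (39, [1, 2, 0, 1, 2, 0], 507)], 668), ([(45, [1, 3, 0, 2, 1, 2, 0, 2, 1, 2, 0, 1, 2, 0, 2, 1, 3, 0, 1, 3, 0, 2], 503), (97, [1, 2, 0, 1, 2, 0, 2, 2, 1, 2, 0, 1, 2, 0, 2, 2, 1, 2, 0, 1, 2, 0], 187), (51, [1, 2, 0, 1, 2, 0], 115)], 0), ([(41, [1, 2, 0, 3, 1, 3, 0, 3, 1, 2, 0, 3, 3, 1, 3, 0, 2, 1, 2, 0, 2], 205), (59, [1, 2, 0, 3, 1, 3, 0, 3, 3, 1, 2, 0, 1, 2, 0, 3, 3], 236), (56, [1, 2, 0, 1, 2, 0], 232)], 1341), ([(42, [1, 2, 0, 3, 1, 3, 0, 3, 1, 2, 0, 3, 3, 1, 3, 0, 2, 1, 2,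 0, 2], 1134), (88, [2, 2, 1, 3, 0, 1, 3, 0, 3, 1, 2, 0, 2, 1, 2, 0, 1, 2, 0, 3, 3, 1, 2, 0, 3, 1, 3, 0], 383), (82, [1, 2, 0, 1, 2, 0], 18)], 0), ([(42, [1, 2, 0, 2, 1, 3, 0, 1, 3, 0, 3, 1, 3, 0, 1, 3, 0, 2], 106), (82, [2, 1, 2, 0, 2, 1, 3, 0, 3, 1, 2, 0, 1, 2, 0, 1, 2, 0, 3], 59), (43, [2, 1, 3, 0, 1, 3, 0, 2, 2, 1, 3, 0, 1, 3, 0, 3, 1, 3, 0], 1125)], 61), ([(40, [1, 2, 0, 3, 1, 3, 0, 3, 1, 2, 0, 3, 3, 1, 3, 0, 2, 1, 2, 0, 2], 1427), (88, [1, 2, 0, 2, 1, 3, 0, 2, 2, 1, 2, 0, 1, 2, 0, 3, 3, 1, 3, 0, 3, 1, 2, 0, 3], 491), (87, [3, 1, 2, 0, 3, 1, 3, 0, 1, 3, 0, 3, 1, 2, 0, 2, 1, 3, 0, 2, 2, 1, 3, 0], 107)], 893), ([(41, [1, 3, 0, 2, 2, 1, 3, 0, 2, 1, 2, 0, 1, 2, 0, 2], 458), (73, [1,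 2, 0, 3, 3, 1, 2, 0, 2, 1, 3, 0, 3, 1, 3, 0, 2, 1, 2, 0, 1, 2, 0], 64), (67, [2, 1, 3, 0, 3, 1, 2, 0, 2, 1, 2, 0], 71)], 537), ([(43, [1, 3, 0, 2, 2, 1, 3, 0, 2, 1, 2, 0, 1, 2, 0, 2], 399), (45, [1, 2, 0, 3, 1, 3, 0, 1, 3, 0, 3, 1, 3, 0, 1, 3, 0], 1081), (94, [1, 2, 0, 1, 2, 0], 615)], 0), ([(54, [1, 2, 0, 3, 3, 1, 2, 0, 1, 2, 0, 1, 2, 0, 2, 1, 2, 0, 1, 2, 0, 2, 1, 3, 0, 3], 138), (80, [1, 2, 0, 3, 3, 1, 2, 0, 1, 2, 0, 1, 2, 0, 2, 1, 3, 0], 41), (18, [1, 2, 0, 1, 2, 0], 3962)], 0), ([(55, [1, 2, 0, 3, 3, 1, 2, 0, 1, 2, 0, 1, 2, 0, 2, 1, 2, 0, 1, 2, 0, 2, 1, 3, 0, 3], 138), (94, [1, 2, 0, 1, 2, 0, 2, 2, 1, 2, 0, 1, 2, 0, 2, 2, 1, 2, 0, 1, 2, 0], 379), (37, [1, 2, 0, 2, 1, 3, 0, 3, 3,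 1, 2, 0, 3, 3], 756)], 137), ([(59, [1, 2, 0, 3, 3, 1, 2, 0, 1, 2, 0, 1, 2, 0, 2, 1, 2, 0, 1, 2, 0, 2, 1, 3, 0, 3], 123), (58, [2, 1, 3, 0, 1, 3, 0, 2, 2, 2, 1, 3, 0, 2, 1, 2, 0, 1, 2, 0], 167), (20, [1, 2, 0, 1, 2, 0], 3690)], 0), ([(60, [1, 2, 0, 3, 3, 1, 2, 0, 1, 2, 0, 1, 2, 0, 2, 1, 2, 0, 1, 2, 0, 2, 1, 3, 0, 3], 123), (90, [1, 2, 0, 1, 2, 0, 2, 2, 1, 2, 0, 1, 2, 0, 2, 2, 1, 2, 0, 1, 2, 0], 491), (48, [1, 2, 0, 2, 1, 3, 0, 3, 3, 1, 2, 0, 3, 3], 148)], 168), ([(66, [1, 2, 0, 1, 2, 0, 2, 2, 1, 2, 0, 1, 2, 0, 2, 2, 1, 2, 0, 1, 2, 0], 107), (94, [1, 2, 0, 2, 1, 3, 0, 3, 1, 2, 0, 2, 1, 2, 0, 1, 2, 0, 3, 1, 3, 0, 1, 3, 0], 471), (38, [1, 2, 0, 1, 2, 0], 635)], 0), ([(67, [1, 2, 0, 1,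 2, 0, 2, 2, 1, 2, 0, 1, 2, 0, 2, 2, 1, 2, 0, 1, 2, 0], 107), (36, [1, 3, 0, 3, 3, 1, 2, 0, 3, 3], 756), (29, [1, 2, 0, 1, 2, 0], 76013)], 0), ([(70, [1, 2, 0, 1, 2, 0, 2, 2, 1, 2, 0, 1, 2, 0, 2, 2, 1, 2, 0, 1, 2, 0], 115), (67, [2, 2, 1, 3, 0, 2, 1, 2, 0, 2, 1, 3, 0, 3, 1, 2, 0, 2, 2], 208), (35, [1, 2, 0, 1, 2, 0], 951)], 48), ([(71, [1, 2, 0, 1, 2, 0, 2, 2, 1, 2, 0, 1, 2, 0, 2, 2, 1, 2, 0, 1, 2, 0], 115), (93, [1, 3, 0, 2, 2, 2, 1, 2, 0, 3, 1, 3, 0, 2, 1, 2, 0, 3], 541), (52, [1, 2, 0, 1, 2, 0], 211)], 0), ([(54, [1, 2, 0, 2, 2, 1, 2, 0, 2, 1, 3, 0, 3, 1, 3, 0, 1, 3, 0, 2], 10), (91, [2, 2, 2, 1, 3, 0, 2, 1, 2, 0, 2, 2, 1, 2, 0, 2, 1, 3, 0], 432), (92, [1, 2, 0, 1, 2, 0], 10)], 0),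 ([(55, [1, 2, 0, 2, 2, 1, 2, 0, 2, 1, 3, 0, 3, 1, 3, 0, 1, 3, 0, 2], 10), (95, [1, 2, 0, 2, 1, 3, 0, 1, 3, 0, 3, 3, 1, 3, 0, 1, 3, 0, 2, 2, 1, 2, 0, 2], 457), (89, [1, 2, 0, 1, 2, 0], 260)], 0), ([(60, [2, 1, 3, 0, 1, 3, 0, 2, 1, 2, 0, 1, 2, 0, 2, 1, 2, 0, 3, 1, 3, 0, 1, 3, 0, 3], 125), (87, [3, 1, 2, 0, 1, 2, 0, 3, 1, 3, 0, 1, 3, 0, 3, 1, 2, 0, 2, 2], 29), (41, [2, 1, 3, 0, 1, 3, 0, 2, 2, 1, 3, 0, 1, 3, 0, 3, 1, 3, 0], 1157)], 12), ([(75, [1, 2, 0, 3, 1, 3, 0, 3, 3, 1, 2, 0, 2, 2, 1, 3, 0, 1, 3, 0, 2], 208), (58, [2, 1, 3, 0, 2, 2, 1, 2, 0, 2, 2, 1, 2, 0], 116), (25, [1, 2, 0, 1, 2, 0], 1542)], 184), ([(75, [2, 2, 1, 3, 0, 2, 1, 2, 0, 2, 1, 3, 0, 1, 3, 0, 3, 1, 2, 0, 2, 1, 2, 0],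 157), (60, [3, 1, 3, 0, 3, 1, 2, 0, 2, 2, 1, 3, 0, 1, 3, 0, 3, 1, 2, 0], 134), (84, [2, 1, 2, 0, 2, 1, 3, 0, 3, 1, 3, 0, 2, 1, 2, 0, 1, 2, 0, 2], 42)], 16), ([(71, [2, 1, 3, 0, 1, 3, 0, 2, 2, 2, 1, 3, 0, 2, 1, 2, 0, 1, 2, 0], 75), (95, [2, 1, 2, 0, 3, 3, 1, 2, 0, 2, 2, 1, 2, 0, 1, 2, 0, 1, 2, 0, 3, 3, 1, 3, 0], 341), (90, [1, 2, 0, 1, 2, 0], 469)], 146), ([(70, [2, 1, 3, 0, 1, 3, 0, 2, 2, 2, 1, 3, 0, 2, 1, 2, 0, 1, 2, 0], 75), (74, [2, 1, 3, 0, 1, 3, 0, 3, 3, 1, 3, 0, 2, 2, 1, 2, 0, 2, 1, 3, 0], 239), (59, [1, 3, 0, 2, 1, 2, 0, 2, 1, 3, 0, 3, 3, 1, 2, 0, 3, 3], 116)], 204), ([(60, [2, 2, 1, 2, 0, 2, 2, 1, 2, 0, 1, 2, 0, 2, 2, 1, 2, 0, 1, 2, 0, 2, 1, 3, 0, 1, 3, 0], 219), (89, [1, 2,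 0, 1, 2, 0, 1, 2, 0, 2, 1, 2, 0, 3, 1, 3, 0, 2, 2, 2], 424), (68, [2, 1, 2, 0], 48)], 146), ([(59, [2, 2, 1, 2, 0, 2, 2, 1, 2, 0, 1, 2, 0, 2, 2, 1, 2, 0, 1, 2, 0, 2, 1, 3, 0, 1, 3, 0], 219), (61, [2, 1, 2, 0, 1, 2, 0, 2, 1, 3, 0, 3, 1, 3, 0, 1, 3, 0, 2, 1, 2, 0, 1, 2, 0], 125), (99, [1, 2, 0, 1, 2, 0], 14469)], 0), ([(55, [2, 2, 1, 3, 0, 1, 3, 0, 3, 1, 3, 0, 2, 1, 2, 0, 2, 1, 3, 0, 2, 2, 2], 0), (93, [2, 1, 3, 0, 1, 3, 0, 3, 1, 3, 0, 2, 1, 2, 0, 3, 1, 3, 0], 379), (64, [3, 3, 1, 3, 0, 2, 1, 2, 0, 2, 2, 1, 3, 0, 1, 3, 0, 3, 3], 149)], 229), ([(60, [2, 1, 2, 0, 3, 3, 1, 3, 0, 2, 1, 2, 0, 2, 2, 1, 3, 0, 1, 3, 0], 128), (88, [2, 1, 2, 0, 3, 1, 3, 0, 1, 3, 0, 3, 3, 1, 2, 0, 1, 2, 0, 1,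 2, 0, 2], 302), (81, [1, 2, 0, 1, 2, 0], 239)], 0), ([(74, [1, 2, 0, 3, 1, 3, 0, 2, 2, 1, 2, 0, 2, 1, 3, 0, 3, 3, 1, 3, 0, 1, 3, 0], 90), (60, [2, 1, 2, 0, 3, 1, 3, 0, 1, 3, 0, 2, 2, 2, 1, 2, 0, 2, 1, 3, 0, 3], 118), (86, [3, 1, 2, 0, 3, 3, 1, 3, 0, 2, 1, 2, 0, 3], 148)], 63), ([(54, [2, 1, 3, 0, 1, 3, 0, 2, 2, 2, 1, 3, 0, 2, 1, 2, 0, 1, 2, 0], 94), (82, [2, 1, 2, 0, 3, 1, 3, 0, 3, 1, 2, 0, 1, 2, 0, 2, 1, 3, 0], 198), (44, [2, 2, 2, 1, 2, 0, 1, 2, 0, 2, 1, 2, 0, 3, 1, 3, 0, 3, 3, 1, 3, 0], 715)], 104), ([(55, [2, 1, 3, 0, 1, 3, 0, 2, 2, 2, 1, 3, 0, 2, 1, 2, 0, 1, 2, 0], 94), (96, [2, 2, 1, 2, 0, 3, 3, 1, 2, 0], 590), (97, [1, 2, 0, 1, 2, 0], 313)], 0), ([(67, [1, 2, 0, 1, 2, 0, 1,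 2, 0, 2, 1, 2, 0, 3, 1, 3, 0, 2, 2, 2], 154), (44, [1, 2, 0, 2, 1, 3, 0, 3, 1, 3, 0, 1, 3, 0, 3, 1, 2, 0, 2, 1, 3, 0, 1, 3, 0], 1260), (69, [1, 2, 0, 1, 2, 0], 135)], 110), ([(66, [1, 2, 0, 1, 2, 0, 1, 2, 0, 2, 1, 2, 0, 3, 1, 3, 0, 2, 2, 2], 154), (93, [1, 2, 0, 2, 1, 3, 0, 3, 1, 3, 0, 1, 3, 0, 3, 1, 2, 0, 2, 1, 3, 0, 1, 3, 0], 490), (62, [2, 1, 3, 0, 2, 1, 2, 0], 6)], 146), ([(60, [1, 2, 0, 2, 2, 1, 2, 0, 2, 1, 3, 0, 3, 1, 3, 0, 1, 3, 0, 2], 122), (91, [2, 1, 3, 0, 3, 1, 2, 0, 2, 2, 1, 2, 0, 1, 2, 0, 2, 2, 1, 2, 0, 1, 2, 0], 481), (93, [2, 2, 2, 1, 2, 0, 1, 2, 0, 2, 1, 2, 0, 3, 1, 3, 0, 3, 3, 1, 3, 0], 245)], 221), ([(59, [1, 2, 0, 2, 2, 1, 2, 0, 2, 1, 3, 0, 3, 1, 3, 0, 1, 3, 0, 2],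 122), (75, [3, 1, 2, 0, 3, 1, 3, 0, 2, 1, 2, 0, 2, 1, 2, 0, 3, 3], 183), (70, [1, 2, 0, 2, 2, 1, 3, 0, 2, 1, 2, 0, 2, 1, 2, 0, 1, 2, 0, 3, 3, 1, 2, 0], 2)], 143), ([(59, [2, 1, 2, 0, 1, 2, 0, 2, 1, 2, 0, 2, 1, 3, 0, 1, 3, 0, 3, 1, 2, 0], 75), (75, [1, 3, 0, 3, 1, 3, 0, 1, 3, 0, 2], 208), (72, [2, 1, 2, 0, 1, 2, 0, 1, 2, 0, 3, 3, 1, 3, 0, 2, 2], 190)], 40), ([(60, [2, 1, 2, 0, 1, 2, 0, 2, 1, 2, 0, 2, 1, 3, 0, 1, 3, 0, 3, 1, 2, 0], 75), (89, [3, 3, 1, 2, 0, 1, 2, 0, 1, 2, 0, 3, 1, 3, 0, 3, 1, 2, 0, 2, 1, 3, 0, 1, 3, 0], 496), (73, [1, 2, 0, 1, 2, 0, 2, 1, 2, 0, 1, 2, 0, 1, 2, 0, 3, 1, 3, 0, 1, 3, 0, 3, 3, 1, 2, 0], 170)], 34), ([(67, [2, 1, 2, 0, 1, 2, 0, 2, 1, 2, 0, 2, 1, 3, 0, 1, 3,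 0, 3, 1, 2, 0], 200), (44, [1, 2, 0, 2, 1, 2, 0, 3, 1, 3, 0, 1, 3, 0, 2, 2, 1, 2, 0], 42), (74, [3, 1, 3, 0, 1, 3, 0, 3, 1, 3, 0, 2, 1, 2, 0, 2, 1, 3, 0, 3, 1, 3, 0], 57)], 159), ([(66, [2, 1, 2, 0, 1, 2, 0, 2, 1, 2, 0, 2, 1, 3, 0, 1, 3, 0, 3, 1, 2, 0], 200), (93, [2, 2, 1, 3, 0, 2, 1, 2, 0, 1, 2, 0, 3, 1, 3, 0, 3, 1, 2, 0], 574), (75, [2, 2, 1, 2, 0, 3, 3, 1, 3, 0, 1, 3, 0, 3, 1, 2, 0, 2, 1, 2, 0], 87)], 159), ([(82, [3, 1, 2, 0, 1, 2, 0, 3, 3, 1, 3, 0, 2, 2, 1, 3, 0, 1, 3, 0], 78), (31, [1, 2, 0, 2, 1, 3, 0, 2, 1, 2, 0, 1, 2, 0, 3], 949), (11, [1, 2, 0, 1, 2, 0], 55064)], 0), ([(83, [3, 1, 2, 0, 1, 2, 0, 3, 3, 1, 3, 0, 2, 2, 1, 3, 0, 1, 3, 0], 496), (85, [1, 2, 0, 2, 1, 2, 0, 1,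 2, 0, 2, 1, 2, 0, 1, 2, 0, 1, 2, 0, 2, 2], 39), (78, [2, 1, 2, 0, 3, 3, 1, 2, 0], 212)], 122), ([(87, [2, 1, 3, 0, 1, 3, 0, 2, 2, 1, 3, 0, 2, 1, 2, 0, 1, 2, 0, 2], 133), (42, [2, 2, 1, 2, 0, 1, 2, 0, 1, 2, 0, 2, 1, 2, 0, 3, 3], 1280), (79, [2, 1, 2, 0, 2, 2, 2], 302)], 41), ([(86, [2, 1, 2, 0, 3, 3, 1, 2, 0, 1, 2, 0, 2, 1, 2, 0, 2], 218), (63, [2, 1, 2, 0, 3, 3, 1, 2, 0, 1, 2, 0, 2, 1, 2, 0, 2], 50), (76, [1, 2, 0, 3], 492)], 49), ([(88, [2, 1, 3, 0, 3, 1, 2, 0, 1, 2, 0, 2, 2, 1, 2, 0, 1, 2, 0, 3, 3], 165), (89, [2, 2, 1, 3, 0, 1, 3, 0, 3, 1, 3, 0, 2, 1, 2, 0, 2, 1, 3, 0, 2, 2, 2], 496), (63, [1, 2, 0, 1, 2, 0], 0)], 462), ([(89, [3, 3, 1, 3, 0, 2, 2, 2, 1, 2, 0, 2], 180), (58, [1,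 3, 0, 2, 1, 2, 0, 1, 2, 0, 2, 1, 2, 0, 1, 2, 0], 9), (24, [1, 2, 0, 1, 2, 0], 4579)], 300), ([(89, [1, 2, 0, 2, 2, 1, 3, 0, 2, 1, 2, 0, 2, 1, 2, 0, 1, 2, 0, 2, 1, 3, 0], 162), (60, [1, 2, 0, 1, 2, 0, 2, 1, 3, 0, 3, 1, 2, 0, 2, 2, 1, 3, 0, 1, 3, 0, 3, 1, 2, 0], 208), (83, [1, 3, 0, 1, 3, 0, 3, 1, 2, 0, 2, 1, 3, 0, 3, 1, 3, 0, 2, 2], 266)], 411), ([(88, [3, 1, 3, 0, 2, 2, 2, 1, 3, 0, 3, 1, 2, 0, 3, 3, 1, 3, 0], 427), (82, [1, 2, 0, 3, 1, 3, 0, 3, 1, 2, 0, 3, 3, 1, 3, 0, 2, 1, 2, 0, 2], 248), (40, [1, 2, 0, 1, 2, 0], 13)], 0), ([(90, [1, 2, 0, 3, 1, 3, 0, 2, 2, 1, 2, 0, 1, 2, 0, 3, 3, 1, 2, 0, 3, 1, 3, 0, 3], 90), (57, [2, 2, 2, 1, 2, 0, 3, 1, 3, 0, 2, 1, 2, 0, 2, 1, 3, 0, 2], 117), (85,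 [1, 2, 0, 2, 2, 1, 3, 0, 1, 3, 0, 3, 1, 3, 0, 2], 149)], 230), ([(91, [1, 2, 0, 3, 1, 3, 0, 2, 2, 1, 2, 0, 1, 2, 0, 3, 3, 1, 2, 0, 3, 1, 3, 0, 3], 90), (97, [2, 1, 3, 0, 1, 3, 0, 3, 1, 2, 0, 2, 2, 1, 3, 0, 3, 3], 625), (57, [1, 2, 0, 2, 2, 1, 2, 0, 3, 3], 59)], 433), ([(90, [2, 1, 3, 0, 3, 1, 2, 0, 3, 3, 1, 3, 0], 174), (56, [1, 3, 0, 3, 3, 1, 3, 0, 2, 2, 1, 3, 0, 2], 110), (42, [1, 2, 0, 2, 2, 2, 1, 3, 0, 2], 846)], 295), ([(91, [1, 2, 0, 2, 1, 2, 0, 3, 1, 3, 0, 2, 1, 2, 0, 2, 2, 1, 2, 0, 1, 2, 0, 3], 233), (93, [1, 3, 0, 2, 2, 1, 2, 0, 2, 2, 1, 3, 0, 3, 1, 3, 0, 1, 3, 0], 246), (65, [2, 2, 1, 2, 0, 1, 2, 0, 3, 3, 1, 2, 0, 1, 2, 0, 2, 1, 2, 0], 21)], 229), ([(91, [2, 2, 1, 3, 0, 2,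 2, 2, 1, 3, 0, 3, 1, 2, 0, 2, 1, 2, 0, 1, 2, 0], 351), (92, [1, 2, 0, 2, 2, 1, 2, 0, 2, 1, 3, 0, 3, 1, 3, 0, 1, 3, 0, 2], 10), (54, [1, 2, 0, 1, 2, 0], 10)], 26), ([(90, [2, 2, 1, 3, 0, 2, 2, 2, 1, 3, 0, 3, 1, 2, 0, 2, 1, 2, 0, 1, 2, 0], 351), (60, [3, 1, 2, 0, 2, 2, 1, 2, 0, 3, 1, 3, 0, 3, 3, 1, 3, 0, 3, 1, 2, 0], 16), (88, [2, 1, 2, 0, 2, 1, 2, 0, 1, 2, 0, 1, 2, 0, 2, 1, 2, 0, 2, 1, 3, 0, 2, 1, 2, 0, 2], 316)], 194), ([(90, [2, 2, 2, 1, 2, 0, 1, 2, 0, 2, 1, 3, 0, 1, 3, 0, 3, 1, 2, 0, 2, 1, 3, 0, 3], 288), (71, [2, 2, 2, 1, 3, 0, 2, 2, 1, 2, 0, 2, 1, 3, 0, 2, 2], 65), (95, [1, 2, 0, 1, 2, 0, 3, 1, 3, 0, 3, 1, 2, 0, 1, 2, 0, 2, 1, 2, 0, 1, 2, 0, 3], 399)], 49), ([(91, [2, 2, 2, 1,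 2, 0, 1, 2, 0, 2, 1, 3, 0, 1, 3, 0, 3, 1, 2, 0, 2, 1, 3, 0, 3], 288), (93, [2, 1, 3, 0, 1, 3, 0, 3, 1, 3, 0, 1, 3, 0, 2, 1, 2, 0], 116), (60, [1, 2, 0, 1, 2, 0], 190)], 0), ([(95, [1, 3, 0, 1, 3, 0, 2, 2, 1, 2, 0, 3, 1, 3, 0, 3, 1, 2, 0, 2, 1, 2, 0, 2], 634), (89, [3, 1, 3, 0, 2, 1, 2, 0, 2, 1, 3, 0, 3, 1, 3, 0, 1, 3, 0], 316), (55, [2, 1, 2, 0, 2, 1, 2, 0, 1, 2, 0, 1, 2, 0, 2, 1, 2, 0, 2, 1, 3, 0, 2, 1, 2, 0, 2], 10)], 379), ([(95, [3, 1, 2, 0, 1, 2, 0, 2, 1, 2, 0, 3, 1, 3, 0, 3], 157), (87, [3, 1, 3, 0, 3, 1, 2, 0, 2, 1, 2, 0, 3], 214), (45, [1, 2, 0, 1, 2, 0], 502)], 0), ([(93, [1, 2, 0, 3, 1, 3, 0, 1, 3, 0, 3, 1, 3, 0, 1, 3, 0], 46), (75, [2, 1, 3, 0, 2, 2, 2, 1, 2, 0, 1, 2, 0,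 2, 1, 3, 0, 3], 172), (71, [2, 1, 3, 0, 3, 1, 2, 0, 2, 1, 2, 0], 208)], 411), ([(92, [3, 3, 1, 2, 0, 1, 2, 0, 1, 2, 0, 3, 1, 3, 0, 3], 441), (54, [1, 2, 0, 1, 2, 0, 1, 2, 0, 2, 2, 1, 2, 0, 1, 2, 0, 3, 1, 3, 0, 1, 3, 0, 3], 17), (91, [3, 3, 1, 2, 0, 3, 1, 3, 0, 1, 3, 0], 396)], 297), ([(96, [2, 2, 1, 2, 0, 3, 1, 3, 0, 2, 2, 1, 2, 0, 2, 1, 3, 0, 3, 1, 3, 0], 482), (92, [2, 1, 3, 0, 1, 3, 0, 2, 2, 2, 1, 3, 0, 2, 1, 2, 0, 1, 2, 0], 151), (66, [1, 2, 0, 1, 2, 0], 104)], 522), ([(97, [2, 2, 1, 2, 0, 3, 1, 3, 0, 2, 2, 1, 2, 0, 2, 1, 3, 0, 3, 1, 3, 0], 482), (55, [2, 2, 1, 3, 0, 3, 3, 1, 3, 0, 1, 3, 0, 3, 1, 3, 0, 2, 1, 2, 0, 1, 2, 0], 96), (96, [1, 2, 0, 2, 2, 1, 3, 0, 2, 1, 2, 0, 2, 1, 2,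 0, 1, 2, 0, 3, 3, 1, 2, 0], 576)], 498), ([(92, [3, 3, 1, 2, 0, 1, 2, 0, 2, 1, 3, 0, 3, 1, 2, 0, 1, 2, 0, 2, 1, 3, 0], 585), (55, [2, 1, 3, 0, 2, 1, 2, 0, 2, 2, 1, 3, 0, 3, 1, 2, 0, 3, 3], 36), (98, [2, 1, 2, 0, 1, 2, 0, 2, 1, 3, 0, 3, 1, 2, 0, 3, 1, 3, 0], 501)], 20), ([(99, [2, 1, 2, 0, 1, 2, 0, 2, 1, 3, 0, 3, 1, 3, 0, 1, 3, 0, 2, 1, 2, 0, 1, 2, 0], 27833), (59, [2, 1, 3, 0, 1, 3, 0, 3, 1, 3, 0, 2, 1, 2, 0, 2, 2, 1, 3, 0, 3, 1, 2, 0], 224), (61, [1, 2, 0, 1, 2, 0], 156)], 2342), ([(99, [2, 2, 1, 3, 0, 3, 3, 1, 3, 0, 2, 2], 26348), (61, [2, 2, 1, 3, 0, 3, 3, 1, 3, 0, 2, 2], 191), (100, [1, 2, 0, 1, 2, 0], 6063)], 26170)]]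

end CfsgLib.InvChar.SporHN
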