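import Cfsg.Agent.Lib.InvChar.SporHNTrace

/-! The saturation. -/

set_option autoImplicit false
set_option maxRecDepth 100000

namespace CfsgLib.InvChar.SporHN

open CfsgLib.InvChar.Coset

/-- hints -/
def relC2 : List (List (List (ℕ × List ℕ × ℕ) × ℕ)) := [
[([(0, [], 0), (5, [], 0), (2, [], 24400)], 0), ([(5, [], 24576), (2, [], 24400), (0, [], 0)], 24576), ([(6, [], 24576), (14, [], 2300), (3, [], 24400)], 24576), ([(7, [], 3868), (26, [], 9832), (4, [], 24400)], 3868), ([(8, [], 3868), (12, [], 2300), (1, [], 24400)], 3868), ([(9, [2, 2, 1, 2, 0, 3, 1, 3, 0, 2, 2, 1, 3, 0], 40026), (19, [1, 2, 0, 1, 2, 0, 1, 2, 0, 3, 3, 1, 3, 0, 3, 3, 1, 2, 0], 3434), (12, [2, 2, 2], 3220)],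 24400), ([(9, [1, 2, 0, 1, 2, 0, 2, 2, 1, 2, 0], 63533), (17, [2, 2, 1, 2, 0, 3, 1, 3, 0, 2, 2, 1, 3, 0], 4446), (5, [2, 2, 2], 26189)], 24400), ([(10, [2, 2, 1, 2, 0, 3, 1, 3, 0, 2, 2, 1, 3, 0], 75754), (34, [2, 2, 1, 3, 0, 3, 1, 2, 0, 1, 2, 0, 2, 1, 3, 0, 2], 754), (14, [2, 2, 2], 2981)], 24400), ([(10, [1, 2, 0, 1, 2, 0, 2, 2, 1, 2, 0], 85944), (36, [2, 2, 1, 3, 0, 3, 1, 2, 0, 1, 2, 0, 2, 1, 3, 0, 2], 752), (26, [2, 2, 2], 42640)], 24400), ([(11, [1, 2, 0, 1, 2, 0, 2, 1, 2, 0, 2], 66940), (80, [1, 2, 0, 2, 1, 2, 0, 1, 2, 0, 1, 2, 0, 2, 1, 2, 0], 134), (17, [2, 2, 2], 3512)], 24400), ([(11, [3, 1, 2, 0, 2, 1, 3, 0, 3], 61068), (82, [1, 2, 0, 2, 1, 2, 0, 1, 2, 0, 1, 2, 0, 2, 1,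 2, 0], 60), (31, [2, 2, 2], 835)], 94616), ([(10, [2, 2, 1, 2, 0, 2, 2, 2], 107592), (40, [3, 1, 2, 0, 2, 1, 3, 0, 3, 1, 2, 0, 1, 2, 0], 960), (77, [2, 2, 2], 421)], 24400), ([(18, [2, 2, 1, 3, 0, 3, 1, 2, 0, 1, 2, 0, 2, 1, 3, 0, 2], 2996), (50, [2, 2, 1, 3, 0, 3, 1, 2, 0, 1, 2, 0, 2, 1, 3, 0, 2], 146), (27, [2, 2, 2], 42683)], 2983), ([(19, [2, 2, 1, 3, 0, 3, 1, 2, 0, 1, 2, 0, 2, 1, 3, 0, 2], 2996), (17, [1, 2, 0, 1, 2, 0, 2, 2, 1, 2, 0], 113), (6, [2, 2, 2], 73935)], 2983), ([(20, [2, 2, 1, 3, 0, 3, 1, 2, 0, 1, 2, 0, 2, 1, 3, 0, 2], 2997), (49, [2, 2, 1, 3, 0, 3, 1, 2, 0, 1, 2, 0, 2, 1, 3, 0, 2], 14), (15, [2, 2, 2], 2981)], 2983), ([(21, [2, 2, 1, 3, 0, 3, 1, 2, 0, 1, 2, 0, 2,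 1, 3, 0, 2], 2997), (31, [1, 2, 0, 1, 2, 0, 2, 2, 1, 2, 0], 800), (8, [2, 2, 2], 102913)], 2983), ([(24, [1, 2, 0, 2, 1, 2, 0, 1, 2, 0, 1, 2, 0, 2, 1, 2, 0], 3075), (77, [1, 2, 0, 1, 2, 0, 2, 1, 2, 0, 2], 495), (9, [2, 2, 2], 55577)], 2985), ([(24, [1, 3, 0, 1, 3, 0, 2, 1, 2, 0, 1, 2, 0, 3, 1, 3, 0], 2450), (87, [1, 2, 0, 2, 1, 2, 0, 3, 1, 3, 0, 2, 1, 2, 0, 3, 1, 3, 0, 3], 31), (33, [2, 2, 2], 964)], 4192), ([(24, [2, 1, 3, 0, 2, 2, 1, 3, 0, 1, 3, 0, 3, 1, 2, 0, 2, 2], 1117), (80, [1, 2, 0, 1, 2, 0, 2, 1, 3, 0, 3, 1, 3, 0, 2, 1, 2, 0, 2], 40), (19, [2, 1, 2, 0, 2, 2, 2, 1, 2, 0, 3], 4405)], 2648), ([(24, [2, 2, 1, 2, 0, 2, 2, 1, 2, 0, 3, 3, 1, 3, 0, 2], 2098), (89, [1, 2, 0, 1, 2,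 0, 2, 2, 1, 2, 0, 2, 2, 2, 1, 3, 0, 2, 2], 481), (47, [2, 2, 2], 147)], 2983), ([(25, [1, 2, 0, 1, 2, 0, 2, 1, 3, 0, 2, 2, 1, 3, 0, 1, 3, 0, 3, 3], 4878), (67, [2, 2, 1, 3, 0, 3, 3, 1, 2, 0, 2, 1, 2, 0, 3, 1, 3, 0, 3, 1, 2, 0], 132), (34, [2, 2, 2], 607)], 2983), ([(25, [2, 2, 2, 1, 2, 0, 2, 1, 2, 0, 1, 2, 0, 1, 2, 0, 3], 3402), (59, [2, 2, 2, 1, 3, 0, 1, 3, 0, 2, 2, 1, 2, 0, 1, 2, 0, 3], 7), (49, [2, 2, 2], 202)], 2983), ([(25, [1, 3, 0, 3, 1, 3, 0, 2, 2, 1, 3, 0], 962), (58, [2, 1, 2, 0, 3, 1, 3, 0, 2, 1, 2, 0, 2, 2, 1, 3, 0, 2, 2], 20), (23, [1, 2, 0, 1, 2, 0, 2, 1, 3, 0, 3, 1, 3, 0, 1, 3, 0], 93)], 2318), ([(25, [2, 2, 1, 2, 0, 1, 2, 0, 2, 2, 1, 2, 0, 1, 2, 0], 16), (56, [2,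 1, 3, 0, 1, 3, 0, 3, 1, 3, 0, 2, 1, 2, 0, 1, 2, 0, 2], 159), (30, [2, 2, 1, 2, 0, 1, 2, 0, 2, 1, 3, 0, 1, 3, 0], 1182)], 4383), ([(19, [2, 1, 3, 0, 2, 2, 2, 1, 2, 0, 3, 1, 3, 0, 2], 176), (24, [3, 1, 2, 0, 3, 1, 3, 0, 3, 1, 2, 0, 3, 3], 2461), (80, [3, 3, 1, 3, 0, 1, 3, 0, 2, 2, 1, 3, 0, 1, 3, 0, 3, 1, 3, 0], 134)], 1873), ([(25, [3, 1, 3, 0, 2, 1, 2, 0, 2, 2, 1, 3, 0, 3, 1, 3, 0, 2], 1060), (75, [1, 2, 0, 1, 2, 0, 2, 1, 2, 0, 3, 1, 3, 0, 1, 3, 0, 2, 2, 1, 2, 0, 2, 1, 3, 0, 3], 125), (58, [2, 2, 2], 115)], 4816), ([(28, [2, 2, 1, 3, 0, 3, 1, 2, 0, 1, 2, 0, 2, 1, 3, 0, 2], 42713), (31, [2, 2, 1, 2, 0, 3, 1, 3, 0, 2, 2, 1, 3, 0], 668), (7, [2, 2, 2], 22850)], 42686), ([(29, [2, 2,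 1, 3, 0, 3, 1, 2, 0, 1, 2, 0, 2, 1, 3, 0, 2], 42714), (47, [2, 2, 1, 3, 0, 3, 1, 2, 0, 1, 2, 0, 2, 1, 3, 0, 2], 146), (13, [2, 2, 2], 2960)], 42686), ([(29, [2, 2, 1, 3, 0, 2, 1, 2, 0, 2, 1, 2, 0, 1, 2, 0, 2], 67027), (67, [2, 2, 1, 2, 0, 1, 2, 0, 3, 3, 1, 3, 0, 1, 3, 0, 3, 3], 148), (36, [2, 2, 2], 603)], 42686), ([(28, [2, 2, 1, 3, 0, 2, 1, 2, 0, 2, 1, 2, 0, 1, 2, 0, 2], 63598), (44, [3, 3, 1, 3, 0, 1, 3, 0, 3, 3, 1, 2, 0, 1, 2, 0], 397), (50, [2, 2, 2], 102)], 42686), ([(40, [1, 2, 0, 2, 1, 2, 0, 1, 2, 0, 1, 2, 0, 2, 1, 2, 0], 765), (77, [3, 1, 2, 0, 2, 1, 3, 0, 3], 453), (10, [2, 2, 2], 81817)], 786), ([(41, [1, 2, 0, 2, 1, 2, 0, 1, 2, 0, 1, 2, 0, 2, 1, 2, 0], 931), (58, [2,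 1, 2, 0, 1, 2, 0, 1, 2, 0, 2, 2, 1, 3, 0], 11), (22, [2, 1, 2, 0, 3], 1385)], 800), ([(42, [1, 2, 0, 2, 1, 2, 0, 1, 2, 0, 1, 2, 0, 2, 1, 2, 0], 731), (80, [1, 2, 0, 3, 3, 1, 3, 0, 3, 1, 2, 0, 2, 1, 2, 0, 3], 194), (16, [2, 2, 2], 220)], 1337), ([(43, [1, 2, 0, 2, 1, 2, 0, 1, 2, 0, 1, 2, 0, 2, 1, 2, 0], 1007), (43, [1, 3, 0, 2, 1, 2, 0, 2, 2, 1, 2, 0, 3, 3, 1, 2, 0, 3, 3, 1, 2, 0], 670), (32, [2, 2, 2], 121)], 752), ([(44, [1, 2, 0, 1, 2, 0, 2, 2, 1, 2, 0, 2, 2, 2, 1, 3, 0, 2, 2], 788), (58, [2, 1, 2, 0, 3, 1, 3, 0, 2, 1, 2, 0, 3, 1, 3, 0, 1, 3, 0], 60), (21, [2, 1, 2, 0, 2, 2, 2, 1, 2, 0, 3], 2981)], 459), ([(44, [2, 2, 1, 3, 0, 2, 2, 1, 2, 0, 3, 1, 3, 0, 1, 3, 0, 2], 983), (50,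 [2, 2, 1, 3, 0, 2, 1, 2, 0, 2, 1, 2, 0, 1, 2, 0, 2], 119), (28, [2, 2, 2], 63598)], 569), ([(44, [3, 3, 1, 2, 0, 2, 1, 2, 0, 1, 2, 0, 3, 3, 1, 2, 0, 1, 2, 0], 672), (70, [1, 2, 0, 1, 2, 0, 3, 3, 1, 3, 0, 2, 2, 1, 2, 0, 1, 2, 0, 2, 1, 2, 0], 182), (53, [2, 2, 2], 176)], 786), ([(45, [1, 2, 0, 1, 2, 0, 2, 2, 1, 2, 0, 2, 2, 2, 1, 3, 0, 2, 2], 858), (92, [1, 2, 0, 1, 2, 0, 2, 2, 1, 2, 0, 2, 2, 2, 1, 3, 0, 2, 2], 291), (46, [2, 2, 2], 147)], 786), ([(45, [2, 2, 1, 3, 0, 2, 2, 1, 2, 0, 3, 1, 3, 0, 1, 3, 0, 2], 981), (94, [3, 3, 1, 2, 0, 2, 1, 2, 0, 1, 2, 0, 3, 3, 1, 2, 0, 1, 2, 0], 580), (39, [2, 2, 2], 678)], 668), ([(45, [3, 3, 1, 2, 0, 2, 1, 2, 0, 1, 2, 0, 3, 3, 1, 2, 0, 1, 2, 0], 512),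 (97, [1, 2, 0, 2, 1, 2, 0, 2, 1, 3, 0, 2, 2, 1, 2, 0, 1, 2, 0, 3], 187), (51, [2, 2, 2], 73)], 786), ([(43, [2, 1, 3, 0, 3, 1, 2, 0, 1, 2, 0, 2, 1, 2, 0, 2, 2, 1, 2, 0, 1, 2, 0, 3], 1236), (44, [1, 2, 0, 1, 2, 0, 2, 2, 1, 3, 0, 1, 3, 0, 2, 2, 2], 242), (56, [2, 2, 2], 40)], 1341), ([(40, [2, 1, 3, 0, 3, 1, 2, 0, 1, 2, 0, 2, 1, 2, 0, 2, 2, 1, 2, 0, 1, 2, 0, 3], 141), (88, [3, 1, 2, 0, 2, 1, 2, 0, 1, 2, 0, 2, 1, 3, 0, 3, 1, 2, 0, 2, 2, 1, 2, 0], 297), (82, [2, 2, 2], 199)], 786), ([(41, [2, 1, 3, 0, 3, 1, 2, 0, 1, 2, 0, 2, 1, 2, 0, 2, 2, 1, 2, 0, 1, 2, 0, 3], 1098), (67, [1, 2, 0, 1, 2, 0, 1, 2, 0, 3, 3, 1, 2, 0, 3, 1, 3, 0, 2, 1, 2, 0, 3], 93), (43, [2, 1, 3, 0, 2, 1, 2, 0, 2, 2,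 1, 3, 0, 2, 2, 1, 3, 0, 2], 1049)], 344), ([(43, [1, 3, 0, 1, 3, 0, 3, 1, 2, 0, 2, 1, 2, 0, 1, 2, 0, 1, 2, 0, 3], 5), (40, [2, 1, 3, 0, 3, 3, 1, 3, 0, 3, 1, 2, 0, 2, 1, 2, 0, 1, 2, 0, 1, 2, 0], 444), (87, [1, 3, 0, 2, 1, 2, 0, 1, 2, 0, 2, 2, 1, 3, 0, 1, 3, 0, 3, 1, 3, 0], 47)], 786), ([(45, [1, 3, 0, 3, 3, 1, 2, 0, 3, 1, 3, 0, 3], 166), (93, [2, 2, 2, 1, 2, 0, 1, 2, 0, 2, 2, 1, 3, 0, 3, 3, 1, 3, 0, 1, 3, 0], 564), (67, [2, 1, 3, 0, 3, 1, 2, 0, 2, 1, 3, 0, 2, 2, 2], 134)], 537), ([(44, [1, 3, 0, 3, 3, 1, 2, 0, 3, 1, 3, 0, 3], 205), (71, [1, 2, 0, 1, 2, 0, 2, 1, 2, 0, 1, 2, 0, 1, 2, 0, 3, 3, 1, 3, 0, 3, 1, 2, 0], 59), (94, [2, 2, 2], 626)], 786), ([(54, [1, 2, 0, 1, 2, 0, 2, 2, 1,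 2, 0, 2, 2, 2, 1, 3, 0, 2, 2], 148), (80, [3, 1, 3, 0, 3, 1, 2, 0, 2, 1, 3, 0, 3, 1, 3, 0, 2, 1, 2, 0, 2], 80), (18, [2, 2, 2], 2971)], 146), ([(55, [1, 2, 0, 1, 2, 0, 2, 2, 1, 2, 0, 2, 2, 2, 1, 3, 0, 2, 2], 148), (94, [1, 2, 0, 2, 1, 2, 0, 2, 1, 3, 0, 2, 2, 1, 2, 0, 1, 2, 0, 3], 379), (37, [2, 1, 2, 0, 2, 2, 2, 1, 2, 0, 3], 904)], 146), ([(59, [1, 2, 0, 1, 2, 0, 2, 2, 1, 2, 0, 2, 2, 2, 1, 3, 0, 2, 2], 132), (58, [1, 2, 0, 1, 2, 0, 2, 1, 3, 0, 2, 2, 1, 3, 0, 1, 3, 0, 3, 3], 132), (20, [2, 2, 2], 4184)], 146), ([(60, [1, 2, 0, 1, 2, 0, 2, 2, 1, 2, 0, 2, 2, 2, 1, 3, 0, 2, 2], 132), (90, [1, 2, 0, 2, 1, 2, 0, 2, 1, 3, 0, 2, 2, 1, 2, 0, 1, 2, 0, 3], 491), (48, [2, 1, 2, 0, 2, 2, 2, 1,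 2, 0, 3], 138)], 132), ([(66, [1, 2, 0, 2, 1, 2, 0, 2, 1, 3, 0, 2, 2, 1, 2, 0, 1, 2, 0, 3], 98), (94, [2, 2, 1, 3, 0, 2, 2, 1, 2, 0, 3, 1, 3, 0, 1, 3, 0, 2], 606), (38, [2, 2, 2], 951)], 146), ([(67, [1, 2, 0, 2, 1, 2, 0, 2, 1, 3, 0, 2, 2, 1, 2, 0, 1, 2, 0, 3], 98), (36, [2, 2, 1, 3, 0, 2, 1, 2, 0, 2, 1, 2, 0, 1, 2, 0, 2], 975), (29, [2, 2, 2], 67027)], 146), ([(70, [1, 2, 0, 2, 1, 2, 0, 2, 1, 3, 0, 2, 2, 1, 2, 0, 1, 2, 0, 3], 63), (67, [2, 1, 3, 0, 2, 1, 2, 0, 2, 1, 2, 0, 3, 3, 1, 3, 0, 3, 1, 2, 0], 14), (35, [2, 2, 2], 589)], 48), ([(71, [1, 2, 0, 2, 1, 2, 0, 2, 1, 3, 0, 2, 2, 1, 2, 0, 1, 2, 0, 3], 63), (93, [3, 3, 1, 3, 0, 1, 3, 0, 3, 3, 1, 2, 0, 1, 2, 0], 541), (52, [2, 2, 2],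 232)], 146), ([(59, [2, 2, 2, 1, 3, 0, 2, 2, 1, 2, 0, 1, 2, 0, 1, 2, 0, 3, 3, 1, 2, 0], 232), (71, [2, 2, 1, 2, 0, 3, 3, 1, 2, 0, 3, 1, 3, 0, 1, 3, 0, 2, 1, 2, 0, 3, 1, 3, 0], 29), (92, [2, 2, 2], 117)], 146), ([(60, [2, 2, 2, 1, 3, 0, 2, 2, 1, 2, 0, 1, 2, 0, 1, 2, 0, 3, 3, 1, 2, 0], 232), (88, [1, 2, 0, 2, 2, 2, 1, 3, 0, 2, 2, 2, 1, 2, 0], 383), (89, [2, 2, 2], 378)], 146), ([(66, [2, 2, 2, 1, 3, 0, 1, 3, 0, 3, 1, 2, 0, 2, 2, 1, 3, 0, 2], 190), (94, [2, 1, 3, 0, 3, 1, 2, 0, 1, 2, 0, 2, 2, 1, 3, 0, 2, 1, 2, 0, 2, 1, 3, 0, 2, 1, 2, 0], 612), (41, [2, 1, 3, 0, 2, 1, 2, 0, 2, 2, 1, 3, 0, 2, 2, 1, 3, 0, 2], 598)], 29), ([(75, [2, 1, 3, 0, 2, 1, 2, 0, 2, 1, 3, 0, 3, 1, 2, 0, 3, 1, 3,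 0, 3, 1, 2, 0, 2], 239), (58, [3, 1, 3, 0, 2, 1, 2, 0, 2, 2, 1, 3, 0, 3, 1, 3, 0, 2], 62), (25, [2, 2, 2], 1608)], 184), ([(75, [2, 1, 3, 0, 1, 3, 0, 2, 2, 1, 3, 0, 2, 1, 2, 0, 2, 1, 3, 0, 2], 144), (60, [2, 2, 1, 2, 0, 1, 2, 0, 2, 2, 1, 3, 0, 2, 1, 2, 0, 2, 1, 3, 0, 2], 134), (84, [2, 1, 3, 0, 3, 3, 1, 2, 0, 1, 2, 0, 2, 1, 2, 0, 2, 1, 3, 0], 138)], 13), ([(54, [2, 2, 2, 1, 3, 0, 2, 2, 1, 2, 0, 1, 2, 0, 1, 2, 0, 3, 3, 1, 2, 0], 232), (88, [1, 2, 0, 3, 3, 1, 3, 0, 2, 1, 2, 0, 2, 2, 2], 385), (90, [2, 2, 2], 373)], 146), ([(55, [2, 2, 2, 1, 3, 0, 2, 2, 1, 2, 0, 1, 2, 0, 1, 2, 0, 3, 3, 1, 2, 0], 232), (93, [2, 1, 3, 0, 3, 1, 3, 0, 2, 1, 2, 0, 2, 2, 1, 3, 0, 3], 413), (59, [2, 2, 1,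 3, 0, 3, 1, 2, 0, 3, 1, 3, 0, 3, 1, 2, 0], 228)], 204), ([(74, [2, 1, 3, 0, 3, 1, 2, 0, 3, 1, 3, 0, 3, 3, 1, 2, 0, 1, 2, 0], 87), (73, [1, 2, 0, 2, 1, 3, 0, 3, 3, 1, 3, 0, 2, 2, 1, 2, 0, 1, 2, 0, 2, 2, 1, 2, 0], 10), (68, [2, 1, 3, 0, 2, 2, 2], 6)], 146), ([(75, [2, 1, 3, 0, 3, 1, 2, 0, 3, 1, 3, 0, 3, 3, 1, 2, 0, 1, 2, 0], 87), (61, [2, 1, 3, 0, 2, 1, 2, 0, 1, 2, 0], 95), (99, [2, 2, 2], 12990)], 146), ([(59, [3, 1, 2, 0, 2, 2, 1, 3, 0, 1, 3, 0, 2, 2, 1, 2, 0, 1, 2, 0, 3], 185), (59, [2, 2, 1, 3, 0, 2, 1, 2, 0, 2, 2, 1, 3, 0, 1, 3, 0, 3, 1, 3, 0, 1, 3, 0, 2], 156), (64, [1, 2, 0, 1, 2, 0, 3, 1, 3, 0, 3, 1, 2, 0, 2, 1, 3, 0, 3, 1, 2, 0], 190)], 207), ([(54, [2, 1, 2, 0, 2, 1, 3, 0,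 2, 2, 1, 3, 0, 3, 3, 1, 2, 0, 3, 3], 96), (88, [1, 3, 0, 2, 2, 1, 2, 0, 1, 2, 0, 2, 1, 3, 0, 1, 3, 0, 2], 449), (81, [2, 2, 2], 51)], 146), ([(56, [3, 3, 1, 2, 0, 2, 1, 2, 0, 1, 2, 0, 3, 3, 1, 3, 0], 139), (40, [1, 2, 0, 3, 1, 3, 0, 2, 1, 2, 0, 2], 456), (86, [3, 3, 1, 3, 0, 3, 1, 2, 0, 2, 2, 1, 2, 0], 194)], 68), ([(70, [1, 3, 0, 1, 3, 0, 3, 1, 2, 0, 2, 1, 2, 0, 1, 2, 0, 1, 2, 0, 3], 38), (67, [3, 1, 3, 0, 1, 3, 0, 2, 2, 1, 2, 0, 1, 2, 0, 1, 2, 0], 188), (44, [1, 2, 0, 3, 3, 1, 3, 0, 3, 1, 2, 0, 3, 3, 1, 3, 0, 1, 3, 0], 234)], 63), ([(71, [1, 3, 0, 1, 3, 0, 3, 1, 2, 0, 2, 1, 2, 0, 1, 2, 0, 1, 2, 0, 3], 38), (98, [2, 1, 3, 0, 2, 2, 1, 2, 0, 2, 2, 1, 3, 0, 3], 132), (97, [2, 2, 2],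 332)], 146), ([(73, [2, 1, 3, 0, 3, 1, 2, 0, 3, 1, 3, 0, 3, 3, 1, 2, 0, 1, 2, 0], 114), (72, [1, 2, 0, 2, 2, 1, 3, 0, 3, 1, 3, 0, 2, 1, 2, 0, 1, 2, 0, 2, 1, 3, 0], 98), (69, [2, 2, 2], 203)], 110), ([(72, [2, 1, 3, 0, 3, 1, 2, 0, 3, 1, 3, 0, 3, 3, 1, 2, 0, 1, 2, 0], 114), (75, [1, 2, 0, 3, 1, 3, 0, 2, 1, 2, 0, 1, 2, 0, 2, 2, 1, 2, 0, 1, 2, 0, 3, 3], 129), (62, [1, 2, 0, 2, 2], 119)], 146), ([(66, [1, 3, 0, 1, 3, 0, 3, 1, 2, 0, 2, 1, 2, 0, 1, 2, 0, 1, 2, 0, 3], 25), (98, [2, 1, 3, 0, 3, 3, 1, 3, 0, 2, 2, 1, 2, 0, 2], 314), (93, [1, 2, 0, 3, 3, 1, 3, 0, 3, 1, 2, 0, 3, 3, 1, 3, 0, 1, 3, 0], 589)], 182), ([(67, [1, 3, 0, 1, 3, 0, 3, 1, 2, 0, 2, 1, 2, 0, 1, 2, 0, 1, 2, 0, 3], 25), (44,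 [2, 1, 2, 0, 2, 1, 2, 0, 1, 2, 0, 1, 2, 0, 3, 1, 3, 0, 1, 3, 0, 3, 1, 2, 0, 2, 1, 3, 0], 1224), (70, [3, 3, 1, 2, 0, 3, 1, 3, 0, 2, 1, 2, 0, 3, 1, 3, 0], 202)], 146), ([(67, [2, 1, 2, 0, 1, 2, 0, 3, 1, 3, 0, 3, 1, 2, 0, 2, 1, 2, 0, 2], 208), (41, [1, 2, 0, 3, 1, 3, 0, 3, 1, 2, 0, 2, 1, 2, 0, 1, 2, 0, 2, 2, 2], 507), (72, [3, 1, 2, 0, 1, 2, 0, 2, 1, 3, 0, 2, 2, 1, 2, 0, 1, 2, 0, 1, 2, 0], 122)], 40), ([(66, [2, 1, 2, 0, 1, 2, 0, 3, 1, 3, 0, 3, 1, 2, 0, 2, 1, 2, 0, 2], 208), (92, [2, 2, 1, 2, 0, 1, 2, 0, 2, 2, 2, 1, 3, 0, 3, 1, 2, 0, 1, 2, 0, 2], 243), (73, [2, 1, 2, 0, 2, 1, 2, 0, 3, 1, 3, 0, 1, 3, 0, 3, 3, 1, 3, 0, 3], 116)], 34), ([(60, [2, 1, 2, 0, 1, 2, 0, 3, 1, 3, 0, 3, 1, 2,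 0, 2, 1, 2, 0, 2], 93), (89, [1, 3, 0, 3, 1, 3, 0, 1, 3, 0, 3, 1, 3, 0, 2, 1, 2, 0, 3, 1, 3, 0, 1, 3, 0, 2, 2], 279), (74, [1, 2, 0, 2, 1, 2, 0, 3, 1, 3, 0, 1, 3, 0, 3, 3, 1, 2, 0, 3], 179)], 68), ([(59, [2, 1, 2, 0, 1, 2, 0, 3, 1, 3, 0, 3, 1, 2, 0, 2, 1, 2, 0, 2], 93), (72, [3, 3, 1, 3, 0, 2, 1, 2, 0, 1, 2, 0, 2, 1, 2, 0, 1, 2, 0, 1, 2, 0], 197), (75, [1, 2, 0, 2, 2, 1, 2, 0, 2, 1, 3, 0, 3, 1, 3, 0, 2, 1, 2, 0], 140)], 68), ([(82, [3, 1, 2, 0, 2, 1, 3, 0, 3, 1, 2, 0, 1, 2, 0], 2), (31, [2, 2, 1, 2, 0, 2, 2, 2], 906), (11, [2, 2, 2], 49486)], 49), ([(83, [3, 1, 2, 0, 2, 1, 3, 0, 3, 1, 2, 0, 1, 2, 0], 421), (85, [1, 2, 0, 2, 1, 3, 0, 3, 1, 3, 0, 1, 3, 0, 2, 2, 2, 1, 3, 0], 188), (78,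 [2, 1, 3, 0, 2], 49)], 49), ([(87, [2, 1, 2, 0, 2, 2, 1, 3, 0, 2, 1, 2, 0, 3, 1, 3, 0], 98), (42, [2, 2, 1, 3, 0, 1, 3, 0, 3, 1, 2, 0, 2], 1412), (79, [2, 1, 2, 0, 1, 2, 0, 1, 2, 0, 2, 1, 2, 0], 382)], 50), ([(86, [2, 2, 1, 3, 0, 3, 1, 2, 0, 2, 2, 2, 1, 2, 0], 46), (63, [2, 2, 1, 3, 0, 3, 1, 2, 0, 2, 2, 2, 1, 2, 0], 50), (76, [2, 2, 1, 3, 0, 1, 3, 0, 2, 1, 2, 0], 379)], 109), ([(88, [1, 2, 0, 1, 2, 0, 1, 2, 0, 3, 3, 1, 3, 0, 2, 2, 1, 2, 0, 3, 1, 3, 0, 2, 2], 60), (90, [3, 1, 2, 0, 2, 2, 1, 3, 0, 1, 3, 0, 2, 2, 1, 2, 0, 1, 2, 0, 3], 423), (63, [2, 2, 2], 207)], 462), ([(89, [2, 2, 1, 3, 0, 2, 2, 1, 2, 0, 2, 1, 3, 0, 1, 3, 0, 3, 1, 3, 0, 1, 3, 0], 22), (47, [2, 1, 3, 0, 2, 2, 2, 1,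 2, 0, 3, 1, 3, 0, 2], 140), (24, [2, 2, 2], 195)], 300), ([(89, [3, 1, 3, 0, 2, 2, 1, 2, 0, 1, 2, 0, 2, 2, 1, 3, 0, 1, 3, 0, 3, 1, 3, 0], 43), (65, [3, 1, 2, 0, 1, 2, 0, 2, 1, 2, 0, 1, 2, 0, 2, 1, 3, 0, 1, 3, 0], 203), (83, [2, 1, 3, 0, 3, 1, 2, 0, 2, 2, 1, 3, 0, 3, 1, 2, 0, 2, 1, 2, 0, 2], 168)], 312), ([(88, [2, 1, 3, 0, 1, 3, 0, 3, 1, 3, 0, 1, 3, 0, 3, 1, 2, 0, 1, 2, 0, 2, 2, 1, 2, 0, 3, 3], 277), (87, [2, 1, 2, 0, 2, 2, 2], 107), (40, [2, 2, 2], 1409)], 49), ([(90, [2, 1, 3, 0, 2, 1, 2, 0, 3, 1, 3, 0, 1, 3, 0, 3, 1, 3, 0], 240), (60, [2, 1, 3, 0, 2, 1, 2, 0, 2, 2, 2, 1, 2, 0, 3], 219), (85, [3, 3, 1, 3, 0, 2, 2, 1, 3, 0, 1, 3, 0, 3, 1, 3, 0], 84)], 248), ([(91, [2, 1, 3, 0, 2,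 1, 2, 0, 3, 1, 3, 0, 1, 3, 0, 3, 1, 3, 0], 240), (92, [2, 1, 2, 0, 1, 2, 0, 2, 1, 2, 0, 3, 1, 3, 0, 2, 1, 2, 0, 3, 1, 3, 0, 3, 3], 24), (57, [2, 1, 3, 0, 2, 1, 2, 0, 2, 2, 2, 1, 2, 0, 3], 120)], 286), ([(90, [2, 1, 2, 0, 3, 3, 1, 2, 0, 2, 2, 1, 3, 0, 3, 1, 2, 0, 2, 1, 2, 0, 3], 217), (67, [1, 2, 0, 1, 2, 0, 1, 2, 0, 3, 3, 1, 2, 0, 1, 2, 0, 2, 2, 1, 2, 0, 3], 146), (42, [3, 1, 2, 0, 3, 1, 3, 0, 3], 402)], 403), ([(91, [1, 2, 0, 1, 2, 0, 2, 2, 1, 3, 0, 1, 3, 0, 3, 1, 3, 0], 215), (92, [3, 1, 2, 0, 2, 2, 1, 3, 0, 1, 3, 0, 2, 2, 1, 2, 0, 1, 2, 0, 3], 611), (65, [2, 2, 1, 2, 0, 2, 1, 3, 0, 3, 3, 1, 3, 0, 3, 1, 2, 0], 40)], 7), ([(88, [2, 2, 2, 1, 2, 0, 2, 2, 2, 1, 3, 0], 444), (90, [2,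 2, 2, 1, 3, 0, 2, 2, 1, 2, 0, 1, 2, 0, 1, 2, 0, 3, 3, 1, 2, 0], 324), (54, [2, 2, 2], 232)], 26), ([(89, [2, 2, 2, 1, 2, 0, 2, 2, 2, 1, 3, 0], 444), (60, [1, 3, 0, 3, 1, 3, 0, 1, 3, 0, 3, 3, 1, 2, 0, 2, 2, 1, 3, 0, 1, 3, 0, 3], 232), (88, [1, 3, 0, 2, 2, 1, 3, 0, 2, 2, 1, 2, 0, 2, 2, 1, 3, 0, 3, 1, 3, 0], 383)], 194), ([(89, [3, 3, 1, 2, 0, 1, 2, 0, 2, 2, 1, 2, 0, 1, 2, 0, 2, 1, 2, 0], 497), (66, [3, 1, 3, 0, 1, 3, 0, 2, 2, 1, 2, 0, 1, 2, 0, 3, 1, 3, 0], 78), (95, [1, 2, 0, 2, 2, 1, 2, 0, 2, 1, 2, 0, 1, 2, 0, 1, 2, 0, 3, 1, 3, 0, 2], 359)], 49), ([(88, [3, 3, 1, 2, 0, 1, 2, 0, 2, 2, 1, 2, 0, 1, 2, 0, 2, 1, 2, 0], 497), (89, [2, 2, 2, 1, 3, 0, 2, 2, 1, 2, 0, 1, 2, 0, 1, 2, 0, 3, 3,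 1, 2, 0], 475), (60, [2, 2, 2], 232)], 49), ([(94, [3, 1, 2, 0, 3, 1, 3, 0, 3, 3, 1, 3, 0, 1, 3, 0, 3, 1, 3, 0, 2, 1, 2, 0], 395), (44, [1, 2, 0, 3, 1, 3, 0, 1, 3, 0, 3, 3, 1, 2, 0, 2, 2, 2], 69), (55, [1, 3, 0, 2, 2, 1, 3, 0, 2, 2, 1, 2, 0, 2, 2, 1, 3, 0, 3, 1, 3, 0], 109)], 379), ([(93, [1, 2, 0, 2, 1, 2, 0, 3, 1, 3, 0, 1, 3, 0, 3, 1, 3, 0], 435), (67, [1, 2, 0, 3, 1, 3, 0, 2, 1, 2, 0, 2, 2, 1, 2, 0, 3, 1, 3, 0, 3], 90), (45, [2, 2, 2], 1222)], 291), ([(94, [2, 2, 1, 2, 0, 1, 2, 0, 2, 1, 3, 0, 2, 2, 1, 3, 0, 3, 3, 1, 2, 0, 1, 2, 0], 521), (44, [2, 2, 2, 1, 2, 0, 1, 2, 0, 2, 2, 1, 3, 0, 3, 3, 1, 3, 0, 1, 3, 0], 13), (71, [2, 1, 3, 0, 3, 1, 2, 0, 2, 1, 3, 0, 2, 2, 2], 19)], 411),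 ([(97, [2, 1, 2, 0, 2, 2, 1, 2, 0, 2, 1, 3, 0], 58), (54, [1, 2, 0, 2, 1, 3, 0, 2], 74), (91, [1, 3, 0, 3, 1, 2, 0, 3, 3], 390)], 379), ([(98, [2, 2, 1, 2, 0, 2, 2, 2, 1, 2, 0], 11), (93, [2, 1, 3, 0, 2, 2, 1, 2, 0, 2, 1, 3, 0, 3, 3, 1, 3, 0, 1, 3, 0], 467), (66, [2, 2, 2], 166)], 522), ([(98, [3, 1, 2, 0, 1, 2, 0, 3, 1, 3, 0, 3, 1, 2, 0, 3, 3], 33), (98, [1, 2, 0, 1, 2, 0, 1, 2, 0, 2, 1, 3, 0, 3, 1, 3, 0, 1, 3, 0], 416), (96, [3, 3, 1, 2, 0, 3, 1, 3, 0, 2, 1, 2, 0, 3, 1, 3, 0], 353)], 517), ([(95, [3, 3, 1, 2, 0, 2, 2, 1, 3, 0, 3, 3, 1, 2, 0, 1, 2, 0], 437), (91, [1, 2, 0, 2, 2, 1, 2, 0, 2, 1, 2, 0, 3, 3, 1, 3, 0, 3, 3], 386), (98, [1, 2, 0, 2, 2, 2, 1, 2, 0, 3, 1, 3, 0, 2, 1, 2,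 0, 2, 2], 92)], 50), ([(99, [2, 1, 3, 0, 2, 1, 2, 0, 1, 2, 0], 2885), (74, [2, 2, 1, 2, 0, 2, 2, 2, 1, 3, 0, 3, 3, 1, 2, 0, 1, 2, 0, 3], 179), (61, [2, 2, 2], 61)], 2342), ([(99, [2, 2, 1, 2, 0, 3, 3, 1, 3, 0, 3, 1, 2, 0, 2, 1, 3, 0], 3376), (61, [2, 2, 1, 2, 0, 3, 3, 1, 3, 0, 3, 1, 2, 0, 2, 1, 3, 0], 228), (100, [2, 2, 2], 17350)], 26170)],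
[([(0, [], 0), (5, [], 0), (2, [], 24400)], 0), ([(5, [], 57835), (2, [], 24400), (0, [], 0)], 24942), ([(6, [], 57835), (14, [], 2300), (3, [], 24400)], 24942), ([(7, [], 8257), (26, [], 9832), (4, [], 24400)], 3540), ([(8, [], 8257), (12, [], 2300), (1, [], 24400)], 3540), ([(9, [3, 1, 2, 0], 45627), (19, [1, 3, 0, 2], 2758), (12, [1, 2, 0], 2983)], 6074), ([(9, [2, 2, 1, 2, 0, 2, 2, 1, 2, 0, 3, 1, 3, 0], 85945), (17, [3, 1, 2, 0], 4587), (5, [1, 2, 0], 4220)], 6074), ([(10, [3, 1, 2, 0], 4270), (34, [2, 2, 1, 3, 0, 2, 1, 2, 0, 1, 2, 0, 2, 2, 1, 3, 0, 1, 3, 0], 850), (14, [1, 2, 0], 3655)], 24306), ([(10, [2, 2, 1, 2, 0, 2, 2, 1, 2, 0, 3, 1, 3, 0], 63363), (36, [1, 3, 0, 2], 568),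 (26, [1, 2, 0], 31284)], 24306), ([(11, [2, 2, 1, 2, 0, 2, 1, 2, 0, 3], 21350), (80, [1, 2, 0, 2, 1, 2, 0, 2, 1, 3, 0, 2, 2, 1, 2, 0, 1, 2, 0, 3], 91), (17, [1, 3, 0, 3, 3], 3304)], 0), ([(11, [1, 2, 0, 1, 2, 0, 2, 2, 1, 2, 0, 1, 2, 0], 45993), (82, [1, 2, 0, 2, 1, 2, 0, 2, 1, 3, 0, 2, 2, 1, 2, 0, 1, 2, 0, 3], 221), (31, [1, 3, 0, 3, 3], 1007)], 94616), ([(9, [1, 2, 0, 2, 1, 3, 0, 3, 3, 1, 2, 0], 98565), (24, [2, 1, 3, 0, 2, 1, 2, 0, 2, 1, 3, 0, 3], 3939), (77, [1, 3, 0, 3, 3], 318)], 0), ([(18, [2, 2, 1, 3, 0, 2, 1, 2, 0, 1, 2, 0, 2, 2, 1, 3, 0, 1, 3, 0], 2858), (50, [1, 3, 0, 2], 90), (27, [1, 2, 0], 31284)], 2634), ([(19, [2, 2, 1, 3, 0, 2, 1, 2, 0, 1, 2, 0, 2, 2, 1, 3, 0, 1,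 3, 0], 2858), (17, [2, 2, 1, 2, 0, 2, 2, 1, 2, 0, 3, 1, 3, 0], 51), (6, [1, 2, 0], 44960)], 2634), ([(20, [2, 2, 1, 3, 0, 2, 1, 2, 0, 1, 2, 0, 2, 2, 1, 3, 0, 1, 3, 0], 2720), (49, [2, 2, 1, 3, 0, 2, 1, 2, 0, 1, 2, 0, 2, 2, 1, 3, 0, 1, 3, 0], 14), (15, [1, 2, 0], 3655)], 2966), ([(21, [2, 2, 1, 3, 0, 2, 1, 2, 0, 1, 2, 0, 2, 2, 1, 3, 0, 1, 3, 0], 2720), (31, [2, 2, 1, 2, 0, 2, 2, 1, 2, 0, 3, 1, 3, 0], 844), (8, [1, 2, 0], 97291)], 2966), ([(24, [1, 2, 0, 2, 1, 2, 0, 2, 1, 3, 0, 2, 2, 1, 2, 0, 1, 2, 0, 3], 3687), (77, [2, 2, 1, 2, 0, 2, 1, 2, 0, 3], 351), (9, [1, 3, 0, 3, 3], 61020)], 2985), ([(24, [2, 2, 1, 2, 0, 2, 1, 3, 0, 2, 2, 2, 1, 3, 0], 759), (87, [2, 1, 2, 0, 2, 1, 2, 0, 3,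 1, 3, 0, 2, 2, 2], 137), (33, [1, 3, 0, 3, 3], 895)], 4192), ([(24, [3, 1, 2, 0, 2, 2, 1, 2, 0, 1, 2, 0, 3, 3, 1, 3, 0], 1949), (80, [3, 1, 2, 0, 2, 1, 2, 0, 1, 2, 0, 2, 1, 3, 0, 3, 1, 2, 0, 2], 134), (19, [2, 2, 1, 2, 0, 3, 1, 3, 0, 3, 1, 2, 0, 3, 1, 3, 0], 4530)], 3707), ([(24, [1, 3, 0, 1, 3, 0, 3, 1, 3, 0, 2, 1, 2, 0, 2, 2, 1, 2, 0, 1, 2, 0, 3], 1809), (89, [3, 1, 2, 0, 2, 1, 2, 0, 1, 2, 0, 3, 3, 1, 2, 0, 1, 2, 0, 2, 2], 481), (47, [1, 3, 0, 3, 3], 170)], 0), ([(25, [1, 2, 0, 2, 2, 1, 3, 0, 2, 1, 2, 0, 3], 4974), (67, [2, 2, 2, 1, 3, 0, 1, 3, 0, 3, 1, 2, 0, 2, 1, 2, 0, 2], 111), (34, [1, 3, 0, 3, 3], 870)], 0), ([(25, [2, 2, 1, 3, 0, 3, 1, 2, 0, 2, 1, 2, 0, 1, 2, 0, 3], 2881),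 (59, [1, 3, 0, 1, 3, 0, 3, 3, 1, 2, 0, 3, 3, 1, 2, 0, 2, 1, 3, 0], 7), (49, [1, 3, 0, 3, 3], 231)], 0), ([(25, [2, 1, 2, 0, 1, 2, 0, 1, 2, 0, 2, 2, 1, 3, 0], 821), (58, [2, 1, 2, 0, 3, 1, 3, 0, 3, 1, 2, 0, 2, 1, 2, 0, 3, 3, 1, 3, 0], 4), (23, [2, 1, 2, 0, 3, 3, 1, 3, 0, 3, 1, 2, 0], 1354)], 878), ([(25, [3, 3, 1, 2, 0, 2, 2, 1, 3, 0, 3], 563), (56, [2, 1, 2, 0, 2, 2, 1, 2, 0, 3, 1, 3, 0, 2, 1, 2, 0, 3], 123), (30, [2, 2, 1, 3, 0, 3, 1, 2, 0], 1151)], 2664), ([(24, [2, 2, 1, 2, 0, 1, 2, 0, 1, 2, 0, 2, 1, 3, 0, 3, 1, 3, 0], 692), (88, [1, 2, 0, 1, 2, 0, 1, 2, 0, 2, 2, 1, 2, 0, 3, 1, 3, 0], 251), (80, [2, 1, 2, 0, 1, 2, 0, 1, 2, 0, 2, 2, 1, 3, 0, 2, 1, 2, 0, 2, 1, 3, 0], 248)], 1115),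 ([(24, [1, 2, 0, 1, 2, 0, 2, 1, 3, 0, 3, 1, 3, 0, 2, 1, 2, 0, 2], 4236), (81, [3, 3, 1, 2, 0, 2, 1, 2, 0, 1, 2, 0, 3, 3, 1, 3, 0], 143), (58, [1, 3, 0, 3, 3], 106)], 4816), ([(28, [1, 3, 0, 2], 17617), (31, [3, 1, 2, 0], 752), (7, [1, 2, 0], 93538)], 40908), ([(29, [1, 3, 0, 2], 31227), (47, [2, 2, 1, 3, 0, 2, 1, 2, 0, 1, 2, 0, 2, 2, 1, 3, 0, 1, 3, 0], 102), (13, [1, 2, 0], 3811)], 42652), ([(29, [2, 2, 1, 2, 0, 3, 1, 3, 0, 1, 3, 0, 3, 1, 3, 0], 1667), (67, [2, 1, 2, 0, 2, 1, 3, 0, 2, 2, 1, 3, 0, 3, 3, 1, 3, 0, 3], 94), (36, [1, 3, 0, 3, 3], 570)], 0), ([(28, [2, 2, 1, 2, 0, 3, 1, 3, 0, 1, 3, 0, 3, 1, 3, 0], 358), (44, [1, 3, 0, 1, 3, 0, 3, 1, 3, 0, 1, 3, 0, 3, 1, 2, 0, 2, 1, 2,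 0, 2], 473), (50, [1, 3, 0, 3, 3], 149)], 0), ([(40, [1, 2, 0, 2, 1, 2, 0, 2, 1, 3, 0, 2, 2, 1, 2, 0, 1, 2, 0, 3], 934), (77, [1, 2, 0, 1, 2, 0, 2, 2, 1, 2, 0, 1, 2, 0], 428), (10, [1, 3, 0, 3, 3], 24749)], 0), ([(41, [1, 2, 0, 2, 1, 2, 0, 2, 1, 3, 0, 2, 2, 1, 2, 0, 1, 2, 0, 3], 971), (58, [1, 2, 0, 3, 1, 3, 0, 2, 2, 1, 2, 0, 3, 3, 1, 2, 0, 2], 20), (22, [3, 1, 2, 0, 2, 2, 2], 888)], 721), ([(42, [1, 2, 0, 2, 1, 2, 0, 2, 1, 3, 0, 2, 2, 1, 2, 0, 1, 2, 0, 3], 844), (80, [2, 1, 3, 0, 2, 2, 1, 3, 0, 3, 3], 194), (16, [1, 3, 0, 3, 3], 1849)], 1337), ([(43, [1, 2, 0, 2, 1, 2, 0, 2, 1, 3, 0, 2, 2, 1, 2, 0, 1, 2, 0, 3], 829), (43, [3, 1, 2, 0, 2, 1, 3, 0, 2, 2, 1, 3, 0, 1, 3, 0, 3, 1, 2,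 0, 1, 2, 0], 612), (32, [1, 3, 0, 3, 3], 316)], 752), ([(44, [3, 1, 2, 0, 2, 1, 2, 0, 1, 2, 0, 3, 3, 1, 2, 0, 1, 2, 0, 2, 2], 771), (58, [3, 1, 3, 0, 3, 1, 2, 0, 2, 2, 1, 3, 0, 1, 3, 0], 79), (21, [2, 2, 1, 2, 0, 3, 1, 3, 0, 3, 1, 2, 0, 3, 1, 3, 0], 3410)], 371), ([(44, [1, 2, 0, 1, 2, 0, 2, 2, 1, 3, 0, 1, 3, 0, 3, 1, 3, 0, 1, 3, 0, 3], 427), (50, [2, 2, 1, 2, 0, 3, 1, 3, 0, 1, 3, 0, 3, 1, 3, 0], 73), (28, [1, 3, 0, 3, 3], 73925)], 569), ([(44, [3, 1, 2, 0, 2, 1, 2, 0, 1, 2, 0, 2, 1, 3, 0, 3, 1, 2, 0, 2], 857), (70, [1, 2, 0, 2, 1, 2, 0, 1, 2, 0, 2, 1, 3, 0, 3, 1, 3, 0, 2], 56), (53, [1, 3, 0, 3, 3], 128)], 0), ([(45, [3, 1, 2, 0, 2, 1, 2, 0, 1, 2, 0, 3, 3, 1, 2, 0, 1, 2, 0, 2, 2],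 792), (92, [3, 1, 2, 0, 2, 1, 2, 0, 1, 2, 0, 3, 3, 1, 2, 0, 1, 2, 0, 2, 2], 291), (46, [1, 3, 0, 3, 3], 170)], 0), ([(45, [1, 2, 0, 1, 2, 0, 2, 2, 1, 3, 0, 1, 3, 0, 3, 1, 3, 0, 1, 3, 0, 3], 378), (94, [3, 1, 2, 0, 2, 1, 2, 0, 1, 2, 0, 2, 1, 3, 0, 3, 1, 2, 0, 2], 580), (39, [1, 3, 0, 3, 3], 788)], 668), ([(45, [3, 1, 2, 0, 2, 1, 2, 0, 1, 2, 0, 2, 1, 3, 0, 3, 1, 2, 0, 2], 787), (97, [1, 2, 0, 2, 1, 3, 0, 2, 1, 2, 0, 2, 2, 2, 1, 2, 0, 2, 2], 282), (51, [1, 3, 0, 3, 3], 109)], 0), ([(44, [3, 1, 2, 0, 3, 3, 1, 2, 0, 1, 2, 0, 1, 2, 0, 2, 2], 865), (73, [2, 2, 1, 2, 0, 2, 2, 2, 1, 2, 0, 2, 1, 3, 0, 2, 1, 2, 0, 2], 56), (56, [1, 3, 0, 3, 3], 76)], 1341), ([(44, [1, 2, 0, 3, 3, 1, 3, 0, 2,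 1, 2, 0, 1, 2, 0, 3, 3, 1, 3, 0, 2, 1, 2, 0], 535), (54, [3, 1, 2, 0, 2, 1, 2, 0, 2, 2], 130), (82, [1, 3, 0, 3, 3], 49)], 0), ([(45, [3, 1, 2, 0, 3, 3, 1, 2, 0, 1, 2, 0, 1, 2, 0, 2, 2], 944), (94, [3, 1, 2, 0, 1, 2, 0, 1, 2, 0, 3, 1, 3, 0, 3, 1, 2, 0], 76), (43, [1, 3, 0, 2, 2, 1, 3, 0, 1, 3, 0, 3, 1, 2, 0, 1, 2, 0, 3, 1, 3, 0], 685)], 61), ([(45, [1, 2, 0, 3, 3, 1, 3, 0, 2, 1, 2, 0, 1, 2, 0, 3, 3, 1, 3, 0, 2, 1, 2, 0], 697), (95, [1, 2, 0, 3, 3, 1, 3, 0, 1, 3, 0, 3, 1, 3, 0, 2, 1, 2, 0, 2, 2], 239), (87, [3, 1, 2, 0, 2, 1, 2, 0, 3, 1, 3, 0, 2, 2, 2, 1, 2, 0], 227)], 1015), ([(44, [1, 3, 0, 3, 3, 1, 3, 0, 2, 1, 2, 0, 3, 1, 3, 0, 2], 1262), (72, [2, 1, 2, 0, 1, 2, 0, 1, 2, 0, 2,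 1, 3, 0, 3, 1, 3, 0, 1, 3, 0, 3], 230), (67, [1, 2, 0, 3, 1, 3, 0, 2, 1, 2, 0, 2, 2], 93)], 537), ([(45, [1, 2, 0, 2, 1, 3, 0, 3, 1, 3, 0, 1, 3, 0, 2, 1, 2, 0, 3], 281), (96, [3, 1, 2, 0, 2, 1, 3, 0, 2, 1, 2, 0, 3, 1, 3, 0, 2, 1, 2, 0], 317), (94, [1, 3, 0, 3, 3], 541)], 0), ([(54, [3, 1, 2, 0, 2, 1, 2, 0, 1, 2, 0, 3, 3, 1, 2, 0, 1, 2, 0, 2, 2], 131), (80, [1, 2, 0, 1, 2, 0, 2, 2, 1, 3, 0, 1, 3, 0, 3, 1, 3, 0, 1, 3, 0, 3], 222), (18, [1, 3, 0, 3, 3], 4093)], 0), ([(55, [3, 1, 2, 0, 2, 1, 2, 0, 1, 2, 0, 3, 3, 1, 2, 0, 1, 2, 0, 2, 2], 131), (94, [1, 2, 0, 2, 1, 3, 0, 2, 1, 2, 0, 2, 2, 2, 1, 2, 0, 2, 2], 297), (37, [2, 2, 1, 2, 0, 3, 1, 3, 0, 3, 1, 2, 0, 3, 1, 3, 0], 952)], 128), ([(59,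 [3, 1, 2, 0, 2, 1, 2, 0, 1, 2, 0, 3, 3, 1, 2, 0, 1, 2, 0, 2, 2], 164), (58, [1, 2, 0, 2, 2, 1, 3, 0, 2, 1, 2, 0, 3], 127), (20, [1, 3, 0, 3, 3], 2615)], 0), ([(60, [3, 1, 2, 0, 2, 1, 2, 0, 1, 2, 0, 3, 3, 1, 2, 0, 1, 2, 0, 2, 2], 164), (90, [1, 2, 0, 2, 1, 3, 0, 2, 1, 2, 0, 2, 2, 2, 1, 2, 0, 2, 2], 432), (48, [2, 2, 1, 2, 0, 3, 1, 3, 0, 3, 1, 2, 0, 3, 1, 3, 0], 128)], 149), ([(66, [1, 2, 0, 2, 1, 3, 0, 2, 1, 2, 0, 2, 2, 2, 1, 2, 0, 2, 2], 68), (94, [1, 2, 0, 1, 2, 0, 2, 2, 1, 3, 0, 1, 3, 0, 3, 1, 3, 0, 1, 3, 0, 3], 487), (38, [1, 3, 0, 3, 3], 451)], 0), ([(67, [1, 2, 0, 2, 1, 3, 0, 2, 1, 2, 0, 2, 2, 2, 1, 2, 0, 2, 2], 68), (36, [2, 2, 1, 2, 0, 3, 1, 3, 0, 1, 3, 0, 3, 1, 3, 0], 693),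 (29, [1, 3, 0, 3, 3], 73205)], 0), ([(70, [1, 2, 0, 2, 1, 3, 0, 2, 1, 2, 0, 2, 2, 2, 1, 2, 0, 2, 2], 117), (67, [1, 3, 0, 3, 1, 3, 0, 2, 2, 1, 2, 0, 1, 2, 0, 2, 1, 2, 0, 3, 1, 3, 0, 1, 3, 0], 11), (35, [1, 3, 0, 3, 3], 394)], 48), ([(71, [1, 2, 0, 2, 1, 3, 0, 2, 1, 2, 0, 2, 2, 2, 1, 2, 0, 2, 2], 117), (93, [1, 3, 0, 1, 3, 0, 3, 1, 3, 0, 1, 3, 0, 3, 1, 2, 0, 2, 1, 2, 0, 2], 574), (52, [1, 3, 0, 3, 3], 59)], 0), ([(73, [3, 1, 2, 0, 1, 2, 0, 1, 2, 0, 2, 1, 3, 0, 3, 1, 3, 0, 1, 3, 0, 2, 2, 2], 137), (55, [1, 2, 0, 2, 1, 3, 0, 3, 1, 3, 0, 1, 3, 0, 2, 2, 1, 3, 0, 2, 1, 2, 0], 224), (92, [1, 3, 0, 3, 3], 65)], 0), ([(72, [3, 1, 2, 0, 1, 2, 0, 1, 2, 0, 2, 1, 3, 0, 3, 1, 3, 0, 1, 3, 0, 2,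 2, 2], 137), (60, [1, 3, 0, 1, 3, 0, 2, 2, 1, 2, 0, 3, 1, 3, 0, 1, 3, 0, 2, 2, 2], 238), (89, [1, 3, 0, 3, 3], 392)], 0), ([(73, [2, 1, 3, 0, 3, 1, 2, 0, 2, 1, 3, 0, 3, 3, 1, 2, 0], 184), (67, [2, 2, 1, 3, 0, 3, 1, 2, 0, 2, 1, 2, 0, 1, 2, 0, 3, 1, 3, 0, 3], 161), (41, [1, 3, 0, 2, 2, 1, 3, 0, 1, 3, 0, 3, 1, 2, 0, 1, 2, 0, 3, 1, 3, 0], 542)], 12), ([(60, [2, 1, 2, 0, 2, 1, 3, 0, 3, 1, 2, 0, 2, 2, 2, 1, 3, 0, 1, 3, 0], 113), (80, [3, 1, 2, 0, 2, 2, 1, 3, 0, 3, 3, 1, 2, 0, 1, 2, 0, 2, 1, 3, 0], 165), (25, [1, 3, 0, 3, 3], 1603)], 184), ([(64, [3, 3, 1, 2, 0, 2, 1, 2, 0, 1, 2, 0, 3, 3, 1, 3, 0], 66), (54, [2, 2, 2, 1, 3, 0, 1, 3, 0, 2, 2, 1, 2, 0, 1, 2, 0, 3], 84), (84, [2, 1, 2, 0,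 2, 1, 2, 0, 1, 2, 0, 3, 3, 1, 3, 0, 3, 1, 2, 0, 2], 43)], 31), ([(75, [3, 1, 2, 0, 3, 3, 1, 2, 0, 1, 2, 0, 2, 1, 3, 0, 3, 1, 3, 0, 1, 3, 0], 62), (57, [3, 1, 3, 0, 1, 3, 0, 2, 1, 2, 0, 1, 2, 0, 3, 3, 1, 2, 0], 188), (90, [1, 3, 0, 3, 3], 275)], 146), ([(74, [3, 1, 2, 0, 3, 3, 1, 2, 0, 1, 2, 0, 2, 1, 3, 0, 3, 1, 3, 0, 1, 3, 0], 62), (75, [2, 1, 2, 0, 2, 1, 2, 0, 3, 3, 1, 2, 0, 3, 1, 3, 0, 2, 2, 1, 3, 0], 41), (59, [2, 1, 2, 0, 1, 2, 0, 1, 2, 0, 2, 1, 2, 0, 2, 1, 3, 0, 2, 1, 2, 0], 143)], 208), ([(74, [2, 2, 1, 2, 0, 3, 1, 3, 0, 2, 1, 2, 0, 2, 1, 3, 0, 2, 2], 142), (73, [3, 3, 1, 2, 0, 2, 1, 3, 0, 3, 3, 1, 2, 0, 2, 2, 1, 2, 0, 1, 2, 0, 3], 10), (68, [2, 1, 3, 0, 1, 3, 0, 3, 3], 221)],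 146), ([(75, [2, 2, 1, 2, 0, 3, 1, 3, 0, 2, 1, 2, 0, 2, 1, 3, 0, 2, 2], 142), (61, [3, 1, 3, 0, 2, 2, 1, 2, 0, 2, 1, 3, 0, 1, 3, 0, 3, 1, 3, 0], 164), (99, [1, 3, 0, 3, 3], 15900)], 0), ([(73, [3, 3, 1, 3, 0, 3, 1, 2, 0, 3, 3, 1, 3, 0, 2, 1, 2, 0, 2], 110), (73, [3, 1, 2, 0, 3, 3, 1, 3, 0, 2, 1, 2, 0, 1, 2, 0], 155), (64, [3, 1, 2, 0, 2, 1, 2, 0, 3, 1, 3, 0, 3, 3, 1, 2, 0, 1, 2, 0], 87)], 229), ([(73, [2, 1, 2, 0, 2, 1, 3, 0, 1, 3, 0, 3, 1, 3, 0, 2, 2, 1, 2, 0], 222), (54, [2, 2, 1, 3, 0, 3, 1, 2, 0, 2, 2, 1, 2, 0, 2, 2, 2], 44), (81, [1, 3, 0, 3, 3], 204)], 0), ([(74, [1, 3, 0, 2, 1, 2, 0, 2, 2, 2, 1, 3, 0, 1, 3, 0, 2], 145), (60, [2, 1, 3, 0, 1, 3, 0, 3, 1, 3, 0, 2, 1, 2, 0, 2,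 1, 3, 0, 3, 1, 3, 0], 152), (86, [1, 2, 0, 2, 2, 1, 2, 0, 1, 2, 0, 3, 1, 3, 0, 2, 1, 2, 0, 2], 103)], 108), ([(73, [3, 1, 2, 0, 3, 3, 1, 2, 0, 1, 2, 0, 2, 1, 3, 0, 3, 1, 3, 0, 1, 3, 0], 191), (56, [1, 3, 0, 2, 1, 2, 0, 1, 2, 0, 3, 1, 3, 0, 2, 1, 2, 0, 2, 2], 170), (44, [1, 2, 0, 1, 2, 0, 2, 1, 2, 0, 3, 3, 1, 2, 0, 3, 3, 1, 3, 0, 3, 1, 2, 0], 12)], 63), ([(72, [3, 1, 2, 0, 3, 3, 1, 2, 0, 1, 2, 0, 2, 1, 3, 0, 3, 1, 3, 0, 1, 3, 0], 191), (55, [3, 1, 2, 0, 3, 1, 3, 0, 1, 3, 0, 2, 2, 1, 2, 0, 2, 1, 3, 0, 1, 3, 0], 32), (97, [1, 3, 0, 3, 3], 633)], 0), ([(73, [1, 3, 0, 2, 1, 2, 0, 1, 2, 0, 2, 1, 3, 0, 3, 1, 2, 0, 2, 2, 1, 3, 0], 72), (72, [2, 1, 3, 0, 3, 1, 3, 0, 1, 3, 0, 3, 1, 2, 0, 2,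 1, 3, 0], 98), (69, [1, 3, 0, 3, 3], 187)], 110), ([(72, [1, 3, 0, 2, 1, 2, 0, 1, 2, 0, 2, 1, 3, 0, 3, 1, 2, 0, 2, 2, 1, 3, 0], 72), (75, [1, 3, 0, 1, 3, 0, 2, 2, 1, 2, 0, 3, 3, 1, 2, 0, 1, 2, 0, 1, 2, 0], 129), (62, [1, 2, 0, 1, 2, 0, 2, 2], 109)], 134), ([(75, [1, 3, 0, 2, 1, 2, 0, 1, 2, 0, 2, 1, 3, 0, 1, 3, 0, 3, 1, 2, 0, 2, 1, 3, 0, 3, 1, 2, 0], 239), (71, [1, 3, 0, 2, 1, 2, 0, 1, 2, 0, 2, 2, 1, 2, 0, 2, 1, 3, 0, 2], 11), (93, [1, 2, 0, 1, 2, 0, 2, 1, 2, 0, 3, 3, 1, 2, 0, 3, 3, 1, 3, 0, 3, 1, 2, 0], 577)], 182), ([(74, [1, 3, 0, 2, 1, 2, 0, 1, 2, 0, 2, 1, 3, 0, 1, 3, 0, 3, 1, 2, 0, 2, 1, 3, 0, 3, 1, 2, 0], 239), (59, [1, 3, 0, 3, 1, 3, 0, 2, 2, 1, 2, 0, 3, 1, 3, 0, 2, 1, 2, 0,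 2, 2], 77), (70, [1, 3, 0, 3, 1, 3, 0, 2, 2, 1, 2, 0, 2, 1, 3, 0, 3, 1, 3, 0, 1, 3, 0], 12)], 143), ([(72, [1, 3, 0, 3, 3, 1, 3, 0, 1, 3, 0, 3, 3, 1, 3, 0, 1, 3, 0, 2, 1, 2, 0], 57), (72, [3, 1, 3, 0, 3, 3, 1, 2, 0, 1, 2, 0, 2, 1, 2, 0, 1, 2, 0, 2], 157), (72, [3, 3, 1, 2, 0, 2, 2, 1, 2, 0, 1, 2, 0, 2, 2, 1, 2, 0, 3], 157)], 40), ([(73, [1, 3, 0, 3, 3, 1, 3, 0, 1, 3, 0, 3, 3, 1, 3, 0, 1, 3, 0, 2, 1, 2, 0], 57), (74, [2, 1, 2, 0, 2, 1, 2, 0, 1, 2, 0, 3, 1, 3, 0, 2, 1, 2, 0, 1, 2, 0, 3, 3], 156), (73, [2, 1, 2, 0, 1, 2, 0, 2, 2, 2, 1, 2, 0, 2, 1, 2, 0, 3, 1, 3, 0, 2, 1, 2, 0], 232)], 34), ([(75, [2, 2, 1, 3, 0, 2, 1, 2, 0, 2, 1, 3, 0, 1, 3, 0, 3, 1, 2, 0, 2, 1, 3, 0, 2], 40), (72,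 [1, 2, 0, 1, 2, 0, 2, 1, 2, 0, 1, 2, 0, 3, 1, 3, 0, 1, 3, 0, 2], 228), (74, [3, 1, 2, 0, 1, 2, 0, 2, 2, 1, 3, 0, 3, 1, 2, 0, 2, 1, 2, 0, 3, 1, 3, 0], 141)], 159), ([(74, [2, 2, 1, 3, 0, 2, 1, 2, 0, 2, 1, 3, 0, 1, 3, 0, 3, 1, 2, 0, 2, 1, 3, 0, 2], 40), (72, [1, 3, 0, 2, 2, 1, 2, 0, 1, 2, 0, 2, 1, 3, 0, 1, 3, 0, 2, 1, 2, 0, 1, 2, 0, 3], 224), (75, [1, 2, 0, 2, 1, 3, 0, 3, 1, 2, 0, 3, 3, 1, 3, 0, 1, 3, 0, 2, 1, 2, 0, 1, 2, 0], 146)], 159), ([(80, [2, 1, 3, 0, 2, 1, 2, 0, 2, 1, 3, 0, 3], 139), (17, [1, 2, 0, 2, 1, 3, 0, 3, 3, 1, 2, 0], 3101), (11, [1, 3, 0, 3, 3], 92067)], 0), ([(81, [2, 1, 3, 0, 2, 1, 2, 0, 2, 1, 3, 0, 3], 9), (65, [2, 2, 1, 2, 0, 1, 2, 0, 3, 3, 1, 3, 0, 3, 1, 2, 0,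 3, 3], 108), (78, [3, 1, 2, 0, 3, 1, 3, 0, 3], 217)], 214), ([(87, [1, 2, 0, 1, 2, 0, 2, 1, 2, 0, 3, 1, 3, 0, 1, 3, 0, 3, 1, 3, 0, 1, 3, 0], 88), (42, [2, 1, 2, 0, 2, 1, 3, 0, 1, 3, 0, 3, 1, 3, 0, 2, 1, 2, 0, 3, 1, 3, 0], 1280), (79, [2, 1, 3, 0, 3, 3, 1, 3, 0, 2, 1, 2, 0], 381)], 82), ([(86, [3, 1, 2, 0, 1, 2, 0, 2, 1, 2, 0, 1, 2, 0, 2, 2, 2, 1, 3, 0], 96), (63, [3, 1, 2, 0, 1, 2, 0, 2, 1, 2, 0, 1, 2, 0, 2, 2, 2, 1, 3, 0], 50), (76, [1, 3, 0, 2, 1, 2, 0], 379)], 55), ([(89, [1, 2, 0, 1, 2, 0, 2, 2, 1, 2, 0, 3, 3, 1, 2, 0, 3, 1, 3, 0, 1, 3, 0, 2], 142), (73, [1, 3, 0, 1, 3, 0, 2, 1, 2, 0, 2, 2, 1, 3, 0, 1, 3, 0, 3, 3, 1, 3, 0, 2], 110), (63, [1, 3, 0, 3, 3], 209)], 462), ([(88, [2,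 2, 1, 3, 0, 3, 1, 2, 0, 2, 2, 1, 2, 0, 2, 2, 2], 247), (80, [2, 1, 2, 0, 2, 1, 2, 0, 3, 3, 1, 3, 0, 3, 1, 2, 0, 2, 1, 2, 0, 1, 2, 0], 216), (24, [1, 3, 0, 3, 3], 4903)], 300), ([(88, [3, 1, 2, 0, 2, 1, 2, 0, 2, 2], 26), (88, [2, 1, 2, 0, 1, 2, 0, 2, 1, 2, 0, 3, 1, 3, 0, 1, 3, 0, 3, 1, 2, 0, 1, 2, 0, 3], 476), (83, [1, 2, 0, 2, 1, 3, 0, 1, 3, 0, 3, 3, 1, 3, 0, 3, 3, 1, 3, 0], 302)], 254), ([(89, [1, 2, 0, 3, 1, 3, 0, 3, 3, 1, 3, 0, 1, 3, 0, 2, 2, 2, 1, 2, 0, 3], 484), (67, [2, 2, 1, 2, 0, 1, 2, 0, 3, 3, 1, 3, 0, 2, 2, 1, 2, 0, 1, 2, 0], 104), (40, [1, 3, 0, 3, 3], 941)], 0), ([(84, [3, 3, 1, 3, 0, 2, 2, 1, 3, 0, 2, 1, 2, 0, 2, 2, 1, 3, 0], 385), (60, [2, 1, 3, 0, 3, 1, 2, 0, 3, 3,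 1, 2, 0, 1, 2, 0, 1, 2, 0, 3, 1, 3, 0], 96), (85, [2, 1, 3, 0, 3, 1, 3, 0, 1, 3, 0, 3, 1, 2, 0, 2, 2, 1, 3, 0, 2], 161)], 79), ([(85, [3, 3, 1, 3, 0, 2, 2, 1, 3, 0, 2, 1, 2, 0, 2, 2, 1, 3, 0], 385), (90, [2, 1, 2, 0, 2, 1, 3, 0, 3, 1, 2, 0, 2, 2, 1, 2, 0, 3, 3, 1, 2, 0], 209), (57, [1, 2, 0, 2, 2, 1, 3, 0, 1, 3, 0, 2, 2, 1, 2, 0, 1, 2, 0, 1, 2, 0], 114)], 433), ([(91, [2, 1, 2, 0, 2, 2, 1, 2, 0, 2, 2, 1, 3, 0, 1, 3, 0, 3, 1, 3, 0], 98), (94, [1, 3, 0, 2, 2, 1, 3, 0, 2, 1, 2, 0, 2, 1, 3, 0, 1, 3, 0], 258), (42, [3, 3, 1, 2, 0, 1, 2, 0, 2, 2, 2], 883)], 432), ([(90, [3, 3, 1, 2, 0, 1, 2, 0, 2, 1, 2, 0, 2, 2], 172), (75, [3, 1, 2, 0, 2, 2, 2, 1, 2, 0, 3, 1, 3, 0, 2, 2, 2, 1, 3, 0],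 88), (65, [3, 1, 2, 0, 3, 1, 3, 0, 1, 3, 0, 2, 1, 2, 0, 3, 1, 3, 0], 85)], 7), ([(90, [1, 3, 0, 1, 3, 0, 2, 2, 1, 2, 0, 3, 1, 3, 0, 1, 3, 0, 2, 2, 2], 382), (73, [2, 1, 2, 0, 2, 1, 3, 0, 3, 3, 1, 3, 0, 2, 1, 2, 0, 2, 1, 3, 0], 65), (54, [1, 3, 0, 3, 3], 59)], 26), ([(91, [1, 3, 0, 1, 3, 0, 2, 2, 1, 2, 0, 3, 1, 3, 0, 1, 3, 0, 2, 2, 2], 382), (95, [2, 2, 2, 1, 3, 0, 3, 3, 1, 3, 0, 1, 3, 0], 629), (88, [2, 2, 1, 3, 0, 2, 2, 1, 2, 0, 2, 2, 1, 3, 0, 3, 1, 3, 0, 2], 322)], 194), ([(85, [2, 2, 1, 2, 0, 3, 1, 3, 0, 2, 1, 2, 0, 2, 2, 1, 3, 0], 225), (91, [3, 3, 1, 2, 0, 2, 1, 2, 0, 1, 2, 0, 2, 2, 2, 1, 3, 0, 3], 213), (95, [2, 2, 1, 3, 0, 3, 3, 1, 2, 0, 3, 3, 1, 3, 0, 3, 3, 1, 2, 0], 590)],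 49), ([(84, [2, 2, 1, 2, 0, 3, 1, 3, 0, 2, 1, 2, 0, 2, 2, 1, 3, 0], 225), (74, [1, 3, 0, 3, 1, 2, 0, 2, 2, 1, 2, 0, 3], 239), (60, [1, 3, 0, 3, 3], 143)], 0), ([(92, [1, 2, 0, 1, 2, 0, 2, 2, 1, 3, 0, 2, 1, 2, 0, 2, 1, 3, 0, 3, 1, 2, 0], 584), (75, [1, 3, 0, 2, 2, 1, 2, 0, 2, 2, 2, 1, 2, 0, 1, 2, 0, 3], 179), (55, [2, 2, 1, 3, 0, 2, 2, 1, 2, 0, 2, 2, 1, 3, 0, 3, 1, 3, 0, 2], 119)], 379), ([(96, [3, 1, 3, 0, 2, 1, 2, 0, 2, 1, 3, 0, 3, 1, 2, 0, 2, 1, 2, 0, 1, 2, 0], 280), (94, [1, 2, 0, 2, 1, 3, 0, 3, 1, 3, 0, 1, 3, 0, 2, 1, 2, 0, 3], 65), (45, [1, 3, 0, 3, 3], 269)], 0), ([(97, [2, 2, 1, 2, 0, 2, 1, 3, 0, 2, 2, 2, 1, 3, 0, 2, 1, 2, 0, 3], 290), (74, [3, 1, 2, 0, 1, 2, 0, 1, 2, 0, 2,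 2, 2, 1, 2, 0, 3, 1, 3, 0, 3], 185), (71, [1, 2, 0, 3, 1, 3, 0, 2, 1, 2, 0, 2, 2], 34)], 411), ([(98, [1, 2, 0, 1, 2, 0, 3, 1, 3, 0, 3, 1, 2, 0, 2, 2, 1, 3, 0, 1, 3, 0], 627), (95, [1, 2, 0, 2, 1, 3, 0, 1, 3, 0, 3, 1, 3, 0, 2, 2, 1, 2, 0, 2, 1, 3, 0], 2), (91, [3, 1, 3, 0, 3], 386)], 297), ([(92, [3, 1, 2, 0, 3, 1, 3, 0, 1, 3, 0, 2, 2, 1, 2, 0, 2, 1, 3, 0, 1, 3, 0], 534), (73, [2, 1, 2, 0, 3, 1, 3, 0, 2, 1, 2, 0, 2, 1, 3, 0, 2, 2, 1, 2, 0, 2, 1, 3, 0], 144), (66, [1, 3, 0, 3, 3], 96)], 522), ([(92, [2, 1, 2, 0, 2, 1, 2, 0, 1, 2, 0, 1, 2, 0, 2, 2, 1, 2, 0, 2, 1, 2, 0], 560), (66, [1, 3, 0, 2, 2, 1, 3, 0, 2, 1, 2, 0, 1, 2, 0, 2, 1, 2, 0, 2, 2], 119), (96, [1, 3, 0, 3, 1, 3, 0, 2, 2,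 1, 2, 0, 2, 1, 3, 0, 3, 1, 3, 0, 1, 3, 0], 266)], 498), ([(92, [2, 1, 2, 0, 3, 1, 3, 0, 3, 3, 1, 3, 0, 1, 3, 0, 2, 1, 2, 0, 1, 2, 0, 3], 461), (55, [2, 2, 2, 1, 2, 0, 3, 3, 1, 3, 0, 1, 3, 0, 3, 3, 1, 3, 0], 52), (98, [2, 1, 2, 0, 2, 1, 3, 0, 2, 2, 1, 3, 0, 1, 3, 0], 532)], 20), ([(99, [3, 1, 3, 0, 2, 2, 1, 2, 0, 2, 1, 3, 0, 1, 3, 0, 3, 1, 3, 0], 29863), (74, [1, 3, 0, 2, 2, 1, 3, 0, 3, 3, 1, 2, 0, 3, 1, 3, 0, 2], 121), (61, [1, 3, 0, 3, 3], 112)], 2342), ([(99, [2, 2, 2, 1, 3, 0, 3, 1, 2, 0, 2, 1, 2, 0, 2, 1, 3, 0], 23573), (61, [2, 2, 2, 1, 3, 0, 3, 1, 2, 0, 2, 1, 2, 0, 2, 1, 3, 0], 191), (100, [1, 3, 0, 3, 3], 12333)], 26170)],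
[([(0, [], 0), (5, [], 0), (2, [], 24400)], 0), ([(5, [], 4506), (2, [], 24400), (0, [], 0)], 84632), ([(6, [], 4506), (14, [], 2300), (3, [], 24400)], 84632), ([(7, [], 30526), (26, [], 9832), (4, [], 24400)], 23678), ([(8, [], 30526), (12, [], 2300), (1, [], 24400)], 23678), ([(10, [2, 2, 2, 1, 2, 0, 2, 1, 3, 0, 3, 3], 83133), (33, [2, 2, 2, 1, 2, 0, 2, 1, 3, 0, 3, 1, 2, 0], 1350), (12, [2, 1, 2, 0], 2983)], 6441), ([(10, [2, 2, 2, 1, 2, 0, 2, 1, 3, 0, 3, 1, 2, 0], 86167), (31, [2, 2, 2, 1, 2, 0, 2, 1, 3, 0, 3, 3], 278), (5, [2, 1, 2, 0], 55398)], 6441), ([(9, [2, 2, 2, 1, 2, 0, 2, 1, 3, 0, 3, 1, 2, 0], 28426), (23, [2, 2, 1, 2, 0, 1, 2, 0, 2, 1, 2, 0, 1, 2, 0, 3], 1249), (14,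 [2, 1, 2, 0], 4132)], 65893), ([(9, [2, 2, 2, 1, 2, 0, 2, 1, 3, 0, 3, 3], 83095), (13, [2, 1, 2, 0], 1321), (26, [2, 1, 2, 0], 64047)], 65893), ([(11, [2, 1, 2, 0, 2, 2], 13121), (80, [1, 2, 0, 1, 2, 0, 3, 3, 1, 2, 0, 1, 2, 0, 2, 1, 2, 0, 1, 2, 0, 2], 93), (17, [1, 2, 0, 2], 4109)], 24362), ([(11, [2, 2, 1, 2, 0, 3, 1, 3, 0, 3], 7420), (82, [1, 2, 0, 1, 2, 0, 3, 3, 1, 2, 0, 1, 2, 0, 2, 1, 2, 0, 1, 2, 0, 2], 221), (31, [1, 2, 0, 2], 741)], 10862), ([(10, [2, 2, 1, 2, 0, 2, 1, 3, 0, 3, 1, 3, 0], 85928), (40, [2, 1, 2, 0, 2, 2, 1, 3, 0, 1, 3, 0, 3, 1, 2, 0, 2], 754), (77, [1, 2, 0, 3, 3], 444)], 0), ([(17, [2, 2, 2, 1, 2, 0, 2, 1, 3, 0, 3, 1, 2, 0], 2786), (7, [2, 1, 2, 0], 43151),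 (27, [2, 1, 2, 0], 64047)], 2697), ([(16, [2, 2, 2, 1, 2, 0, 2, 1, 3, 0, 3, 3], 1943), (31, [2, 2, 2, 1, 2, 0, 2, 1, 3, 0, 3, 1, 2, 0], 1019), (6, [2, 1, 2, 0], 59371)], 2697), ([(22, [2, 2, 1, 2, 0, 1, 2, 0, 2, 1, 2, 0, 1, 2, 0, 1, 2, 0], 2180), (30, [2, 2, 2, 1, 2, 0, 2, 1, 3, 0, 3, 1, 2, 0], 93), (15, [2, 1, 2, 0], 2129)], 3663), ([(23, [2, 2, 1, 2, 0, 1, 2, 0, 2, 1, 2, 0, 1, 2, 0, 1, 2, 0], 2180), (17, [2, 2, 2, 1, 2, 0, 2, 1, 3, 0, 3, 3], 450), (8, [2, 1, 2, 0], 68717)], 3663), ([(24, [1, 2, 0, 1, 2, 0, 3, 3, 1, 2, 0, 1, 2, 0, 2, 1, 2, 0, 1, 2, 0, 2], 3183), (77, [2, 1, 2, 0, 2, 2], 366), (9, [1, 2, 0, 2], 68594)], 2774), ([(24, [3, 1, 3, 0, 3, 1, 2, 0, 2, 1, 3, 0, 3, 1, 2,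 0], 1066), (87, [1, 3, 0, 1, 3, 0, 2, 1, 2, 0, 2, 1, 3, 0, 3, 1, 2, 0, 2, 2], 22), (33, [1, 2, 0, 2], 858)], 3604), ([(25, [2, 2, 1, 2, 0, 1, 2, 0, 2, 1, 2, 0, 3, 3, 1, 2, 0, 2, 2, 1, 2, 0, 1, 2, 0], 4584), (49, [2, 2, 1, 3, 0, 2, 1, 2, 0, 2, 2, 1, 3, 0, 2, 1, 2, 0], 136), (19, [2, 1, 2, 0, 2, 2, 2, 1, 2, 0, 2, 1, 3, 0], 76)], 4283), ([(25, [1, 2, 0, 2, 1, 3, 0, 2, 1, 2, 0, 3, 1, 3, 0, 1, 3, 0, 2, 1, 2, 0], 3267), (64, [2, 2, 1, 3, 0, 3, 1, 2, 0, 3, 1, 3, 0, 3, 1, 2, 0, 2], 82), (47, [1, 2, 0, 2], 205)], 2974), ([(24, [2, 2, 1, 2, 0, 3, 3, 1, 2, 0, 2, 1, 3, 0, 3, 1, 3, 0, 1, 3, 0, 3], 634), (82, [3, 1, 3, 0, 3, 1, 2, 0, 2, 1, 3, 0, 3, 1, 2, 0], 180), (34, [1, 2, 0, 2], 1352)], 3759),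 ([(24, [2, 1, 2, 0, 1, 2, 0, 2, 1, 2, 0, 1, 2, 0, 1, 2, 0, 3, 1, 3, 0, 2, 1, 2, 0], 942), (86, [1, 3, 0, 1, 3, 0, 2, 1, 2, 0, 2, 1, 3, 0, 3, 1, 2, 0, 2, 2], 221), (49, [1, 2, 0, 2], 149)], 3759), ([(25, [1, 3, 0, 3, 3, 1, 2, 0, 2, 1, 3, 0, 2, 2, 2, 1, 3, 0], 1046), (58, [3, 1, 2, 0, 3, 1, 3, 0, 3, 1, 2, 0, 2, 1, 3, 0, 3, 1, 2, 0], 27), (23, [2, 2, 1, 3, 0, 1, 3, 0, 3, 1, 3, 0, 2, 1, 2, 0], 61)], 1724), ([(25, [3, 1, 3, 0, 3, 3, 1, 3, 0, 1, 3, 0, 2, 2], 1864), (56, [2, 1, 3, 0, 1, 3, 0, 2, 2, 1, 3, 0, 1, 3, 0, 3, 1, 2, 0, 1, 2, 0, 3], 148), (30, [2, 2, 1, 2, 0, 2, 2, 1, 3, 0, 1, 3, 0, 2], 1319)], 4983), ([(25, [2, 1, 3, 0, 3, 1, 3, 0, 1, 3, 0, 2, 2, 1, 2, 0, 1, 2, 0, 2], 4824), (63,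 [2, 2, 1, 2, 0, 2, 1, 3, 0, 3, 1, 2, 0, 3, 3, 1, 3, 0, 2], 201), (80, [2, 2, 1, 2, 0, 2, 1, 3, 0, 3, 1, 2, 0, 3, 3, 1, 2, 0, 1, 2, 0, 2], 191)], 2230), ([(25, [2, 1, 3, 0, 2, 1, 2, 0, 1, 2, 0, 3], 2389), (74, [2, 1, 3, 0, 2, 2, 1, 2, 0, 1, 2, 0, 2, 2, 2, 1, 3, 0, 3, 3], 135), (58, [1, 2, 0, 3, 3], 159)], 4816), ([(27, [2, 1, 2, 0], 10067), (17, [2, 2, 2, 1, 2, 0, 2, 1, 3, 0, 3, 1, 2, 0], 4192), (7, [2, 1, 2, 0], 43151)], 41034), ([(26, [2, 1, 2, 0], 8815), (9, [2, 2, 2, 1, 2, 0, 2, 1, 3, 0, 3, 3], 75854), (13, [2, 1, 2, 0], 1321)], 45727), ([(28, [2, 2, 1, 2, 0, 3, 1, 3, 0, 3, 3, 1, 3, 0, 1, 3, 0, 2], 66757), (43, [3, 1, 2, 0, 1, 2, 0, 2, 2, 1, 3, 0, 1, 3, 0, 2, 2, 2], 1318), (36,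 [1, 2, 0, 2], 732)], 42669), ([(29, [2, 2, 1, 2, 0, 3, 1, 3, 0, 3, 3, 1, 3, 0, 1, 3, 0, 2], 72495), (64, [2, 1, 3, 0, 3, 1, 2, 0, 2, 1, 3, 0, 3, 3], 125), (50, [1, 2, 0, 2], 147)], 45919), ([(40, [1, 2, 0, 1, 2, 0, 3, 3, 1, 2, 0, 1, 2, 0, 2, 1, 2, 0, 1, 2, 0, 2], 801), (77, [2, 2, 1, 2, 0, 3, 1, 3, 0, 3], 428), (10, [1, 2, 0, 2], 38569)], 773), ([(41, [1, 2, 0, 1, 2, 0, 3, 3, 1, 2, 0, 1, 2, 0, 2, 1, 2, 0, 1, 2, 0, 2], 822), (58, [2, 1, 2, 0, 1, 2, 0, 1, 2, 0, 2, 1, 2, 0, 1, 2, 0, 2, 1, 3, 0, 1, 3, 0, 2], 20), (22, [1, 3, 0, 1, 3, 0], 556)], 780), ([(42, [1, 2, 0, 1, 2, 0, 3, 3, 1, 2, 0, 1, 2, 0, 2, 1, 2, 0, 1, 2, 0, 2], 851), (80, [3, 1, 2, 0, 1, 2, 0, 2, 2, 1, 3, 0, 1, 3, 0, 2,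 2, 2], 242), (16, [1, 2, 0, 2], 1384)], 1384), ([(43, [1, 2, 0, 1, 2, 0, 3, 3, 1, 2, 0, 1, 2, 0, 2, 1, 2, 0, 1, 2, 0, 2], 953), (43, [2, 1, 3, 0, 3, 1, 2, 0, 2, 1, 3, 0, 3, 3], 612), (32, [1, 2, 0, 2], 330)], 974), ([(41, [3, 1, 3, 0, 3, 1, 2, 0, 2, 1, 3, 0, 3, 1, 2, 0], 1249), (47, [2, 2, 1, 3, 0, 2, 1, 2, 0, 2, 2, 1, 3, 0, 2, 1, 2, 0], 166), (21, [2, 1, 2, 0, 2, 2, 2, 1, 2, 0, 2, 1, 3, 0], 1974)], 374), ([(43, [2, 1, 2, 0, 1, 2, 0, 2, 1, 2, 0, 1, 2, 0, 1, 2, 0, 3, 1, 3, 0, 2, 1, 2, 0], 96), (36, [2, 2, 1, 2, 0, 3, 1, 3, 0, 3, 3, 1, 3, 0, 1, 3, 0, 2], 794), (28, [1, 2, 0, 2], 75072)], 555), ([(42, [3, 1, 3, 0, 3, 1, 2, 0, 2, 1, 3, 0, 3, 1, 2, 0], 149), (84, [1, 3, 0, 3], 236), (53,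 [1, 2, 0, 2], 66)], 807), ([(42, [2, 1, 2, 0, 1, 2, 0, 2, 1, 2, 0, 1, 2, 0, 1, 2, 0, 3, 1, 3, 0, 2, 1, 2, 0], 1373), (81, [3, 1, 2, 0, 1, 2, 0, 2, 2, 1, 3, 0, 1, 3, 0, 2, 2, 2], 47), (46, [1, 2, 0, 2], 224)], 793), ([(41, [2, 1, 2, 0, 1, 2, 0, 2, 1, 2, 0, 1, 2, 0, 1, 2, 0, 3, 1, 3, 0, 2, 1, 2, 0], 346), (56, [3, 1, 3, 0, 3, 1, 2, 0, 2, 1, 3, 0, 3, 1, 2, 0], 76), (39, [1, 2, 0, 2], 657)], 606), ([(40, [3, 1, 3, 0, 3, 1, 2, 0, 2, 1, 3, 0, 3, 1, 2, 0], 215), (81, [1, 3, 0, 1, 3, 0, 2, 1, 2, 0, 2, 1, 3, 0, 3, 1, 2, 0, 2, 2], 215), (51, [1, 2, 0, 2], 164)], 789), ([(45, [1, 3, 0, 2, 2, 2, 1, 3, 0, 3, 1, 2, 0, 2, 2, 2, 1, 2, 0], 1003), (97, [2, 1, 2, 0, 2, 2, 1, 2, 0, 3, 3, 1, 2, 0, 2,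 2, 1, 2, 0, 3, 3], 358), (56, [1, 2, 0, 3, 3], 190)], 1341), ([(45, [3, 1, 3, 0, 1, 3, 0, 3, 3, 1, 3, 0, 3, 3, 1, 3, 0, 2], 827), (95, [1, 2, 0, 3, 3, 1, 3, 0, 3, 3, 1, 3, 0, 2, 2, 1, 2, 0, 3], 163), (82, [1, 2, 0, 3, 3], 45)], 0), ([(44, [1, 2, 0, 1, 2, 0, 1, 2, 0, 2, 1, 2, 0, 2, 2, 2, 1, 2, 0, 2, 1, 3, 0], 806), (56, [1, 2, 0, 1, 2, 0, 1, 2, 0, 2, 1, 2, 0, 3, 1, 3, 0], 34), (43, [3, 1, 3, 0, 3, 3, 1, 3, 0, 3, 1, 2, 0, 2, 2, 2, 1, 2, 0], 1059)], 4), ([(44, [1, 2, 0, 1, 2, 0, 1, 2, 0, 2, 1, 3, 0, 1, 3, 0, 2, 1, 2, 0, 1, 2, 0, 3, 1, 3, 0], 857), (60, [1, 3, 0, 2, 1, 2, 0, 2, 2, 1, 2, 0, 2, 2, 2], 63), (87, [1, 3, 0, 2, 2, 1, 3, 0, 2, 1, 2, 0, 3, 1, 3, 0, 1, 3, 0, 3, 1, 3, 0], 238)],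 841), ([(45, [1, 3, 0, 3, 1, 3, 0, 1, 3, 0, 3, 1, 2, 0, 2, 1, 2, 0, 3, 1, 3, 0], 172), (92, [2, 2, 1, 2, 0, 2, 1, 3, 0, 3, 3, 1, 3, 0, 2, 1, 2, 0, 2, 2, 1, 2, 0], 388), (67, [2, 1, 3, 0, 3, 1, 2, 0, 3], 166)], 537), ([(44, [1, 3, 0, 3, 1, 3, 0, 1, 3, 0, 3, 1, 2, 0, 2, 1, 2, 0, 3, 1, 3, 0], 6), (55, [2, 2, 1, 3, 0, 3, 1, 2, 0, 3, 3, 1, 2, 0, 1, 2, 0, 3], 175), (94, [1, 2, 0, 3, 3], 338)], 0), ([(64, [3, 1, 2, 0, 1, 2, 0, 2, 2, 1, 3, 0, 1, 3, 0, 2, 2, 2], 195), (58, [2, 2, 1, 2, 0, 1, 2, 0, 2, 1, 2, 0, 3, 3, 1, 2, 0, 2, 2, 1, 2, 0, 1, 2, 0], 177), (18, [1, 2, 0, 2], 3950)], 133), ([(63, [3, 1, 2, 0, 1, 2, 0, 2, 2, 1, 2, 0, 3, 3, 1, 2, 0], 134), (87, [2, 2, 1, 3, 0, 3, 1, 2, 0, 3, 1,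 3, 0, 3, 1, 2, 0, 2], 113), (37, [2, 1, 2, 0, 2, 2, 2, 1, 2, 0, 2, 1, 3, 0], 143)], 124), ([(65, [3, 3, 1, 2, 0, 1, 2, 0, 3, 3], 146), (80, [3, 1, 3, 0, 3, 1, 2, 0, 2, 1, 3, 0, 3, 1, 2, 0], 250), (20, [1, 2, 0, 2], 3159)], 168), ([(65, [2, 2, 1, 3, 0, 2, 1, 2, 0, 2, 2, 1, 3, 0, 2, 1, 2, 0], 64), (84, [2, 1, 3, 0, 3, 1, 3, 0, 1, 3, 0, 2, 2, 1, 3, 0, 1, 3, 0, 3, 1, 2, 0], 378), (48, [2, 1, 2, 0, 2, 2, 2, 1, 2, 0, 2, 1, 3, 0], 227)], 144), ([(63, [2, 2, 1, 2, 0, 3, 3, 1, 2, 0, 2, 1, 3, 0, 3, 1, 3, 0, 1, 3, 0, 3], 239), (82, [2, 1, 2, 0, 1, 2, 0, 2, 1, 2, 0, 1, 2, 0, 1, 2, 0, 3, 1, 3, 0, 2, 1, 2, 0], 117), (38, [1, 2, 0, 2], 215)], 133), ([(64, [1, 3, 0, 1, 3, 0, 2, 1, 2, 0, 2, 1, 3,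 0, 3, 1, 2, 0, 2, 2], 174), (50, [2, 2, 1, 2, 0, 3, 1, 3, 0, 3, 3, 1, 3, 0, 1, 3, 0, 2], 149), (29, [1, 2, 0, 2], 68544)], 133), ([(57, [2, 1, 3, 0, 3, 3, 1, 3, 0, 3, 3, 1, 2, 0, 2, 1, 2, 0], 69), (87, [3, 1, 2, 0, 1, 2, 0, 2, 2, 1, 3, 0, 1, 3, 0, 2, 2, 2], 246), (35, [1, 2, 0, 2], 167)], 50), ([(58, [1, 2, 0, 1, 2, 0, 2, 1, 2, 0, 3, 1, 3, 0, 3, 1, 2, 0, 2, 1, 3, 0, 2], 223), (25, [2, 1, 3, 0, 3, 3, 1, 3, 0, 3, 3, 1, 2, 0, 2, 1, 2, 0], 836), (52, [1, 2, 0, 2], 3)], 168), ([(74, [1, 3, 0, 2, 1, 2, 0, 1, 2, 0, 2, 2, 1, 3, 0, 1, 3, 0, 2, 2, 1, 2, 0, 3], 137), (55, [1, 2, 0, 1, 2, 0, 1, 2, 0, 2, 1, 3, 0, 3, 1, 3, 0, 1, 3, 0, 3, 3, 1, 3, 0, 2], 135), (92, [1, 2, 0, 3, 3], 576)], 0), ([(75,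 [1, 3, 0, 2, 1, 2, 0, 1, 2, 0, 2, 2, 1, 3, 0, 1, 3, 0, 2, 2, 1, 2, 0, 3], 137), (60, [1, 3, 0, 3, 1, 3, 0, 2, 2, 1, 2, 0, 1, 2, 0, 2, 1, 3, 0, 1, 3, 0, 3, 3], 68), (89, [1, 2, 0, 3, 3], 322)], 0), ([(67, [2, 1, 2, 0, 2, 2, 1, 2, 0, 3, 3, 1, 2, 0, 2, 2, 1, 2, 0, 3, 3], 225), (43, [1, 3, 0, 2, 2, 1, 2, 0, 1, 2, 0, 1, 2, 0], 875), (41, [3, 1, 3, 0, 3, 3, 1, 3, 0, 3, 1, 2, 0, 2, 2, 2, 1, 2, 0], 478)], 47), ([(74, [2, 1, 2, 0, 3, 1, 3, 0, 3, 1, 2, 0, 1, 2, 0, 2, 1, 2, 0, 1, 2, 0, 2, 2], 186), (58, [2, 1, 3, 0, 2, 1, 2, 0, 1, 2, 0, 3], 159), (25, [1, 2, 0, 3, 3], 1363)], 184), ([(74, [2, 1, 2, 0, 2, 2, 1, 2, 0, 1, 2, 0, 2, 1, 2, 0, 2, 1, 3, 0, 3, 3], 101), (60, [1, 2, 0, 3, 3, 1, 3, 0,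 2, 2, 1, 3, 0, 2, 2, 2, 1, 2, 0, 2], 146), (84, [1, 2, 0, 3, 1, 3, 0, 3, 1, 2, 0, 3, 3, 1, 2, 0, 1, 2, 0], 246)], 16), ([(73, [1, 3, 0, 2, 2, 2, 1, 2, 0, 1, 2, 0, 1, 2, 0, 2, 1, 3, 0, 1, 3, 0], 65), (54, [1, 3, 0, 3, 1, 2, 0, 1, 2, 0, 2, 2, 1, 2, 0, 2, 2, 1, 3, 0], 59), (90, [1, 2, 0, 3, 3], 287)], 146), ([(72, [1, 3, 0, 2, 2, 2, 1, 2, 0, 1, 2, 0, 1, 2, 0, 2, 1, 3, 0, 1, 3, 0], 65), (75, [1, 2, 0, 1, 2, 0, 3, 3, 1, 3, 0, 3, 1, 2, 0], 63), (59, [1, 2, 0, 1, 2, 0, 1, 2, 0, 3, 3, 1, 2, 0, 3, 3, 1, 3, 0, 2], 173)], 204), ([(60, [1, 2, 0, 1, 2, 0, 1, 2, 0, 2, 1, 2, 0, 3, 1, 3, 0, 2, 1, 2, 0, 1, 2, 0, 3, 3], 38), (89, [2, 1, 2, 0, 3, 1, 3, 0, 2, 2, 2, 1, 3, 0, 3, 1, 2, 0, 2], 424), (68,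 [3], 232)], 146), ([(59, [1, 2, 0, 1, 2, 0, 1, 2, 0, 2, 1, 2, 0, 3, 1, 3, 0, 2, 1, 2, 0, 1, 2, 0, 3, 3], 38), (61, [1, 2, 0, 3, 1, 3, 0, 3, 1, 2, 0, 2, 1, 3, 0, 3, 1, 2, 0], 76), (99, [1, 2, 0, 3, 3], 12766)], 0), ([(54, [3, 1, 2, 0, 2, 2, 1, 3, 0, 3, 1, 2, 0, 2, 2, 2, 1, 2, 0], 23), (84, [2, 1, 3, 0, 3, 1, 2, 0, 1, 2, 0, 3, 1, 3, 0, 1, 3, 0], 139), (64, [3, 1, 2, 0, 2, 2, 1, 2, 0, 3, 1, 3, 0, 2, 1, 2, 0, 1, 2, 0], 204)], 189), ([(55, [1, 2, 0, 2, 1, 3, 0, 2, 1, 2, 0, 2, 1, 3, 0, 2, 2, 1, 2, 0, 1, 2, 0, 3, 1, 3, 0], 108), (95, [1, 2, 0, 1, 2, 0, 1, 2, 0, 2, 1, 3, 0, 1, 3, 0, 2, 1, 2, 0, 1, 2, 0, 3, 1, 3, 0], 606), (81, [1, 2, 0, 3, 3], 63)], 0), ([(54, [1, 2, 0, 2, 1, 2, 0, 2, 1,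 3, 0, 2, 1, 2, 0, 1, 2, 0, 2, 1, 3, 0, 3, 3, 1, 2, 0], 53), (83, [2, 2, 1, 2, 0, 1, 2, 0, 3, 3, 1, 3, 0, 3, 3, 1, 3, 0, 1, 3, 0], 322), (86, [2, 2, 1, 2, 0, 2, 1, 2, 0, 3, 3, 1, 3, 0, 1, 3, 0, 3, 1, 2, 0], 13)], 68), ([(74, [1, 3, 0, 2, 2, 2, 1, 2, 0, 1, 2, 0, 1, 2, 0, 2, 1, 3, 0, 1, 3, 0], 209), (67, [2, 1, 3, 0, 3, 1, 2, 0, 3, 3, 1, 2, 0, 2, 1, 2, 0, 3, 1, 3, 0, 3, 3], 36), (44, [1, 2, 0, 2, 1, 2, 0, 1, 2, 0, 3, 1, 3, 0, 3, 1, 2, 0, 2, 1, 3, 0], 49)], 177), ([(75, [1, 3, 0, 2, 2, 2, 1, 2, 0, 1, 2, 0, 1, 2, 0, 2, 1, 3, 0, 1, 3, 0], 209), (71, [3, 1, 2, 0, 2, 1, 2, 0, 3, 1, 3, 0, 2], 197), (97, [1, 2, 0, 3, 3], 361)], 0), ([(55, [1, 2, 0, 1, 2, 0, 1, 2, 0, 2, 1, 2, 0, 3, 1, 3, 0,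 2, 1, 2, 0, 1, 2, 0, 3, 3], 25), (92, [1, 2, 0, 1, 2, 0, 1, 2, 0, 2, 1, 2, 0, 3, 1, 3, 0, 2, 1, 2, 0, 1, 2, 0, 3, 3], 484), (69, [1, 2, 0, 3, 3], 59)], 110), ([(54, [1, 2, 0, 1, 2, 0, 1, 2, 0, 2, 1, 2, 0, 3, 1, 3, 0, 2, 1, 2, 0, 1, 2, 0, 3, 3], 25), (90, [2, 1, 2, 0, 3, 1, 3, 0, 2, 2, 2, 1, 3, 0, 3, 1, 2, 0, 2], 387), (62, [2, 1, 3, 0, 3], 232)], 146), ([(73, [1, 2, 0, 2, 1, 2, 0, 3, 1, 3, 0, 1, 3, 0, 2, 2, 2, 1, 3, 0, 2, 1, 2, 0, 3, 1, 3, 0], 180), (66, [1, 2, 0, 1, 2, 0, 2, 2, 1, 2, 0, 2, 1, 3, 0, 2, 2, 2, 1, 2, 0, 3, 3], 84), (93, [1, 2, 0, 2, 1, 2, 0, 1, 2, 0, 3, 1, 3, 0, 3, 1, 2, 0, 2, 1, 3, 0], 589)], 56), ([(72, [1, 2, 0, 2, 1, 2, 0, 3, 1, 3, 0, 1, 3, 0, 2, 2, 2, 1, 3, 0,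 2, 1, 2, 0, 3, 1, 3, 0], 180), (74, [1, 2, 0, 1, 2, 0, 3, 1, 3, 0, 2, 1, 2, 0, 2, 1, 2, 0, 1, 2, 0, 1, 2, 0, 2, 2], 175), (70, [1, 2, 0, 2, 2, 1, 3, 0, 2, 1, 2, 0, 2, 1, 2, 0, 1, 2, 0, 2, 2], 22)], 143), ([(66, [1, 2, 0, 3, 3, 1, 2, 0, 2, 1, 2, 0, 1, 2, 0, 3, 1, 3, 0, 1, 3, 0], 236), (93, [1, 2, 0, 3, 3, 1, 2, 0, 2, 1, 3, 0, 3, 3, 1, 2, 0, 2, 2], 470), (72, [2, 1, 2, 0, 1, 2, 0, 1, 2, 0, 3, 3, 1, 3, 0, 2, 2, 1, 3, 0, 3, 3], 77)], 40), ([(67, [1, 2, 0, 3, 3, 1, 2, 0, 2, 1, 2, 0, 1, 2, 0, 3, 1, 3, 0, 1, 3, 0], 236), (44, [3, 1, 2, 0, 2, 2, 1, 2, 0, 1, 2, 0, 3, 1, 3, 0, 3, 1, 2, 0, 3, 3], 16), (73, [1, 2, 0, 1, 2, 0, 2, 1, 2, 0, 1, 2, 0, 1, 2, 0, 3, 1, 3, 0, 1, 3, 0, 2, 2], 237)], 34),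 ([(59, [1, 2, 0, 3, 3, 1, 2, 0, 2, 1, 2, 0, 1, 2, 0, 3, 1, 3, 0, 1, 3, 0], 97), (70, [3, 3, 1, 3, 0, 2, 1, 2, 0, 2, 1, 3, 0, 3, 3, 1, 3, 0], 209), (74, [2, 2, 2, 1, 3, 0, 3, 1, 2, 0, 2, 1, 2, 0, 3, 1, 3, 0, 2, 2], 23)], 159), ([(60, [1, 2, 0, 3, 3, 1, 2, 0, 2, 1, 2, 0, 1, 2, 0, 3, 1, 3, 0, 1, 3, 0], 97), (86, [1, 2, 0, 1, 2, 0, 2, 1, 3, 0, 2, 2, 1, 3, 0, 1, 3, 0], 71), (75, [2, 2, 1, 2, 0, 3, 3, 1, 2, 0, 1, 2, 0, 1, 2, 0, 2, 1, 3, 0], 60)], 159), ([(82, [2, 1, 2, 0, 2, 2, 1, 3, 0, 1, 3, 0, 3, 1, 2, 0, 2], 37), (31, [2, 2, 1, 2, 0, 2, 1, 3, 0, 3, 1, 3, 0], 800), (11, [1, 2, 0, 3, 3], 76733)], 0), ([(83, [2, 1, 2, 0, 2, 2, 1, 3, 0, 1, 3, 0, 3, 1, 2, 0, 2], 444), (85, [1, 2, 0, 3, 1,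 3, 0, 2, 1, 2, 0, 1, 2, 0, 3, 1, 3, 0, 2, 1, 2, 0], 57), (78, [2, 1, 2, 0, 2, 2], 106)], 122), ([(87, [2, 1, 3, 0, 1, 3, 0, 3, 1, 3, 0, 2, 1, 2, 0, 1, 2, 0, 2], 152), (42, [2, 2, 1, 3, 0, 2, 1, 2, 0, 2, 1, 3, 0, 2, 2, 1, 3, 0, 1, 3, 0], 1213), (79, [2, 1, 3, 0, 1, 3, 0, 2, 2, 1, 3, 0, 2], 381)], 6), ([(86, [3, 1, 2, 0, 1, 2, 0, 2, 1, 2, 0], 39), (63, [3, 1, 2, 0, 1, 2, 0, 2, 1, 2, 0], 50), (76, [1, 2, 0, 3, 1, 3, 0, 3, 3], 456)], 49), ([(91, [3, 3, 1, 2, 0, 3, 3, 1, 2, 0, 3, 3, 1, 2, 0, 2, 1, 3, 0], 22), (92, [3, 1, 2, 0, 2, 2, 1, 3, 0, 3, 1, 2, 0, 2, 2, 2, 1, 2, 0], 606), (63, [1, 2, 0, 3, 3], 23)], 462), ([(90, [1, 2, 0, 3, 1, 3, 0, 3, 1, 2, 0, 1, 2, 0, 2, 2, 1, 2, 0, 1, 2, 0,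 3, 1, 3, 0], 57), (58, [2, 1, 3, 0, 3, 1, 3, 0, 1, 3, 0, 2, 2, 1, 2, 0, 1, 2, 0, 2], 237), (24, [1, 2, 0, 3, 3], 2978)], 300), ([(90, [2, 1, 3, 0, 1, 3, 0, 2, 2, 1, 2, 0, 3, 1, 3, 0, 3, 1, 2, 0, 2, 1, 3, 0], 184), (54, [1, 3, 0, 1, 3, 0, 3, 3, 1, 3, 0, 1, 3, 0, 3, 1, 2, 0, 1, 2, 0, 1, 2, 0], 204), (83, [3, 3, 1, 2, 0, 1, 2, 0, 2, 1, 3, 0, 3, 3, 1, 3, 0], 415)], 259), ([(91, [1, 3, 0, 2, 2, 2, 1, 3, 0, 1, 3, 0, 3, 1, 2, 0, 1, 2, 0, 1, 2, 0], 406), (94, [1, 3, 0, 2, 2, 2, 1, 3, 0, 3, 1, 2, 0, 2, 2, 2, 1, 2, 0], 126), (40, [1, 2, 0, 3, 3], 862)], 0), ([(88, [1, 3, 0, 3, 1, 2, 0, 1, 2, 0, 2, 2, 1, 2, 0, 3, 3, 1, 2, 0, 2, 1, 3, 0], 22), (85, [2, 2, 1, 2, 0, 3, 3, 1, 2, 0, 3, 3], 12),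 (85, [1, 2, 0, 2, 1, 3, 0, 2, 2, 1, 2, 0, 1, 2, 0, 2, 2], 328)], 49), ([(89, [1, 3, 0, 3, 1, 2, 0, 1, 2, 0, 2, 2, 1, 2, 0, 3, 3, 1, 2, 0, 2, 1, 3, 0], 22), (64, [3, 1, 3, 0, 2, 2, 1, 3, 0, 1, 3, 0, 3], 82), (57, [1, 2, 0, 2, 2, 1, 2, 0, 3, 3, 1, 3, 0, 3, 3], 189)], 433), ([(88, [1, 2, 0, 1, 2, 0, 1, 2, 0, 3, 3, 1, 3, 0, 3, 3, 1, 3, 0, 2], 60), (82, [1, 2, 0, 2, 2, 1, 3, 0, 3, 1, 2, 0, 2, 1, 2, 0, 1, 2, 0, 3], 141), (42, [1, 2, 0, 2, 1, 3, 0, 2, 2], 1225)], 294), ([(89, [2, 2, 1, 2, 0, 1, 2, 0, 2, 1, 2, 0, 1, 2, 0, 3, 3, 1, 3, 0], 17), (70, [1, 2, 0, 1, 2, 0, 1, 2, 0, 3, 3, 1, 3, 0, 3, 3, 1, 3, 0, 2], 91), (65, [2, 2, 2, 1, 2, 0, 3, 3, 1, 2, 0, 2, 1, 3, 0], 143)], 229), ([(90, [1,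 3, 0, 3, 1, 3, 0, 2, 2, 1, 2, 0, 1, 2, 0, 2, 1, 3, 0, 1, 3, 0, 3, 3], 322), (74, [3, 3, 1, 2, 0, 2, 1, 2, 0, 1, 2, 0, 3, 3, 1, 2, 0, 1, 2, 0, 2], 101), (54, [1, 2, 0, 3, 3], 119)], 26), ([(91, [1, 3, 0, 3, 1, 3, 0, 2, 2, 1, 2, 0, 1, 2, 0, 2, 1, 3, 0, 1, 3, 0, 3, 3], 322), (95, [1, 3, 0, 3, 1, 3, 0, 2, 1, 2, 0, 1, 2, 0, 2, 1, 2, 0, 1, 2, 0, 3, 3], 53), (88, [3, 1, 3, 0, 3, 1, 2, 0, 1, 2, 0, 2, 1, 2, 0, 2, 1, 3, 0, 2, 1, 2, 0, 3], 392)], 194), ([(88, [1, 3, 0, 3, 1, 2, 0, 1, 2, 0, 2, 2, 1, 2, 0, 2, 2, 1, 3, 0], 392), (91, [2, 2, 1, 2, 0, 3, 1, 3, 0, 3, 1, 2, 0, 3, 3, 1, 3, 0, 2, 1, 2, 0], 470), (95, [2, 1, 2, 0, 2, 2, 1, 3, 0, 3, 1, 3, 0, 2, 1, 2, 0, 1, 2, 0, 3, 1, 3, 0], 53)], 49),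 ([(89, [1, 3, 0, 3, 1, 2, 0, 1, 2, 0, 2, 2, 1, 2, 0, 2, 2, 1, 3, 0], 392), (72, [2, 1, 2, 0, 1, 2, 0, 1, 2, 0, 2, 1, 3, 0, 1, 3, 0, 3, 3, 1, 3, 0, 2], 137), (60, [1, 2, 0, 3, 3], 238)], 0), ([(92, [2, 1, 3, 0, 3, 1, 2, 0, 2, 1, 2, 0, 1, 2, 0, 1, 2, 0, 3, 3, 1, 3, 0, 1, 3, 0], 53), (72, [1, 3, 0, 1, 3, 0, 3, 1, 3, 0, 2, 1, 2, 0, 1, 2, 0, 3, 3], 87), (55, [3, 1, 3, 0, 3, 1, 2, 0, 1, 2, 0, 2, 1, 2, 0, 2, 1, 3, 0, 2, 1, 2, 0, 3], 3)], 379), ([(92, [2, 1, 3, 0, 1, 3, 0, 3, 1, 2, 0, 1, 2, 0, 2, 1, 3, 0, 3, 1, 2, 0, 2, 1, 3, 0], 145), (67, [1, 2, 0, 2, 1, 2, 0, 1, 2, 0, 2, 2, 2, 1, 3, 0, 3, 1, 2, 0, 2, 2], 100), (45, [1, 2, 0, 3, 3], 115)], 0), ([(92, [2, 1, 3, 0, 3, 1, 2, 0, 2, 2, 1, 2,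 0, 2, 2, 1, 3, 0, 2, 1, 2, 0], 226), (59, [2, 1, 3, 0, 1, 3, 0, 3, 3, 1, 2, 0, 1, 2, 0, 3, 3, 1, 3, 0, 2], 226), (71, [2, 1, 3, 0, 3, 1, 2, 0, 3], 52)], 411), ([(95, [2, 1, 3, 0, 3, 1, 3, 0, 2, 1, 2, 0, 3, 1, 3, 0, 1, 3, 0, 2], 23), (88, [3, 1, 2, 0, 2, 1, 3, 0, 3, 3, 1, 2, 0, 2, 1, 3, 0, 3, 1, 3, 0], 279), (91, [3, 1, 3, 0, 2, 1, 2, 0, 1, 2, 0, 3, 3], 290)], 297), ([(93, [3, 1, 3, 0, 3, 1, 2, 0, 3, 1, 3, 0, 2, 1, 2, 0, 1, 2, 0, 3, 1, 3, 0, 1, 3, 0], 271), (74, [1, 3, 0, 2, 1, 2, 0, 1, 2, 0, 2, 1, 2, 0, 3, 3, 1, 3, 0], 166), (66, [1, 2, 0, 3, 3], 46)], 522), ([(94, [1, 2, 0, 3, 3, 1, 3, 0, 2, 2, 1, 3, 0, 1, 3, 0, 3, 1, 2, 0], 364), (45, [1, 3, 0, 3, 3, 1, 2, 0, 2, 2, 2, 1, 3, 0,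 3, 1, 2, 0, 3], 1338), (96, [1, 2, 0, 2, 2, 1, 3, 0, 2, 1, 2, 0, 2, 1, 2, 0, 1, 2, 0, 2, 2], 217)], 498), ([(92, [3, 1, 2, 0, 1, 2, 0, 2, 1, 2, 0, 1, 2, 0, 3, 1, 3, 0, 2, 1, 2, 0, 2, 1, 3, 0], 39), (55, [3, 1, 3, 0, 1, 3, 0, 3, 1, 2, 0, 1, 2, 0, 1, 2, 0, 2, 2, 1, 2, 0, 2, 1, 2, 0], 52), (98, [2, 2, 1, 3, 0, 1, 3, 0, 2, 1, 2, 0, 1, 2, 0, 2, 1, 2, 0], 532)], 535), ([(99, [1, 2, 0, 3, 1, 3, 0, 3, 1, 2, 0, 2, 1, 3, 0, 3, 1, 2, 0], 2200), (59, [2, 2, 1, 3, 0, 3, 3, 1, 3, 0, 2, 1, 2, 0, 2, 2, 1, 2, 0, 2], 38), (61, [1, 2, 0, 3, 3], 76)], 2342), ([(99, [1, 3, 0, 1, 3, 0, 3, 1, 2, 0, 1, 2, 0, 1, 2, 0, 2, 2], 1457), (61, [1, 3, 0, 1, 3, 0, 3, 1, 2, 0, 1, 2, 0, 1, 2, 0, 2, 2], 228), (100,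 [1, 2, 0, 3, 3], 4612)], 26170)],
[([(0, [], 0), (5, [], 0), (2, [], 24400)], 0), ([(5, [], 8257), (2, [], 24400), (0, [], 0)], 3540), ([(6, [], 8257), (14, [], 2300), (3, [], 24400)], 3540), ([(7, [], 57835), (26, [], 9832), (4, [], 24400)], 24942), ([(8, [], 57835), (12, [], 2300), (1, [], 24400)], 24942), ([(9, [], 24411), (19, [2, 1, 2, 0, 2, 2, 2, 1, 2, 0, 2, 2], 2983), (12, [2], 2648)], 24306), ([(9, [2, 2, 2, 1, 3, 0, 2, 1, 2, 0, 3, 3], 93359), (17, [], 4086), (5, [2], 24400)], 24306), ([(10, [], 37969), (34, [], 0), (14, [2], 2983)], 6074), ([(10, [2, 2, 2, 1, 3, 0, 2, 1, 2, 0, 3, 3], 68686), (36, [], 786), (26, [2], 42686)], 6074), ([(11, [1, 3, 0, 3, 1, 2, 0, 1, 2, 0, 1,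 2, 0, 3, 1, 3, 0], 1722), (80, [1, 3, 0, 3, 1, 2, 0, 1, 2, 0, 1, 2, 0, 3, 1, 3, 0], 49), (17, [1, 2, 0, 2, 1, 3, 0], 3587)], 43414), ([(11, [2, 2, 2, 1, 3, 0, 2, 1, 2, 0, 1, 2, 0, 2], 108248), (82, [1, 3, 0, 3, 1, 2, 0, 1, 2, 0, 1, 2, 0, 3, 1, 3, 0], 186), (31, [1, 2, 0, 2, 1, 3, 0], 978)], 94415), ([(10, [2, 2, 2, 1, 2, 0, 2, 2, 1, 2, 0], 60876), (40, [3, 3, 1, 3, 0, 1, 3, 0, 3, 1, 3, 0, 1, 3, 0, 3, 3], 736), (77, [3, 1, 3, 0, 1, 3, 0], 296)], 0), ([(18, [], 2986), (50, [], 0), (27, [2], 42686)], 2966), ([(19, [], 2986), (17, [2, 2, 2, 1, 3, 0, 2, 1, 2, 0, 3, 3], 1936), (6, [2], 94337)], 2966), ([(20, [], 3090), (49, [], 14), (15, [2], 2983)], 2634), ([(21, [], 3090), (31, [2, 2,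 2, 1, 3, 0, 2, 1, 2, 0, 3, 3], 843), (8, [2], 117107)], 2634), ([(24, [1, 3, 0, 3, 1, 2, 0, 1, 2, 0, 1, 2, 0, 3, 1, 3, 0], 2616), (77, [1, 3, 0, 3, 1, 2, 0, 1, 2, 0, 1, 2, 0, 3, 1, 3, 0], 300), (9, [1, 2, 0, 2, 1, 3, 0], 57217)], 2672), ([(24, [1, 2, 0, 2, 1, 2, 0, 1, 2, 0, 2, 2, 1, 2, 0, 2, 2], 1036), (87, [1, 2, 0, 2, 1, 2, 0, 1, 2, 0, 2, 1, 2, 0, 3, 1, 3, 0, 2, 1, 2, 0, 2], 28), (33, [1, 2, 0, 2, 1, 3, 0], 862)], 3894), ([(24, [2, 1, 2, 0, 2, 1, 2, 0, 3, 1, 3, 0, 3, 1, 2, 0], 2277), (80, [2, 1, 2, 0, 1, 2, 0, 3, 3, 1, 2, 0, 1, 2, 0, 2, 1, 2, 0], 156), (19, [1, 2, 0, 1, 2, 0, 2, 2, 1, 3, 0, 2, 2], 3046)], 3655), ([(24, [2, 2, 1, 2, 0, 2, 1, 3, 0, 2, 2, 2, 1, 2, 0, 3, 3, 1, 3, 0,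 1, 3, 0], 195), (89, [1, 3, 0, 2, 2, 1, 2, 0, 1, 2, 0, 2, 1, 3, 0, 3, 1, 2, 0, 1, 2, 0], 498), (47, [1, 2, 0, 2, 1, 3, 0], 123)], 3338), ([(25, [3, 3, 1, 2, 0, 1, 2, 0, 2, 2, 1, 3, 0, 3, 1, 3, 0, 1, 3, 0], 4370), (67, [1, 3, 0, 1, 3, 0, 3, 3, 1, 3, 0, 2, 1, 2, 0, 3, 1, 3, 0, 2], 169), (34, [1, 2, 0, 2, 1, 3, 0], 669)], 2664), ([(25, [1, 2, 0, 2, 1, 3, 0, 1, 3, 0, 3, 1, 3, 0, 2, 1, 2, 0, 3, 1, 3, 0], 3695), (59, [2, 1, 2, 0, 2, 2, 1, 2, 0, 2, 2, 1, 3, 0, 3, 1, 3, 0, 1, 3, 0, 3], 54), (49, [1, 2, 0, 2, 1, 3, 0], 189)], 2664), ([(25, [1, 2, 0, 2, 2, 1, 2, 0, 2, 2, 1, 2, 0, 3, 1, 3, 0, 3], 1545), (58, [1, 2, 0, 1, 2, 0, 2, 1, 3, 0, 2, 2, 1, 3, 0, 3, 3, 1, 3, 0], 14), (23, [2, 2, 1, 3,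 0, 1, 3, 0, 3, 1, 3, 0, 2], 1954)], 1024), ([(25, [1, 2, 0, 1, 2, 0, 2, 2, 1, 3, 0, 3, 3, 1, 3, 0, 1, 3, 0, 2], 2212), (56, [2, 1, 2, 0, 2, 2, 1, 3, 0, 3, 1, 2, 0, 3], 151), (30, [2, 1, 2, 0, 3, 3, 1, 2, 0, 1, 2, 0, 2], 1168)], 4736), ([(25, [1, 3, 0, 2, 2, 2, 1, 2, 0, 2, 1, 3, 0, 3, 1, 2, 0, 1, 2, 0, 1, 2, 0], 4723), (60, [3, 1, 3, 0, 2, 1, 2, 0, 1, 2, 0, 3, 3, 1, 2, 0, 3, 1, 3, 0, 3, 3, 1, 2, 0], 56), (80, [2, 1, 3, 0, 2, 2, 1, 2, 0, 3, 1, 3, 0, 1, 3, 0, 3], 30)], 1469), ([(25, [3, 1, 3, 0, 1, 3, 0, 2, 1, 2, 0, 1, 2, 0, 2, 1, 3, 0], 906), (75, [3, 1, 2, 0, 1, 2, 0, 2, 1, 2, 0, 3, 1, 3, 0, 2, 1, 2, 0, 2], 85), (58, [3, 1, 3, 0, 1, 3, 0], 175)], 4816), ([(28, [], 42692), (31, [],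 569), (7, [2], 94616)], 42652), ([(29, [], 43621), (47, [], 146), (13, [2], 2983)], 40908), ([(29, [2, 2, 1, 3, 0, 3, 1, 3, 0, 1, 3, 0], 77401), (67, [1, 2, 0, 2, 2, 2, 1, 3, 0, 1, 3, 0, 3, 1, 2, 0, 2], 176), (36, [1, 2, 0, 2, 1, 3, 0], 727)], 44236), ([(28, [2, 2, 1, 3, 0, 3, 1, 3, 0, 1, 3, 0], 67329), (44, [1, 3, 0, 3, 3, 1, 3, 0, 3, 1, 2, 0, 2, 1, 3, 0, 3], 883), (50, [1, 2, 0, 2, 1, 3, 0], 66)], 40968), ([(40, [1, 3, 0, 3, 1, 2, 0, 1, 2, 0, 1, 2, 0, 3, 1, 3, 0], 733), (77, [2, 2, 2, 1, 3, 0, 2, 1, 2, 0, 1, 2, 0, 2], 320), (10, [1, 2, 0, 2, 1, 3, 0], 119657)], 742), ([(41, [1, 3, 0, 3, 1, 2, 0, 1, 2, 0, 1, 2, 0, 3, 1, 3, 0], 991), (58, [2, 2, 2, 1, 3, 0, 2, 1, 2, 0, 1, 2, 0, 2],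 57), (22, [1, 2, 0, 1, 2, 0, 1, 2, 0], 2325)], 721), ([(42, [1, 3, 0, 3, 1, 2, 0, 1, 2, 0, 1, 2, 0, 3, 1, 3, 0], 733), (80, [3, 1, 3, 0, 3, 3, 1, 3, 0, 2, 1, 2, 0, 2, 2, 1, 2, 0, 3], 150), (16, [1, 2, 0, 2, 1, 3, 0], 2017)], 1119), ([(43, [1, 3, 0, 3, 1, 2, 0, 1, 2, 0, 1, 2, 0, 3, 1, 3, 0], 1045), (43, [2, 1, 3, 0, 1, 3, 0, 2, 2, 1, 2, 0, 2, 1, 3, 0, 3, 3], 543), (32, [1, 2, 0, 2, 1, 3, 0], 265)], 814), ([(44, [1, 3, 0, 2, 2, 1, 2, 0, 1, 2, 0, 2, 1, 3, 0, 3, 1, 2, 0, 1, 2, 0], 784), (58, [2, 1, 3, 0, 3, 1, 3, 0, 2, 1, 2, 0, 1, 2, 0, 2, 1, 3, 0, 1, 3, 0, 2], 105), (21, [1, 2, 0, 1, 2, 0, 2, 2, 1, 3, 0, 2, 2], 3964)], 454), ([(44, [1, 2, 0, 1, 2, 0, 2, 1, 2, 0, 1, 2, 0, 1, 2, 0, 3,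 1, 3, 0, 1, 3, 0, 3, 3], 880), (50, [2, 2, 1, 3, 0, 3, 1, 3, 0, 1, 3, 0], 143), (28, [1, 2, 0, 2, 1, 3, 0], 75903)], 675), ([(44, [2, 1, 2, 0, 1, 2, 0, 3, 3, 1, 2, 0, 1, 2, 0, 2, 1, 2, 0], 1076), (70, [1, 2, 0, 1, 2, 0, 3, 1, 3, 0, 1, 3, 0, 3, 1, 2, 0, 1, 2, 0, 2, 1, 3, 0, 1, 3, 0], 9), (53, [1, 2, 0, 2, 1, 3, 0], 138)], 752), ([(45, [1, 3, 0, 2, 2, 1, 2, 0, 1, 2, 0, 2, 1, 3, 0, 3, 1, 2, 0, 1, 2, 0], 738), (92, [1, 3, 0, 2, 2, 1, 2, 0, 1, 2, 0, 2, 1, 3, 0, 3, 1, 2, 0, 1, 2, 0], 291), (46, [1, 2, 0, 2, 1, 3, 0], 123)], 948), ([(45, [1, 2, 0, 1, 2, 0, 2, 1, 2, 0, 1, 2, 0, 1, 2, 0, 3, 1, 3, 0, 1, 3, 0, 3, 3], 924), (94, [2, 1, 2, 0, 1, 2, 0, 3, 3, 1, 2, 0, 1, 2, 0, 2, 1, 2, 0], 100),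 (39, [1, 2, 0, 2, 1, 3, 0], 736)], 507), ([(45, [2, 1, 2, 0, 1, 2, 0, 3, 3, 1, 2, 0, 1, 2, 0, 2, 1, 2, 0], 1019), (97, [1, 3, 0, 2, 2, 1, 2, 0, 1, 2, 0, 2, 1, 3, 0, 3, 1, 2, 0, 1, 2, 0], 187), (51, [1, 2, 0, 2, 1, 3, 0], 123)], 793), ([(40, [2, 2, 1, 3, 0, 3, 3, 1, 2, 0, 2, 2, 1, 2, 0, 3, 3], 38), (86, [3, 1, 2, 0, 1, 2, 0, 1, 2, 0, 3, 1, 3, 0, 3], 140), (56, [3, 1, 3, 0, 1, 3, 0], 82)], 1341), ([(43, [2, 2, 1, 3, 0, 3, 3, 1, 2, 0, 2, 2, 1, 2, 0, 3, 3], 1265), (42, [1, 3, 0, 3, 1, 2, 0, 3, 1, 3, 0, 3, 1, 2, 0, 2, 1, 2, 0, 1, 2, 0], 727), (82, [3, 1, 3, 0, 1, 3, 0], 45)], 0), ([(43, [1, 2, 0, 1, 2, 0, 1, 2, 0, 3, 3, 1, 2, 0, 1, 2, 0, 2, 1, 2, 0, 1, 2, 0], 108), (43, [1, 2, 0, 2, 1,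 3, 0, 2, 1, 2, 0, 2, 1, 2, 0, 1, 2, 0, 2], 804), (43, [2, 1, 2, 0, 2, 1, 3, 0, 3, 1, 3, 0, 2, 1, 2, 0, 1, 2, 0, 2, 1, 2, 0], 1059)], 82), ([(41, [2, 2, 1, 3, 0, 3, 3, 1, 2, 0, 2, 2, 1, 2, 0, 3, 3], 1362), (60, [3, 1, 2, 0, 2, 1, 2, 0, 1, 2, 0, 1, 2, 0, 3, 3, 1, 2, 0], 7), (87, [1, 2, 0, 2, 1, 2, 0, 3, 3, 1, 3, 0, 3, 1, 2, 0, 3, 3], 30)], 770), ([(40, [1, 2, 0, 1, 2, 0, 1, 2, 0, 2, 2, 1, 2, 0, 2, 1, 2, 0, 1, 2, 0, 3], 636), (89, [1, 2, 0, 3, 3, 1, 3, 0, 2, 1, 2, 0, 3, 1, 3, 0, 3, 1, 2, 0, 2, 1, 2, 0], 484), (67, [2, 1, 3, 0, 3, 1, 2, 0, 2, 1, 3, 0, 3, 1, 3, 0, 1, 3, 0], 63)], 537), ([(42, [1, 2, 0, 1, 2, 0, 1, 2, 0, 2, 2, 1, 2, 0, 2, 1, 2, 0, 1, 2, 0, 3], 585), (91, [2, 1, 2, 0, 2,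 1, 3, 0, 1, 3, 0, 2, 1, 2, 0, 1, 2, 0, 2, 1, 3, 0, 1, 3, 0], 444), (94, [3, 1, 3, 0, 1, 3, 0], 109)], 0), ([(54, [1, 3, 0, 2, 2, 1, 2, 0, 1, 2, 0, 2, 1, 3, 0, 3, 1, 2, 0, 1, 2, 0], 144), (80, [2, 2, 1, 3, 0, 1, 3, 0, 3, 1, 2, 0, 1, 2, 0, 2, 1, 2, 0], 124), (18, [1, 2, 0, 2, 1, 3, 0], 3347)], 122), ([(55, [1, 3, 0, 2, 2, 1, 2, 0, 1, 2, 0, 2, 1, 3, 0, 3, 1, 2, 0, 1, 2, 0], 144), (94, [2, 1, 3, 0, 3, 1, 3, 0, 1, 3, 0, 3, 3, 1, 3, 0, 1, 3, 0, 3, 3], 379), (37, [1, 2, 0, 1, 2, 0, 2, 2, 1, 3, 0, 2, 2], 756)], 139), ([(59, [1, 3, 0, 2, 2, 1, 2, 0, 1, 2, 0, 2, 1, 3, 0, 3, 1, 2, 0, 1, 2, 0], 127), (58, [3, 3, 1, 2, 0, 1, 2, 0, 2, 2, 1, 3, 0, 3, 1, 3, 0, 1, 3, 0], 167), (20, [1, 2, 0, 2, 1,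 3, 0], 3690)], 149), ([(60, [1, 3, 0, 2, 2, 1, 2, 0, 1, 2, 0, 2, 1, 3, 0, 3, 1, 2, 0, 1, 2, 0], 127), (90, [2, 1, 3, 0, 3, 1, 3, 0, 1, 3, 0, 3, 3, 1, 3, 0, 1, 3, 0, 3, 3], 491), (48, [1, 2, 0, 1, 2, 0, 2, 2, 1, 3, 0, 2, 2], 148)], 136), ([(66, [1, 3, 0, 2, 2, 1, 2, 0, 1, 2, 0, 2, 1, 3, 0, 3, 1, 2, 0, 1, 2, 0], 144), (94, [1, 2, 0, 1, 2, 0, 2, 1, 2, 0, 1, 2, 0, 1, 2, 0, 3, 1, 3, 0, 1, 3, 0, 3, 3], 471), (38, [1, 2, 0, 2, 1, 3, 0], 1071)], 122), ([(67, [1, 3, 0, 2, 2, 1, 2, 0, 1, 2, 0, 2, 1, 3, 0, 3, 1, 2, 0, 1, 2, 0], 144), (36, [2, 2, 1, 3, 0, 3, 1, 3, 0, 1, 3, 0], 756), (29, [1, 2, 0, 2, 1, 3, 0], 68690)], 122), ([(70, [1, 3, 0, 2, 2, 1, 2, 0, 1, 2, 0, 2, 1, 3, 0, 3, 1, 2, 0, 1,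 2, 0], 127), (67, [1, 2, 0, 3, 3, 1, 3, 0, 2, 1, 2, 0, 3, 1, 3, 0, 1, 3, 0, 3, 1, 2, 0], 204), (35, [1, 2, 0, 2, 1, 3, 0], 604)], 24), ([(71, [1, 3, 0, 2, 2, 1, 2, 0, 1, 2, 0, 2, 1, 3, 0, 3, 1, 2, 0, 1, 2, 0], 127), (93, [1, 3, 0, 3, 3, 1, 3, 0, 3, 1, 2, 0, 2, 1, 3, 0, 3], 574), (52, [1, 2, 0, 2, 1, 3, 0], 211)], 149), ([(55, [2, 1, 3, 0, 3, 3, 1, 2, 0, 1, 2, 0, 2, 1, 3, 0, 3, 1, 2, 0, 3], 29), (98, [1, 2, 0, 1, 2, 0, 2, 1, 2, 0, 3, 1, 3, 0, 3, 1, 2, 0, 3], 39), (92, [3, 1, 3, 0, 1, 3, 0], 284)], 0), ([(54, [2, 1, 3, 0, 3, 3, 1, 2, 0, 1, 2, 0, 2, 1, 3, 0, 3, 1, 2, 0, 3], 29), (88, [2, 1, 2, 0, 3, 1, 3, 0, 2, 1, 2, 0, 1, 2, 0, 2, 2, 1, 3, 0, 3, 1, 3, 0], 445), (89, [3, 1, 3, 0, 1,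 3, 0], 495)], 0), ([(65, [1, 3, 0, 1, 3, 0, 2, 2, 1, 2, 0, 3, 1, 3, 0, 1, 3, 0, 3], 142), (82, [2, 2, 2, 1, 2, 0, 2, 1, 3, 0, 3, 3, 1, 3, 0, 1, 3, 0], 413), (41, [2, 1, 2, 0, 2, 1, 3, 0, 3, 1, 3, 0, 2, 1, 2, 0, 1, 2, 0, 2, 1, 2, 0], 32)], 3), ([(75, [2, 1, 3, 0, 1, 3, 0, 3, 3, 1, 2, 0, 1, 2, 0, 2, 1, 2, 0, 3, 1, 3, 0, 1, 3, 0], 6), (58, [3, 1, 3, 0, 1, 3, 0, 2, 1, 2, 0, 1, 2, 0, 2, 1, 3, 0], 129), (25, [3, 1, 3, 0, 1, 3, 0], 1482)], 184), ([(75, [3, 1, 2, 0, 2, 1, 2, 0, 3, 1, 3, 0, 3, 3, 1, 3, 0, 1, 3, 0, 2], 138), (60, [1, 2, 0, 3, 3, 1, 3, 0, 1, 3, 0, 2, 1, 2, 0, 1, 2, 0], 134), (84, [2, 1, 3, 0, 1, 3, 0, 2, 1, 2, 0, 1, 2, 0, 2, 1, 3, 0, 1, 3, 0, 3, 1, 3, 0], 148)], 35), ([(70,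 [2, 1, 3, 0, 3, 3, 1, 2, 0, 1, 2, 0, 2, 1, 3, 0, 3, 1, 2, 0, 3], 139), (60, [1, 2, 0, 2, 2, 1, 2, 0, 1, 2, 0, 3, 1, 3, 0, 1, 3, 0, 3, 3, 1, 3, 0, 3, 1, 2, 0], 163), (90, [3, 1, 3, 0, 1, 3, 0], 360)], 146), ([(71, [2, 1, 3, 0, 3, 3, 1, 2, 0, 1, 2, 0, 2, 1, 3, 0, 3, 1, 2, 0, 3], 139), (92, [1, 3, 0, 1, 3, 0, 3, 1, 2, 0, 2, 1, 3, 0, 1, 3, 0, 3, 1, 3, 0], 162), (59, [3, 1, 2, 0, 1, 2, 0, 2, 1, 3, 0, 3, 3, 1, 2, 0, 3, 3, 1, 2, 0], 188)], 204), ([(75, [1, 3, 0, 3, 1, 2, 0, 2, 2, 1, 3, 0, 2, 1, 2, 0, 1, 2, 0, 3, 1, 3, 0], 121), (72, [3, 3, 1, 3, 0, 2, 1, 2, 0, 3, 1, 3, 0, 1, 3, 0, 2, 2, 2], 31), (68, [2, 2, 1, 2, 0, 1, 2, 0], 12)], 134), ([(74, [1, 3, 0, 3, 1, 2, 0, 2, 2, 1, 3, 0, 2, 1,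 2, 0, 1, 2, 0, 3, 1, 3, 0], 121), (61, [1, 3, 0, 1, 3, 0, 2, 1, 2, 0, 2, 2], 99), (99, [3, 1, 3, 0, 1, 3, 0], 12382)], 0), ([(71, [2, 2, 2, 1, 2, 0, 1, 2, 0, 3, 3, 1, 2, 0, 1, 2, 0, 2, 1, 2, 0, 1, 2, 0, 3], 178), (92, [1, 2, 0, 1, 2, 0, 1, 2, 0, 2, 2, 1, 3, 0, 3, 3, 1, 3, 0, 3, 3, 1, 2, 0], 139), (64, [1, 3, 0, 3, 3, 1, 2, 0, 3, 1, 3, 0, 3, 1, 2, 0, 2, 2, 1, 2, 0], 116)], 193), ([(58, [1, 2, 0, 2, 1, 3, 0, 1, 3, 0, 3, 1, 3, 0, 1, 3, 0, 2, 2, 1, 3, 0], 87), (24, [3, 3, 1, 2, 0, 1, 2, 0, 2, 1, 3, 0, 3, 3, 1, 3, 0, 3, 3], 4840), (81, [3, 1, 3, 0, 1, 3, 0], 27)], 0), ([(74, [3, 3, 1, 2, 0, 1, 2, 0, 1, 2, 0, 2, 2, 1, 3, 0, 2, 1, 2, 0, 3, 3], 86), (60, [3, 1, 2, 0, 2, 1, 3, 0, 1, 3, 0,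 3, 1, 3, 0, 1, 3, 0, 3, 3, 1, 2, 0], 76), (86, [3, 1, 2, 0, 1, 2, 0, 2, 2, 1, 2, 0, 3, 3], 113)], 89), ([(55, [1, 2, 0, 2, 1, 3, 0, 1, 3, 0, 3, 1, 3, 0, 2, 1, 2, 0, 2, 2, 1, 3, 0], 74), (94, [2, 2, 2, 1, 2, 0, 2, 2, 1, 2, 0, 3, 3, 1, 3, 0], 338), (44, [1, 2, 0, 1, 2, 0, 2, 1, 2, 0, 3, 1, 3, 0, 1, 3, 0, 3, 1, 3, 0, 2], 6)], 104), ([(54, [1, 2, 0, 2, 1, 3, 0, 1, 3, 0, 3, 1, 3, 0, 2, 1, 2, 0, 2, 2, 1, 3, 0], 74), (91, [2, 2, 1, 2, 0, 2, 2, 1, 2, 0, 1, 2, 0, 2, 2, 2], 390), (97, [3, 1, 3, 0, 1, 3, 0], 80)], 0), ([(72, [3, 1, 2, 0, 3, 3, 1, 2, 0, 2, 1, 2, 0, 1, 2, 0, 3, 1, 3, 0, 2, 1, 2, 0], 103), (73, [2, 2, 1, 2, 0, 2, 1, 2, 0, 1, 2, 0, 3, 1, 3, 0, 1, 3, 0, 3, 3, 1, 3, 0], 60), (69,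 [3, 1, 3, 0, 1, 3, 0], 223)], 110), ([(73, [3, 1, 2, 0, 3, 3, 1, 2, 0, 2, 1, 2, 0, 1, 2, 0, 3, 1, 3, 0, 2, 1, 2, 0], 103), (74, [2, 2, 1, 2, 0, 2, 1, 3, 0, 3, 3, 1, 2, 0, 1, 2, 0, 2, 1, 2, 0, 3, 3], 158), (62, [1, 2, 0, 3, 3, 1, 3, 0, 1, 3, 0], 155)], 146), ([(59, [2, 1, 3, 0, 3, 3, 1, 2, 0, 1, 2, 0, 2, 1, 3, 0, 3, 1, 2, 0, 3], 139), (55, [1, 3, 0, 2, 2, 1, 2, 0, 3, 1, 3, 0, 3, 3, 1, 2, 0, 1, 2, 0, 2, 1, 3, 0, 2], 175), (93, [1, 2, 0, 1, 2, 0, 2, 1, 2, 0, 3, 1, 3, 0, 1, 3, 0, 3, 1, 3, 0, 2], 423)], 221), ([(60, [2, 1, 3, 0, 3, 3, 1, 2, 0, 1, 2, 0, 2, 1, 3, 0, 3, 1, 2, 0, 3], 139), (90, [2, 1, 3, 0, 3, 3, 1, 2, 0, 2, 1, 2, 0, 3, 3], 444), (70, [3, 3, 1, 2, 0, 3, 3, 1, 2, 0, 2, 1,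 3, 0, 3], 166)], 146), ([(74, [1, 3, 0, 3, 3, 1, 2, 0, 3, 3, 1, 2, 0, 1, 2, 0, 1, 2, 0], 188), (75, [2, 1, 2, 0, 1, 2, 0, 1, 2, 0, 2, 1, 2, 0, 2, 1, 3, 0, 3, 3, 1, 3, 0, 1, 3, 0, 2], 205), (72, [3, 1, 2, 0, 1, 2, 0, 2, 1, 2, 0, 1, 2, 0, 3, 3, 1, 2, 0], 232)], 40), ([(75, [1, 3, 0, 3, 3, 1, 2, 0, 3, 3, 1, 2, 0, 1, 2, 0, 1, 2, 0], 188), (74, [1, 2, 0, 1, 2, 0, 3, 1, 3, 0, 2, 1, 2, 0, 2, 1, 3, 0, 2, 2], 180), (73, [2, 2, 2, 1, 2, 0, 1, 2, 0, 1, 2, 0, 3, 1, 3, 0, 2, 1, 2, 0], 204)], 34), ([(72, [1, 3, 0, 3, 3, 1, 2, 0, 3, 3, 1, 2, 0, 1, 2, 0, 1, 2, 0], 226), (75, [3, 3, 1, 3, 0, 1, 3, 0, 3, 1, 3, 0, 2, 1, 2, 0, 2, 1, 3, 0, 3], 93), (74, [1, 2, 0, 2, 2, 1, 3, 0, 2, 1, 2, 0, 2, 1, 2, 0,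 3, 3], 32)], 68), ([(73, [1, 3, 0, 3, 3, 1, 2, 0, 3, 3, 1, 2, 0, 1, 2, 0, 1, 2, 0], 226), (74, [2, 1, 3, 0, 1, 3, 0, 3, 3, 1, 3, 0, 1, 3, 0, 3, 3, 1, 2, 0, 2, 2, 2], 106), (75, [1, 2, 0, 1, 2, 0, 1, 2, 0, 2, 1, 2, 0, 3, 1, 3, 0, 3, 1, 2, 0, 2], 16)], 68), ([(82, [3, 3, 1, 3, 0, 1, 3, 0, 3, 1, 3, 0, 1, 3, 0, 3, 3], 49), (31, [2, 2, 2, 1, 2, 0, 2, 2, 1, 2, 0], 926), (11, [3, 1, 3, 0, 1, 3, 0], 21557)], 0), ([(83, [3, 3, 1, 3, 0, 1, 3, 0, 3, 1, 3, 0, 1, 3, 0, 3, 3], 296), (85, [2, 1, 3, 0, 1, 3, 0, 2, 2, 1, 2, 0, 3, 3, 1, 3, 0, 1, 3, 0, 2, 1, 2, 0], 33), (78, [3, 1, 2, 0, 2], 221)], 67), ([(84, [2, 1, 3, 0, 2, 2, 1, 2, 0, 3, 1, 3, 0], 139), (57, [1, 3, 0, 1, 3, 0, 2, 2, 1, 2, 0, 1,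 2, 0, 3], 222), (79, [3, 3, 1, 2, 0, 1, 2, 0, 3, 3, 1, 3, 0], 447)], 185), ([(85, [2, 1, 3, 0, 2, 2, 1, 2, 0, 3, 1, 3, 0], 139), (83, [2, 2, 2, 1, 2, 0, 2, 2, 1, 2, 0, 2, 1, 2, 0], 198), (76, [3, 1, 2, 0, 3, 3, 1, 3, 0], 489)], 51), ([(81, [1, 3, 0, 1, 3, 0, 2, 1, 2, 0, 1, 2, 0, 3, 1, 3, 0, 1, 3, 0, 3, 1, 2, 0, 1, 2, 0], 378), (70, [3, 1, 3, 0, 1, 3, 0, 2, 2, 2, 1, 2, 0, 1, 2, 0, 3], 230), (63, [3, 1, 3, 0, 1, 3, 0], 163)], 462), ([(81, [3, 3, 1, 2, 0, 1, 2, 0, 2, 1, 3, 0, 3, 3, 1, 3, 0, 3, 3], 456), (58, [1, 3, 0, 2, 2, 2, 1, 2, 0, 2, 1, 3, 0, 3, 1, 2, 0, 1, 2, 0, 1, 2, 0], 101), (24, [3, 1, 3, 0, 1, 3, 0], 4190)], 300), ([(86, [1, 3, 0, 1, 3, 0, 2, 1, 2, 0, 1, 2, 0, 3, 1, 3, 0,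 1, 3, 0, 3, 1, 2, 0, 1, 2, 0], 321), (54, [3, 1, 3, 0, 1, 3, 0, 2, 2, 2, 1, 2, 0, 1, 2, 0, 3], 186), (83, [2, 1, 2, 0, 2, 2, 1, 2, 0, 2, 1, 3, 0, 3, 3, 1, 3, 0, 3], 322)], 259), ([(86, [3, 3, 1, 2, 0, 1, 2, 0, 2, 1, 3, 0, 3, 3, 1, 3, 0, 3, 3], 55), (56, [2, 2, 1, 3, 0, 3, 3, 1, 2, 0, 2, 2, 1, 2, 0, 3, 3], 82), (40, [3, 1, 3, 0, 1, 3, 0], 713)], 0), ([(91, [1, 2, 0, 2, 1, 3, 0, 1, 3, 0, 3, 3, 1, 3, 0, 1, 3, 0, 2, 2, 1, 3, 0, 1, 3, 0], 142), (95, [3, 1, 3, 0, 2, 1, 2, 0, 2, 2, 1, 3, 0, 2, 2, 2], 66), (85, [2, 2, 2, 1, 2, 0, 2, 2, 1, 2, 0, 3, 3], 219)], 185), ([(90, [1, 2, 0, 2, 1, 3, 0, 1, 3, 0, 3, 3, 1, 3, 0, 1, 3, 0, 2, 2, 1, 3, 0, 1, 3, 0], 142), (75, [2, 1, 3, 0, 2, 1, 2, 0, 3,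 1, 3, 0, 3, 3, 1, 3, 0, 1, 3, 0], 62), (57, [1, 2, 0, 2, 2, 1, 3, 0, 1, 3, 0, 2, 2, 1, 2, 0, 3, 1, 3, 0], 214)], 286), ([(83, [3, 3, 1, 2, 0, 1, 2, 0, 2, 1, 3, 0, 3, 3, 1, 3, 0, 3, 3], 20), (87, [1, 2, 0, 2, 1, 3, 0, 2, 1, 2, 0, 2, 1, 2, 0, 1, 2, 0, 2], 4), (42, [3, 1, 2, 0, 3, 3, 1, 2, 0, 1, 2, 0, 2], 229)], 427), ([(83, [1, 3, 0, 1, 3, 0, 2, 1, 2, 0, 1, 2, 0, 3, 1, 3, 0, 1, 3, 0, 3, 1, 2, 0, 1, 2, 0], 155), (89, [2, 2, 2, 1, 2, 0, 1, 2, 0, 3, 3, 1, 2, 0, 1, 2, 0, 2, 1, 2, 0, 1, 2, 0, 3], 408), (65, [2, 1, 3, 0, 1, 3, 0, 3, 3, 1, 2, 0, 3, 1, 3, 0, 3, 3], 201)], 241), ([(88, [2, 1, 3, 0, 1, 3, 0, 3, 3, 1, 3, 0, 2, 2, 1, 2, 0, 1, 2, 0, 2, 2], 412), (89, [2, 1, 3, 0, 3, 3, 1, 2, 0,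 1, 2, 0, 2, 1, 3, 0, 3, 1, 2, 0, 3], 354), (54, [3, 1, 3, 0, 1, 3, 0], 52)], 26), ([(89, [2, 1, 3, 0, 1, 3, 0, 3, 3, 1, 3, 0, 2, 2, 1, 2, 0, 1, 2, 0, 2, 2], 412), (54, [2, 1, 2, 0, 3, 3, 1, 3, 0, 3, 1, 2, 0, 1, 2, 0, 2, 1, 2, 0, 3], 1), (88, [1, 2, 0, 3, 1, 3, 0, 3, 1, 2, 0, 1, 2, 0, 2, 1, 2, 0, 1, 2, 0, 3], 263)], 194), ([(91, [1, 2, 0, 2, 2, 1, 2, 0, 1, 2, 0, 3, 1, 3, 0, 1, 3, 0, 3, 3, 1, 3, 0, 3, 1, 2, 0], 360), (96, [2, 1, 2, 0, 1, 2, 0, 2, 2, 2, 1, 2, 0, 3, 1, 3, 0, 2], 549), (95, [2, 1, 3, 0, 3, 3, 1, 2, 0, 3, 3, 1, 3, 0, 3, 3], 185)], 185), ([(90, [1, 2, 0, 2, 2, 1, 2, 0, 1, 2, 0, 3, 1, 3, 0, 1, 3, 0, 3, 3, 1, 3, 0, 3, 1, 2, 0], 360), (70, [2, 2, 1, 2, 0, 2, 2, 1, 3, 0, 3,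 1, 2, 0, 3, 1, 3, 0], 139), (60, [3, 1, 3, 0, 1, 3, 0], 163)], 0), ([(98, [2, 1, 3, 0, 1, 3, 0, 3, 1, 3, 0, 2, 2, 1, 2, 0, 2, 2], 435), (92, [2, 1, 2, 0, 1, 2, 0, 3, 3, 1, 3, 0, 3, 3, 1, 3, 0, 1, 3, 0, 2], 284), (55, [1, 2, 0, 3, 1, 3, 0, 3, 1, 2, 0, 1, 2, 0, 2, 1, 2, 0, 1, 2, 0, 3], 29)], 379), ([(94, [1, 3, 0, 2, 2, 1, 2, 0, 1, 2, 0, 2, 1, 2, 0, 2, 2, 1, 3, 0], 555), (43, [2, 2, 1, 3, 0, 2, 2, 1, 2, 0, 2, 2], 697), (45, [3, 1, 3, 0, 1, 3, 0], 1311)], 0), ([(95, [2, 1, 2, 0, 2, 1, 3, 0, 1, 3, 0, 3, 1, 3, 0, 1, 3, 0, 2, 2, 1, 2, 0], 308), (90, [3, 1, 2, 0, 2, 2, 1, 3, 0, 2, 1, 2, 0, 2, 2, 1, 2, 0, 1, 2, 0], 348), (71, [2, 1, 3, 0, 3, 1, 2, 0, 2, 1, 3, 0, 3, 1, 3, 0, 1, 3, 0], 167)],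 411), ([(95, [2, 2, 1, 3, 0, 3, 1, 2, 0, 3, 3, 1, 3, 0, 2, 1, 2, 0, 2], 534), (88, [2, 2, 2, 1, 2, 0, 2, 1, 2, 0, 1, 2, 0, 2, 2, 1, 3, 0], 392), (91, [1, 3, 0, 3, 1, 3, 0], 470)], 379), ([(95, [3, 1, 3, 0, 2, 1, 2, 0, 1, 2, 0, 2, 1, 3, 0, 1, 3, 0, 3, 1, 3, 0, 1, 3, 0], 444), (89, [1, 2, 0, 2, 1, 3, 0, 1, 3, 0, 3, 1, 3, 0, 2, 1, 2, 0, 2, 2, 1, 3, 0], 359), (66, [3, 1, 3, 0, 1, 3, 0], 61)], 522), ([(95, [2, 2, 1, 3, 0, 3, 1, 3, 0, 2, 1, 2, 0, 2, 2, 1, 3, 0], 639), (91, [2, 2, 1, 2, 0, 1, 2, 0, 1, 2, 0, 3, 1, 3, 0, 1, 3, 0, 3, 1, 2, 0, 1, 2, 0, 3, 1, 3, 0], 273), (96, [3, 3, 1, 2, 0, 3, 3, 1, 2, 0, 2, 1, 3, 0, 3], 549)], 517), ([(94, [3, 1, 3, 0, 1, 3, 0, 3, 3, 1, 2, 0, 1, 2, 0, 2,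 1, 2, 0, 3, 3], 161), (45, [1, 3, 0, 3, 3, 1, 3, 0, 2, 1, 2, 0, 2, 2, 1, 2, 0, 3, 3], 292), (98, [1, 2, 0, 3, 3, 1, 3, 0, 3, 1, 2, 0, 2, 1, 2, 0, 1, 2, 0], 157)], 50), ([(99, [1, 3, 0, 1, 3, 0, 2, 1, 2, 0, 2, 2], 3208), (75, [2, 2, 1, 3, 0, 3, 1, 3, 0, 1, 3, 0, 2, 2, 1, 3, 0, 2, 1, 2, 0, 1, 2, 0], 155), (61, [3, 1, 3, 0, 1, 3, 0], 164)], 2342), ([(99, [1, 2, 0, 1, 2, 0, 2, 2, 1, 3, 0, 1, 3, 0, 3, 1, 2, 0], 2336), (61, [1, 2, 0, 1, 2, 0, 2, 2, 1, 3, 0, 1, 3, 0, 3, 1, 2, 0], 239), (100, [3, 1, 3, 0, 1, 3, 0], 13568)], 26170)],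
[([(0, [], 0), (5, [], 0), (2, [], 24400)], 0), ([(5, [], 3868), (2, [], 24400), (0, [], 0)], 3868), ([(6, [], 3868), (14, [], 2300), (3, [], 24400)], 3868), ([(7, [], 24576), (26, [], 9832), (4, [], 24400)], 24576), ([(8, [], 24576), (12, [], 2300), (1, [], 24400)], 24576), ([(9, [2, 2, 1, 2, 0, 1, 2, 0, 2, 1, 2, 0, 1, 2, 0, 3], 23389), (19, [1, 2, 0, 1, 2, 0, 2, 2, 1, 2, 0, 2, 2, 1, 3, 0], 2702), (12, [1, 2, 0, 1, 2, 0, 1, 2, 0], 3941)], 24400), ([(9, [1, 2, 0, 1, 2, 0, 2, 1, 3, 0, 3], 65445), (17, [2, 2, 1, 2, 0, 1, 2, 0, 2, 1, 2, 0, 1, 2, 0, 3], 4920), (5, [1, 2, 0, 1, 2, 0, 1, 2, 0], 34689)], 24400), ([(10, [2, 2, 1, 2, 0, 1, 2, 0, 2, 1, 2, 0, 1, 2, 0, 3], 85158), (34, [2, 2,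 1, 2, 0, 1, 2, 0, 2, 1, 2, 0, 1, 2, 0, 2, 2], 807), (14, [1, 2, 0, 1, 2, 0, 1, 2, 0], 3310)], 24400), ([(10, [1, 2, 0, 1, 2, 0, 2, 1, 3, 0, 3], 94552), (36, [1, 2, 0, 1, 2, 0, 2, 2, 1, 2, 0, 2, 2, 1, 3, 0], 625), (26, [1, 2, 0, 1, 2, 0, 1, 2, 0], 30712)], 24400), ([(11, [1, 2, 0, 2, 1, 2, 0, 1, 2, 0, 2, 2], 92101), (80, [2, 2, 1, 2, 0, 2, 1, 3, 0, 2, 1, 2, 0, 2, 2], 107), (17, [1, 2, 0, 1, 2, 0, 1, 2, 0], 3465)], 24400), ([(11, [2, 1, 2, 0, 3, 1, 3, 0, 1, 3, 0, 2, 1, 2, 0], 80897), (82, [2, 2, 1, 2, 0, 2, 1, 3, 0, 2, 1, 2, 0, 2, 2], 84), (31, [1, 2, 0, 1, 2, 0, 1, 2, 0], 1047)], 94616), ([(10, [3, 1, 2, 0, 1, 2, 0, 2, 1, 3, 0, 1, 3, 0], 116541), (40, [2, 1, 2, 0, 2, 1, 2, 0, 1, 2,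 0, 3, 3, 1, 3, 0, 3], 897), (77, [1, 2, 0, 1, 2, 0, 1, 2, 0], 336)], 24400), ([(18, [2, 2, 1, 2, 0, 1, 2, 0, 2, 1, 2, 0, 1, 2, 0, 2, 2], 2746), (50, [1, 2, 0, 1, 2, 0, 2, 2, 1, 2, 0, 2, 2, 1, 3, 0], 91), (27, [1, 2, 0, 1, 2, 0, 1, 2, 0], 30712)], 2983), ([(19, [2, 2, 1, 2, 0, 1, 2, 0, 2, 1, 2, 0, 1, 2, 0, 2, 2], 2746), (17, [1, 2, 0, 1, 2, 0, 2, 1, 3, 0, 3], 1009), (6, [1, 2, 0, 1, 2, 0, 1, 2, 0], 77304)], 2983), ([(20, [2, 2, 1, 2, 0, 1, 2, 0, 2, 1, 2, 0, 1, 2, 0, 2, 2], 2735), (49, [2, 2, 1, 2, 0, 1, 2, 0, 2, 1, 2, 0, 1, 2, 0, 2, 2], 14), (15, [1, 2, 0, 1, 2, 0, 1, 2, 0], 3310)], 2983), ([(21, [2, 2, 1, 2, 0, 1, 2, 0, 2, 1, 2, 0, 1, 2, 0, 2, 2], 2735), (31, [1, 2, 0, 1, 2, 0, 2,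 1, 3, 0, 3], 1042), (8, [1, 2, 0, 1, 2, 0, 1, 2, 0], 24397)], 2983), ([(24, [2, 2, 1, 2, 0, 2, 1, 3, 0, 2, 1, 2, 0, 2, 2], 4369), (77, [1, 2, 0, 2, 1, 2, 0, 1, 2, 0, 2, 2], 475), (9, [1, 2, 0, 1, 2, 0, 1, 2, 0], 95334)], 2985), ([(24, [2, 2, 2, 1, 3, 0, 3, 3, 1, 2, 0], 1008), (87, [1, 3, 0, 3, 3, 1, 2, 0, 1, 2, 0, 2, 1, 2, 0, 3, 1, 3, 0, 1, 3, 0], 34), (33, [1, 2, 0, 1, 2, 0, 1, 2, 0], 922)], 4192), ([(24, [2, 2, 1, 3, 0, 2, 1, 2, 0, 2, 2, 1, 2, 0, 1, 2, 0], 1689), (80, [2, 1, 3, 0, 3, 1, 2, 0, 2, 1, 2, 0, 2, 2, 1, 3, 0, 1, 3, 0, 3], 15), (19, [1, 2, 0, 2, 1, 3, 0, 3, 3, 1, 2, 0, 3, 3, 1, 2, 0], 4779)], 3203), ([(24, [1, 2, 0, 1, 2, 0, 1, 2, 0, 2, 1, 2, 0, 1, 2, 0, 3, 3], 1303),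 (89, [2, 2, 2, 1, 2, 0, 3, 3, 1, 3, 0, 2, 1, 2, 0, 1, 2, 0, 2, 1, 3, 0], 498), (47, [1, 2, 0, 1, 2, 0, 1, 2, 0], 126)], 2983), ([(25, [2, 1, 2, 0, 3, 3, 1, 3, 0, 3, 1, 2, 0, 2, 2, 1, 2, 0, 2], 3260), (67, [1, 2, 0, 2, 1, 2, 0, 3, 1, 3, 0, 2, 1, 2, 0, 3, 1, 3, 0, 3, 3, 1, 2, 0], 132), (34, [1, 2, 0, 1, 2, 0, 1, 2, 0], 408)], 2983), ([(25, [3, 3, 1, 3, 0, 2, 2, 1, 3, 0, 1, 3, 0, 3], 3102), (59, [1, 3, 0, 1, 3, 0, 2, 2, 1, 2, 0, 2, 2, 1, 3, 0, 1, 3, 0, 2, 2, 1, 3, 0], 22), (49, [1, 2, 0, 1, 2, 0, 1, 2, 0], 184)], 2983), ([(25, [2, 2, 2, 1, 3, 0, 2, 1, 2, 0, 1, 2, 0, 2], 628), (58, [2, 2, 1, 3, 0, 3, 1, 2, 0, 2, 1, 3, 0, 1, 3, 0, 3, 1, 3, 0, 1, 3, 0], 57), (23, [1, 2, 0, 1, 2, 0, 3,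 1, 3, 0, 2], 119)], 1488), ([(25, [3, 1, 3, 0, 1, 3, 0, 2, 2, 2, 1, 3, 0, 3, 3], 2407), (56, [2, 1, 2, 0, 2, 2, 2, 1, 2, 0, 2, 2, 1, 2, 0, 2, 1, 2, 0], 145), (30, [2, 2, 1, 2, 0, 1, 2, 0, 3, 3, 1, 2, 0], 1243)], 5007), ([(19, [2, 1, 3, 0, 3, 1, 3, 0, 2, 1, 2, 0, 3], 535), (24, [1, 3, 0, 3, 1, 2, 0, 1, 2, 0, 2, 1, 3, 0, 3, 1, 3, 0], 2508), (80, [2, 2, 1, 2, 0, 1, 2, 0, 3, 1, 3, 0, 2, 1, 2, 0, 2], 21)], 2230), ([(25, [2, 1, 2, 0, 1, 2, 0, 1, 2, 0, 2, 1, 2, 0, 2, 1, 3, 0, 3], 1288), (74, [1, 2, 0, 3, 3, 1, 3, 0, 3, 1, 2, 0, 2, 2, 1, 3, 0, 3, 1, 2, 0, 2], 171), (58, [1, 2, 0, 1, 2, 0, 1, 2, 0], 151)], 4816), ([(28, [1, 2, 0, 1, 2, 0, 2, 2, 1, 2, 0, 2, 2, 1, 3, 0], 16240), (31, [2, 2,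 1, 2, 0, 1, 2, 0, 2, 1, 2, 0, 1, 2, 0, 3], 928), (7, [1, 2, 0, 1, 2, 0, 1, 2, 0], 26344)], 42686), ([(29, [1, 2, 0, 1, 2, 0, 2, 2, 1, 2, 0, 2, 2, 1, 3, 0], 16240), (47, [2, 2, 1, 2, 0, 1, 2, 0, 2, 1, 2, 0, 1, 2, 0, 2, 2], 91), (13, [1, 2, 0, 1, 2, 0, 1, 2, 0], 2669)], 42686), ([(29, [2, 2, 1, 2, 0, 2, 1, 3, 0, 2, 2, 1, 3, 0], 50632), (67, [2, 2, 1, 3, 0, 2, 2, 1, 2, 0, 1, 2, 0, 1, 2, 0, 2, 1, 2, 0, 1, 2, 0], 75), (36, [1, 2, 0, 1, 2, 0, 1, 2, 0], 441)], 42686), ([(28, [2, 2, 1, 2, 0, 2, 1, 3, 0, 2, 2, 1, 3, 0], 73474), (44, [1, 2, 0, 3, 1, 3, 0, 3, 3, 1, 3, 0, 2, 2, 1, 3, 0, 2, 2, 2], 551), (50, [1, 2, 0, 1, 2, 0, 1, 2, 0], 172)], 42686), ([(40, [2, 2, 1, 2, 0, 2, 1, 3, 0, 2, 1,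 2, 0, 2, 2], 969), (77, [2, 1, 2, 0, 3, 1, 3, 0, 1, 3, 0, 2, 1, 2, 0], 473), (10, [1, 2, 0, 1, 2, 0, 1, 2, 0], 82527)], 786), ([(41, [2, 2, 1, 2, 0, 2, 1, 3, 0, 2, 1, 2, 0, 2, 2], 870), (58, [1, 2, 0, 3, 3, 1, 2, 0, 1, 2, 0, 1, 2, 0, 2, 1, 3, 0, 3], 27), (22, [2, 2, 1, 2, 0, 2], 1835)], 1020), ([(42, [2, 2, 1, 2, 0, 2, 1, 3, 0, 2, 1, 2, 0, 2, 2], 945), (80, [2, 1, 3, 0, 1, 3, 0, 3, 3, 1, 2, 0, 3, 1, 3, 0, 1, 3, 0], 151), (16, [1, 2, 0, 1, 2, 0, 1, 2, 0], 1108)], 1337), ([(43, [2, 2, 1, 2, 0, 2, 1, 3, 0, 2, 1, 2, 0, 2, 2], 724), (43, [2, 1, 3, 0, 3, 1, 2, 0, 2, 1, 3, 0, 3, 1, 3, 0, 1, 3, 0, 3, 1, 3, 0], 533), (32, [1, 2, 0, 1, 2, 0, 1, 2, 0], 264)], 752), ([(44, [2, 2, 2, 1, 2, 0,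 3, 3, 1, 3, 0, 2, 1, 2, 0, 1, 2, 0, 2, 1, 3, 0], 746), (58, [2, 2, 1, 3, 0, 3, 1, 2, 0, 2, 1, 2, 0, 1, 2, 0, 1, 2, 0, 2, 2], 112), (21, [1, 2, 0, 2, 1, 3, 0, 3, 3, 1, 2, 0, 3, 3, 1, 2, 0], 2849)], 380), ([(44, [1, 2, 0, 1, 2, 0, 1, 2, 0, 3, 3, 1, 3, 0, 2, 1, 2, 0, 2, 1, 2, 0], 939), (50, [2, 2, 1, 2, 0, 2, 1, 3, 0, 2, 2, 1, 3, 0], 130), (28, [1, 2, 0, 1, 2, 0, 1, 2, 0], 50794)], 569), ([(44, [1, 3, 0, 2, 2, 1, 2, 0, 1, 2, 0, 2, 2, 1, 3, 0, 1, 3, 0, 3, 1, 3, 0, 2], 632), (70, [1, 2, 0, 2, 2, 1, 3, 0, 1, 3, 0, 3, 3, 1, 3, 0, 1, 3, 0, 3, 1, 3, 0], 9), (53, [1, 2, 0, 1, 2, 0, 1, 2, 0], 109)], 786), ([(45, [2, 2, 2, 1, 2, 0, 3, 3, 1, 3, 0, 2, 1, 2, 0, 1, 2, 0, 2, 1, 3, 0], 935), (92,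 [2, 2, 2, 1, 2, 0, 3, 3, 1, 3, 0, 2, 1, 2, 0, 1, 2, 0, 2, 1, 3, 0], 291), (46, [1, 2, 0, 1, 2, 0, 1, 2, 0], 126)], 786), ([(45, [1, 2, 0, 1, 2, 0, 1, 2, 0, 3, 3, 1, 3, 0, 2, 1, 2, 0, 2, 1, 2, 0], 865), (94, [1, 3, 0, 2, 2, 1, 2, 0, 1, 2, 0, 2, 2, 1, 3, 0, 1, 3, 0, 3, 1, 3, 0, 2], 580), (39, [1, 2, 0, 1, 2, 0, 1, 2, 0], 567)], 668), ([(45, [1, 3, 0, 2, 2, 1, 2, 0, 1, 2, 0, 2, 2, 1, 3, 0, 1, 3, 0, 3, 1, 3, 0, 2], 586), (97, [2, 1, 2, 0, 1, 2, 0, 3, 1, 3, 0, 1, 3, 0, 3, 1, 2, 0, 1, 2, 0, 2, 2], 385), (51, [1, 2, 0, 1, 2, 0, 1, 2, 0], 72)], 786), ([(43, [1, 2, 0, 3, 1, 3, 0, 3, 1, 2, 0, 3, 3, 1, 3, 0, 1, 3, 0, 3, 3], 1293), (44, [2, 2, 1, 3, 0, 3, 1, 2, 0, 1, 2, 0, 2, 1, 3, 0, 3, 1,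 2, 0], 161), (56, [1, 2, 0, 1, 2, 0, 1, 2, 0], 14)], 1341), ([(40, [1, 2, 0, 3, 1, 3, 0, 3, 1, 2, 0, 3, 3, 1, 3, 0, 1, 3, 0, 3, 3], 342), (88, [2, 2, 2, 1, 3, 0, 3, 1, 3, 0, 1, 3, 0, 3, 1, 2, 0, 2], 440), (82, [1, 2, 0, 1, 2, 0, 1, 2, 0], 12)], 786), ([(41, [1, 2, 0, 3, 1, 3, 0, 3, 1, 2, 0, 3, 3, 1, 3, 0, 1, 3, 0, 3, 3], 1366), (67, [1, 2, 0, 2, 1, 3, 0, 2, 1, 2, 0, 2, 1, 3, 0, 2, 2, 1, 2, 0, 3], 132), (43, [2, 1, 3, 0, 1, 3, 0, 2, 2, 1, 3, 0, 1, 3, 0, 3], 666)], 61), ([(43, [1, 2, 0, 1, 2, 0, 1, 2, 0, 2, 2, 1, 3, 0, 1, 3, 0, 3], 96), (40, [1, 3, 0, 1, 3, 0, 3, 1, 2, 0, 2, 2, 1, 2, 0, 2, 1, 2, 0, 1, 2, 0], 560), (87, [3, 1, 2, 0, 3, 1, 3, 0, 1, 3, 0, 3, 1, 2, 0, 2, 1, 3, 0, 2, 2],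 132)], 893), ([(45, [1, 2, 0, 1, 2, 0, 1, 2, 0, 2, 2, 1, 3, 0, 1, 3, 0, 3], 1237), (93, [1, 3, 0, 3, 1, 2, 0, 3, 1, 3, 0, 3, 1, 2, 0, 2, 1, 3, 0, 3, 1, 2, 0], 435), (67, [2, 1, 3, 0, 3, 1, 2, 0, 2, 1, 2, 0, 1, 2, 0], 140)], 537), ([(44, [1, 2, 0, 1, 2, 0, 1, 2, 0, 2, 2, 1, 3, 0, 1, 3, 0, 3], 1235), (71, [1, 2, 0, 1, 2, 0, 2, 1, 3, 0, 3, 1, 2, 0, 3, 1, 3, 0, 1, 3, 0, 3], 207), (94, [1, 2, 0, 1, 2, 0, 1, 2, 0], 107)], 786), ([(54, [2, 2, 2, 1, 2, 0, 3, 3, 1, 3, 0, 2, 1, 2, 0, 1, 2, 0, 2, 1, 3, 0], 126), (80, [2, 1, 2, 0, 3, 3, 1, 3, 0, 1, 3, 0, 3, 1, 2, 0, 2, 1, 2, 0, 1, 2, 0, 3], 174), (18, [1, 2, 0, 1, 2, 0, 1, 2, 0], 3116)], 146), ([(55, [2, 2, 2, 1, 2, 0, 3, 3, 1, 3, 0, 2, 1, 2,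 0, 1, 2, 0, 2, 1, 3, 0], 126), (94, [2, 1, 2, 0, 1, 2, 0, 3, 1, 3, 0, 1, 3, 0, 3, 1, 2, 0, 1, 2, 0, 2, 2], 379), (37, [1, 2, 0, 2, 1, 3, 0, 3, 3, 1, 2, 0, 3, 3, 1, 2, 0], 1035)], 137), ([(59, [2, 2, 2, 1, 2, 0, 3, 3, 1, 3, 0, 2, 1, 2, 0, 1, 2, 0, 2, 1, 3, 0], 173), (58, [2, 1, 2, 0, 3, 3, 1, 3, 0, 3, 1, 2, 0, 2, 2, 1, 2, 0, 2], 132), (20, [1, 2, 0, 1, 2, 0, 1, 2, 0], 3362)], 146), ([(60, [2, 2, 2, 1, 2, 0, 3, 3, 1, 3, 0, 2, 1, 2, 0, 1, 2, 0, 2, 1, 3, 0], 173), (90, [2, 1, 2, 0, 1, 2, 0, 3, 1, 3, 0, 1, 3, 0, 3, 1, 2, 0, 1, 2, 0, 2, 2], 491), (48, [1, 2, 0, 2, 1, 3, 0, 3, 3, 1, 2, 0, 3, 3, 1, 2, 0], 142)], 168), ([(66, [2, 1, 2, 0, 1, 2, 0, 3, 1, 3, 0, 1, 3, 0, 3, 1, 2, 0, 1, 2, 0,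 2, 2], 72), (94, [1, 2, 0, 1, 2, 0, 1, 2, 0, 3, 3, 1, 3, 0, 2, 1, 2, 0, 2, 1, 2, 0], 604), (38, [1, 2, 0, 1, 2, 0, 1, 2, 0], 955)], 146), ([(67, [2, 1, 2, 0, 1, 2, 0, 3, 1, 3, 0, 1, 3, 0, 3, 1, 2, 0, 1, 2, 0, 2, 2], 72), (36, [2, 2, 1, 2, 0, 2, 1, 3, 0, 2, 2, 1, 3, 0], 389), (29, [1, 2, 0, 1, 2, 0, 1, 2, 0], 56206)], 146), ([(70, [2, 1, 2, 0, 1, 2, 0, 3, 1, 3, 0, 1, 3, 0, 3, 1, 2, 0, 1, 2, 0, 2, 2], 108), (67, [1, 2, 0, 2, 1, 2, 0, 1, 2, 0, 2, 2, 1, 3, 0, 2, 1, 2, 0, 2, 1, 2, 0, 3], 11), (35, [1, 2, 0, 1, 2, 0, 1, 2, 0], 521)], 48), ([(71, [2, 1, 2, 0, 1, 2, 0, 3, 1, 3, 0, 1, 3, 0, 3, 1, 2, 0, 1, 2, 0, 2, 2], 108), (93, [1, 2, 0, 3, 1, 3, 0, 3, 3, 1, 3, 0, 2, 2, 1, 3, 0, 2, 2, 2],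 574), (52, [1, 2, 0, 1, 2, 0, 1, 2, 0], 10)], 146), ([(59, [2, 1, 3, 0, 3, 3, 1, 2, 0, 3, 3, 1, 2, 0, 1, 2, 0, 1, 2, 0, 3], 188), (71, [2, 2, 1, 2, 0, 1, 2, 0, 1, 2, 0, 3, 1, 3, 0, 3, 3, 1, 3, 0, 2], 180), (92, [1, 2, 0, 1, 2, 0, 1, 2, 0], 162)], 146), ([(60, [2, 1, 3, 0, 3, 3, 1, 2, 0, 3, 3, 1, 2, 0, 1, 2, 0, 1, 2, 0, 3], 188), (88, [2, 2, 1, 3, 0, 3, 3, 1, 2, 0, 3, 3, 1, 2, 0, 1, 2, 0, 2, 1, 2, 0], 258), (89, [1, 2, 0, 1, 2, 0, 1, 2, 0], 394)], 146), ([(66, [3, 1, 2, 0, 1, 2, 0, 2, 1, 3, 0, 3, 3, 1, 3, 0, 2, 2, 1, 3, 0], 182), (94, [1, 2, 0, 1, 2, 0, 2, 2, 1, 2, 0, 2, 2, 1, 3, 0, 1, 3, 0, 3], 497), (41, [2, 1, 3, 0, 1, 3, 0, 2, 2, 1, 3, 0, 1, 3, 0, 3], 947)], 12), ([(74, [1, 2,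 0, 3, 1, 3, 0, 3, 1, 2, 0, 1, 2, 0, 2, 1, 3, 0, 3, 1, 2, 0], 59), (58, [2, 1, 2, 0, 1, 2, 0, 1, 2, 0, 2, 1, 2, 0, 2, 1, 3, 0, 3], 76), (25, [1, 2, 0, 1, 2, 0, 1, 2, 0], 1252)], 184), ([(74, [2, 1, 2, 0, 1, 2, 0, 2, 1, 2, 0, 3, 3, 1, 3, 0, 3, 3, 1, 3, 0, 3], 98), (60, [2, 1, 3, 0, 3, 1, 3, 0, 1, 3, 0, 3, 1, 2, 0, 1, 2, 0, 2, 1, 3, 0, 3], 146), (84, [2, 1, 2, 0, 2, 1, 3, 0, 3, 1, 3, 0, 2, 1, 2, 0, 1, 2, 0, 2, 1, 2, 0], 156)], 16), ([(54, [2, 1, 3, 0, 3, 3, 1, 2, 0, 3, 3, 1, 2, 0, 1, 2, 0, 1, 2, 0, 3], 226), (88, [2, 1, 3, 0, 1, 3, 0, 2, 2, 1, 2, 0, 1, 2, 0, 3, 1, 3, 0, 1, 3, 0], 301), (90, [1, 2, 0, 1, 2, 0, 1, 2, 0], 487)], 146), ([(55, [2, 1, 3, 0, 3, 3, 1, 2, 0, 3, 3, 1, 2, 0, 1,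 2, 0, 1, 2, 0, 3], 226), (93, [1, 2, 0, 2, 2, 1, 2, 0, 1, 2, 0, 2, 1, 2, 0, 3, 3, 1, 3, 0, 2], 221), (59, [1, 2, 0, 2, 2, 2, 1, 2, 0, 2, 2, 1, 3, 0, 2, 2], 18)], 204), ([(75, [3, 1, 2, 0, 2, 1, 3, 0, 3, 3, 1, 3, 0, 2, 1, 2, 0, 3], 153), (72, [1, 3, 0, 2, 1, 2, 0, 1, 2, 0, 2, 1, 2, 0, 2, 1, 3, 0, 2, 2], 31), (68, [2, 1, 2, 0, 1, 2, 0], 22)], 146), ([(74, [3, 1, 2, 0, 2, 1, 3, 0, 3, 3, 1, 3, 0, 2, 1, 2, 0, 3], 153), (61, [3, 3, 1, 2, 0, 2, 2, 1, 2, 0], 62), (99, [1, 2, 0, 1, 2, 0, 1, 2, 0], 13463)], 146), ([(59, [2, 1, 3, 0, 1, 3, 0, 2, 1, 2, 0, 2, 1, 3, 0, 3, 1, 3, 0, 2, 1, 2, 0, 3], 235), (59, [2, 1, 3, 0, 3, 3, 1, 3, 0, 2, 2, 1, 2, 0, 1, 2, 0], 156), (64, [1, 3, 0, 2, 2, 1, 3, 0,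 2, 1, 2, 0, 3, 1, 3, 0, 3, 3], 193)], 228), ([(54, [3, 3, 1, 2, 0, 3, 3, 1, 2, 0, 3, 1, 3, 0, 2, 1, 2, 0, 3], 116), (88, [1, 2, 0, 3, 1, 3, 0, 3, 1, 2, 0, 1, 2, 0, 2, 2, 1, 2, 0, 3], 449), (81, [1, 2, 0, 1, 2, 0, 1, 2, 0], 16)], 146), ([(56, [3, 1, 2, 0, 2, 2, 1, 3, 0, 2, 1, 2, 0, 1, 2, 0, 2, 1, 2, 0, 2], 132), (40, [1, 2, 0, 2, 1, 3, 0, 1, 3, 0, 3, 3, 1, 3, 0, 2, 1, 2, 0, 1, 2, 0, 3], 491), (86, [3, 1, 2, 0, 3, 3, 1, 3, 0, 2, 2, 1, 3, 0, 2], 61)], 63), ([(70, [1, 2, 0, 1, 2, 0, 1, 2, 0, 2, 2, 1, 3, 0, 1, 3, 0, 3], 59), (67, [3, 1, 3, 0, 3, 1, 2, 0, 3, 3, 1, 3, 0], 232), (44, [2, 2, 2, 1, 2, 0, 1, 2, 0, 2, 1, 2, 0, 3, 1, 3, 0, 3, 3], 160)], 104), ([(71, [1, 2, 0, 1, 2, 0, 1, 2, 0,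 2, 2, 1, 3, 0, 1, 3, 0, 3], 59), (98, [3, 1, 3, 0, 3, 3, 1, 2, 0, 2], 148), (97, [1, 2, 0, 1, 2, 0, 1, 2, 0], 377)], 146), ([(72, [1, 2, 0, 2, 2, 1, 2, 0, 2, 1, 2, 0, 1, 2, 0, 1, 2, 0, 2, 2, 2], 122), (73, [1, 2, 0, 2, 2, 1, 2, 0, 2, 1, 3, 0, 1, 3, 0, 3, 1, 2, 0, 1, 2, 0, 1, 2, 0], 60), (69, [1, 2, 0, 1, 2, 0, 1, 2, 0], 57)], 110), ([(73, [1, 2, 0, 2, 2, 1, 2, 0, 2, 1, 2, 0, 1, 2, 0, 1, 2, 0, 2, 2, 2], 122), (74, [1, 2, 0, 2, 1, 3, 0, 3, 1, 2, 0, 3, 3, 1, 2, 0, 2, 2, 1, 2, 0], 60), (62, [2, 1, 3, 0, 2, 1, 2, 0, 1, 2, 0], 174)], 146), ([(66, [1, 2, 0, 1, 2, 0, 1, 2, 0, 2, 2, 1, 3, 0, 1, 3, 0, 3], 51), (98, [1, 2, 0, 2, 2, 2, 1, 2, 0, 1, 2, 0, 2, 1, 3, 0, 2, 1, 2, 0, 2, 2], 227), (93,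 [2, 2, 2, 1, 2, 0, 1, 2, 0, 2, 1, 2, 0, 3, 1, 3, 0, 3, 3], 493)], 221), ([(67, [1, 2, 0, 1, 2, 0, 1, 2, 0, 2, 2, 1, 3, 0, 1, 3, 0, 3], 51), (44, [1, 2, 0, 3, 1, 3, 0, 2, 1, 2, 0, 2, 2, 1, 3, 0, 3, 1, 2, 0, 2], 204), (70, [1, 2, 0, 2, 2, 1, 3, 0, 1, 3, 0, 3, 1, 3, 0, 2, 1, 2, 0, 2, 2, 2], 205)], 91), ([(75, [3, 1, 2, 0, 2, 1, 3, 0, 3, 1, 3, 0, 1, 3, 0, 3, 3, 1, 2, 0], 8), (74, [3, 1, 3, 0, 2, 2, 1, 3, 0, 2, 1, 2, 0, 3, 3, 1, 3, 0, 3], 53), (72, [2, 1, 2, 0, 1, 2, 0, 1, 2, 0, 3, 3, 1, 3, 0, 2, 2, 1, 2, 0], 184)], 40), ([(74, [3, 1, 2, 0, 2, 1, 3, 0, 3, 1, 3, 0, 1, 3, 0, 3, 3, 1, 2, 0], 8), (73, [2, 2, 2, 1, 3, 0, 2, 1, 2, 0, 3, 3, 1, 3, 0, 3, 3], 49), (73, [1, 3, 0, 2, 2, 1, 2, 0,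 2, 1, 3, 0, 1, 3, 0, 3, 3, 1, 3, 0, 2, 2], 74)], 34), ([(73, [2, 1, 2, 0, 1, 2, 0, 2, 1, 3, 0, 1, 3, 0, 3, 3, 1, 3, 0, 1, 3, 0, 3], 215), (73, [2, 1, 3, 0, 3, 1, 2, 0, 1, 2, 0, 2, 1, 2, 0, 1, 2, 0, 3, 3], 122), (74, [3, 1, 3, 0, 1, 3, 0, 3, 1, 3, 0, 2, 1, 2, 0, 2, 1, 3, 0, 3], 156)], 159), ([(72, [2, 1, 2, 0, 1, 2, 0, 2, 1, 3, 0, 1, 3, 0, 3, 3, 1, 3, 0, 1, 3, 0, 3], 215), (74, [1, 3, 0, 2, 1, 2, 0, 2, 1, 3, 0, 2, 2, 1, 3, 0, 3, 3, 1, 2, 0], 65), (75, [2, 2, 1, 2, 0, 3, 3, 1, 3, 0, 1, 3, 0, 3, 1, 2, 0, 2, 1, 2, 0, 1, 2, 0], 205)], 159), ([(82, [2, 1, 2, 0, 2, 1, 2, 0, 1, 2, 0, 3, 3, 1, 3, 0, 3], 184), (31, [3, 1, 2, 0, 1, 2, 0, 2, 1, 3, 0, 1, 3, 0], 958), (11, [1, 2, 0, 1, 2, 0, 1,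 2, 0], 48352)], 49), ([(83, [2, 1, 2, 0, 2, 1, 2, 0, 1, 2, 0, 3, 3, 1, 3, 0, 3], 479), (85, [2, 1, 3, 0, 2, 1, 2, 0, 3, 1, 3, 0, 3, 1, 2, 0], 228), (78, [2, 1, 2, 0, 3, 3, 1, 2, 0, 1, 2, 0], 89)], 122), ([(87, [1, 3, 0, 2, 2, 1, 3, 0, 3, 3, 1, 3, 0, 2, 1, 2, 0], 205), (42, [2, 2, 1, 2, 0, 3, 3, 1, 2, 0, 3, 3, 1, 3, 0], 1093), (79, [2, 1, 3, 0, 3, 1, 3, 0, 2], 368)], 96), ([(86, [2, 1, 3, 0, 2], 49), (63, [2, 1, 3, 0, 2], 50), (76, [2, 1, 3, 0, 2], 462)], 49), ([(88, [1, 2, 0, 3, 3, 1, 3, 0, 2, 2, 1, 3, 0, 3, 3, 1, 3, 0, 1, 3, 0, 2], 39), (90, [2, 1, 3, 0, 1, 3, 0, 2, 1, 2, 0, 2, 1, 3, 0, 3, 1, 3, 0, 2, 1, 2, 0, 3], 271), (63, [1, 2, 0, 1, 2, 0, 1, 2, 0], 194)], 462), ([(89, [3, 1,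 3, 0, 3, 1, 2, 0, 3, 1, 3, 0, 2, 1, 2, 0, 3], 28), (47, [2, 1, 3, 0, 3, 1, 3, 0, 2, 1, 2, 0, 3], 165), (24, [1, 2, 0, 1, 2, 0, 1, 2, 0], 252)], 300), ([(89, [2, 2, 1, 2, 0, 3, 1, 3, 0, 1, 3, 0, 3, 1, 3, 0, 2, 2], 161), (65, [2, 2, 1, 2, 0, 2, 1, 3, 0, 1, 3, 0, 2, 1, 2, 0, 1, 2, 0, 2], 204), (83, [1, 2, 0, 1, 2, 0, 1, 2, 0, 2, 1, 3, 0, 3, 1, 2, 0, 2, 2, 1, 3, 0, 3], 162)], 259), ([(88, [2, 1, 3, 0, 3, 3, 1, 2, 0, 1, 2, 0, 3, 1, 3, 0, 1, 3, 0, 2, 2], 415), (87, [1, 3, 0, 2, 2, 2, 1, 2, 0, 2, 1, 2, 0], 76), (40, [1, 2, 0, 1, 2, 0, 1, 2, 0], 1394)], 49), ([(90, [1, 2, 0, 2, 1, 3, 0, 3, 1, 2, 0, 1, 2, 0, 2, 1, 3, 0, 3, 1, 2, 0, 3, 1, 3, 0, 3], 188), (60, [1, 2, 0, 2, 2, 1, 2, 0, 3, 3,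 1, 2, 0], 212), (85, [1, 2, 0, 2, 2, 1, 3, 0, 1, 3, 0, 3, 1, 3, 0, 2, 1, 2, 0], 3)], 230), ([(91, [1, 2, 0, 2, 1, 3, 0, 3, 1, 2, 0, 1, 2, 0, 2, 1, 3, 0, 3, 1, 2, 0, 3, 1, 3, 0, 3], 188), (92, [1, 2, 0, 3, 3, 1, 3, 0, 3, 3, 1, 3, 0, 2, 2, 1, 2, 0, 1, 2, 0], 24), (57, [1, 2, 0, 2, 2, 1, 2, 0, 3, 3, 1, 2, 0], 123)], 433), ([(90, [1, 2, 0, 3, 3, 1, 2, 0, 2, 2, 1, 2, 0, 3, 3, 1, 2, 0, 2, 2, 1, 3, 0], 87), (67, [2, 2, 1, 2, 0, 1, 2, 0, 2, 1, 2, 0, 1, 2, 0, 3, 1, 3, 0, 3], 143), (42, [1, 2, 0, 2, 2, 2, 1, 3, 0, 2, 1, 2, 0], 432)], 295), ([(91, [1, 2, 0, 1, 2, 0, 2, 1, 2, 0, 3, 1, 3, 0, 2, 2, 1, 3, 0, 2, 2, 1, 2, 0], 214), (92, [2, 1, 3, 0, 1, 3, 0, 2, 1, 2, 0, 2, 1, 3, 0, 3, 1, 3, 0, 2,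 1, 2, 0, 3], 539), (65, [3, 1, 2, 0, 3, 1, 3, 0, 3, 1, 2, 0, 2, 1, 3, 0, 3], 47)], 7), ([(88, [1, 2, 0, 1, 2, 0, 2, 1, 3, 0, 3, 1, 2, 0, 3, 3, 1, 2, 0, 3], 456), (90, [2, 1, 3, 0, 3, 3, 1, 2, 0, 3, 3, 1, 2, 0, 1, 2, 0, 1, 2, 0, 3], 487), (54, [1, 2, 0, 1, 2, 0, 1, 2, 0], 226)], 26), ([(89, [1, 2, 0, 1, 2, 0, 2, 1, 3, 0, 3, 1, 2, 0, 3, 3, 1, 2, 0, 3], 456), (60, [1, 2, 0, 2, 2, 1, 3, 0, 3, 1, 2, 0, 3, 1, 3, 0, 1, 3, 0, 3], 188), (88, [1, 2, 0, 2, 2, 1, 2, 0, 2, 2, 1, 3, 0, 1, 3, 0, 2, 2, 1, 2, 0, 2, 2], 370)], 238), ([(89, [1, 2, 0, 2, 1, 3, 0, 2, 2, 1, 2, 0, 3, 1, 3, 0], 258), (66, [1, 2, 0, 1, 2, 0, 2, 2, 1, 2, 0, 2, 2, 1, 3, 0, 2, 2], 61), (95, [1, 2, 0, 2, 1, 2, 0, 2, 1, 3, 0,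 2, 1, 2, 0, 2, 1, 2, 0, 1, 2, 0, 1, 2, 0, 2], 340)], 49), ([(88, [1, 2, 0, 2, 1, 3, 0, 2, 2, 1, 2, 0, 3, 1, 3, 0], 258), (89, [2, 1, 3, 0, 3, 3, 1, 2, 0, 3, 3, 1, 2, 0, 1, 2, 0, 1, 2, 0, 3], 394), (60, [1, 2, 0, 1, 2, 0, 1, 2, 0], 188)], 49), ([(94, [2, 1, 2, 0, 2, 1, 2, 0, 1, 2, 0, 1, 2, 0, 2, 1, 2, 0, 1, 2, 0, 2], 187), (44, [1, 2, 0, 2, 1, 2, 0, 1, 2, 0, 2, 2, 2, 1, 3, 0, 1, 3, 0], 172), (55, [1, 2, 0, 2, 2, 1, 2, 0, 2, 2, 1, 3, 0, 1, 3, 0, 2, 2, 1, 2, 0, 2, 2], 92)], 297), ([(93, [2, 2, 2, 1, 2, 0, 2, 1, 2, 0, 1, 2, 0, 2, 1, 3, 0, 3, 1, 2, 0, 1, 2, 0], 561), (67, [2, 2, 1, 2, 0, 2, 2, 1, 3, 0, 2, 1, 2, 0, 2, 2, 1, 2, 0, 2], 134), (45, [1, 2, 0, 1, 2, 0, 1, 2, 0], 55)], 291),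 ([(94, [1, 2, 0, 3, 3, 1, 3, 0, 3, 3, 1, 3, 0, 1, 3, 0, 3, 3, 1, 2, 0, 2], 19), (44, [1, 3, 0, 3, 1, 2, 0, 3, 1, 3, 0, 3, 1, 2, 0, 2, 1, 3, 0, 3, 1, 2, 0], 1283), (71, [2, 1, 3, 0, 3, 1, 2, 0, 2, 1, 2, 0, 1, 2, 0], 2)], 411), ([(97, [3, 1, 3, 0, 1, 3, 0, 3, 3, 1, 3, 0, 3, 1, 2, 0, 2, 1, 3, 0, 1, 3, 0], 605), (54, [1, 2, 0, 2, 2, 1, 2, 0, 3, 3, 1, 2, 0, 3, 3, 1, 2, 0, 3], 61), (91, [3, 3, 1, 2, 0, 3, 1, 3, 0], 329)], 297), ([(98, [1, 2, 0, 1, 2, 0, 2, 1, 2, 0, 3, 1, 3, 0, 2], 466), (93, [2, 2, 2, 1, 2, 0, 1, 2, 0, 2, 2, 1, 3, 0, 2, 1, 2, 0, 1, 2, 0, 3], 444), (66, [1, 2, 0, 1, 2, 0, 1, 2, 0], 72)], 522), ([(98, [2, 1, 3, 0, 3, 1, 2, 0, 3, 1, 3, 0, 1, 3, 0, 3, 3, 1, 2, 0], 574), (98,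 [1, 2, 0, 1, 2, 0, 1, 2, 0, 2, 2, 1, 3, 0, 2, 1, 2, 0, 2, 1, 2, 0, 1, 2, 0], 223), (96, [1, 2, 0, 2, 2, 1, 3, 0, 1, 3, 0, 3, 1, 3, 0, 2, 1, 2, 0, 2, 2, 2], 323)], 569), ([(98, [2, 2, 2, 1, 2, 0, 2, 1, 3, 0, 3, 3, 1, 3, 0, 1, 3, 0, 2, 2], 539), (96, [1, 2, 0, 1, 2, 0, 3, 1, 3, 0, 3, 1, 2, 0, 2, 2, 2, 1, 3, 0], 110), (98, [2, 1, 2, 0, 1, 2, 0, 2, 1, 3, 0, 3, 1, 2, 0, 3], 165)], 20), ([(99, [3, 3, 1, 2, 0, 2, 2, 1, 2, 0], 30041), (75, [2, 1, 3, 0, 3, 1, 2, 0, 2, 2, 1, 2, 0, 2, 1, 2, 0, 3, 3], 173), (61, [1, 2, 0, 1, 2, 0, 1, 2, 0], 144)], 2342), ([(100, [1, 2, 0, 1, 2, 0, 1, 2, 0], 25351), (100, [1, 2, 0, 1, 2, 0, 1, 2, 0], 4526), (100, [1, 2, 0, 1, 2, 0, 1, 2, 0], 4526)], 26170)]]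

end CfsgLib.InvChar.SporHN
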