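import Cfsg.Agent.Lib.InvChar.SporHNTrace

/-! The saturation. -/

set_option autoImplicit false
set_option maxRecDepth 100000

namespace CfsgLib.InvChar.SporHN

open CfsgLib.InvChar.Coset

/-- hints -/
def relC3 : List (List (List (ℕ × List ℕ × ℕ) × ℕ)) := [
[([(0, [], 0), (5, [], 0), (2, [], 24400)], 0), ([(5, [], 2776), (2, [], 24400), (0, [], 0)], 43192), ([(6, [], 2776), (14, [], 2300), (3, [], 24400)], 43192), ([(7, [], 25812), (26, [], 9832), (4, [], 24400)], 7044), ([(8, [], 25812), (12, [], 2300), (1, [], 24400)], 7044), ([(9, [3, 1, 2, 0, 3], 14833), (19, [2, 1, 2, 0, 2, 2, 2, 1, 2, 0, 2, 1, 2, 0, 3], 2983), (12, [1, 3, 0], 3318)], 37969), ([(9, [2, 2, 1, 2, 0, 2, 2, 1, 2, 0, 3,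 1, 3, 0, 3], 74084), (17, [3, 1, 2, 0, 3], 4916), (5, [1, 3, 0], 994)], 37969), ([(10, [3, 1, 2, 0, 3], 9884), (34, [3, 1, 2, 0, 3], 786), (14, [1, 3, 0], 2569)], 24411), ([(10, [2, 2, 1, 2, 0, 2, 2, 1, 2, 0, 3, 1, 3, 0, 3], 45847), (36, [3, 1, 2, 0, 3], 754), (26, [1, 3, 0], 40539)], 24411), ([(11, [3, 1, 2, 0, 3], 24362), (80, [3, 1, 2, 0, 3], 49), (17, [1, 2, 0, 3], 2679)], 24362), ([(11, [2, 1, 2, 0, 2, 1, 3, 0, 1, 3, 0], 46218), (82, [3, 1, 2, 0, 3], 2), (31, [1, 2, 0, 3], 786)], 10862), ([(10, [2, 1, 3, 0, 2, 2, 1, 2, 0], 17582), (40, [1, 3, 0, 2, 2, 2, 1, 2, 0, 2, 1, 3, 0, 2], 804), (77, [1, 2, 0, 2, 2], 356)], 0), ([(18, [3, 1, 2, 0, 3], 2770), (50, [3, 1, 2, 0, 3], 146), (27, [1,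 3, 0], 40539)], 3090), ([(19, [3, 1, 2, 0, 3], 2770), (17, [2, 2, 1, 2, 0, 2, 2, 1, 2, 0, 3, 1, 3, 0, 3], 1167), (6, [1, 3, 0], 63591)], 3090), ([(20, [3, 1, 2, 0, 3], 2730), (49, [3, 1, 2, 0, 3], 14), (15, [1, 3, 0], 2569)], 2986), ([(21, [3, 1, 2, 0, 3], 2730), (31, [2, 2, 1, 2, 0, 2, 2, 1, 2, 0, 3, 1, 3, 0, 3], 834), (8, [1, 3, 0], 114258)], 2986), ([(24, [3, 1, 2, 0, 3], 2770), (77, [3, 1, 2, 0, 3], 300), (9, [1, 2, 0, 3], 24400)], 2774), ([(24, [3, 1, 2, 0, 2, 2, 1, 3, 0, 1, 3, 0, 2, 2, 1, 2, 0, 2], 2513), (87, [1, 2, 0, 1, 2, 0, 1, 2, 0, 3, 3, 1, 2, 0, 3, 1, 3, 0, 2, 1, 2, 0, 1, 2, 0], 137), (33, [1, 2, 0, 3], 841)], 3604), ([(24, [1, 2, 0, 1, 2, 0, 3, 3, 1, 2, 0, 1, 2, 0, 2], 796),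 (80, [1, 2, 0, 3, 3, 1, 2, 0, 2, 2, 1, 2, 0, 3, 3, 1, 2, 0, 3], 181), (19, [2, 1, 2, 0, 2, 2, 2, 1, 2, 0, 2, 1, 3, 0, 2], 4750)], 3501), ([(24, [1, 2, 0, 2, 1, 3, 0, 1, 3, 0, 3, 1, 2, 0, 2, 1, 3, 0, 1, 3, 0, 3], 1270), (89, [3, 1, 2, 0, 3], 498), (47, [1, 2, 0, 3], 146)], 2974), ([(25, [3, 1, 2, 0, 3], 3759), (67, [1, 2, 0, 3, 1, 3, 0, 2, 1, 2, 0, 3, 1, 3, 0], 146), (34, [1, 2, 0, 3], 537)], 3759), ([(25, [2, 1, 2, 0, 3, 1, 3, 0, 1, 3, 0, 3, 1, 3, 0, 1, 3, 0, 3], 2953), (59, [1, 2, 0, 2, 1, 3, 0, 3, 3, 1, 2, 0, 3, 3, 1, 2, 0, 1, 2, 0, 1, 2, 0], 22), (49, [1, 2, 0, 3], 204)], 3759), ([(25, [2, 2, 1, 2, 0, 2, 2, 1, 3, 0, 1, 3, 0, 2, 2], 211), (58, [2, 1, 2, 0, 3, 3, 1, 2, 0, 2, 2, 1, 2, 0,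 2, 1, 2, 0, 1, 2, 0], 27), (23, [2, 1, 2, 0, 3, 3, 1, 2, 0, 2, 2, 1, 2, 0, 2], 1152)], 441), ([(25, [1, 3, 0, 1, 3, 0, 2, 1, 2, 0, 2, 2, 1, 3, 0], 2480), (56, [1, 2, 0, 3, 3, 1, 2, 0, 2, 2, 1, 2, 0, 2, 1, 2, 0], 164), (30, [2, 2, 1, 2, 0, 2, 2, 1, 2, 0, 2], 1175)], 2646), ([(18, [1, 2, 0, 2, 1, 3, 0, 3, 1, 3, 0, 2, 2, 1, 3, 0], 1607), (54, [1, 3, 0, 2, 2, 1, 2, 0, 1, 2, 0, 1, 2, 0, 3, 3, 1, 2, 0], 138), (80, [1, 3, 0, 3, 1, 2, 0, 3, 1, 3, 0, 3, 1, 2, 0, 2, 1, 2, 0, 1, 2, 0], 20)], 513), ([(25, [2, 2, 1, 2, 0, 2, 1, 3, 0, 3, 1, 3, 0, 1, 3, 0, 2, 2, 2], 137), (75, [3, 1, 3, 0, 3, 3, 1, 2, 0, 2, 2, 1, 2, 0, 2, 1, 3, 0, 3], 124), (58, [1, 2, 0, 2, 2], 109)], 4816), ([(28, [3, 1, 2, 0, 3], 41661),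 (31, [3, 1, 2, 0, 3], 569), (7, [1, 3, 0], 48130)], 43621), ([(29, [3, 1, 2, 0, 3], 41580), (47, [3, 1, 2, 0, 3], 146), (13, [1, 3, 0], 2569)], 42692), ([(29, [1, 3, 0, 2, 2, 1, 3, 0], 61018), (67, [3, 1, 3, 0, 2, 2, 1, 3, 0], 146), (36, [1, 2, 0, 3], 1035)], 42669), ([(28, [1, 3, 0, 2, 2, 1, 3, 0], 51287), (44, [3, 1, 2, 0, 2, 2, 2, 1, 2, 0, 2, 1, 3, 0, 3, 1, 2, 0, 1, 2, 0], 1035), (50, [1, 2, 0, 3], 104)], 45919), ([(40, [3, 1, 2, 0, 3], 773), (77, [2, 1, 2, 0, 2, 1, 3, 0, 1, 3, 0], 421), (10, [1, 2, 0, 3], 102517)], 773), ([(41, [3, 1, 2, 0, 3], 807), (58, [1, 3, 0, 2, 1, 2, 0, 1, 2, 0, 2, 1, 3, 0, 3, 1, 2, 0, 2], 57), (22, [1, 3, 0, 1, 3, 0, 2], 1879)], 804), ([(42, [3, 1, 2, 0, 3],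 793), (80, [2, 2, 1, 2, 0, 1, 2, 0, 3, 1, 3, 0, 1, 3, 0, 3, 3, 1, 3, 0, 2], 243), (16, [1, 2, 0, 3], 1073)], 1384), ([(43, [3, 1, 2, 0, 3], 789), (43, [2, 1, 3, 0, 3, 3, 1, 2, 0, 1, 2, 0, 2, 1, 2, 0, 2, 1, 3, 0, 2, 2], 521), (32, [1, 2, 0, 3], 304)], 974), ([(44, [3, 1, 2, 0, 3], 773), (58, [1, 2, 0, 1, 2, 0, 1, 2, 0, 2, 2, 1, 3, 0, 3, 3, 1, 3, 0, 1, 3, 0], 105), (21, [2, 1, 2, 0, 2, 2, 2, 1, 2, 0, 2, 1, 3, 0, 2], 3863)], 385), ([(44, [3, 1, 3, 0, 2, 2, 2, 1, 3, 0, 3, 1, 2, 0, 2, 1, 3, 0, 1, 3, 0], 486), (50, [1, 3, 0, 2, 2, 1, 3, 0], 63), (28, [1, 2, 0, 3], 60961)], 555), ([(44, [2, 1, 3, 0, 1, 3, 0, 2, 1, 2, 0, 1, 2, 0, 3, 3, 1, 2, 0, 1, 2, 0], 441), (70, [3, 3, 1, 3, 0, 2, 1, 2, 0, 3,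 1, 3, 0, 2, 1, 2, 0, 1, 2, 0, 3], 182), (53, [1, 2, 0, 3], 146)], 807), ([(45, [3, 1, 2, 0, 3], 793), (92, [3, 1, 2, 0, 3], 291), (46, [1, 2, 0, 3], 146)], 793), ([(45, [3, 1, 3, 0, 2, 2, 2, 1, 3, 0, 3, 1, 2, 0, 2, 1, 3, 0, 1, 3, 0], 529), (94, [2, 1, 3, 0, 1, 3, 0, 2, 1, 2, 0, 1, 2, 0, 3, 3, 1, 2, 0, 1, 2, 0], 97), (39, [1, 2, 0, 3], 367)], 606), ([(45, [2, 1, 3, 0, 1, 3, 0, 2, 1, 2, 0, 1, 2, 0, 3, 3, 1, 2, 0, 1, 2, 0], 639), (97, [3, 1, 2, 0, 3], 282), (51, [1, 2, 0, 3], 146)], 789), ([(42, [1, 3, 0, 3, 3, 1, 3, 0, 2], 1095), (90, [1, 2, 0, 3, 3, 1, 2, 0, 3, 1, 3, 0, 3, 3, 1, 2, 0], 463), (56, [1, 2, 0, 2, 2], 118)], 1341), ([(41, [1, 3, 0, 3, 3, 1, 3, 0, 2], 152), (65, [2, 1, 2, 0, 1,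 2, 0, 1, 2, 0, 2, 1, 3, 0, 3, 1, 3, 0, 1, 3, 0, 2, 1, 2, 0], 45), (82, [1, 2, 0, 2, 2], 272)], 0), ([(40, [1, 3, 0, 3, 3, 1, 3, 0, 2], 1310), (87, [2, 1, 3, 0, 3, 1, 2, 0, 2, 1, 2, 0, 1, 2, 0, 3, 1, 3, 0, 2], 61), (43, [2, 1, 3, 0, 1, 3, 0, 2, 1, 2, 0, 1, 2, 0, 2, 1, 3, 0, 3, 3, 1, 2, 0], 103)], 82), ([(42, [2, 1, 2, 0, 1, 2, 0, 3, 1, 3, 0, 1, 3, 0, 2, 2, 1, 3, 0, 1, 3, 0, 3], 161), (83, [3, 1, 2, 0, 3, 3, 1, 2, 0, 1, 2, 0, 2], 398), (87, [1, 3, 0, 1, 3, 0, 2, 1, 2, 0, 1, 2, 0, 3, 1, 3, 0, 1, 3, 0, 3, 1, 2, 0, 1, 2, 0], 68)], 841), ([(45, [3, 1, 2, 0, 2, 1, 2, 0, 2, 1, 3, 0, 2, 1, 2, 0, 2, 1, 2, 0], 4), (92, [2, 1, 2, 0, 3, 1, 3, 0, 2, 1, 2, 0, 1, 2, 0, 3, 1, 3, 0, 3, 1, 2, 0, 2], 354),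 (67, [2, 1, 3, 0, 3, 1, 2, 0, 2, 2, 2], 78)], 537), ([(44, [3, 1, 2, 0, 2, 1, 2, 0, 2, 1, 3, 0, 2, 1, 2, 0, 2, 1, 2, 0], 178), (55, [2, 1, 2, 0, 2, 1, 2, 0, 1, 2, 0, 1, 2, 0, 2, 2, 2, 1, 3, 0, 2, 1, 2, 0, 2], 98), (94, [1, 2, 0, 2, 2], 386)], 0), ([(54, [3, 1, 2, 0, 3], 133), (80, [2, 2, 1, 2, 0, 2, 1, 3, 0, 3, 1, 2, 0, 2, 1, 2, 0, 2], 140), (18, [1, 2, 0, 3], 4903)], 133), ([(55, [3, 1, 2, 0, 3], 133), (94, [2, 1, 2, 0, 2, 2, 2, 1, 2, 0, 2, 1, 2, 0, 3, 3, 1, 3, 0, 3], 297), (37, [2, 1, 2, 0, 2, 2, 2, 1, 2, 0, 2, 1, 3, 0, 2], 730)], 122), ([(59, [3, 1, 2, 0, 3], 168), (58, [3, 1, 2, 0, 3], 146), (20, [1, 2, 0, 3], 4816)], 168), ([(60, [3, 1, 2, 0, 3], 168), (90, [2, 1, 2, 0, 2, 2, 2, 1,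 2, 0, 2, 1, 2, 0, 3, 3, 1, 3, 0, 3], 432), (48, [2, 1, 2, 0, 2, 2, 2, 1, 2, 0, 2, 1, 3, 0, 2], 122)], 162), ([(66, [3, 1, 2, 0, 3], 133), (94, [3, 1, 3, 0, 2, 2, 2, 1, 3, 0, 3, 1, 2, 0, 2, 1, 3, 0, 1, 3, 0], 606), (38, [1, 2, 0, 3], 587)], 133), ([(67, [3, 1, 2, 0, 3], 133), (36, [1, 3, 0, 2, 2, 1, 3, 0], 786), (29, [1, 2, 0, 3], 53297)], 133), ([(70, [3, 1, 2, 0, 3], 168), (67, [2, 2, 2, 1, 2, 0, 2, 1, 3, 0, 3, 1, 2, 0, 1, 2, 0, 2, 1, 3, 0], 204), (35, [1, 2, 0, 3], 719)], 50), ([(71, [3, 1, 2, 0, 3], 168), (93, [3, 1, 2, 0, 2, 2, 2, 1, 2, 0, 2, 1, 3, 0, 3, 1, 2, 0, 1, 2, 0], 624), (52, [1, 2, 0, 3], 221)], 168), ([(60, [3, 1, 2, 0, 2, 1, 2, 0, 2, 1, 3, 0, 2, 1, 2, 0, 2, 1, 2, 0], 191),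 (91, [2, 1, 2, 0, 2, 1, 3, 0, 1, 3, 0, 3, 1, 2, 0, 1, 2, 0, 2, 2, 1, 2, 0, 1, 2, 0], 307), (92, [1, 2, 0, 2, 2], 485)], 0), ([(59, [3, 1, 2, 0, 2, 1, 2, 0, 2, 1, 3, 0, 2, 1, 2, 0, 2, 1, 2, 0], 191), (54, [1, 2, 0, 2, 2, 2, 1, 3, 0, 2, 1, 2, 0, 3, 1, 3, 0, 3], 128), (89, [1, 2, 0, 2, 2], 376)], 0), ([(59, [1, 2, 0, 3, 3, 1, 2, 0, 3, 1, 3, 0, 3, 3, 1, 2, 0], 77), (56, [1, 2, 0, 2, 1, 3, 0, 2, 1, 2, 0, 2, 1, 2, 0], 232), (41, [2, 1, 3, 0, 1, 3, 0, 2, 1, 2, 0, 1, 2, 0, 2, 1, 3, 0, 3, 3, 1, 2, 0], 465)], 3), ([(75, [2, 2, 1, 2, 0, 2, 1, 3, 0, 3, 1, 2, 0, 1, 2, 0, 1, 2, 0], 52), (58, [2, 2, 1, 2, 0, 2, 1, 3, 0, 3, 1, 3, 0, 1, 3, 0, 2, 2, 2], 161), (25, [1, 2, 0, 2, 2], 2020)], 184), ([(75, [2,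 2, 1, 2, 0, 3, 1, 3, 0, 2, 1, 2, 0, 1, 2, 0, 3, 3, 1, 3, 0, 2], 75), (60, [2, 2, 1, 2, 0, 1, 2, 0, 1, 2, 0, 2, 1, 3, 0, 3, 1, 3, 0, 1, 3, 0, 3, 3], 105), (84, [1, 2, 0, 3, 1, 3, 0, 1, 3, 0, 3, 1, 2, 0, 1, 2, 0, 3, 1, 3, 0], 23)], 16), ([(55, [3, 1, 2, 0, 2, 1, 2, 0, 2, 1, 3, 0, 2, 1, 2, 0, 2, 1, 2, 0], 228), (95, [1, 2, 0, 3, 3, 1, 2, 0, 1, 2, 0, 1, 2, 0, 2, 1, 2, 0, 3, 1, 3, 0, 3, 1, 2, 0], 475), (90, [1, 2, 0, 2, 2], 362)], 146), ([(54, [3, 1, 2, 0, 2, 1, 2, 0, 2, 1, 3, 0, 2, 1, 2, 0, 2, 1, 2, 0], 228), (89, [3, 1, 2, 0, 2, 1, 2, 0, 1, 2, 0, 3, 1, 3, 0, 2, 1, 2, 0], 406), (59, [1, 2, 0, 2, 2, 1, 3, 0, 3, 1, 2, 0, 1, 2, 0, 1, 2, 0, 2, 1, 2, 0], 228)], 204), ([(74, [2, 1, 2, 0, 1, 2, 0,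 1, 2, 0, 2, 1, 3, 0, 3, 3, 1, 2, 0, 3, 1, 3, 0, 2], 137), (73, [2, 2, 2, 1, 3, 0, 2, 1, 2, 0, 2, 1, 3, 0, 3, 1, 2, 0], 10), (68, [2, 2, 2], 186)], 146), ([(75, [2, 1, 2, 0, 1, 2, 0, 1, 2, 0, 2, 1, 3, 0, 3, 3, 1, 2, 0, 3, 1, 3, 0, 2], 137), (61, [1, 2, 0, 3, 1, 3, 0, 1, 3, 0, 2, 1, 2, 0, 1, 2, 0, 2], 132), (99, [1, 2, 0, 2, 2], 18649)], 0), ([(57, [1, 2, 0, 1, 2, 0, 3, 1, 3, 0, 2, 1, 2, 0, 2, 2, 1, 3, 0], 142), (89, [2, 1, 2, 0, 1, 2, 0, 1, 2, 0, 2, 2, 2, 1, 3, 0, 3], 250), (64, [1, 2, 0, 2, 1, 2, 0, 1, 2, 0, 3, 1, 3, 0, 1, 3, 0, 3, 1, 2, 0, 2, 1, 3, 0, 1, 3, 0], 80)], 194), ([(70, [1, 2, 0, 3, 3, 1, 2, 0, 3, 1, 3, 0, 3, 3, 1, 2, 0], 39), (63, [2, 1, 2, 0, 1, 2, 0, 3, 1, 3, 0, 1, 3, 0, 2,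 2, 1, 3, 0, 2, 1, 2, 0], 79), (81, [1, 2, 0, 2, 2], 63)], 0), ([(55, [3, 1, 2, 0, 3, 3, 1, 2, 0], 195), (95, [1, 2, 0, 3, 3, 1, 2, 0, 3, 3, 1, 3, 0, 2, 1, 2, 0, 2, 2, 1, 3, 0, 3], 539), (86, [3, 1, 2, 0, 1, 2, 0, 2, 2, 1, 2, 0, 3, 3, 1, 2, 0, 2], 108)], 104), ([(71, [2, 1, 3, 0, 1, 3, 0, 2, 2, 2, 1, 2, 0, 1, 2, 0], 31), (94, [2, 2, 1, 2, 0, 2, 1, 3, 0, 3, 1, 2, 0, 1, 2, 0, 2, 1, 3, 0, 2], 451), (44, [1, 2, 0, 2, 1, 2, 0, 1, 2, 0, 3, 1, 3, 0, 3, 1, 2, 0, 2, 1, 3, 0, 3, 3], 1298)], 177), ([(70, [2, 1, 3, 0, 1, 3, 0, 2, 2, 2, 1, 2, 0, 1, 2, 0], 31), (66, [2, 1, 3, 0, 2, 1, 2, 0, 2, 2, 1, 2, 0, 3, 1, 3, 0, 2], 8), (97, [1, 2, 0, 2, 2], 406)], 0), ([(73, [2, 1, 2, 0, 3, 1, 3, 0, 3, 3, 1, 2,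 0, 1, 2, 0, 3, 3, 1, 3, 0, 2, 2, 1, 3, 0], 100), (72, [3, 1, 2, 0, 2, 1, 2, 0, 1, 2, 0, 2, 1, 3, 0, 2, 2, 1, 3, 0], 98), (69, [1, 2, 0, 2, 2], 227)], 110), ([(72, [2, 1, 2, 0, 3, 1, 3, 0, 3, 3, 1, 2, 0, 1, 2, 0, 3, 3, 1, 3, 0, 2, 2, 1, 3, 0], 100), (75, [1, 3, 0, 3, 1, 2, 0, 2, 1, 2, 0, 3, 1, 3, 0, 3, 1, 2, 0, 1, 2, 0, 3], 89), (62, [2, 1, 3, 0, 2, 2, 2], 153)], 146), ([(67, [2, 1, 3, 0, 1, 3, 0, 2, 2, 2, 1, 2, 0, 1, 2, 0], 0), (45, [1, 2, 0, 3, 3, 1, 2, 0, 2, 1, 3, 0, 3, 1, 3, 0, 1, 3, 0, 2, 2, 1, 3, 0], 1194), (93, [1, 2, 0, 2, 1, 2, 0, 1, 2, 0, 3, 1, 3, 0, 3, 1, 2, 0, 2, 1, 3, 0, 3, 3], 65)], 56), ([(66, [2, 1, 3, 0, 1, 3, 0, 2, 2, 2, 1, 2, 0, 1, 2, 0], 0), (97, [2, 1, 2, 0, 2, 1, 2,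 0, 1, 2, 0, 3, 3, 1, 3, 0], 115), (70, [1, 2, 0, 2, 2, 1, 3, 0, 2, 1, 2, 0, 2, 1, 2, 0, 1, 2, 0], 32)], 143), ([(60, [1, 2, 0, 3, 3, 1, 2, 0, 2, 1, 3, 0, 3, 3, 1, 3, 0, 1, 3, 0, 3], 95), (89, [2, 1, 2, 0, 2, 1, 2, 0, 3, 3, 1, 3, 0, 3, 1, 2, 0, 2, 2, 2, 1, 2, 0], 392), (72, [2, 1, 2, 0, 1, 2, 0, 1, 2, 0, 3, 3, 1, 3, 0, 2, 2, 1, 3, 0, 2, 2], 137)], 40), ([(59, [1, 2, 0, 3, 3, 1, 2, 0, 2, 1, 3, 0, 3, 3, 1, 3, 0, 1, 3, 0, 3], 95), (74, [3, 1, 2, 0, 1, 2, 0, 2, 1, 3, 0, 3, 1, 3, 0, 1, 3, 0, 3, 1, 3, 0, 2, 2], 188), (73, [1, 2, 0, 1, 2, 0, 2, 1, 2, 0, 1, 2, 0, 1, 2, 0, 3, 1, 3, 0, 1, 3, 0], 43)], 34), ([(66, [3, 1, 2, 0, 2, 1, 3, 0, 3, 1, 2, 0, 1, 2, 0, 2, 1, 2, 0], 20), (93, [3, 1, 3, 0, 3,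 3, 1, 2, 0, 1, 2, 0, 1, 2, 0, 2, 1, 2, 0, 2, 2], 577), (74, [2, 2, 2, 1, 3, 0, 3, 1, 2, 0, 2, 1, 2, 0, 3, 1, 3, 0], 126)], 159), ([(67, [3, 1, 2, 0, 2, 1, 3, 0, 3, 1, 2, 0, 1, 2, 0, 2, 1, 2, 0], 20), (44, [2, 1, 3, 0, 3, 1, 2, 0, 1, 2, 0, 1, 2, 0, 2, 1, 2, 0, 3, 1, 3, 0], 1230), (75, [3, 3, 1, 3, 0, 2, 2, 1, 2, 0, 1, 2, 0, 2, 1, 3, 0, 2], 236)], 159), ([(82, [1, 3, 0, 2, 2, 2, 1, 2, 0, 2, 1, 3, 0, 2], 179), (31, [2, 1, 3, 0, 2, 2, 1, 2, 0], 1070), (11, [1, 2, 0, 2, 2], 107359)], 0), ([(83, [1, 3, 0, 2, 2, 2, 1, 2, 0, 2, 1, 3, 0, 2], 356), (85, [3, 3, 1, 2, 0, 3, 3, 1, 3, 0, 2, 1, 2, 0, 2, 2, 2], 228), (78, [2, 1, 2, 0], 111)], 122), ([(84, [1, 2, 0, 3, 3, 1, 2, 0, 2, 2, 1, 2, 0, 2, 1, 2,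 0], 196), (57, [1, 2, 0, 3, 1, 3, 0, 2, 2], 226), (79, [1, 3, 0, 2, 2, 1, 3, 0, 1, 3, 0], 342)], 6), ([(85, [1, 2, 0, 3, 3, 1, 2, 0, 2, 2, 1, 2, 0, 2, 1, 2, 0], 196), (83, [3, 3, 1, 2, 0, 2, 1, 2, 0, 1, 2, 0, 2], 198), (76, [1, 2, 0, 3, 1, 3, 0, 2, 2], 300)], 49), ([(80, [1, 2, 0, 2, 1, 3, 0, 2, 1, 2, 0, 2, 1, 2, 0, 1, 2, 0, 2], 304), (25, [1, 2, 0, 1, 2, 0, 3, 1, 3, 0, 2, 1, 2, 0, 2, 2, 1, 3, 0], 19), (63, [1, 2, 0, 2, 2], 181)], 462), ([(80, [2, 1, 2, 0, 1, 2, 0, 3, 1, 3, 0, 1, 3, 0, 2, 2, 1, 3, 0, 2, 1, 2, 0], 478), (19, [1, 3, 0, 1, 3, 0, 3, 1, 3, 0, 2], 3124), (24, [1, 2, 0, 2, 2], 1301)], 300), ([(87, [1, 2, 0, 2, 1, 3, 0, 2, 1, 2, 0, 2, 1, 2, 0, 1, 2, 0, 2], 406), (42, [3, 1, 2,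 0, 3, 3, 1, 2, 0, 1, 2, 0, 2], 229), (83, [3, 3, 1, 2, 0, 1, 2, 0, 2, 1, 3, 0, 3, 3, 1, 3, 0, 3, 3], 465)], 259), ([(87, [2, 1, 2, 0, 1, 2, 0, 3, 1, 3, 0, 1, 3, 0, 2, 2, 1, 3, 0, 2, 1, 2, 0], 97), (43, [1, 2, 0, 3, 3, 1, 2, 0, 2, 2, 1, 2, 0, 2, 2, 1, 3, 0, 1, 3, 0], 239), (40, [1, 2, 0, 2, 2], 697)], 0), ([(91, [2, 1, 3, 0, 1, 3, 0, 3, 3, 1, 2, 0, 3, 1, 3, 0, 3, 1, 2, 0, 3, 3, 1, 3, 0], 204), (95, [2, 2, 2, 1, 3, 0, 1, 3, 0, 3, 3, 1, 2, 0, 2, 2, 1, 3, 0, 1, 3, 0], 83), (85, [1, 2, 0, 2, 1, 3, 0, 2, 2, 1, 2, 0, 1, 2, 0], 136)], 49), ([(90, [2, 1, 3, 0, 1, 3, 0, 3, 3, 1, 2, 0, 3, 1, 3, 0, 3, 1, 2, 0, 3, 3, 1, 3, 0], 204), (75, [1, 2, 0, 3, 3, 1, 3, 0, 2, 1, 2, 0, 2, 2, 2, 1, 3, 0], 159),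 (57, [1, 2, 0, 2, 2, 1, 2, 0, 3, 3, 1, 3, 0, 2, 2], 56)], 433), ([(82, [2, 1, 2, 0, 1, 2, 0, 3, 1, 3, 0, 1, 3, 0, 2, 2, 1, 3, 0, 2, 1, 2, 0], 337), (43, [2, 1, 3, 0, 3, 1, 2, 0, 2, 1, 2, 0, 1, 2, 0, 3, 1, 3, 0, 2], 1153), (42, [1, 2, 0, 2, 1, 3, 0], 1067)], 294), ([(82, [1, 2, 0, 2, 1, 3, 0, 2, 1, 2, 0, 2, 1, 2, 0, 1, 2, 0, 2], 428), (41, [1, 2, 0, 2, 2, 2, 1, 2, 0, 2, 1, 2, 0], 33), (65, [2, 2, 2, 1, 2, 0, 3, 3, 1, 2, 0, 2, 1, 3, 0, 3, 3], 18)], 229), ([(89, [1, 2, 0, 2, 2, 2, 1, 3, 0, 2, 1, 2, 0, 3, 1, 3, 0, 3], 459), (59, [1, 3, 0, 3, 1, 2, 0, 3, 3, 1, 3, 0, 1, 3, 0], 239), (54, [1, 2, 0, 2, 2], 164)], 26), ([(88, [1, 2, 0, 2, 2, 2, 1, 3, 0, 2, 1, 2, 0, 3, 1, 3, 0, 3], 459), (88, [1,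 2, 0, 2, 2, 2, 1, 2, 0, 1, 2, 0, 2, 1, 2, 0, 2, 1, 3, 0, 3], 337), (88, [2, 1, 2, 0, 2, 1, 3, 0, 2, 1, 2, 0, 2, 1, 2, 0, 1, 2, 0, 3, 1, 3, 0, 2], 374)], 194), ([(90, [1, 3, 0, 3, 3, 1, 2, 0, 2, 2, 2, 1, 3, 0, 3, 3], 374), (55, [3, 1, 2, 0, 2, 1, 2, 0, 1, 2, 0, 2, 1, 3, 0, 2, 2, 1, 3, 0, 2, 1, 2, 0], 187), (95, [2, 2, 1, 3, 0, 2, 2, 1, 2, 0, 1, 2, 0, 2, 1, 3, 0, 2, 1, 2, 0], 51)], 49), ([(91, [1, 3, 0, 3, 3, 1, 2, 0, 2, 2, 2, 1, 3, 0, 3, 3], 374), (92, [3, 1, 2, 0, 2, 1, 2, 0, 2, 1, 3, 0, 2, 1, 2, 0, 2, 1, 2, 0], 586), (60, [1, 2, 0, 2, 2], 228)], 0), ([(95, [3, 1, 2, 0, 2, 1, 3, 0, 1, 3, 0, 3, 1, 2, 0, 2, 1, 2, 0, 1, 2, 0], 450), (90, [1, 2, 0, 3, 1, 3, 0, 3, 3, 1, 2, 0, 2, 2, 1, 2, 0,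 1, 2, 0, 1, 2, 0], 372), (55, [2, 1, 2, 0, 2, 1, 3, 0, 2, 1, 2, 0, 2, 1, 2, 0, 1, 2, 0, 3, 1, 3, 0, 2], 196)], 379), ([(92, [2, 1, 3, 0, 2, 1, 2, 0, 2, 2, 1, 2, 0, 3, 1, 3, 0, 2, 1, 2, 0, 3], 394), (67, [3, 3, 1, 3, 0, 2, 2, 1, 2, 0, 2, 1, 3, 0, 3, 1, 2, 0, 1, 2, 0], 139), (45, [1, 2, 0, 2, 2], 222)], 0), ([(92, [1, 3, 0, 2, 2, 1, 3, 0, 3, 3, 1, 3, 0, 3, 1, 2, 0], 275), (59, [2, 1, 3, 0, 1, 3, 0, 3, 1, 3, 0, 1, 3, 0, 2, 2, 1, 2, 0, 3], 188), (71, [2, 1, 3, 0, 3, 1, 2, 0, 2, 2, 2], 227)], 411), ([(94, [1, 3, 0, 2, 2, 1, 2, 0, 1, 2, 0, 3, 1, 3, 0, 2, 1, 2, 0, 2], 165), (42, [2, 1, 3, 0, 2, 1, 2, 0, 3, 1, 3, 0, 1, 3, 0, 2, 1, 2, 0, 1, 2, 0], 877), (91, [3, 1, 3, 0, 2, 1, 2, 0, 1, 2, 0, 2,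 2], 473)], 297), ([(97, [2, 1, 3, 0, 2, 1, 2, 0, 2, 2, 1, 2, 0, 3, 1, 3, 0, 2], 575), (70, [1, 2, 0, 2, 1, 3, 0, 3, 1, 3, 0, 1, 3, 0, 2, 2, 1, 2, 0, 2], 228), (66, [1, 2, 0, 2, 2], 196)], 522), ([(96, [2, 1, 3, 0, 2, 1, 2, 0, 2, 2, 1, 2, 0, 3, 1, 3, 0, 2], 575), (96, [1, 3, 0, 2, 1, 2, 0, 2, 2, 2, 1, 2, 0, 3, 1, 3, 0, 2], 245), (96, [1, 2, 0, 2, 2, 1, 3, 0, 2, 1, 2, 0, 2, 1, 2, 0, 1, 2, 0], 245)], 498), ([(94, [2, 1, 3, 0, 3, 1, 2, 0, 1, 2, 0, 2, 2, 1, 3, 0, 3, 1, 3, 0], 130), (45, [2, 1, 3, 0, 3, 1, 2, 0, 1, 2, 0, 2, 2, 1, 2, 0, 1, 2, 0, 3, 1, 3, 0], 133), (98, [2, 2, 1, 3, 0, 1, 3, 0, 2, 1, 2, 0, 1, 2, 0, 2, 1, 2, 0, 3, 3], 162)], 535), ([(99, [1, 2, 0, 3, 1, 3, 0, 1, 3, 0, 2, 1, 2, 0,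 1, 2, 0, 2], 25869), (74, [2, 2, 1, 3, 0, 3, 1, 2, 0, 2, 1, 2, 0, 3, 1, 3, 0, 3, 3, 1, 3, 0, 1, 3, 0, 3], 95), (61, [1, 2, 0, 2, 2], 139)], 2342), ([(99, [3, 1, 2, 0, 2, 1, 2, 0, 2, 1, 3, 0, 3, 1, 2, 0], 25659), (61, [3, 1, 2, 0, 2, 1, 2, 0, 2, 1, 3, 0, 3, 1, 2, 0], 239), (100, [1, 2, 0, 2, 2], 5297)], 26170)],
[([(0, [], 0), (5, [], 0), (2, [], 24400)], 0), ([(5, [], 25812), (2, [], 24400), (0, [], 0)], 7044), ([(6, [], 25812), (14, [], 2300), (3, [], 24400)], 7044), ([(7, [], 2776), (26, [], 9832), (4, [], 24400)], 43192), ([(8, [], 2776), (12, [], 2300), (1, [], 24400)], 43192), ([(9, [1, 3, 0], 13813), (19, [3], 2758), (12, [3], 2569)], 24411), ([(9, [2, 2, 2, 1, 3, 0, 2, 1, 2, 0, 3,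 3, 1, 3, 0], 106932), (17, [1, 3, 0], 3054), (5, [3], 628)], 24411), ([(10, [1, 3, 0], 70147), (34, [2, 1, 2, 0, 2, 2, 2, 1, 2, 0, 2], 949), (14, [3], 2629)], 37969), ([(10, [2, 2, 2, 1, 3, 0, 2, 1, 2, 0, 3, 3, 1, 3, 0], 105322), (36, [3], 658), (26, [3], 25175)], 37969), ([(11, [1, 2, 0, 2, 2, 2, 1, 3, 0], 43191), (80, [1, 2, 0, 2, 2, 2, 1, 3, 0], 49), (17, [2, 1, 2, 0, 1, 2, 0], 3876)], 0), ([(11, [3, 1, 2, 0, 1, 2, 0, 2, 1, 3, 0, 3, 1, 3, 0], 73152), (82, [1, 2, 0, 2, 2, 2, 1, 3, 0], 127), (31, [2, 1, 2, 0, 1, 2, 0], 771)], 94616), ([(9, [2, 2, 1, 2, 0, 1, 2, 0, 2, 1, 3, 0], 120802), (24, [2, 1, 3, 0, 3, 1, 2, 0, 2, 1, 3, 0, 2, 2, 1, 2, 0], 2661), (77, [2, 1, 2, 0, 1, 2, 0], 392)], 0),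 ([(18, [2, 1, 2, 0, 2, 2, 2, 1, 2, 0, 2], 2960), (50, [3], 110), (27, [3], 25175)], 2986), ([(19, [2, 1, 2, 0, 2, 2, 2, 1, 2, 0, 2], 2960), (17, [2, 2, 2, 1, 3, 0, 2, 1, 2, 0, 3, 3, 1, 3, 0], 1456), (6, [3], 110913)], 2986), ([(20, [2, 1, 2, 0, 2, 2, 2, 1, 2, 0, 2], 2981), (49, [2, 1, 2, 0, 2, 2, 2, 1, 2, 0, 2], 14), (15, [3], 2629)], 3090), ([(21, [2, 1, 2, 0, 2, 2, 2, 1, 2, 0, 2], 2981), (31, [2, 2, 2, 1, 3, 0, 2, 1, 2, 0, 3, 3, 1, 3, 0], 777), (8, [3], 115699)], 3090), ([(24, [1, 2, 0, 2, 2, 2, 1, 3, 0], 3466), (77, [1, 2, 0, 2, 2, 2, 1, 3, 0], 300), (9, [2, 1, 2, 0, 1, 2, 0], 105049)], 2985), ([(24, [1, 2, 0, 1, 2, 0, 2, 1, 3, 0, 3, 1, 2, 0, 2, 2, 1, 3, 0, 2, 1, 2, 0, 1, 2, 0], 1320),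 (87, [1, 3, 0, 2, 1, 2, 0, 1, 2, 0, 2, 1, 2, 0, 3, 1, 3, 0, 3, 1, 2, 0], 118), (33, [2, 1, 2, 0, 1, 2, 0], 1007)], 4192), ([(24, [1, 3, 0, 3, 1, 3, 0, 1, 3, 0, 2, 1, 2, 0, 3, 1, 3, 0], 1729), (80, [2, 1, 2, 0, 2, 1, 3, 0, 3, 1, 3, 0, 2], 14), (19, [3, 3, 1, 3, 0, 1, 3, 0, 3, 3], 2939)], 3417), ([(24, [1, 3, 0, 1, 3, 0, 3, 3, 1, 3, 0, 3, 1, 2, 0, 2, 2, 2, 1, 3, 0], 1486), (89, [3, 1, 3, 0, 1, 3, 0, 3, 3, 1, 2, 0, 3, 3, 1, 3, 0, 1, 3, 0, 3], 381), (47, [2, 1, 2, 0, 1, 2, 0], 149)], 0), ([(25, [3, 1, 3, 0, 2, 2, 2, 1, 2, 0, 2, 1, 3, 0], 2699), (67, [2, 2, 1, 3, 0, 1, 3, 0, 2, 2, 1, 3, 0, 1, 3, 0, 3, 1, 3, 0, 2], 73), (34, [2, 1, 2, 0, 1, 2, 0], 1033)], 0), ([(25, [2, 2, 2, 1, 3, 0, 2, 1, 2,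 0, 3, 3, 1, 3, 0], 4900), (59, [1, 3, 0, 2, 1, 2, 0, 2, 2, 2, 1, 3, 0, 3], 24), (49, [2, 1, 2, 0, 1, 2, 0], 203)], 0), ([(25, [2, 2, 1, 3, 0, 2, 2, 1, 2, 0, 1, 2, 0, 1, 2, 0, 3, 3, 1, 3, 0], 1528), (58, [2, 2, 1, 2, 0, 2, 2, 1, 2, 0, 3, 3, 1, 2, 0, 3, 1, 3, 0, 2, 2], 11), (23, [2, 1, 2, 0, 3, 3, 1, 3, 0, 3, 1, 2, 0, 2, 1, 2, 0], 83)], 2136), ([(25, [1, 3, 0, 3, 1, 2, 0], 2176), (56, [2, 1, 3, 0, 3, 1, 2, 0, 2, 1, 3, 0, 1, 3, 0], 145), (30, [2, 2, 1, 3, 0, 3, 1, 2, 0, 2, 1, 2, 0], 1390)], 2983), ([(24, [2, 2, 1, 3, 0, 2, 1, 2, 0, 2, 1, 3, 0, 2, 2], 2428), (88, [1, 2, 0, 3, 1, 3, 0, 3, 1, 2, 0, 2, 2, 2, 1, 3, 0, 3, 1, 2, 0, 1, 2, 0], 256), (80, [3, 3, 1, 2, 0, 3, 3, 1, 2, 0, 1, 2, 0, 2, 1,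 3, 0, 3, 1, 2, 0, 2], 180)], 1115), ([(24, [1, 3, 0, 3, 3, 1, 3, 0, 3, 1, 2, 0], 4508), (89, [1, 3, 0, 2, 1, 2, 0, 2, 2, 2, 1, 3, 0], 331), (58, [2, 1, 2, 0, 1, 2, 0], 4)], 4816), ([(28, [3], 32253), (31, [1, 3, 0], 752), (7, [3], 48493)], 42692), ([(29, [3], 20671), (47, [2, 1, 2, 0, 2, 2, 2, 1, 2, 0, 2], 110), (13, [3], 2985)], 43621), ([(29, [1, 2, 0, 2, 1, 3, 0, 3, 1, 3, 0, 1, 3, 0], 72135), (67, [1, 2, 0, 3, 3, 1, 2, 0, 1, 2, 0, 1, 2, 0, 2, 1, 2, 0], 65), (36, [2, 1, 2, 0, 1, 2, 0], 632)], 0), ([(28, [1, 2, 0, 2, 1, 3, 0, 3, 1, 3, 0, 1, 3, 0], 52689), (44, [3, 1, 2, 0, 3, 1, 3, 0, 3, 1, 2, 0, 2, 1, 3, 0, 2, 2, 1, 2, 0], 384), (50, [2, 1, 2, 0, 1, 2, 0], 173)], 0), ([(40, [1, 2, 0,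 2, 2, 2, 1, 3, 0], 850), (77, [3, 1, 2, 0, 1, 2, 0, 2, 1, 3, 0, 3, 1, 3, 0], 269), (10, [2, 1, 2, 0, 1, 2, 0], 25543)], 0), ([(41, [1, 2, 0, 2, 2, 2, 1, 3, 0], 1070), (58, [2, 2, 1, 3, 0, 2, 1, 2, 0, 3, 1, 3, 0, 1, 3, 0, 2, 1, 2, 0], 20), (22, [1, 3, 0, 2, 2, 1, 2, 0, 1, 2, 0], 2326)], 721), ([(42, [1, 2, 0, 2, 2, 2, 1, 3, 0], 800), (80, [2, 2, 1, 2, 0, 2, 1, 3, 0, 3, 1, 2, 0, 3, 3, 1, 2, 0], 196), (16, [2, 1, 2, 0, 1, 2, 0], 281)], 1337), ([(43, [1, 2, 0, 2, 2, 2, 1, 3, 0], 840), (43, [1, 3, 0, 2, 2, 1, 3, 0, 3, 3, 1, 3, 0, 2, 2, 1, 2, 0, 3], 482), (32, [2, 1, 2, 0, 1, 2, 0], 254)], 752), ([(44, [3, 1, 3, 0, 1, 3, 0, 3, 3, 1, 2, 0, 3, 3, 1, 3, 0, 1, 3, 0, 3], 789), (58, [1, 3, 0, 3, 3,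 1, 2, 0, 2, 2, 1, 2, 0, 2, 1, 3, 0], 105), (21, [3, 3, 1, 3, 0, 1, 3, 0, 3, 3], 3085)], 484), ([(44, [2, 1, 2, 0, 3, 1, 3, 0, 2, 1, 2, 0, 2, 2, 1, 2, 0, 3, 3], 958), (50, [1, 2, 0, 2, 1, 3, 0, 3, 1, 3, 0, 1, 3, 0], 127), (28, [2, 1, 2, 0, 1, 2, 0], 69448)], 569), ([(44, [2, 1, 3, 0, 3, 1, 2, 0, 3, 3, 1, 3, 0, 3], 860), (70, [1, 2, 0, 2, 1, 3, 0, 3, 1, 2, 0, 1, 2, 0, 1, 2, 0, 3, 1, 3, 0, 3, 3, 1, 2, 0], 9), (53, [2, 1, 2, 0, 1, 2, 0], 127)], 0), ([(45, [3, 1, 3, 0, 1, 3, 0, 3, 3, 1, 2, 0, 3, 3, 1, 3, 0, 1, 3, 0, 3], 730), (92, [3, 1, 3, 0, 1, 3, 0, 3, 3, 1, 2, 0, 3, 3, 1, 3, 0, 1, 3, 0, 3], 291), (46, [2, 1, 2, 0, 1, 2, 0], 149)], 0), ([(45, [2, 1, 2, 0, 3, 1, 3, 0, 2, 1, 2, 0, 2, 2, 1,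 2, 0, 3, 3], 1014), (94, [2, 1, 3, 0, 3, 1, 2, 0, 3, 3, 1, 3, 0, 3], 100), (39, [2, 1, 2, 0, 1, 2, 0], 937)], 668), ([(45, [2, 1, 3, 0, 3, 1, 2, 0, 3, 3, 1, 3, 0, 3], 945), (97, [1, 2, 0, 2, 2, 2, 1, 3, 0, 2, 1, 2, 0, 1, 2, 0, 2], 282), (51, [2, 1, 2, 0, 1, 2, 0], 104)], 0), ([(44, [3, 3, 1, 2, 0, 3, 3, 1, 2, 0, 1, 2, 0, 2, 1, 2, 0, 3], 967), (73, [1, 2, 0, 1, 2, 0, 2, 2, 1, 2, 0, 3, 1, 3, 0, 3, 3, 1, 2, 0, 1, 2, 0], 56), (56, [2, 1, 2, 0, 1, 2, 0], 97)], 1341), ([(44, [3, 3, 1, 3, 0, 2, 2, 1, 2, 0], 395), (54, [2, 1, 3, 0, 3, 3, 1, 2, 0, 1, 2, 0, 2, 1, 2, 0, 3], 130), (82, [2, 1, 2, 0, 1, 2, 0], 94)], 0), ([(45, [3, 3, 1, 2, 0, 3, 3, 1, 2, 0, 1, 2, 0, 2, 1, 2, 0, 3], 947), (94, [3, 3,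 1, 2, 0, 3, 3, 1, 3, 0, 3, 1, 2, 0], 76), (43, [2, 1, 3, 0, 2, 1, 2, 0, 2, 2, 1, 2, 0, 3, 1, 3, 0, 2, 2], 685)], 344), ([(45, [3, 3, 1, 3, 0, 2, 2, 1, 2, 0], 528), (95, [1, 2, 0, 1, 2, 0, 2, 1, 3, 0, 1, 3, 0, 3, 1, 2, 0, 2, 1, 3, 0, 2, 1, 2, 0, 1, 2, 0, 2, 1, 2, 0], 239), (87, [3, 1, 2, 0, 2, 1, 3, 0, 3, 3, 1, 2, 0, 2, 2, 1, 2, 0, 2], 39)], 1015), ([(44, [1, 2, 0, 1, 2, 0, 1, 2, 0, 3, 3, 1, 3, 0, 1, 3, 0, 3, 1, 2, 0, 1, 2, 0], 23), (70, [3, 3, 1, 3, 0, 2, 2, 1, 2, 0, 3, 1, 3, 0, 2, 1, 2, 0, 1, 2, 0, 2], 202), (67, [2, 1, 3, 0, 3, 1, 2, 0, 2, 1, 3, 0, 2, 1, 2, 0, 1, 2, 0], 25)], 537), ([(45, [2, 1, 2, 0, 1, 2, 0, 1, 2, 0, 3, 1, 3, 0, 3, 1, 2, 0, 3, 3, 1, 2, 0], 1081), (98, [2, 2, 1, 2, 0,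 3, 3, 1, 2, 0, 1, 2, 0, 2, 1, 2, 0, 3], 177), (94, [2, 1, 2, 0, 1, 2, 0], 21)], 0), ([(54, [3, 1, 3, 0, 1, 3, 0, 3, 3, 1, 2, 0, 3, 3, 1, 3, 0, 1, 3, 0, 3], 149), (80, [1, 3, 0, 1, 3, 0, 2, 2, 1, 2, 0, 1, 2, 0, 3, 1, 3, 0, 2], 70), (18, [2, 1, 2, 0, 1, 2, 0], 3094)], 0), ([(55, [3, 1, 3, 0, 1, 3, 0, 3, 3, 1, 2, 0, 3, 3, 1, 3, 0, 1, 3, 0, 3], 149), (94, [1, 2, 0, 2, 2, 2, 1, 3, 0, 2, 1, 2, 0, 1, 2, 0, 2], 297), (37, [3, 3, 1, 3, 0, 1, 3, 0, 3, 3], 858)], 148), ([(59, [3, 1, 3, 0, 1, 3, 0, 3, 3, 1, 2, 0, 3, 3, 1, 3, 0, 1, 3, 0, 3], 122), (58, [3, 1, 3, 0, 2, 2, 2, 1, 2, 0, 2, 1, 3, 0], 122), (20, [2, 1, 2, 0, 1, 2, 0], 4186)], 0), ([(60, [3, 1, 3, 0, 1, 3, 0, 3, 3, 1, 2, 0, 3, 3, 1, 3, 0,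 1, 3, 0, 3], 122), (90, [1, 2, 0, 2, 2, 2, 1, 3, 0, 2, 1, 2, 0, 1, 2, 0, 2], 432), (48, [3, 3, 1, 3, 0, 1, 3, 0, 3, 3], 132)], 127), ([(66, [1, 2, 0, 2, 2, 2, 1, 3, 0, 2, 1, 2, 0, 1, 2, 0, 2], 94), (94, [2, 1, 2, 0, 3, 1, 3, 0, 2, 1, 2, 0, 2, 2, 1, 2, 0, 3, 3], 604), (38, [2, 1, 2, 0, 1, 2, 0], 1013)], 0), ([(67, [1, 2, 0, 2, 2, 2, 1, 3, 0, 2, 1, 2, 0, 1, 2, 0, 2], 94), (36, [1, 2, 0, 2, 1, 3, 0, 3, 1, 3, 0, 1, 3, 0], 514), (29, [2, 1, 2, 0, 1, 2, 0], 58883)], 0), ([(70, [1, 2, 0, 2, 2, 2, 1, 3, 0, 2, 1, 2, 0, 1, 2, 0, 2], 75), (67, [2, 1, 2, 0, 1, 2, 0, 2, 1, 3, 0, 1, 3, 0, 3, 1, 2, 0, 2, 1, 3, 0, 3, 1, 3, 0, 2], 204), (35, [2, 1, 2, 0, 1, 2, 0], 973)], 48), ([(71, [1, 2, 0, 2, 2, 2, 1,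 3, 0, 2, 1, 2, 0, 1, 2, 0, 2], 75), (93, [3, 1, 2, 0, 3, 1, 3, 0, 3, 1, 2, 0, 2, 1, 3, 0, 2, 2, 1, 2, 0], 624), (52, [2, 1, 2, 0, 1, 2, 0], 33)], 0), ([(72, [3, 3, 1, 2, 0, 1, 2, 0, 3, 1, 3, 0, 1, 3, 0, 3, 1, 3, 0, 1, 3, 0], 121), (66, [1, 3, 0, 1, 3, 0, 3, 3, 1, 2, 0, 1, 2, 0, 2, 2, 1, 3, 0], 144), (92, [2, 1, 2, 0, 1, 2, 0], 416)], 0), ([(73, [3, 3, 1, 2, 0, 1, 2, 0, 3, 1, 3, 0, 1, 3, 0, 3, 1, 3, 0, 1, 3, 0], 121), (54, [3, 1, 3, 0, 3, 3, 1, 2, 0, 2, 1, 2, 0, 1, 2, 0, 3], 50), (89, [2, 1, 2, 0, 1, 2, 0], 421)], 0), ([(73, [1, 2, 0, 1, 2, 0, 2, 1, 2, 0, 3, 1, 3, 0, 3, 1, 2, 0, 2, 2, 1, 2, 0, 2], 57), (67, [2, 1, 3, 0, 3, 3, 1, 3, 0, 3, 1, 2, 0, 2, 1, 2, 0, 3, 3, 1, 3, 0, 3], 150), (41,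 [2, 1, 3, 0, 2, 1, 2, 0, 2, 2, 1, 2, 0, 3, 1, 3, 0, 2, 2], 910)], 29), ([(54, [2, 1, 2, 0, 3, 1, 3, 0, 3, 1, 2, 0, 1, 2, 0, 2, 1, 2, 0, 1, 2, 0, 3, 3, 1, 3, 0], 174), (80, [3, 1, 2, 0, 2, 1, 3, 0, 3, 3, 1, 3, 0, 3, 3], 75), (25, [2, 1, 2, 0, 1, 2, 0], 303)], 184), ([(55, [1, 3, 0, 2, 1, 2, 0, 2, 2, 2, 1, 3, 0], 4), (95, [3, 1, 2, 0, 1, 2, 0, 2, 2, 2, 1, 3, 0], 6), (84, [3, 1, 2, 0, 2, 1, 3, 0, 3, 3, 1, 3, 0, 2, 2, 1, 3, 0, 3], 172)], 16), ([(74, [3, 3, 1, 2, 0, 1, 2, 0, 3, 1, 3, 0, 1, 3, 0, 3, 1, 3, 0, 1, 3, 0], 157), (65, [1, 2, 0, 3, 3, 1, 3, 0, 3, 1, 2, 0, 2, 1, 2, 0, 3, 1, 3, 0], 82), (90, [2, 1, 2, 0, 1, 2, 0], 84)], 146), ([(75, [3, 3, 1, 2, 0, 1, 2, 0, 3, 1, 3, 0, 1, 3, 0, 3, 1,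 3, 0, 1, 3, 0], 157), (70, [3, 1, 3, 0, 1, 3, 0, 2, 2, 1, 3, 0, 1, 3, 0, 3, 1, 3, 0, 2, 1, 2, 0, 2], 224), (59, [2, 2, 1, 2, 0, 2, 1, 3, 0, 2, 1, 2, 0, 2, 1, 2, 0], 96)], 208), ([(75, [1, 3, 0, 1, 3, 0, 2, 1, 2, 0, 1, 2, 0, 2, 2, 1, 2, 0, 2, 1, 3, 0], 102), (72, [1, 3, 0, 3, 1, 2, 0, 1, 2, 0, 2, 1, 3, 0, 3, 1, 3, 0, 1, 3, 0, 3, 3, 1, 2, 0, 2], 208), (68, [2, 1, 3, 0, 2, 1, 2, 0, 1, 2, 0], 8)], 146), ([(74, [1, 3, 0, 1, 3, 0, 2, 1, 2, 0, 1, 2, 0, 2, 2, 1, 2, 0, 2, 1, 3, 0], 102), (61, [1, 3, 0, 1, 3, 0, 2, 1, 2, 0, 1, 2, 0, 2, 1, 2, 0, 1, 2, 0], 89), (99, [2, 1, 2, 0, 1, 2, 0], 13963)], 0), ([(73, [3, 3, 1, 2, 0, 1, 2, 0, 2, 1, 3, 0, 3, 1, 2, 0, 3, 1, 3, 0, 3], 122), (73, [2, 1, 3, 0, 2,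 2, 1, 2, 0, 1, 2, 0, 2, 2, 1, 2, 0, 1, 2, 0], 64), (64, [2, 2, 1, 3, 0, 3, 3, 1, 2, 0, 3, 1, 3, 0, 2, 1, 2, 0, 2], 95)], 205), ([(73, [2, 2, 1, 2, 0, 1, 2, 0, 1, 2, 0, 3, 3, 1, 3, 0, 3, 3, 1, 2, 0, 2], 226), (54, [2, 2, 1, 2, 0, 2, 2, 2, 1, 3, 0, 2, 1, 2, 0, 2, 2, 1, 3, 0, 2, 1, 2, 0], 44), (81, [2, 1, 2, 0, 1, 2, 0], 192)], 0), ([(75, [3, 1, 2, 0, 1, 2, 0, 2, 2, 1, 2, 0, 3, 1, 3, 0, 3, 3, 1, 2, 0], 76), (60, [1, 3, 0, 1, 3, 0, 3, 1, 3, 0, 1, 3, 0, 2, 1, 2, 0, 1, 2, 0, 3, 3], 140), (86, [1, 2, 0, 3, 1, 3, 0, 1, 3, 0, 3, 1, 2, 0, 2, 1, 2, 0, 3, 1, 3, 0], 152)], 89), ([(72, [1, 3, 0, 1, 3, 0, 3, 1, 2, 0, 1, 2, 0, 2, 1, 3, 0, 3, 1, 3, 0, 1, 3, 0, 3, 3], 201), (67, [1, 2, 0, 3, 3, 1, 2, 0,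 1, 2, 0, 1, 2, 0, 2, 2], 93), (44, [1, 2, 0, 1, 2, 0, 3, 1, 3, 0, 1, 3, 0, 3, 1, 2, 0, 2, 2, 1, 3, 0, 2], 1)], 177), ([(73, [1, 3, 0, 1, 3, 0, 3, 1, 2, 0, 1, 2, 0, 2, 1, 3, 0, 3, 1, 3, 0, 1, 3, 0, 3, 3], 201), (71, [3, 1, 2, 0, 2, 1, 2, 0, 3, 3, 1, 2, 0, 3, 1, 3, 0, 1, 3, 0, 2, 2], 163), (97, [2, 1, 2, 0, 1, 2, 0], 237)], 0), ([(72, [1, 3, 0, 1, 3, 0, 2, 1, 2, 0, 1, 2, 0, 2, 2, 1, 2, 0, 2, 1, 3, 0], 99), (73, [2, 1, 2, 0, 1, 2, 0, 1, 2, 0, 2, 2, 1, 2, 0, 2, 1, 3, 0, 3, 3, 1, 2, 0], 155), (69, [2, 1, 2, 0, 1, 2, 0], 10)], 110), ([(73, [1, 3, 0, 1, 3, 0, 2, 1, 2, 0, 1, 2, 0, 2, 2, 1, 2, 0, 2, 1, 3, 0], 99), (74, [2, 2, 1, 3, 0, 3, 1, 3, 0, 2, 1, 2, 0, 3, 1, 3, 0, 1, 3, 0, 2, 1, 2, 0, 2],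 158), (62, [1, 2, 0, 1, 2, 0, 1, 2, 0], 144)], 146), ([(74, [2, 2, 2, 1, 3, 0, 2, 1, 2, 0, 2, 1, 3, 0, 3, 1, 3, 0, 1, 3, 0, 2], 59), (66, [2, 2, 2, 1, 3, 0, 1, 3, 0, 3, 3, 1, 3, 0, 1, 3, 0, 2, 1, 2, 0, 1, 2, 0], 217), (93, [1, 2, 0, 1, 2, 0, 3, 1, 3, 0, 1, 3, 0, 3, 1, 2, 0, 2, 2, 1, 3, 0, 2], 447)], 56), ([(75, [2, 2, 2, 1, 3, 0, 2, 1, 2, 0, 2, 1, 3, 0, 3, 1, 3, 0, 1, 3, 0, 2], 59), (73, [1, 3, 0, 2, 1, 2, 0, 2, 2, 1, 3, 0, 1, 3, 0, 2, 2, 1, 2, 0, 3, 1, 3, 0], 191), (70, [2, 2, 1, 3, 0, 2, 1, 2, 0, 2, 1, 3, 0, 2, 2, 1, 2, 0, 1, 2, 0, 1, 2, 0, 2], 117)], 146), ([(54, [2, 2, 1, 2, 0, 1, 2, 0, 2, 1, 3, 0], 76), (89, [1, 2, 0, 1, 2, 0, 1, 2, 0, 3, 3, 1, 3, 0, 1, 3, 0, 2, 2, 1, 2, 0], 487),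 (72, [2, 1, 2, 0, 1, 2, 0, 1, 2, 0, 3, 1, 3, 0, 1, 3, 0, 2, 2, 1, 2, 0], 116)], 40), ([(55, [2, 2, 1, 2, 0, 1, 2, 0, 2, 1, 3, 0], 76), (97, [2, 1, 3, 0, 2, 2, 1, 2, 0, 2, 1, 3, 0, 1, 3, 0, 3, 1, 3, 0, 2, 1, 2, 0], 505), (73, [2, 1, 2, 0, 3, 3, 1, 2, 0, 1, 2, 0, 2, 1, 3, 0], 25)], 34), ([(70, [2, 2, 1, 2, 0, 1, 2, 0, 2, 1, 3, 0], 232), (72, [1, 2, 0, 1, 2, 0, 1, 2, 0, 2, 2, 1, 2, 0, 1, 2, 0, 3, 1, 3, 0, 1, 3, 0, 2], 1), (74, [1, 2, 0, 3, 3, 1, 2, 0, 1, 2, 0, 2, 1, 2, 0, 2, 2, 2], 76)], 68), ([(71, [2, 2, 1, 2, 0, 1, 2, 0, 2, 1, 3, 0], 232), (97, [1, 2, 0, 2, 2, 1, 2, 0, 2, 1, 3, 0, 3, 3, 1, 3, 0, 1, 3, 0, 2], 373), (75, [1, 2, 0, 2, 2, 1, 2, 0, 2, 1, 3, 0, 3, 1, 2, 0, 3, 3, 1, 2, 0, 2],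 209)], 68), ([(80, [2, 1, 3, 0, 3, 1, 2, 0, 2, 1, 3, 0, 2, 2, 1, 2, 0], 197), (17, [2, 2, 1, 2, 0, 1, 2, 0, 2, 1, 3, 0], 4066), (11, [2, 1, 2, 0, 1, 2, 0], 120802)], 0), ([(81, [2, 1, 3, 0, 3, 1, 2, 0, 2, 1, 3, 0, 2, 2, 1, 2, 0], 213), (65, [2, 2, 1, 2, 0, 3, 1, 3, 0, 2, 2, 1, 3, 0, 2, 1, 2, 0], 108), (78, [2, 1, 3, 0, 3, 1, 2, 0, 1, 2, 0], 73)], 49), ([(87, [1, 2, 0, 2, 2, 1, 2, 0], 114), (42, [1, 2, 0, 2], 1293), (79, [2, 1, 2, 0, 3], 474)], 248), ([(86, [1, 3, 0, 2, 2, 1, 3, 0, 3, 3, 1, 3, 0, 3, 3, 1, 2, 0], 249), (63, [1, 3, 0, 2, 2, 1, 3, 0, 3, 3, 1, 3, 0, 3, 3, 1, 2, 0], 50), (76, [1, 2, 0, 2], 433)], 109), ([(89, [2, 2, 1, 3, 0, 3, 1, 2, 0, 2, 1, 2, 0, 1, 2, 0, 2, 2, 2, 1, 2, 0],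 204), (73, [2, 1, 2, 0, 2, 2, 1, 3, 0, 2, 1, 2, 0, 2, 1, 2, 0, 3, 1, 3, 0, 1, 3, 0, 3], 143), (63, [2, 1, 2, 0, 1, 2, 0], 57)], 462), ([(88, [2, 2, 1, 2, 0, 2, 2, 2, 1, 3, 0, 2, 1, 2, 0, 2, 2, 1, 3, 0, 2, 1, 2, 0], 229), (80, [3, 1, 2, 0, 2, 1, 3, 0, 3, 3, 1, 2, 0, 3, 3], 216), (24, [2, 1, 2, 0, 1, 2, 0], 3566)], 300), ([(88, [2, 1, 3, 0, 3, 3, 1, 2, 0, 1, 2, 0, 2, 1, 2, 0, 3], 187), (88, [2, 1, 2, 0, 2, 1, 3, 0, 2, 1, 2, 0, 1, 2, 0, 2, 1, 3, 0, 3, 1, 3, 0, 1, 3, 0, 2], 476), (83, [2, 1, 2, 0, 3, 1, 3, 0, 2, 2, 1, 2, 0, 3, 1, 3, 0, 2], 450)], 436), ([(89, [1, 3, 0, 3, 1, 2, 0, 3, 3, 1, 2, 0, 3, 3], 441), (67, [1, 3, 0, 3, 1, 2, 0, 3, 1, 3, 0, 2, 2, 1, 2, 0], 177), (40, [2, 1, 2, 0, 1, 2,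 0], 395)], 0), ([(85, [2, 2, 1, 3, 0, 2, 2, 1, 2, 0, 2, 2, 1, 2, 0], 304), (88, [3, 1, 2, 0, 2, 1, 2, 0, 1, 2, 0, 1, 2, 0, 3, 3, 1, 2, 0, 3], 182), (85, [3, 3, 1, 3, 0, 2, 1, 2, 0, 3, 1, 3, 0, 3, 1, 2, 0, 2, 1, 3, 0], 54)], 129), ([(84, [2, 2, 1, 3, 0, 2, 2, 1, 2, 0, 2, 2, 1, 2, 0], 304), (59, [1, 2, 0, 2, 2, 2, 1, 3, 0, 3, 1, 2, 0, 3, 3], 68), (57, [2, 1, 3, 0, 3, 3, 1, 3, 0, 2, 2, 2, 1, 2, 0], 59)], 286), ([(91, [2, 2, 1, 3, 0, 2, 2, 2, 1, 3, 0, 2], 138), (94, [2, 2, 1, 2, 0, 3, 1, 3, 0, 1, 3, 0, 3, 3, 1, 3, 0, 1, 3, 0], 318), (42, [1, 2, 0, 2, 2, 1, 2, 0, 3, 1, 3, 0, 2, 1, 2, 0, 1, 2, 0], 882)], 295), ([(90, [2, 2, 1, 2, 0, 2, 2, 1, 3, 0, 1, 3, 0, 3, 1, 3, 0, 2], 132), (75, [1, 2, 0,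 1, 2, 0, 3, 1, 3, 0, 1, 3, 0, 3, 1, 3, 0, 1, 3, 0, 2, 1, 2, 0, 1, 2, 0, 3], 122), (65, [2, 2, 1, 3, 0, 3, 1, 2, 0, 2, 2, 1, 2, 0, 2, 1, 2, 0], 170)], 7), ([(89, [3, 1, 3, 0, 3, 3, 1, 2, 0, 2, 1, 2, 0, 1, 2, 0, 3], 348), (72, [3, 3, 1, 2, 0, 1, 2, 0, 1, 2, 0, 3, 1, 3, 0, 3, 1, 2, 0, 2, 1, 2, 0], 118), (54, [2, 1, 2, 0, 1, 2, 0], 230)], 26), ([(88, [3, 1, 3, 0, 3, 3, 1, 2, 0, 2, 1, 2, 0, 1, 2, 0, 3], 348), (83, [2, 1, 2, 0, 2, 1, 3, 0, 2, 2, 1, 2, 0, 3, 1, 3, 0, 2], 388), (88, [1, 2, 0, 2, 1, 2, 0, 2, 1, 3, 0, 1, 3, 0, 3, 1, 3, 0, 1, 3, 0, 2], 347)], 194), ([(87, [3, 3, 1, 2, 0, 2, 1, 2, 0, 1, 2, 0, 3, 1, 3, 0], 20), (45, [1, 2, 0, 2, 2, 1, 2, 0, 2, 1, 2, 0, 3, 3, 1, 3, 0, 3], 687), (95,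 [1, 2, 0, 2, 1, 2, 0, 1, 2, 0, 1, 2, 0, 2, 1, 2, 0, 2], 157)], 49), ([(86, [2, 1, 2, 0, 2, 1, 3, 0, 3, 1, 3, 0, 2, 1, 2, 0], 128), (75, [2, 1, 2, 0, 3, 3, 1, 2, 0, 1, 2, 0, 2, 1, 2, 0, 2, 2, 1, 3, 0, 3], 119), (60, [2, 1, 2, 0, 1, 2, 0], 116)], 0), ([(96, [1, 3, 0, 1, 3, 0, 3, 3, 1, 2, 0, 1, 2, 0, 2, 2, 1, 3, 0], 480), (97, [1, 2, 0, 3, 3, 1, 2, 0, 1, 2, 0, 1, 2, 0, 2, 1, 2, 0, 1, 2, 0], 113), (55, [1, 2, 0, 2, 1, 2, 0, 2, 1, 3, 0, 1, 3, 0, 3, 1, 3, 0, 1, 3, 0, 2], 130)], 379), ([(98, [1, 3, 0, 2, 2, 1, 3, 0, 2, 1, 2, 0, 2], 408), (94, [2, 1, 2, 0, 1, 2, 0, 1, 2, 0, 3, 1, 3, 0, 3, 1, 2, 0, 3, 3, 1, 2, 0], 99), (45, [2, 1, 2, 0, 1, 2, 0], 1163)], 0), ([(98, [1, 2, 0, 1, 2, 0, 1, 2, 0, 2,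 2, 1, 2, 0, 3, 3], 311), (97, [1, 3, 0, 2, 2, 1, 2, 0, 2, 1, 3, 0, 3, 1, 2, 0, 2, 1, 2, 0], 246), (71, [2, 1, 3, 0, 3, 1, 2, 0, 2, 1, 3, 0, 2, 1, 2, 0, 1, 2, 0], 181)], 411), ([(92, [1, 3, 0, 2, 1, 2, 0, 3, 3, 1, 3, 0, 2, 1, 2, 0, 2, 2], 450), (60, [1, 3, 0, 2, 1, 2, 0, 1, 2, 0, 3, 3, 1, 3, 0, 3, 1, 2, 0], 191), (91, [3, 1, 3, 0, 2, 1, 2, 0, 2, 1, 2, 0, 1, 2, 0], 347)], 297), ([(93, [3, 1, 2, 0, 1, 2, 0, 2, 1, 3, 0, 2, 2, 1, 2, 0, 3, 3], 228), (72, [3, 1, 3, 0, 3, 1, 2, 0, 2, 2, 1, 3, 0, 2, 2, 2, 1, 2, 0], 156), (66, [2, 1, 2, 0, 1, 2, 0], 85)], 522), ([(94, [3, 1, 3, 0, 3, 1, 2, 0, 2, 1, 3, 0, 2, 1, 2, 0, 3, 1, 3, 0, 3], 188), (45, [2, 1, 2, 0, 2, 1, 2, 0, 3, 1, 3, 0, 1, 3, 0, 2, 1, 2,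 0, 1, 2, 0, 2, 2], 1149), (96, [2, 2, 1, 3, 0, 2, 1, 2, 0, 2, 1, 3, 0, 2, 2, 1, 2, 0, 1, 2, 0, 1, 2, 0, 2], 135)], 517), ([(94, [2, 2, 1, 2, 0, 1, 2, 0, 1, 2, 0, 2, 2, 2, 1, 2, 0, 3], 235), (45, [3, 1, 3, 0, 3, 3, 1, 2, 0, 1, 2, 0, 3, 1, 3, 0, 1, 3, 0, 3], 1380), (98, [1, 2, 0, 2, 1, 2, 0, 1, 2, 0, 2, 1, 3, 0, 2, 2, 1, 3, 0, 3], 355)], 457), ([(99, [1, 3, 0, 1, 3, 0, 2, 1, 2, 0, 1, 2, 0, 2, 1, 2, 0, 1, 2, 0], 2816), (75, [2, 2, 1, 3, 0, 3, 3, 1, 2, 0, 1, 2, 0, 1, 2, 0], 98), (61, [2, 1, 2, 0, 1, 2, 0], 123)], 2342), ([(99, [3, 1, 3, 0, 2, 2, 1, 2, 0, 2, 1, 3, 0, 2, 2, 1, 2, 0], 3365), (61, [3, 1, 3, 0, 2, 2, 1, 2, 0, 2, 1, 3, 0, 2, 2, 1, 2, 0], 228), (100, [2, 1, 2, 0, 1, 2, 0], 14468)],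 26170)],
[([(0, [], 0), (5, [], 0), (2, [], 24400)], 0), ([(5, [], 45627), (2, [], 24400), (0, [], 0)], 42270), ([(6, [], 45627), (14, [], 2300), (3, [], 24400)], 42270), ([(7, [], 4270), (26, [], 9832), (4, [], 24400)], 7496), ([(8, [], 4270), (12, [], 2300), (1, [], 24400)], 7496), ([(9, [3, 1, 2, 0, 3], 37969), (19, [2, 1, 2, 0, 2, 2, 2, 1, 2, 0, 2, 1, 2, 0, 3], 2983), (12, [1, 3, 0], 3318)], 16101), ([(9, [2, 2, 1, 2, 0, 2, 2, 1, 2, 0, 3, 1, 3, 0, 3], 66450), (17, [3, 1, 2, 0, 3], 4916), (5, [1, 3, 0], 994)], 16101), ([(10, [3, 1, 2, 0, 3], 24411), (34, [3, 1, 2, 0, 3], 786), (14, [1, 3, 0], 2569)], 770), ([(10, [2, 2, 1, 2, 0, 2, 2, 1, 2, 0, 3, 1, 3, 0, 3], 5825), (36, [3, 1, 2, 0,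 3], 754), (26, [1, 3, 0], 40539)], 770), ([(11, [1, 2, 0, 1, 2, 0, 2, 1, 2, 0, 2, 2], 77882), (80, [3, 1, 2, 0, 3, 1, 3, 0, 3, 1, 2, 0, 2], 104), (17, [1, 3, 0, 2, 2, 2], 5022)], 24400), ([(11, [3, 1, 2, 0, 2, 1, 3, 0], 15058), (82, [3, 1, 2, 0, 3, 1, 3, 0, 3, 1, 2, 0, 2], 171), (31, [1, 3, 0, 2, 2, 2], 979)], 94616), ([(10, [2, 2, 2, 1, 3, 0, 3, 3], 121940), (40, [2, 2, 1, 3, 0, 3, 1, 2, 0, 2, 1, 3, 0], 1000), (77, [1, 3, 0, 2, 2, 2], 352)], 24400), ([(18, [3, 1, 2, 0, 3], 3090), (50, [3, 1, 2, 0, 3], 146), (27, [1, 3, 0], 40539)], 2928), ([(19, [3, 1, 2, 0, 3], 3090), (17, [2, 2, 1, 2, 0, 2, 2, 1, 2, 0, 3, 1, 3, 0, 3], 1167), (6, [1, 3, 0], 63591)], 2928), ([(20, [3, 1, 2, 0, 3], 2986),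 (49, [3, 1, 2, 0, 3], 14), (15, [1, 3, 0], 2569)], 2527), ([(21, [3, 1, 2, 0, 3], 2986), (31, [2, 2, 1, 2, 0, 2, 2, 1, 2, 0, 3, 1, 3, 0, 3], 834), (8, [1, 3, 0], 114258)], 2527), ([(24, [3, 1, 2, 0, 3, 1, 3, 0, 3, 1, 2, 0, 2], 4328), (77, [1, 2, 0, 1, 2, 0, 2, 1, 2, 0, 2, 2], 477), (9, [1, 3, 0, 2, 2, 2], 15736)], 2985), ([(24, [1, 3, 0, 2, 1, 2, 0, 1, 2, 0, 2, 2, 1, 3, 0, 1, 3, 0], 154), (87, [1, 2, 0, 1, 2, 0, 3, 1, 3, 0, 3, 1, 2, 0, 2, 1, 3, 0, 3, 1, 3, 0, 2], 137), (33, [1, 3, 0, 2, 2, 2], 970)], 4192), ([(24, [1, 3, 0, 3, 3, 1, 2, 0, 3, 1, 3, 0], 2108), (80, [2, 1, 3, 0, 3, 1, 2, 0, 2, 1, 2, 0, 2, 1, 3, 0, 1, 3, 0], 245), (19, [2, 2, 1, 2, 0, 1, 2, 0, 1, 2, 0, 2, 2, 2, 1, 3, 0], 3296)],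 3655), ([(24, [2, 1, 3, 0, 3, 1, 2, 0, 1, 2, 0, 2, 1, 3, 0, 2, 2, 1, 2, 0, 1, 2, 0, 2, 2], 726), (89, [1, 2, 0, 2, 2, 2, 1, 3, 0, 3, 3, 1, 2, 0, 1, 2, 0, 3, 3], 498), (47, [1, 3, 0, 2, 2, 2], 138)], 2983), ([(25, [1, 2, 0, 1, 2, 0, 2, 1, 2, 0, 2, 2], 3818), (67, [3, 1, 2, 0, 2, 1, 2, 0, 2, 2, 1, 2, 0, 3, 3, 1, 2, 0], 132), (34, [1, 3, 0, 2, 2, 2], 365)], 2983), ([(25, [1, 2, 0, 2, 1, 3, 0, 2, 2, 1, 2, 0, 3, 1, 3, 0, 2, 1, 2, 0, 1, 2, 0], 4026), (59, [3, 1, 3, 0, 3, 3, 1, 3, 0, 1, 3, 0, 3, 3, 1, 3, 0, 1, 3, 0], 43), (49, [1, 3, 0, 2, 2, 2], 199)], 2983), ([(25, [1, 3, 0, 3, 1, 3, 0, 1, 3, 0, 3, 3, 1, 3, 0, 3, 3, 1, 2, 0], 967), (58, [1, 2, 0, 1, 2, 0, 2, 2, 1, 3, 0, 1, 3, 0], 57), (23, [2,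 1, 2, 0, 3, 1, 3, 0, 2, 1, 2, 0], 62)], 888), ([(25, [2, 1, 3, 0, 2, 1, 2, 0, 2, 1, 3, 0, 3, 3, 1, 3, 0, 2], 1272), (56, [2, 1, 3, 0, 2, 2, 1, 2, 0, 1, 2, 0, 1, 2, 0, 3], 134), (30, [2, 2, 2, 1, 3, 0, 2, 1, 2, 0], 1152)], 4983), ([(18, [2, 2, 2, 1, 2, 0, 1, 2, 0, 1, 2, 0, 2], 1634), (54, [2, 1, 2, 0, 1, 2, 0, 2, 1, 3, 0, 2, 2, 2, 1, 2, 0], 124), (80, [1, 2, 0, 1, 2, 0, 2, 1, 2, 0, 3, 3, 1, 2, 0, 3, 1, 3, 0, 2, 1, 2, 0], 124)], 1555), ([(25, [1, 2, 0, 2, 1, 3, 0, 3, 3, 1, 3, 0, 3, 1, 2, 0, 2, 1, 2, 0, 1, 2, 0], 1618), (75, [2, 1, 2, 0, 2, 1, 2, 0, 3, 3, 1, 2, 0, 3, 1, 3, 0, 2, 2, 1, 2, 0], 133), (58, [1, 3, 0, 2, 2, 2], 62)], 4816), ([(28, [3, 1, 2, 0, 3], 43621), (31, [3, 1, 2, 0, 3], 569),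 (7, [1, 3, 0], 48130)], 41977), ([(29, [3, 1, 2, 0, 3], 42692), (47, [3, 1, 2, 0, 3], 146), (13, [1, 3, 0], 2569)], 40455), ([(29, [1, 2, 0, 1, 2, 0, 1, 2, 0, 2, 1, 3, 0, 1, 3, 0], 78890), (67, [2, 2, 1, 2, 0, 1, 2, 0, 2, 2, 1, 2, 0, 1, 2, 0, 2, 2], 147), (36, [1, 3, 0, 2, 2, 2], 472)], 42686), ([(28, [1, 2, 0, 1, 2, 0, 1, 2, 0, 2, 1, 3, 0, 1, 3, 0], 62768), (44, [2, 1, 2, 0, 3, 3, 1, 2, 0, 1, 2, 0, 2, 1, 2, 0, 2, 1, 3, 0], 950), (50, [1, 3, 0, 2, 2, 2], 152)], 42686), ([(40, [3, 1, 2, 0, 3, 1, 3, 0, 3, 1, 2, 0, 2], 968), (77, [3, 1, 2, 0, 2, 1, 3, 0], 417), (10, [1, 3, 0, 2, 2, 2], 101405)], 786), ([(41, [3, 1, 2, 0, 3, 1, 3, 0, 3, 1, 2, 0, 2], 986), (58, [1, 3, 0, 3, 1, 3, 0, 2, 1, 2,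 0], 34), (22, [3, 1, 2, 0, 2, 2], 2225)], 721), ([(42, [3, 1, 2, 0, 3, 1, 3, 0, 3, 1, 2, 0, 2], 903), (80, [2, 1, 3, 0, 3, 1, 2, 0, 2, 1, 2, 0, 1, 2, 0, 2, 1, 2, 0], 195), (16, [1, 3, 0, 2, 2, 2], 456)], 1337), ([(43, [3, 1, 2, 0, 3, 1, 3, 0, 3, 1, 2, 0, 2], 898), (43, [1, 2, 0, 3, 3, 1, 2, 0, 3, 1, 3, 0, 2, 1, 2, 0, 1, 2, 0], 612), (32, [1, 3, 0, 2, 2, 2], 105)], 752), ([(44, [1, 2, 0, 2, 2, 2, 1, 3, 0, 3, 3, 1, 2, 0, 1, 2, 0, 3, 3], 743), (58, [2, 2, 1, 3, 0, 3, 3, 1, 2, 0, 1, 2, 0, 1, 2, 0, 2, 1, 2, 0, 3, 1, 3, 0], 114), (21, [2, 2, 1, 2, 0, 1, 2, 0, 1, 2, 0, 2, 2, 2, 1, 3, 0], 3473)], 454), ([(44, [2, 2, 1, 2, 0, 3, 3, 1, 2, 0, 1, 2, 0, 1, 2, 0, 3, 1, 3, 0, 3], 663), (50, [1, 2, 0,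 1, 2, 0, 1, 2, 0, 2, 1, 3, 0, 1, 3, 0], 151), (28, [1, 3, 0, 2, 2, 2], 5706)], 569), ([(44, [1, 2, 0, 2, 2, 1, 3, 0, 3, 3, 1, 3, 0, 2, 2, 2, 1, 3, 0], 472), (70, [1, 2, 0, 3, 3, 1, 3, 0, 2, 2, 1, 3, 0, 2, 1, 2, 0, 2, 1, 3, 0], 221), (53, [1, 3, 0, 2, 2, 2], 123)], 786), ([(45, [1, 2, 0, 2, 2, 2, 1, 3, 0, 3, 3, 1, 2, 0, 1, 2, 0, 3, 3], 904), (92, [1, 2, 0, 2, 2, 2, 1, 3, 0, 3, 3, 1, 2, 0, 1, 2, 0, 3, 3], 291), (46, [1, 3, 0, 2, 2, 2], 138)], 786), ([(45, [2, 2, 1, 2, 0, 3, 3, 1, 2, 0, 1, 2, 0, 1, 2, 0, 3, 1, 3, 0, 3], 566), (94, [1, 2, 0, 2, 2, 1, 3, 0, 3, 3, 1, 3, 0, 2, 2, 2, 1, 3, 0], 100), (39, [1, 3, 0, 2, 2, 2], 536)], 668), ([(45, [1, 2, 0, 2, 2, 1, 3, 0, 3, 3, 1, 3, 0, 2, 2, 2, 1,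 3, 0], 548), (97, [1, 2, 0, 2, 2, 2, 1, 3, 0, 3, 3, 1, 2, 0, 1, 2, 0, 3, 3], 286), (51, [1, 3, 0, 2, 2, 2], 138)], 786), ([(42, [1, 2, 0, 2, 1, 2, 0, 3], 1350), (90, [3, 3, 1, 3, 0, 3, 1, 2, 0, 3, 3, 1, 2, 0, 2, 2, 1, 3, 0, 3], 469), (56, [1, 3, 0, 2, 2, 2], 117)], 1341), ([(41, [1, 2, 0, 2, 1, 2, 0, 3], 153), (65, [2, 2, 1, 2, 0, 2, 1, 3, 0, 3, 1, 2, 0, 1, 2, 0, 2, 1, 3, 0], 18), (82, [1, 3, 0, 2, 2, 2], 387)], 786), ([(40, [1, 2, 0, 2, 1, 2, 0, 3], 1360), (87, [1, 3, 0, 3, 1, 3, 0, 2, 1, 2, 0, 1, 2, 0, 3, 3, 1, 3, 0, 2], 87), (43, [1, 3, 0, 2, 1, 2, 0, 3, 1, 3, 0, 2, 1, 2, 0, 2, 1, 3, 0, 1, 3, 0], 269)], 61), ([(42, [1, 2, 0, 3, 3, 1, 2, 0, 3, 1, 3, 0, 3, 1, 2, 0, 2, 2, 1, 2, 0], 308),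 (83, [2, 1, 2, 0, 1, 2, 0, 1, 2, 0, 3, 1, 3, 0], 333), (87, [3, 1, 2, 0, 2, 1, 2, 0, 3, 1, 3, 0, 2, 2, 2, 1, 2, 0, 3], 158)], 1015), ([(45, [2, 2, 1, 3, 0, 2, 1, 2, 0, 2, 1, 2, 0, 1, 2, 0, 2, 2], 1423), (92, [1, 2, 0, 3, 3, 1, 2, 0, 2, 1, 2, 0, 1, 2, 0, 2, 2, 1, 2, 0], 387), (67, [1, 2, 0, 3, 1, 3, 0, 2, 1, 2, 0, 2], 113)], 537), ([(44, [2, 2, 1, 3, 0, 2, 1, 2, 0, 2, 1, 2, 0, 1, 2, 0, 2, 2], 1094), (55, [1, 2, 0, 3, 1, 3, 0, 2, 1, 2, 0, 1, 2, 0, 2, 2, 1, 2, 0], 175), (94, [1, 3, 0, 2, 2, 2], 389)], 786), ([(54, [1, 2, 0, 2, 2, 2, 1, 3, 0, 3, 3, 1, 2, 0, 1, 2, 0, 3, 3], 123), (80, [2, 1, 2, 0, 1, 2, 0, 1, 2, 0, 2, 2, 1, 3, 0, 2], 140), (18, [1, 3, 0, 2, 2, 2], 3779)], 146), ([(55, [1, 2,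 0, 2, 2, 2, 1, 3, 0, 3, 3, 1, 2, 0, 1, 2, 0, 3, 3], 123), (94, [1, 2, 0, 2, 1, 3, 0, 2, 2, 1, 2, 0, 3, 1, 3, 0, 2, 1, 2, 0, 1, 2, 0], 295), (37, [2, 2, 1, 2, 0, 1, 2, 0, 1, 2, 0, 2, 2, 2, 1, 3, 0], 396)], 139), ([(59, [1, 2, 0, 2, 2, 2, 1, 3, 0, 3, 3, 1, 2, 0, 1, 2, 0, 3, 3], 138), (58, [1, 2, 0, 1, 2, 0, 2, 1, 2, 0, 2, 2], 130), (20, [1, 3, 0, 2, 2, 2], 4478)], 146), ([(60, [1, 2, 0, 2, 2, 2, 1, 3, 0, 3, 3, 1, 2, 0, 1, 2, 0, 3, 3], 138), (90, [1, 2, 0, 2, 2, 1, 2, 0, 2, 1, 3, 0, 2, 2, 1, 2, 0, 2, 2, 1, 3, 0], 491), (48, [2, 2, 1, 2, 0, 1, 2, 0, 1, 2, 0, 2, 2, 2, 1, 3, 0], 131)], 136), ([(66, [1, 2, 0, 2, 2, 2, 1, 3, 0, 3, 3, 1, 2, 0, 1, 2, 0, 3, 3], 123), (94, [2, 2, 1, 2, 0, 3, 3, 1,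 2, 0, 1, 2, 0, 1, 2, 0, 3, 1, 3, 0, 3], 606), (38, [1, 3, 0, 2, 2, 2], 709)], 146), ([(67, [1, 2, 0, 2, 2, 2, 1, 3, 0, 3, 3, 1, 2, 0, 1, 2, 0, 3, 3], 123), (36, [1, 2, 0, 1, 2, 0, 1, 2, 0, 2, 1, 3, 0, 1, 3, 0], 605), (29, [1, 3, 0, 2, 2, 2], 7012)], 146), ([(70, [1, 2, 0, 2, 2, 2, 1, 3, 0, 3, 3, 1, 2, 0, 1, 2, 0, 3, 3], 138), (67, [2, 1, 3, 0, 3, 1, 3, 0, 1, 3, 0, 3, 1, 2, 0, 2, 1, 3, 0, 2, 2, 1, 3, 0], 14), (35, [1, 3, 0, 2, 2, 2], 806)], 48), ([(71, [1, 2, 0, 2, 2, 2, 1, 3, 0, 3, 3, 1, 2, 0, 1, 2, 0, 3, 3], 138), (93, [2, 1, 2, 0, 3, 3, 1, 2, 0, 1, 2, 0, 2, 1, 2, 0, 2, 1, 3, 0], 541), (52, [1, 3, 0, 2, 2, 2], 3)], 146), ([(60, [3, 1, 3, 0, 3, 1, 2, 0, 3, 1, 3, 0, 3, 3, 1, 3, 0, 1, 3,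 0], 196), (91, [1, 3, 0, 3, 1, 3, 0, 1, 3, 0], 347), (92, [1, 3, 0, 2, 2, 2], 496)], 146), ([(59, [3, 1, 3, 0, 3, 1, 2, 0, 3, 1, 3, 0, 3, 3, 1, 3, 0, 1, 3, 0], 196), (54, [3, 3, 1, 3, 0, 3, 3, 1, 2, 0, 2, 1, 2, 0, 3, 1, 3, 0, 2], 128), (89, [1, 3, 0, 2, 2, 2], 380)], 146), ([(59, [3, 3, 1, 3, 0, 3, 1, 2, 0, 3, 3, 1, 2, 0, 2, 2, 1, 3, 0, 3], 70), (56, [1, 3, 0, 1, 3, 0, 3, 1, 2, 0, 1, 2, 0, 1, 2, 0, 2], 210), (41, [1, 3, 0, 2, 1, 2, 0, 3, 1, 3, 0, 2, 1, 2, 0, 2, 1, 3, 0, 1, 3, 0], 684)], 12), ([(75, [2, 2, 1, 3, 0, 2, 2, 2, 1, 2, 0, 2, 1, 3, 0, 3, 1, 3, 0, 2], 5), (58, [1, 2, 0, 2, 1, 3, 0, 3, 3, 1, 3, 0, 3, 1, 2, 0, 2, 1, 2, 0, 1, 2, 0], 140), (25, [1, 3, 0, 2, 2, 2], 2189)], 184), ([(75,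 [3, 1, 2, 0, 1, 2, 0, 3, 1, 3, 0, 3, 1, 2, 0, 2, 2, 1, 2, 0, 2, 1, 3, 0], 73), (60, [1, 2, 0, 2, 1, 3, 0, 2, 2, 1, 2, 0, 1, 2, 0, 3, 1, 3, 0, 3, 1, 2, 0], 105), (84, [2, 1, 2, 0, 2, 1, 2, 0, 1, 2, 0, 3, 3, 1, 3, 0, 3, 1, 2, 0], 168)], 31), ([(55, [3, 1, 3, 0, 3, 1, 2, 0, 3, 1, 3, 0, 3, 3, 1, 3, 0, 1, 3, 0], 229), (95, [2, 2, 2, 1, 3, 0, 3, 3, 1, 2, 0, 3, 1, 3, 0, 3, 1, 2, 0], 586), (90, [1, 3, 0, 2, 2, 2], 343)], 146), ([(54, [3, 1, 3, 0, 3, 1, 2, 0, 3, 1, 3, 0, 3, 3, 1, 3, 0, 1, 3, 0], 229), (89, [2, 2, 1, 3, 0, 2, 2, 1, 2, 0, 1, 2, 0, 2, 2, 1, 3, 0, 1, 3, 0, 2], 402), (59, [3, 1, 2, 0, 2, 1, 2, 0, 3, 1, 3, 0, 3, 1, 2, 0, 3, 1, 3, 0], 229)], 208), ([(60, [3, 1, 3, 0, 1, 3, 0, 3, 1, 2,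 0, 1, 2, 0, 2, 1, 3, 0, 1, 3, 0, 2, 1, 2, 0, 1, 2, 0], 224), (89, [2, 1, 2, 0, 1, 2, 0, 2, 1, 2, 0, 1, 2, 0, 1, 2, 0, 3, 1, 3, 0, 2, 1, 2, 0], 327), (68, [2, 1, 3, 0, 2, 1, 2, 0, 2], 59)], 136), ([(59, [3, 1, 3, 0, 1, 3, 0, 3, 1, 2, 0, 1, 2, 0, 2, 1, 3, 0, 1, 3, 0, 2, 1, 2, 0, 1, 2, 0], 224), (61, [2, 1, 2, 0, 2, 1, 3, 0, 3, 1, 2, 0, 2, 2], 91), (99, [2, 1, 2, 0, 2], 15309)], 136), ([(57, [1, 2, 0, 1, 2, 0, 2, 1, 2, 0, 1, 2, 0, 2, 2, 1, 3, 0, 2, 1, 2, 0], 159), (89, [1, 3, 0, 2, 2, 1, 2, 0, 2, 1, 3, 0, 2, 1, 2, 0, 2, 2], 425), (64, [3, 1, 2, 0, 2, 2, 1, 3, 0, 3, 1, 2, 0, 3, 3, 1, 3, 0, 2], 82)], 215), ([(70, [3, 3, 1, 3, 0, 3, 1, 2, 0, 3, 3, 1, 2, 0, 2, 2, 1, 3, 0, 3], 46), (63, [2, 1,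 3, 0, 3, 1, 2, 0, 2, 1, 2, 0, 1, 2, 0, 3, 3], 77), (81, [1, 3, 0, 2, 2, 2], 125)], 146), ([(55, [3, 1, 3, 0, 1, 3, 0, 3, 3, 1, 3, 0, 2, 1, 2, 0, 3, 3], 236), (95, [2, 2, 1, 2, 0, 3, 3, 1, 2, 0, 1, 2, 0, 2, 1, 3, 0, 2, 1, 2, 0, 3], 539), (86, [1, 2, 0, 2, 2, 1, 2, 0, 1, 2, 0, 3, 1, 3, 0, 2, 1, 2, 0], 101)], 108), ([(71, [3, 1, 3, 0, 3, 1, 2, 0, 3, 1, 3, 0, 3, 3, 1, 3, 0, 1, 3, 0], 196), (94, [1, 3, 0, 1, 3, 0, 3, 3, 1, 2, 0, 2, 2, 1, 3, 0, 1, 3, 0, 3, 1, 2, 0], 438), (44, [2, 1, 3, 0, 1, 3, 0, 3, 1, 3, 0, 1, 3, 0, 3, 3, 1, 2, 0, 2, 2, 1, 3, 0], 1285)], 63), ([(70, [3, 1, 3, 0, 3, 1, 2, 0, 3, 1, 3, 0, 3, 3, 1, 3, 0, 1, 3, 0], 196), (66, [2, 1, 3, 0, 2, 2, 1, 2, 0, 1, 2, 0, 2, 2, 1, 2, 0,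 3, 3], 8), (97, [1, 3, 0, 2, 2, 2], 218)], 146), ([(67, [2, 1, 2, 0, 1, 2, 0, 2, 1, 2, 0, 1, 2, 0, 1, 2, 0, 3, 1, 3, 0, 2, 1, 2, 0], 175), (44, [1, 2, 0, 2, 2, 1, 3, 0, 2, 1, 2, 0, 2, 1, 2, 0, 1, 2, 0, 3], 1260), (69, [2, 1, 2, 0, 2], 126)], 60), ([(66, [2, 1, 2, 0, 1, 2, 0, 2, 1, 2, 0, 1, 2, 0, 1, 2, 0, 3, 1, 3, 0, 2, 1, 2, 0], 175), (93, [1, 2, 0, 2, 2, 1, 3, 0, 2, 1, 2, 0, 2, 1, 2, 0, 1, 2, 0, 3], 490), (62, [1, 2, 0, 1, 2, 0, 2], 36)], 134), ([(67, [3, 1, 3, 0, 3, 1, 2, 0, 3, 1, 3, 0, 3, 3, 1, 3, 0, 1, 3, 0], 229), (45, [2, 2, 1, 2, 0, 3, 3, 1, 3, 0, 2, 1, 2, 0, 3, 1, 3, 0, 1, 3, 0, 3], 140), (93, [2, 1, 3, 0, 1, 3, 0, 3, 1, 3, 0, 1, 3, 0, 3, 3, 1, 2, 0, 2, 2, 1, 3, 0], 435)], 182),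 ([(66, [3, 1, 3, 0, 3, 1, 2, 0, 3, 1, 3, 0, 3, 3, 1, 3, 0, 1, 3, 0], 229), (97, [2, 1, 2, 0, 1, 2, 0, 3, 1, 3, 0, 1, 3, 0, 2, 1, 2, 0, 1, 2, 0], 115), (70, [1, 2, 0, 2, 2, 1, 3, 0, 1, 3, 0, 3, 3, 1, 2, 0, 2, 2, 1, 3, 0, 1, 3, 0], 23)], 91), ([(66, [2, 2, 1, 2, 0, 2, 1, 3, 0, 2, 2, 1, 3, 0, 3, 3, 1, 3, 0, 3], 224), (92, [3, 1, 2, 0, 2, 1, 2, 0, 3, 3], 272), (72, [2, 1, 2, 0, 2, 1, 3, 0, 2, 1, 2, 0, 3, 1, 3, 0, 2, 1, 2, 0, 1, 2, 0, 2], 76)], 40), ([(67, [2, 2, 1, 2, 0, 2, 1, 3, 0, 2, 2, 1, 3, 0, 3, 3, 1, 3, 0, 3], 224), (41, [2, 2, 1, 3, 0, 2, 1, 2, 0, 2, 1, 3, 0, 3, 1, 2, 0, 1, 2, 0], 433), (73, [1, 2, 0, 2, 1, 3, 0, 3, 1, 2, 0, 2, 1, 2, 0, 1, 2, 0, 2, 2, 1, 2, 0, 1, 2, 0, 1, 2, 0], 178)],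 34), ([(59, [2, 2, 1, 2, 0, 2, 1, 3, 0, 2, 2, 1, 3, 0, 3, 3, 1, 3, 0, 3], 101), (73, [3, 1, 2, 0, 3, 1, 3, 0, 2, 2, 1, 3, 0, 2, 1, 2, 0, 2, 1, 3, 0], 27), (74, [1, 3, 0, 2, 1, 2, 0, 1, 2, 0, 2, 1, 2, 0, 3, 1, 3, 0, 2, 1, 2, 0, 1, 2, 0], 122)], 68), ([(60, [2, 2, 1, 2, 0, 2, 1, 3, 0, 2, 2, 1, 3, 0, 3, 3, 1, 3, 0, 3], 101), (89, [3, 1, 2, 0, 1, 2, 0, 1, 2, 0, 3, 3, 1, 3, 0, 3, 1, 2, 0, 2, 1, 3, 0, 3], 322), (75, [1, 2, 0, 1, 2, 0, 1, 2, 0, 3, 1, 3, 0, 1, 3, 0, 3, 1, 2, 0, 2, 1, 2, 0, 3, 1, 3, 0], 113)], 68), ([(82, [2, 2, 1, 3, 0, 3, 1, 2, 0, 2, 1, 3, 0], 210), (31, [2, 2, 2, 1, 3, 0, 3, 3], 974), (11, [1, 3, 0, 2, 2, 2], 965)], 49), ([(83, [2, 2, 1, 3, 0, 3, 1, 2, 0, 2, 1, 3, 0], 352), (85,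 [1, 3, 0, 2, 1, 2, 0, 3, 1, 3, 0, 1, 3, 0, 3, 1, 2, 0, 1, 2, 0, 1, 2, 0], 111), (78, [3, 1, 2, 0, 3, 1, 3, 0, 3, 3], 15)], 214), ([(84, [2, 1, 3, 0, 2, 2, 1, 2, 0, 1, 2, 0, 1, 2, 0, 3], 109), (57, [1, 3, 0, 3, 1, 3, 0, 2, 1, 2, 0, 3, 1, 3, 0, 3, 3, 1, 2, 0], 226), (79, [1, 2, 0, 2, 2, 1, 2, 0, 1, 2, 0, 2], 498)], 12), ([(85, [2, 1, 3, 0, 2, 2, 1, 2, 0, 1, 2, 0, 1, 2, 0, 3], 109), (83, [2, 2, 1, 3, 0, 2, 1, 2, 0, 2, 2, 1, 3, 0], 198), (76, [1, 3, 0, 2, 1, 2, 0, 3], 489)], 55), ([(80, [1, 2, 0, 2, 2, 2, 1, 2, 0, 2, 2, 1, 3, 0], 312), (25, [1, 2, 0, 1, 2, 0, 2, 1, 2, 0, 1, 2, 0, 2, 2, 1, 3, 0, 2, 1, 2, 0], 1268), (63, [1, 3, 0, 2, 2, 2], 186)], 462), ([(80, [2, 1, 3, 0, 3, 1, 2, 0, 2, 1, 2,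 0, 1, 2, 0, 3, 3], 435), (19, [3, 1, 2, 0, 2, 2, 2, 1, 3, 0, 3, 3], 4308), (24, [1, 3, 0, 2, 2, 2], 638)], 300), ([(87, [1, 2, 0, 2, 2, 2, 1, 2, 0, 2, 2, 1, 3, 0], 265), (42, [2, 1, 2, 0, 1, 2, 0, 1, 2, 0, 3, 1, 3, 0], 239), (83, [1, 2, 0, 1, 2, 0, 1, 2, 0, 2, 2, 1, 3, 0, 2, 1, 2, 0, 2], 333)], 411), ([(87, [2, 1, 3, 0, 3, 1, 2, 0, 2, 1, 2, 0, 1, 2, 0, 3, 3], 61), (43, [2, 1, 3, 0, 1, 3, 0, 2, 1, 2, 0, 1, 2, 0, 2, 1, 3, 0, 3, 1, 3, 0], 103), (40, [1, 3, 0, 2, 2, 2], 411)], 49), ([(91, [1, 2, 0, 1, 2, 0, 2, 2, 1, 2, 0, 3, 1, 3, 0, 2, 1, 2, 0, 1, 2, 0], 43), (95, [1, 3, 0, 2, 1, 2, 0, 3, 1, 3, 0, 3, 1, 2, 0, 2, 2], 83), (85, [2, 1, 3, 0, 3, 1, 3, 0, 1, 3, 0, 3, 1, 2, 0, 2, 2, 1, 3, 0], 42)],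 79), ([(90, [1, 2, 0, 1, 2, 0, 2, 2, 1, 2, 0, 3, 1, 3, 0, 2, 1, 2, 0, 1, 2, 0], 43), (75, [2, 1, 3, 0, 2, 2, 2, 1, 3, 0, 2, 1, 2, 0, 2, 2, 1, 2, 0, 3, 3], 68), (57, [2, 1, 2, 0, 2, 1, 2, 0, 3, 3, 1, 3, 0, 3, 3, 1, 3, 0, 2], 234)], 427), ([(82, [2, 1, 3, 0, 3, 1, 2, 0, 2, 1, 2, 0, 1, 2, 0, 3, 3], 467), (43, [1, 3, 0, 3, 1, 3, 0, 2, 1, 2, 0, 1, 2, 0, 3, 3, 1, 3, 0, 2], 1350), (42, [3, 3, 1, 2, 0, 1, 2, 0, 2, 2], 995)], 432), ([(82, [1, 2, 0, 2, 2, 2, 1, 2, 0, 2, 2, 1, 3, 0], 251), (41, [3, 1, 2, 0, 2, 1, 2, 0, 1, 2, 0, 1, 2, 0, 3, 1, 3, 0], 169), (65, [3, 1, 2, 0, 3, 1, 3, 0, 1, 3, 0, 2, 1, 2, 0, 3, 1, 3, 0, 3], 0)], 7), ([(89, [3, 3, 1, 3, 0, 3, 3, 1, 2, 0, 2, 1, 2, 0, 3, 1, 3, 0, 2], 347),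 (59, [1, 3, 0, 3, 1, 2, 0, 1, 2, 0, 1, 2, 0, 2, 1, 3, 0, 3, 1, 2, 0, 3], 196), (54, [1, 3, 0, 2, 2, 2], 128)], 26), ([(88, [3, 3, 1, 3, 0, 3, 3, 1, 2, 0, 2, 1, 2, 0, 3, 1, 3, 0, 2], 347), (88, [3, 1, 3, 0, 3, 1, 2, 0, 3, 3, 1, 3, 0, 1, 3, 0, 3, 3], 337), (88, [2, 2, 1, 3, 0, 2, 2, 1, 2, 0, 2, 2, 1, 3, 0, 3, 1, 3, 0], 343)], 194), ([(90, [1, 2, 0, 1, 2, 0, 2, 1, 2, 0, 1, 2, 0, 2, 2, 1, 2, 0, 2, 1, 3, 0, 1, 3, 0], 268), (55, [2, 2, 2, 1, 2, 0, 2, 1, 2, 0, 1, 2, 0], 229), (95, [2, 2, 1, 3, 0, 3, 1, 3, 0, 2, 2, 1, 2, 0, 2, 2, 1, 3, 0], 475)], 49), ([(91, [1, 2, 0, 1, 2, 0, 2, 1, 2, 0, 1, 2, 0, 2, 2, 1, 2, 0, 2, 1, 3, 0, 1, 3, 0], 268), (92, [3, 1, 3, 0, 3, 1, 2, 0, 3, 1, 3, 0, 3, 3, 1, 3, 0,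 1, 3, 0], 51), (60, [1, 3, 0, 2, 2, 2], 187)], 49), ([(95, [3, 1, 2, 0, 1, 2, 0, 1, 2, 0], 610), (90, [2, 1, 2, 0, 2, 1, 2, 0, 1, 2, 0, 2, 1, 3, 0, 2], 347), (55, [2, 2, 1, 3, 0, 2, 2, 1, 2, 0, 2, 2, 1, 3, 0, 3, 1, 3, 0], 231)], 379), ([(92, [1, 2, 0, 2, 1, 2, 0, 2, 2, 2, 1, 2, 0, 2, 1, 3, 0, 2, 2, 2, 1, 2, 0], 306), (67, [2, 1, 3, 0, 2, 2, 1, 2, 0, 2, 1, 3, 0, 1, 3, 0, 3, 3, 1, 3, 0], 61), (45, [1, 3, 0, 2, 2, 2], 1391)], 291), ([(92, [3, 1, 2, 0, 2, 2, 1, 3, 0, 3, 3, 1, 2, 0, 1, 2, 0, 1, 2, 0, 3], 183), (59, [1, 3, 0, 3, 1, 3, 0, 2, 2, 1, 2, 0, 2, 2, 1, 2, 0], 188), (71, [1, 2, 0, 3, 1, 3, 0, 2, 1, 2, 0, 2], 180)], 411), ([(94, [1, 2, 0, 2, 2, 1, 2, 0, 2, 1, 2, 0, 1, 2, 0, 3, 1, 3, 0],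 242), (42, [2, 1, 2, 0, 2, 1, 2, 0, 3, 1, 3, 0, 3, 1, 2, 0, 2], 948), (91, [3, 1, 3, 0, 3, 3], 319)], 297), ([(97, [2, 1, 3, 0, 2, 2, 1, 2, 0, 1, 2, 0, 2, 2, 1, 2, 0, 3, 3], 521), (70, [1, 2, 0, 1, 2, 0, 3, 3, 1, 3, 0, 2], 187), (66, [1, 3, 0, 2, 2, 2], 21)], 522), ([(96, [2, 1, 3, 0, 2, 2, 1, 2, 0, 1, 2, 0, 2, 2, 1, 2, 0, 3, 3], 521), (96, [2, 2, 1, 3, 0, 3, 3, 1, 2, 0, 3, 1, 3, 0, 1, 3, 0, 2, 1, 2, 0], 111), (96, [1, 2, 0, 2, 2, 1, 3, 0, 1, 3, 0, 3, 3, 1, 2, 0, 2, 2, 1, 3, 0, 1, 3, 0], 108)], 569), ([(96, [3, 1, 2, 0, 2, 2, 1, 2, 0, 1, 2, 0, 3, 1, 3, 0, 1, 3, 0, 3, 1, 2, 0, 1, 2, 0], 100), (98, [1, 2, 0, 1, 2, 0, 2, 2, 1, 2, 0, 3, 3, 1, 2, 0, 3, 1, 3, 0], 335), (98, [2, 1, 2, 0, 2, 1,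 3, 0, 2, 2, 1, 3, 0, 1, 3, 0, 3], 217)], 20), ([(99, [2, 1, 2, 0, 2, 1, 3, 0, 3, 1, 2, 0, 2, 2], 29668), (59, [3, 1, 2, 0, 1, 2, 0, 1, 2, 0, 3, 3, 1, 3, 0, 2, 2, 1, 3, 0, 2, 1, 2, 0], 14), (61, [2, 1, 2, 0, 2], 175)], 3148), ([(99, [2, 1, 2, 0, 2, 1, 2, 0, 3, 1, 3, 0, 1, 3, 0, 2], 19899), (61, [2, 1, 2, 0, 2, 1, 2, 0, 3, 1, 3, 0, 1, 3, 0, 2], 191), (100, [1, 3, 0, 2, 2, 2], 16858)], 26170)],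
[([(0, [], 0), (5, [], 0), (2, [], 24400)], 0), ([(5, [], 5532), (2, [], 24400), (0, [], 0)], 42322), ([(6, [], 5532), (14, [], 2300), (3, [], 24400)], 42322), ([(7, [], 17140), (26, [], 9832), (4, [], 24400)], 7406), ([(8, [], 17140), (12, [], 2300), (1, [], 24400)], 7406), ([(9, [3, 1, 2, 0], 2776), (19, [1, 3, 0, 2], 2758), (12, [1, 2, 0], 2983)], 14833), ([(9, [2, 2, 1, 2, 0, 2, 2, 1, 2, 0, 3, 1, 3, 0], 110492), (17, [3, 1, 2, 0], 4587), (5, [1, 2, 0], 4220)], 14833), ([(10, [3, 1, 2, 0], 25812), (34, [2, 2, 1, 3, 0, 2, 1, 2, 0, 1, 2, 0, 2, 2, 1, 3, 0, 1, 3, 0], 850), (14, [1, 2, 0], 3655)], 9884), ([(10, [2, 2, 1, 2, 0, 2, 2, 1, 2, 0, 3, 1, 3, 0], 28690), (36, [1, 3, 0, 2], 568), (26,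 [1, 2, 0], 31284)], 9884), ([(6, [1, 3, 0, 1, 3, 0, 3, 1, 2, 0, 2, 1, 3, 0], 68076), (19, [2, 2, 1, 3, 0, 3, 1, 2, 0, 2, 2, 2, 1, 2, 0], 4955), (17, [1, 2, 0], 1936)], 24362), ([(8, [1, 3, 0, 1, 3, 0, 3, 1, 2, 0, 2, 1, 3, 0], 46931), (21, [2, 2, 1, 3, 0, 3, 1, 2, 0, 2, 2, 2, 1, 2, 0], 4639), (31, [1, 2, 0], 843)], 10862), ([(9, [2, 1, 2, 0, 2, 1, 3, 0, 1, 3, 0], 2296), (24, [3, 1, 3, 0, 2, 2, 2, 1, 2, 0, 2], 3087), (77, [1, 2, 0, 2, 2, 2], 356)], 24400), ([(18, [2, 2, 1, 3, 0, 2, 1, 2, 0, 1, 2, 0, 2, 2, 1, 3, 0, 1, 3, 0], 3281), (50, [1, 3, 0, 2], 90), (27, [1, 2, 0], 31284)], 2770), ([(19, [2, 2, 1, 3, 0, 2, 1, 2, 0, 1, 2, 0, 2, 2, 1, 3, 0, 1, 3, 0], 3281), (17, [2, 2, 1, 2, 0, 2, 2, 1,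 2, 0, 3, 1, 3, 0], 51), (6, [1, 2, 0], 44960)], 2770), ([(20, [2, 2, 1, 3, 0, 2, 1, 2, 0, 1, 2, 0, 2, 2, 1, 3, 0, 1, 3, 0], 3619), (49, [2, 2, 1, 3, 0, 2, 1, 2, 0, 1, 2, 0, 2, 2, 1, 3, 0, 1, 3, 0], 14), (15, [1, 2, 0], 3655)], 2730), ([(21, [2, 2, 1, 3, 0, 2, 1, 2, 0, 1, 2, 0, 2, 2, 1, 3, 0, 1, 3, 0], 3619), (31, [2, 2, 1, 2, 0, 2, 2, 1, 2, 0, 3, 1, 3, 0], 844), (8, [1, 2, 0], 97291)], 2730), ([(17, [2, 2, 2, 1, 2, 0, 3, 3, 1, 2, 0, 2, 1, 3, 0], 4292), (5, [1, 3, 0, 1, 3, 0, 3, 1, 2, 0, 2, 1, 3, 0], 72294), (9, [1, 2, 0], 65180)], 2774), ([(18, [1, 2, 0, 1, 2, 0, 1, 2, 0, 3, 3, 1, 3, 0, 2, 2, 1, 3, 0], 2359), (46, [1, 2, 0, 1, 2, 0, 1, 2, 0, 3, 3, 1, 3, 0, 2, 2, 1, 3, 0], 14), (33, [1,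 2, 0], 380)], 3604), ([(20, [1, 2, 0, 1, 2, 0, 1, 2, 0, 2, 1, 2, 0, 3, 1, 3, 0, 2, 2, 2], 183), (58, [3, 3, 1, 3, 0, 2, 2, 1, 3, 0, 2, 1, 2, 0, 2, 2, 1, 3, 0], 89), (19, [2, 1, 2, 0, 2, 2, 2, 1, 2, 0, 2, 2, 1, 2, 0], 4727)], 3240), ([(21, [1, 2, 0, 1, 2, 0, 1, 2, 0, 2, 1, 2, 0, 3, 1, 3, 0, 2, 2, 2], 183), (41, [2, 2, 1, 2, 0, 1, 2, 0, 3, 1, 3, 0, 1, 3, 0, 3, 3, 1, 2, 0], 301), (47, [1, 2, 0], 146)], 2974), ([(18, [1, 2, 0, 1, 2, 0, 1, 2, 0, 2, 1, 2, 0, 3, 1, 3, 0, 2, 2, 2], 841), (56, [1, 2, 0, 3, 1, 3, 0, 3, 3, 1, 3, 0, 2, 1, 2, 0, 2, 1, 3, 0], 207), (34, [1, 2, 0], 700)], 3759), ([(19, [1, 2, 0, 1, 2, 0, 1, 2, 0, 2, 1, 2, 0, 3, 1, 3, 0, 2, 2, 2], 841), (25, [1, 3, 0, 3, 3, 1, 2, 0, 2,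 1, 3, 0, 3, 3], 2523), (49, [1, 2, 0], 129)], 3759), ([(25, [2, 2, 2, 1, 2, 0, 3, 3, 1, 2, 0, 2, 1, 3, 0], 1520), (58, [1, 2, 0, 1, 2, 0, 3, 1, 3, 0, 1, 3, 0, 3, 1, 2, 0, 2, 1, 2, 0, 1, 2, 0], 57), (23, [1, 2, 0, 1, 2, 0, 3, 3, 1, 3, 0, 2, 2, 1, 3, 0], 1331)], 709), ([(25, [3, 3, 1, 2, 0, 1, 2, 0, 1, 2, 0, 2, 1, 3, 0, 3], 2050), (56, [2, 1, 2, 0, 2, 2, 1, 3, 0, 1, 3, 0, 3, 1, 3, 0, 1, 3, 0, 2], 120), (30, [2, 2, 1, 2, 0, 2, 2, 1, 3, 0, 1, 3, 0], 1378)], 4983), ([(24, [2, 2, 1, 2, 0, 3, 3, 1, 3, 0, 2, 2, 1, 3, 0, 2], 795), (88, [1, 3, 0, 2, 2, 1, 2, 0, 2, 1, 3, 0, 2, 1, 2, 0, 3, 1, 3, 0, 3], 350), (80, [2, 2, 1, 2, 0, 2, 1, 3, 0, 3, 1, 2, 0, 3, 3, 1, 2, 0, 1, 2, 0], 187)], 2230), ([(21,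 [1, 3, 0, 3, 1, 3, 0, 2, 2, 1, 2, 0, 2, 2, 1, 2, 0, 3], 3956), (44, [1, 3, 0, 2, 2, 1, 3, 0, 3, 3, 1, 3, 0, 3, 3, 1, 2, 0], 373), (58, [1, 2, 0, 2, 2, 2], 79)], 4816), ([(28, [1, 3, 0, 2], 20671), (31, [3, 1, 2, 0], 752), (7, [1, 2, 0], 93538)], 41661), ([(29, [1, 3, 0, 2], 32253), (47, [2, 2, 1, 3, 0, 2, 1, 2, 0, 1, 2, 0, 2, 2, 1, 3, 0, 1, 3, 0], 102), (13, [1, 2, 0], 3811)], 41580), ([(28, [2, 2, 1, 2, 0, 3, 1, 3, 0, 3, 3, 1, 2, 0, 2, 2], 65910), (43, [2, 1, 3, 0, 2, 2, 1, 2, 0, 3, 1, 3, 0, 1, 3, 0, 3, 3], 1145), (36, [1, 2, 0], 658)], 42669), ([(29, [2, 2, 1, 2, 0, 3, 1, 3, 0, 3, 3, 1, 2, 0, 2, 2], 51796), (64, [2, 1, 2, 0, 2, 2, 1, 3, 0, 3, 3, 1, 2, 0, 1, 2, 0, 3, 1, 3, 0, 1, 3, 0],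 124), (50, [1, 2, 0], 71)], 45919), ([(36, [2, 2, 1, 3, 0, 3, 1, 2, 0, 2, 2, 2, 1, 2, 0], 773), (26, [1, 3, 0, 1, 3, 0, 3, 1, 2, 0, 2, 1, 3, 0], 46300), (10, [1, 2, 0], 94616)], 773), ([(34, [1, 2, 0, 1, 2, 0, 1, 2, 0, 3, 3, 1, 3, 0, 2, 2, 1, 3, 0], 482), (23, [2, 2, 1, 3, 0, 3, 1, 2, 0, 2, 1, 3, 0], 2752), (22, [1, 3, 0, 2, 1, 2, 0], 4976)], 743), ([(39, [2, 2, 1, 3, 0, 3, 1, 2, 0, 2, 2, 2, 1, 2, 0], 770), (33, [2, 2, 2, 1, 2, 0, 3, 3, 1, 2, 0, 2, 1, 3, 0], 618), (16, [1, 2, 0], 4643)], 1384), ([(37, [1, 2, 0, 1, 2, 0, 1, 2, 0, 3, 3, 1, 3, 0, 2, 2, 1, 3, 0], 389), (51, [2, 2, 1, 3, 0, 3, 1, 2, 0, 2, 2, 2, 1, 2, 0], 132), (32, [1, 2, 0], 850)], 974), ([(40, [1, 2, 0, 3, 1, 3, 0, 3, 3, 1,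 3, 0, 2, 1, 2, 0, 2, 1, 3, 0], 342), (80, [1, 2, 0, 2, 1, 2, 0, 3, 3, 1, 3, 0, 3, 1, 2, 0, 2, 2, 2], 86), (21, [2, 1, 2, 0, 2, 2, 2, 1, 2, 0, 2, 2, 1, 2, 0], 4966)], 456), ([(43, [1, 2, 0, 3, 1, 3, 0, 3, 3, 1, 3, 0, 2, 1, 2, 0, 2, 1, 3, 0], 1359), (36, [2, 2, 1, 2, 0, 3, 1, 3, 0, 3, 3, 1, 2, 0, 2, 2], 722), (28, [1, 2, 0], 65022)], 555), ([(42, [1, 2, 0, 2, 2, 1, 3, 0, 1, 3, 0, 3, 1, 3, 0, 2, 1, 2, 0, 2, 2], 1426), (84, [2, 2, 1, 3, 0, 1, 3, 0, 2, 2, 1, 2, 0, 2], 207), (53, [1, 2, 0], 132)], 807), ([(43, [1, 2, 0, 2, 2, 1, 3, 0, 1, 3, 0, 3, 1, 3, 0, 2, 1, 2, 0, 2, 2], 198), (41, [2, 1, 2, 0, 1, 2, 0, 2, 1, 3, 0, 1, 3, 0, 3, 1, 2, 0, 2, 1, 3, 0, 1, 3, 0], 1016), (46, [1, 2, 0], 60)], 793),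 ([(41, [1, 2, 0, 3, 1, 3, 0, 3, 3, 1, 3, 0, 2, 1, 2, 0, 2, 1, 3, 0], 1188), (56, [1, 2, 0, 2, 2, 1, 3, 0, 1, 3, 0, 3, 1, 3, 0, 2, 1, 2, 0, 2, 2], 94), (39, [1, 2, 0], 823)], 606), ([(40, [1, 2, 0, 2, 2, 1, 3, 0, 1, 3, 0, 3, 1, 3, 0, 2, 1, 2, 0, 2, 2], 1138), (81, [1, 2, 0, 2, 1, 2, 0, 3, 3, 1, 3, 0, 3, 1, 2, 0, 2, 2, 2], 22), (51, [1, 2, 0], 76)], 789), ([(44, [1, 2, 0, 2, 1, 2, 0, 1, 2, 0], 729), (72, [3, 3, 1, 3, 0, 2, 1, 2, 0, 2, 1, 3, 0, 2, 1, 2, 0, 3], 45), (56, [1, 2, 0, 2, 2, 2], 97)], 1341), ([(44, [2, 1, 3, 0, 1, 3, 0, 3, 1, 2, 0, 2, 2, 1, 3, 0, 3, 1, 2, 0, 3], 605), (54, [1, 3, 0, 1, 3, 0, 2, 2, 2, 1, 2, 0, 1, 2, 0], 143), (82, [1, 2, 0, 2, 2, 2], 195)], 786), ([(45, [1, 2, 0,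 2, 1, 2, 0, 1, 2, 0], 754), (94, [2, 2, 2, 1, 3, 0, 2, 1, 2, 0, 2, 2, 1, 2, 0, 2], 444), (43, [2, 1, 3, 0, 1, 3, 0, 2, 1, 2, 0, 1, 2, 0, 2, 1, 3, 0, 3, 3, 1, 2, 0, 2], 961)], 82), ([(45, [2, 1, 3, 0, 1, 3, 0, 3, 1, 2, 0, 2, 2, 1, 3, 0, 3, 1, 2, 0, 3], 398), (95, [2, 1, 3, 0, 1, 3, 0, 3, 1, 2, 0, 2, 2, 1, 2, 0, 2, 1, 2, 0, 1, 2, 0], 381), (87, [1, 2, 0, 1, 2, 0, 1, 2, 0, 3, 3, 1, 2, 0, 1, 2, 0, 2, 1, 2, 0, 3, 1, 3, 0], 178)], 975), ([(41, [1, 3, 0, 1, 3, 0, 2, 1, 2, 0, 1, 2, 0, 3, 1, 3, 0, 1, 3, 0, 3, 1, 3, 0], 742), (72, [3, 1, 2, 0, 2, 2, 2, 1, 2, 0, 2, 1, 3, 0, 3, 1, 2, 0, 1, 2, 0, 1, 2, 0], 146), (67, [2, 1, 3, 0, 3, 1, 2, 0, 3, 3], 80)], 537), ([(43, [1, 3, 0, 1, 3, 0, 2, 1, 2, 0, 1,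 2, 0, 3, 1, 3, 0, 1, 3, 0, 3, 1, 3, 0], 1068), (45, [1, 3, 0, 1, 3, 0, 3, 3, 1, 2, 0, 1, 2, 0, 1, 2, 0], 170), (94, [1, 2, 0, 2, 2, 2], 570)], 786), ([(56, [2, 1, 3, 0, 2, 2, 1, 2, 0, 3, 1, 3, 0, 1, 3, 0, 3, 3], 189), (34, [1, 2, 0, 1, 2, 0, 1, 2, 0, 2, 1, 2, 0, 3, 1, 3, 0, 2, 2, 2], 470), (18, [1, 2, 0], 1056)], 133), ([(56, [1, 2, 0, 2, 1, 2, 0, 3, 3, 1, 3, 0, 3, 1, 2, 0, 2, 2, 2], 38), (43, [3, 1, 2, 0, 3, 3, 1, 2, 0, 1, 2, 0], 443), (37, [2, 1, 2, 0, 2, 2, 2, 1, 2, 0, 2, 2, 1, 2, 0], 375)], 133), ([(58, [1, 2, 0, 2, 2, 2, 1, 2, 0, 1, 2, 0, 1, 2, 0, 3, 1, 3, 0], 73), (19, [2, 2, 1, 2, 0, 3, 1, 3, 0, 3, 3, 1, 2, 0, 2, 2], 3649), (20, [1, 2, 0], 1118)], 168), ([(57, [1, 3, 0, 3, 3, 1,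 2, 0, 2, 1, 3, 0, 3, 3], 209), (86, [2, 1, 3, 0, 2, 2, 1, 2, 0, 3, 1, 3, 0, 1, 3, 0, 3, 3], 36), (48, [2, 1, 2, 0, 2, 2, 2, 1, 2, 0, 2, 2, 1, 2, 0], 111)], 134), ([(63, [2, 1, 2, 0, 1, 2, 0, 2, 1, 3, 0, 1, 3, 0, 3, 1, 2, 0, 2, 1, 3, 0, 1, 3, 0], 56), (82, [1, 2, 0, 3, 1, 3, 0, 3, 3, 1, 3, 0, 2, 1, 2, 0, 2, 1, 3, 0], 205), (38, [1, 2, 0], 1125)], 133), ([(64, [1, 2, 0, 2, 1, 2, 0, 3, 3, 1, 3, 0, 3, 1, 2, 0, 2, 2, 2], 89), (50, [2, 2, 1, 2, 0, 3, 1, 3, 0, 3, 3, 1, 2, 0, 2, 2], 178), (29, [1, 2, 0], 67137)], 133), ([(57, [2, 1, 3, 0, 1, 3, 0, 2, 2, 1, 2, 0, 2, 2, 2], 142), (87, [2, 1, 3, 0, 2, 2, 1, 2, 0, 3, 1, 3, 0, 1, 3, 0, 3, 3], 246), (35, [1, 2, 0], 1193)], 50), ([(58, [1, 2, 0, 1, 2,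 0, 3, 3, 1, 3, 0, 2, 2, 1, 2, 0, 1, 2, 0, 3, 1, 3, 0], 59), (25, [2, 1, 3, 0, 1, 3, 0, 2, 2, 1, 2, 0, 2, 2, 2], 129), (52, [1, 2, 0], 185)], 168), ([(67, [2, 2, 1, 2, 0, 2, 2, 1, 3, 0, 3, 3, 1, 3, 0, 2, 2, 2, 1, 2, 0], 113), (45, [1, 2, 0, 3, 1, 3, 0, 1, 3, 0, 3, 1, 2, 0, 2, 1, 3, 0, 2, 2, 2], 70), (92, [1, 2, 0, 2, 2, 2], 387)], 146), ([(66, [2, 2, 1, 2, 0, 2, 2, 1, 3, 0, 3, 3, 1, 3, 0, 2, 2, 2, 1, 2, 0], 113), (95, [1, 2, 0, 2, 1, 3, 0, 2, 2, 2, 1, 3, 0, 2, 1, 2, 0], 343), (89, [1, 2, 0, 2, 2, 2], 383)], 146), ([(72, [2, 1, 2, 0, 3, 3, 1, 2, 0, 2, 2, 1, 2, 0, 2, 1, 2, 0, 3, 3, 1, 3, 0, 2], 237), (67, [2, 2, 1, 2, 0, 1, 2, 0, 2, 1, 3, 0, 3, 1, 3, 0, 1, 3, 0, 3, 1, 2, 0, 2, 1, 2, 0], 64),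 (41, [2, 1, 3, 0, 1, 3, 0, 2, 1, 2, 0, 1, 2, 0, 2, 1, 3, 0, 3, 3, 1, 2, 0, 2], 790)], 3), ([(59, [2, 1, 2, 0, 2, 1, 3, 0, 2, 2, 2, 1, 3, 0, 2, 1, 2, 0, 3, 1, 3, 0, 2], 99), (49, [1, 3, 0, 3, 1, 3, 0, 2, 2, 1, 2, 0, 2, 2, 1, 2, 0, 3], 209), (25, [1, 2, 0, 2, 2, 2], 3317)], 184), ([(66, [1, 2, 0, 2, 1, 3, 0, 3, 3, 1, 2, 0, 1, 2, 0, 3, 3, 1, 3, 0, 1, 3, 0], 114), (95, [3, 1, 3, 0, 3, 1, 2, 0, 2, 2, 1, 2, 0, 2, 2, 1, 2, 0, 1, 2, 0], 401), (84, [1, 2, 0, 3, 1, 3, 0, 3, 1, 2, 0, 3, 3, 1, 2, 0, 1, 2, 0, 3], 130)], 16), ([(59, [2, 1, 3, 0, 3, 1, 2, 0, 2, 1, 2, 0, 3, 3, 1, 3, 0, 2, 1, 2, 0, 3, 1, 3, 0, 1, 3, 0], 1), (60, [2, 1, 3, 0, 2, 1, 2, 0, 2, 2, 1, 2, 0, 3, 1, 3, 0, 2, 2], 69), (90, [1, 2,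 0, 2, 2, 2], 318)], 146), ([(60, [2, 1, 3, 0, 3, 1, 2, 0, 2, 1, 2, 0, 3, 3, 1, 3, 0, 2, 1, 2, 0, 3, 1, 3, 0, 1, 3, 0], 1), (90, [1, 3, 0, 1, 3, 0, 3, 3, 1, 2, 0, 3, 3, 1, 2, 0, 2, 1, 2, 0, 3, 1, 3, 0], 431), (59, [1, 2, 0, 1, 2, 0, 1, 2, 0, 3, 3, 1, 2, 0, 3, 3, 1, 3, 0], 50)], 204), ([(74, [2, 2, 1, 2, 0, 2, 1, 3, 0, 3, 3, 1, 3, 0, 1, 3, 0, 3, 3, 1, 2, 0], 147), (73, [3, 3, 1, 3, 0, 2, 1, 2, 0, 2, 1, 3, 0, 3, 1, 3, 0, 1, 3, 0, 2, 1, 2, 0], 10), (68, [3, 3], 182)], 146), ([(75, [2, 2, 1, 2, 0, 2, 1, 3, 0, 3, 3, 1, 3, 0, 1, 3, 0, 3, 3, 1, 2, 0], 147), (61, [1, 3, 0, 3, 1, 2, 0, 2, 1, 2, 0, 1, 2, 0], 177), (99, [1, 2, 0, 2, 2, 2], 17217)], 146), ([(72, [1, 2, 0, 2, 2, 1, 2, 0, 3, 1, 3, 0,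 1, 3, 0, 2, 2, 1, 2, 0, 3, 3], 138), (72, [2, 1, 3, 0, 3, 1, 3, 0, 2, 1, 2, 0, 3, 1, 3, 0, 3, 1, 2, 0, 2], 169), (64, [1, 2, 0, 1, 2, 0, 2, 1, 3, 0, 3, 1, 2, 0, 2, 1, 2, 0, 3, 1, 3, 0, 1, 3, 0], 143)], 180), ([(72, [1, 2, 0, 1, 2, 0, 2, 1, 3, 0, 3, 1, 2, 0, 1, 2, 0, 2, 1, 2, 0, 2, 1, 3, 0, 3], 4), (54, [1, 2, 0, 1, 2, 0, 2, 2, 1, 3, 0, 1, 3, 0, 2, 2, 1, 2, 0, 1, 2, 0, 3], 220), (81, [1, 2, 0, 2, 2, 2], 157)], 146), ([(70, [3, 1, 2, 0, 2, 1, 3, 0, 1, 3, 0, 3, 1, 3, 0, 2, 1, 2, 0, 2, 2, 1, 3, 0], 161), (54, [1, 2, 0, 1, 2, 0, 1, 2, 0, 2, 1, 2, 0, 3, 1, 3, 0, 2, 1, 2, 0, 2], 146), (86, [2, 1, 2, 0, 1, 2, 0, 2, 1, 3, 0, 2, 2, 1, 3, 0, 3, 3, 1, 3, 0], 75)], 88), ([(55, [2, 1, 3, 0, 3, 1, 2,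 0, 2, 1, 2, 0, 3, 3, 1, 3, 0, 2, 1, 2, 0, 3, 1, 3, 0, 1, 3, 0], 120), (94, [1, 2, 0, 3, 1, 3, 0, 2, 2, 1, 2, 0, 3, 1, 3, 0, 3, 1, 2, 0, 3], 198), (44, [1, 2, 0, 2, 1, 2, 0, 1, 2, 0, 3, 1, 3, 0, 3, 1, 2, 0, 2, 1, 3, 0, 3], 343)], 177), ([(54, [2, 1, 3, 0, 3, 1, 2, 0, 2, 1, 2, 0, 3, 3, 1, 3, 0, 2, 1, 2, 0, 3, 1, 3, 0, 1, 3, 0], 120), (91, [3, 1, 2, 0, 1, 2, 0, 2, 1, 3, 0, 2, 2, 2, 1, 2, 0, 3, 3, 1, 2, 0, 2], 384), (97, [1, 2, 0, 2, 2, 2], 457)], 146), ([(73, [1, 3, 0, 3, 1, 3, 0, 2, 1, 2, 0, 1, 2, 0, 3, 1, 3, 0, 3, 3, 1, 2, 0], 126), (72, [1, 2, 0, 2, 1, 3, 0, 3, 1, 2, 0, 1, 2, 0, 2, 1, 2, 0, 3], 169), (69, [1, 2, 0, 2, 2, 2], 228)], 110), ([(72, [1, 3, 0, 3, 1, 3, 0, 2, 1, 2, 0, 1, 2, 0,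 3, 1, 3, 0, 3, 3, 1, 2, 0], 126), (75, [1, 2, 0, 2, 1, 2, 0, 1, 2, 0, 2, 2, 2, 1, 3, 0, 3, 1, 2, 0, 2, 2], 129), (62, [2, 1, 3, 0, 3, 3], 145)], 146), ([(59, [2, 2, 1, 2, 0, 2, 2, 1, 3, 0, 3, 3, 1, 3, 0, 2, 2, 2, 1, 2, 0], 100), (55, [1, 2, 0, 3, 3, 1, 2, 0, 2, 1, 3, 0, 3, 1, 3, 0, 1, 3, 0, 2, 2], 175), (93, [1, 2, 0, 2, 1, 2, 0, 1, 2, 0, 3, 1, 3, 0, 3, 1, 2, 0, 2, 1, 3, 0, 3], 413)], 56), ([(60, [2, 2, 1, 2, 0, 2, 2, 1, 3, 0, 3, 3, 1, 3, 0, 2, 2, 2, 1, 2, 0], 100), (90, [2, 1, 3, 0, 2, 1, 2, 0, 2, 2, 1, 2, 0, 1, 2, 0, 2, 2, 1, 3, 0, 1, 3, 0], 444), (70, [1, 2, 0, 2, 2, 1, 3, 0, 2, 1, 2, 0, 2, 1, 2, 0, 1, 2, 0, 2], 78)], 143), ([(55, [2, 2, 1, 2, 0, 2, 1, 3, 0, 2, 2, 1, 2, 0, 2, 1, 3, 0,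 3, 1, 3, 0], 150), (92, [3, 3, 1, 3, 0, 2, 2, 1, 2, 0, 3, 3, 1, 2, 0, 3, 1, 3, 0], 534), (72, [2, 1, 2, 0, 1, 2, 0, 1, 2, 0, 3, 3, 1, 3, 0, 2, 2, 1, 3, 0, 2, 2, 2], 87)], 40), ([(54, [2, 2, 1, 2, 0, 2, 1, 3, 0, 2, 2, 1, 2, 0, 2, 1, 3, 0, 3, 1, 3, 0], 150), (90, [2, 1, 2, 0, 1, 2, 0, 1, 2, 0, 2, 1, 3, 0, 1, 3, 0, 3, 3, 1, 3, 0], 287), (73, [1, 2, 0, 1, 2, 0, 2, 1, 2, 0, 1, 2, 0, 1, 2, 0, 3, 1, 3, 0, 1, 3, 0, 2], 65)], 34), ([(60, [2, 2, 1, 2, 0, 2, 1, 3, 0, 2, 2, 1, 2, 0, 2, 1, 3, 0, 3, 1, 3, 0], 174), (84, [2, 1, 3, 0, 3, 3, 1, 3, 0, 2, 2, 1, 2, 0, 1, 2, 0, 1, 2, 0, 3], 206), (74, [2, 2, 2, 1, 3, 0, 3, 1, 2, 0, 2, 1, 2, 0, 3, 1, 3, 0, 2], 219)], 159), ([(59, [2, 2, 1, 2, 0, 2, 1, 3, 0,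 2, 2, 1, 2, 0, 2, 1, 3, 0, 3, 1, 3, 0], 174), (74, [2, 1, 3, 0, 3, 1, 2, 0, 2, 1, 2, 0, 1, 2, 0, 1, 2, 0, 2, 1, 2, 0, 2], 8), (75, [2, 2, 1, 2, 0, 3, 3, 1, 2, 0, 1, 2, 0, 1, 2, 0, 2, 1, 3, 0, 3], 41)], 159), ([(80, [3, 1, 3, 0, 2, 2, 2, 1, 2, 0, 2], 106), (17, [2, 1, 2, 0, 2, 1, 3, 0, 1, 3, 0], 2634), (11, [1, 2, 0, 2, 2, 2], 53061)], 49), ([(81, [3, 1, 3, 0, 2, 2, 2, 1, 2, 0, 2], 55), (65, [1, 3, 0, 3, 1, 3, 0, 2, 2, 1, 2, 0, 3, 3, 1, 2, 0, 2, 2], 88), (78, [2, 1, 2, 0, 2], 134)], 122), ([(84, [3, 1, 2, 0, 1, 2, 0, 3, 1, 3, 0, 3, 1, 2, 0, 3], 223), (57, [1, 2, 0, 1, 2, 0, 1, 2, 0, 2, 2, 1, 3, 0, 2, 2, 1, 2, 0], 188), (79, [2, 1, 3, 0, 1, 3, 0, 2, 2, 1, 3, 0], 286)], 6), ([(85, [3, 1, 2,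 0, 1, 2, 0, 3, 1, 3, 0, 3, 1, 2, 0, 3], 223), (83, [3, 3, 1, 2, 0, 1, 2, 0, 2, 1, 3, 0, 3, 3, 1, 2, 0, 3], 30), (76, [2, 2, 1, 3, 0, 2, 2, 1, 3, 0], 461)], 197), ([(89, [1, 3, 0, 2, 1, 2, 0, 3, 3, 1, 3, 0, 3, 1, 2, 0, 2, 1, 3, 0, 1, 3, 0], 186), (72, [1, 3, 0, 2, 1, 2, 0, 3, 1, 3, 0, 1, 3, 0, 2, 1, 2, 0, 2, 1, 3, 0, 2], 124), (63, [1, 2, 0, 2, 2, 2], 50)], 462), ([(88, [1, 2, 0, 1, 2, 0, 2, 2, 1, 3, 0, 1, 3, 0, 2, 2, 1, 2, 0, 1, 2, 0, 3], 237), (80, [1, 2, 0, 1, 2, 0, 2, 1, 2, 0, 2, 1, 3, 0, 2, 2, 2], 244), (24, [1, 2, 0, 2, 2, 2], 2759)], 300), ([(88, [1, 3, 0, 1, 3, 0, 2, 2, 2, 1, 2, 0, 1, 2, 0], 21), (88, [1, 2, 0, 1, 2, 0, 3, 1, 3, 0, 2, 1, 2, 0, 2, 1, 3, 0, 1, 3, 0], 321), (83, [3,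 3, 1, 2, 0, 1, 2, 0, 2, 1, 3, 0, 3, 3, 1, 3, 0, 3], 293)], 259), ([(89, [1, 2, 0, 2, 1, 2, 0, 2, 1, 3, 0, 2, 2, 1, 2, 0, 2, 1, 3, 0, 3, 1, 3, 0], 493), (67, [2, 1, 3, 0, 3, 1, 2, 0, 2, 2, 1, 2, 0, 1, 2, 0], 169), (40, [1, 2, 0, 2, 2, 2], 622)], 49), ([(91, [1, 2, 0, 2, 1, 3, 0, 3, 1, 3, 0, 1, 3, 0, 3, 3, 1, 3, 0, 1, 3, 0, 2, 1, 2, 0], 82), (95, [1, 2, 0, 3, 1, 3, 0, 2, 2, 1, 2, 0, 3, 3, 1, 2, 0, 3, 3, 1, 3, 0], 590), (85, [1, 2, 0, 2, 1, 3, 0, 2, 2, 1, 2, 0, 1, 2, 0, 2], 237)], 49), ([(90, [1, 2, 0, 2, 1, 3, 0, 3, 1, 3, 0, 1, 3, 0, 3, 3, 1, 3, 0, 1, 3, 0, 2, 1, 2, 0], 82), (74, [2, 1, 3, 0, 3, 3, 1, 3, 0, 2, 2, 1, 2, 0, 1, 2, 0, 2, 1, 3, 0], 80), (57, [1, 2, 0, 2, 2, 1, 2, 0, 3, 3, 1, 3,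 0, 2, 2, 2], 25)], 433), ([(91, [2, 2, 2, 1, 3, 0, 1, 3, 0, 2, 2, 1, 2, 0, 2, 1, 3, 0, 3, 1, 3, 0], 227), (94, [2, 1, 2, 0, 2, 2, 1, 2, 0, 2, 1, 3, 0], 202), (42, [1, 2, 0, 2, 1, 3, 0, 2], 664)], 294), ([(90, [1, 2, 0, 1, 2, 0, 1, 2, 0, 3, 1, 3, 0, 3, 1, 2, 0], 88), (74, [2, 1, 3, 0, 2, 1, 2, 0, 1, 2, 0, 2, 1, 3, 0, 3, 1, 2, 0, 2, 1, 3, 0], 63), (65, [2, 2, 2, 1, 2, 0, 3, 3, 1, 2, 0, 2, 1, 3, 0, 3], 132)], 229), ([(91, [2, 2, 2, 1, 3, 0, 2, 2, 1, 2, 0, 1, 2, 0, 1, 2, 0, 2, 1, 2, 0], 290), (97, [2, 2, 1, 2, 0, 2, 2, 1, 3, 0, 3, 3, 1, 3, 0, 2, 2, 2, 1, 2, 0], 532), (54, [1, 2, 0, 2, 2, 2], 69)], 26), ([(90, [2, 2, 2, 1, 3, 0, 2, 2, 1, 2, 0, 1, 2, 0, 1, 2, 0, 2, 1, 2, 0], 290), (54, [2, 2,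 2, 1, 3, 0, 2, 2, 2, 1, 2, 0], 232), (88, [2, 2, 2, 1, 2, 0, 1, 2, 0, 1, 2, 0, 2, 2, 2, 1, 2, 0, 1, 2, 0, 1, 2, 0], 488)], 194), ([(91, [2, 1, 3, 0, 2, 1, 2, 0, 2, 2, 1, 2, 0, 3, 1, 3, 0, 2, 2], 412), (98, [1, 2, 0, 3, 1, 3, 0, 1, 3, 0, 2, 1, 2, 0, 2, 2, 1, 3, 0, 1, 3, 0], 97), (95, [1, 2, 0, 1, 2, 0, 2, 2, 1, 2, 0, 1, 2, 0, 2, 1, 3, 0, 2, 1, 2, 0, 1, 2, 0], 3)], 49), ([(90, [2, 1, 3, 0, 2, 1, 2, 0, 2, 2, 1, 2, 0, 3, 1, 3, 0, 2, 2], 412), (59, [2, 2, 1, 3, 0, 1, 3, 0, 3, 1, 2, 0, 1, 2, 0, 2, 2, 1, 3, 0, 3, 3, 1, 2, 0], 29), (60, [1, 2, 0, 2, 2, 2], 74)], 49), ([(93, [1, 2, 0, 3, 1, 3, 0, 1, 3, 0, 3, 1, 2, 0, 2, 1, 3, 0, 2, 2, 2], 184), (59, [2, 2, 2, 1, 2, 0, 1, 2, 0, 2, 1, 2, 0, 1, 2,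 0, 3, 3], 211), (55, [2, 2, 2, 1, 2, 0, 1, 2, 0, 1, 2, 0, 2, 2, 2, 1, 2, 0, 1, 2, 0, 1, 2, 0], 175)], 379), ([(95, [3, 1, 3, 0, 3, 3, 1, 2, 0, 1, 2, 0, 1, 2, 0, 2, 2], 195), (87, [1, 2, 0, 2, 2, 1, 2, 0, 1, 2, 0, 1, 2, 0], 236), (45, [1, 2, 0, 2, 2, 2], 1053)], 291), ([(93, [1, 3, 0, 1, 3, 0, 3, 3, 1, 2, 0, 1, 2, 0, 1, 2, 0], 554), (74, [1, 2, 0, 3, 1, 3, 0, 2, 1, 2, 0, 1, 2, 0, 3, 3, 1, 3, 0], 71), (71, [2, 1, 3, 0, 3, 1, 2, 0, 3, 3], 183)], 411), ([(95, [2, 2, 2, 1, 3, 0, 2, 1, 2, 0, 2, 1, 3, 0, 3, 1, 2, 0, 1, 2, 0, 1, 2, 0], 428), (85, [2, 2, 1, 2, 0, 1, 2, 0, 2, 2, 1, 2, 0, 3, 1, 3, 0], 26), (91, [3, 1, 3, 0, 2, 1, 2, 0, 1, 2, 0, 2, 2, 2], 213)], 297), ([(95, [1, 3, 0, 3, 3, 1, 3, 0,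 2, 2, 1, 3, 0, 3, 3, 1, 2, 0, 2], 504), (89, [2, 1, 3, 0, 3, 1, 2, 0, 2, 1, 2, 0, 3, 3, 1, 3, 0, 2, 1, 2, 0, 3, 1, 3, 0, 1, 3, 0], 370), (66, [1, 2, 0, 2, 2, 2], 179)], 522), ([(95, [3, 1, 2, 0, 2, 1, 3, 0, 2, 2, 1, 2, 0, 2, 1, 3, 0, 2, 2], 441), (91, [2, 1, 2, 0, 3, 3, 1, 3, 0, 3, 1, 2, 0, 1, 2, 0, 2, 1, 3, 0, 3], 360), (96, [1, 2, 0, 2, 2, 1, 3, 0, 2, 1, 2, 0, 2, 1, 2, 0, 1, 2, 0, 2], 432)], 498), ([(95, [2, 2, 2, 1, 2, 0, 2, 1, 3, 0, 1, 3, 0, 3, 1, 2, 0, 2, 1, 2, 0, 1, 2, 0, 2], 56), (91, [1, 2, 0, 3, 3, 1, 2, 0, 1, 2, 0, 2, 2, 1, 2, 0, 3, 3, 1, 2, 0], 318), (98, [2, 2, 1, 3, 0, 1, 3, 0, 2, 1, 2, 0, 1, 2, 0, 2, 1, 2, 0, 3], 617)], 535), ([(99, [1, 3, 0, 3, 1, 2, 0, 2, 1, 2, 0, 1, 2,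 0], 20761), (74, [3, 1, 2, 0, 3, 1, 3, 0, 2, 2, 2, 1, 2, 0, 1, 2, 0], 168), (61, [1, 2, 0, 2, 2, 2], 71)], 2342), ([(99, [2, 1, 2, 0, 2, 1, 2, 0, 1, 2, 0, 3, 1, 3, 0, 1, 3, 0, 3], 26179), (61, [2, 1, 2, 0, 2, 1, 2, 0, 1, 2, 0, 3, 1, 3, 0, 1, 3, 0, 3], 191), (100, [1, 2, 0, 2, 2, 2], 17623)], 26170)],
[([(0, [], 0), (5, [], 0), (2, [], 24400)], 0), ([(5, [], 25452), (2, [], 24400), (0, [], 0)], 42638), ([(6, [], 25452), (14, [], 2300), (3, [], 24400)], 42638), ([(7, [], 33661), (26, [], 9832), (4, [], 24400)], 7016), ([(8, [], 33661), (12, [], 2300), (1, [], 24400)], 7016), ([(9, [3, 1, 2, 0, 3], 6272), (19, [2, 1, 2, 0, 2, 2, 2, 1, 2, 0, 2, 1, 2, 0, 3], 2983), (12, [1, 3, 0], 3318)], 10050),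 ([(9, [2, 2, 1, 2, 0, 2, 2, 1, 2, 0, 3, 1, 3, 0, 3], 61848), (17, [3, 1, 2, 0, 3], 4916), (5, [1, 3, 0], 994)], 10050), ([(10, [3, 1, 2, 0, 3], 43414), (34, [3, 1, 2, 0, 3], 786), (14, [1, 3, 0], 2569)], 14900), ([(10, [2, 2, 1, 2, 0, 2, 2, 1, 2, 0, 3, 1, 3, 0, 3], 67123), (36, [3, 1, 2, 0, 3], 754), (26, [1, 3, 0], 40539)], 14900), ([(11, [3, 1, 2, 0, 3], 43414), (80, [3, 1, 2, 0, 3], 49), (17, [1, 2, 0, 3], 2679)], 43414), ([(11, [2, 1, 2, 0, 2, 1, 3, 0, 1, 3, 0], 60012), (82, [3, 1, 2, 0, 3], 2), (31, [1, 2, 0, 3], 786)], 94415), ([(9, [2, 2, 2, 1, 2, 0, 2, 2, 1, 3, 0], 59844), (24, [2, 1, 3, 0, 1, 3, 0, 2, 1, 2, 0, 1, 2, 0, 2, 1, 3, 0, 3], 3034), (77, [2, 2, 1, 2, 0, 2], 447)], 5872),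 ([(18, [3, 1, 2, 0, 3], 2664), (50, [3, 1, 2, 0, 3], 146), (27, [1, 3, 0], 40539)], 2755), ([(19, [3, 1, 2, 0, 3], 2664), (17, [2, 2, 1, 2, 0, 2, 2, 1, 2, 0, 3, 1, 3, 0, 3], 1167), (6, [1, 3, 0], 63591)], 2755), ([(20, [3, 1, 2, 0, 3], 3338), (49, [3, 1, 2, 0, 3], 14), (15, [1, 3, 0], 2569)], 2785), ([(21, [3, 1, 2, 0, 3], 3338), (31, [2, 2, 1, 2, 0, 2, 2, 1, 2, 0, 3, 1, 3, 0, 3], 834), (8, [1, 3, 0], 114258)], 2785), ([(24, [3, 1, 2, 0, 3], 2664), (77, [3, 1, 2, 0, 3], 300), (9, [1, 2, 0, 3], 24400)], 2672), ([(24, [3, 1, 2, 0, 2, 2, 1, 3, 0, 1, 3, 0, 2, 2, 1, 2, 0, 2], 1767), (87, [1, 2, 0, 1, 2, 0, 1, 2, 0, 3, 3, 1, 2, 0, 3, 1, 3, 0, 2, 1, 2, 0, 1, 2, 0], 137), (33, [1, 2, 0, 3], 841)],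 3894), ([(24, [1, 2, 0, 1, 2, 0, 3, 3, 1, 2, 0, 1, 2, 0, 2], 1512), (80, [1, 2, 0, 3, 3, 1, 2, 0, 2, 2, 1, 2, 0, 3, 3, 1, 2, 0, 3], 181), (19, [2, 1, 2, 0, 2, 2, 2, 1, 2, 0, 2, 1, 3, 0, 2], 4750)], 4602), ([(24, [1, 2, 0, 2, 1, 3, 0, 1, 3, 0, 3, 1, 2, 0, 2, 1, 3, 0, 1, 3, 0, 3], 201), (89, [3, 1, 2, 0, 3], 498), (47, [1, 2, 0, 3], 146)], 3338), ([(25, [3, 1, 2, 0, 3], 2664), (67, [1, 2, 0, 3, 1, 3, 0, 2, 1, 2, 0, 3, 1, 3, 0], 146), (34, [1, 2, 0, 3], 537)], 2664), ([(25, [2, 1, 2, 0, 3, 1, 3, 0, 1, 3, 0, 3, 1, 3, 0, 1, 3, 0, 3], 4102), (59, [1, 2, 0, 2, 1, 3, 0, 3, 3, 1, 2, 0, 3, 3, 1, 2, 0, 1, 2, 0, 1, 2, 0], 22), (49, [1, 2, 0, 3], 204)], 2664), ([(25, [2, 2, 1, 2, 0, 2, 2, 1, 3, 0, 1,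 3, 0, 2, 2], 112), (58, [2, 1, 2, 0, 3, 3, 1, 2, 0, 2, 2, 1, 2, 0, 2, 1, 2, 0, 1, 2, 0], 27), (23, [2, 1, 2, 0, 3, 3, 1, 2, 0, 2, 2, 1, 2, 0, 2], 1152)], 160), ([(25, [1, 3, 0, 1, 3, 0, 2, 1, 2, 0, 2, 2, 1, 3, 0], 2060), (56, [1, 2, 0, 3, 3, 1, 2, 0, 2, 2, 1, 2, 0, 2, 1, 2, 0], 164), (30, [2, 2, 1, 2, 0, 2, 2, 1, 2, 0, 2], 1175)], 4085), ([(24, [1, 3, 0, 2, 1, 2, 0, 1, 2, 0, 3, 3, 1, 2, 0, 3, 1, 3, 0, 2], 178), (88, [2, 1, 3, 0, 3, 1, 2, 0, 2, 2, 1, 2, 0, 2, 1, 3, 0, 1, 3, 0], 360), (80, [2, 1, 3, 0, 3, 1, 2, 0, 1, 2, 0, 2, 1, 2, 0, 1, 2, 0, 1, 2, 0], 45)], 2230), ([(24, [1, 2, 0, 2, 2, 1, 2, 0, 1, 2, 0, 3, 1, 3, 0, 3, 3, 1, 3, 0], 3984), (89, [1, 2, 0, 2, 1, 2, 0, 2, 1, 3, 0, 1, 3, 0,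 2, 1, 2, 0], 451), (58, [3, 1, 3, 0, 3, 3], 27)], 4816), ([(28, [3, 1, 2, 0, 3], 40968), (31, [3, 1, 2, 0, 3], 569), (7, [1, 3, 0], 48130)], 41631), ([(29, [3, 1, 2, 0, 3], 44236), (47, [3, 1, 2, 0, 3], 146), (13, [1, 3, 0], 2569)], 41691), ([(29, [1, 3, 0, 2, 2, 1, 3, 0], 59978), (67, [3, 1, 3, 0, 2, 2, 1, 3, 0], 146), (36, [1, 2, 0, 3], 1035)], 44236), ([(28, [1, 3, 0, 2, 2, 1, 3, 0], 68312), (44, [3, 1, 2, 0, 2, 2, 2, 1, 2, 0, 2, 1, 3, 0, 3, 1, 2, 0, 1, 2, 0], 1035), (50, [1, 2, 0, 3], 104)], 40968), ([(40, [3, 1, 2, 0, 3], 742), (77, [2, 1, 2, 0, 2, 1, 3, 0, 1, 3, 0], 421), (10, [1, 2, 0, 3], 102517)], 742), ([(41, [3, 1, 2, 0, 3], 752), (58, [1, 3, 0, 2, 1, 2, 0, 1, 2, 0, 2, 1, 3,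 0, 3, 1, 2, 0, 2], 57), (22, [1, 3, 0, 1, 3, 0, 2], 1879)], 751), ([(42, [3, 1, 2, 0, 3], 948), (80, [2, 2, 1, 2, 0, 1, 2, 0, 3, 1, 3, 0, 1, 3, 0, 3, 3, 1, 3, 0, 2], 243), (16, [1, 2, 0, 3], 1073)], 1119), ([(43, [3, 1, 2, 0, 3], 793), (43, [2, 1, 3, 0, 3, 3, 1, 2, 0, 1, 2, 0, 2, 1, 2, 0, 2, 1, 3, 0, 2, 2], 521), (32, [1, 2, 0, 3], 304)], 814), ([(44, [3, 1, 2, 0, 3], 742), (58, [1, 2, 0, 1, 2, 0, 1, 2, 0, 2, 2, 1, 3, 0, 3, 3, 1, 3, 0, 1, 3, 0], 105), (21, [2, 1, 2, 0, 2, 2, 2, 1, 2, 0, 2, 1, 3, 0, 2], 3863)], 378), ([(44, [3, 1, 3, 0, 2, 2, 2, 1, 3, 0, 3, 1, 2, 0, 2, 1, 3, 0, 1, 3, 0], 637), (50, [1, 3, 0, 2, 2, 1, 3, 0], 63), (28, [1, 2, 0, 3], 60961)], 675), ([(44, [2, 1, 3, 0, 1, 3,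 0, 2, 1, 2, 0, 1, 2, 0, 3, 3, 1, 2, 0, 1, 2, 0], 524), (70, [3, 3, 1, 3, 0, 2, 1, 2, 0, 3, 1, 3, 0, 2, 1, 2, 0, 1, 2, 0, 3], 182), (53, [1, 2, 0, 3], 146)], 752), ([(45, [3, 1, 2, 0, 3], 948), (92, [3, 1, 2, 0, 3], 291), (46, [1, 2, 0, 3], 146)], 948), ([(45, [3, 1, 3, 0, 2, 2, 2, 1, 3, 0, 3, 1, 2, 0, 2, 1, 3, 0, 1, 3, 0], 631), (94, [2, 1, 3, 0, 1, 3, 0, 2, 1, 2, 0, 1, 2, 0, 3, 3, 1, 2, 0, 1, 2, 0], 97), (39, [1, 2, 0, 3], 367)], 507), ([(45, [2, 1, 3, 0, 1, 3, 0, 2, 1, 2, 0, 1, 2, 0, 3, 3, 1, 2, 0, 1, 2, 0], 686), (97, [3, 1, 2, 0, 3], 282), (51, [1, 2, 0, 3], 146)], 793), ([(44, [2, 1, 2, 0, 2, 2, 1, 2, 0, 2, 1, 3, 0, 1, 3, 0, 3, 1, 2, 0], 431), (72, [2, 1, 2, 0, 2, 1, 2, 0, 1, 2, 0,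 2, 2, 2, 1, 3, 0, 2, 2, 1, 3, 0, 1, 3, 0], 199), (56, [3, 1, 3, 0, 3, 3], 76)], 1341), ([(44, [3, 3, 1, 2, 0, 2, 2, 2, 1, 3, 0, 3, 1, 3, 0, 2], 378), (54, [2, 1, 3, 0, 3, 3, 1, 3, 0, 2, 2, 1, 2, 0, 3, 3, 1, 2, 0], 146), (82, [3, 1, 3, 0, 3, 3], 7)], 0), ([(45, [2, 1, 2, 0, 2, 2, 1, 2, 0, 2, 1, 3, 0, 1, 3, 0, 3, 1, 2, 0], 704), (94, [3, 1, 2, 0, 3, 3, 1, 3, 0, 2, 1, 2, 0, 2, 2], 481), (43, [1, 2, 0, 2, 1, 2, 0, 3, 1, 3, 0, 3, 1, 2, 0, 2, 2, 1, 2, 0], 706)], 304), ([(45, [3, 3, 1, 2, 0, 2, 2, 2, 1, 3, 0, 3, 1, 3, 0, 2], 374), (95, [3, 3, 1, 2, 0, 3, 3, 1, 2, 0, 2, 2, 1, 3, 0, 3, 1, 2, 0, 3], 381), (87, [2, 1, 2, 0, 1, 2, 0, 3, 1, 3, 0, 2, 1, 2, 0, 2, 2, 1, 2, 0, 1, 2, 0, 2], 156)], 786),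 ([(44, [1, 2, 0, 1, 2, 0, 1, 2, 0, 2, 1, 2, 0, 2, 2, 1, 2, 0, 1, 2, 0], 185), (70, [2, 1, 3, 0, 1, 3, 0, 2, 1, 2, 0, 3, 1, 3, 0, 1, 3, 0, 2, 1, 2, 0, 1, 2, 0, 2], 199), (67, [2, 1, 3, 0, 3, 1, 2, 0, 2, 2, 1, 2, 0, 2, 1, 2, 0, 3], 51)], 537), ([(45, [3, 1, 3, 0, 1, 3, 0, 2, 2, 1, 2, 0, 3, 1, 3, 0, 1, 3, 0, 3], 1380), (98, [1, 3, 0, 1, 3, 0, 2, 2, 2, 1, 2, 0, 1, 2, 0, 2, 1, 3, 0], 355), (94, [3, 1, 3, 0, 3, 3], 99)], 0), ([(54, [3, 1, 2, 0, 3], 122), (80, [2, 2, 1, 2, 0, 2, 1, 3, 0, 3, 1, 2, 0, 2, 1, 2, 0, 2], 140), (18, [1, 2, 0, 3], 4903)], 122), ([(55, [3, 1, 2, 0, 3], 122), (94, [2, 1, 2, 0, 2, 2, 2, 1, 2, 0, 2, 1, 2, 0, 3, 3, 1, 3, 0, 3], 297), (37, [2, 1, 2, 0, 2, 2, 2, 1, 2, 0, 2,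 1, 3, 0, 2], 730)], 145), ([(59, [3, 1, 2, 0, 3], 149), (58, [3, 1, 2, 0, 3], 146), (20, [1, 2, 0, 3], 4816)], 149), ([(60, [3, 1, 2, 0, 3], 149), (90, [2, 1, 2, 0, 2, 2, 2, 1, 2, 0, 2, 1, 2, 0, 3, 3, 1, 3, 0, 3], 432), (48, [2, 1, 2, 0, 2, 2, 2, 1, 2, 0, 2, 1, 3, 0, 2], 122)], 143), ([(66, [3, 1, 2, 0, 3], 122), (94, [3, 1, 3, 0, 2, 2, 2, 1, 3, 0, 3, 1, 2, 0, 2, 1, 3, 0, 1, 3, 0], 606), (38, [1, 2, 0, 3], 587)], 122), ([(67, [3, 1, 2, 0, 3], 122), (36, [1, 3, 0, 2, 2, 1, 3, 0], 786), (29, [1, 2, 0, 3], 53297)], 122), ([(70, [3, 1, 2, 0, 3], 149), (67, [2, 2, 2, 1, 2, 0, 2, 1, 3, 0, 3, 1, 2, 0, 1, 2, 0, 2, 1, 3, 0], 204), (35, [1, 2, 0, 3], 719)], 24), ([(71, [3, 1, 2, 0, 3], 149), (93,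 [3, 1, 2, 0, 2, 2, 2, 1, 2, 0, 2, 1, 3, 0, 3, 1, 2, 0, 1, 2, 0], 624), (52, [1, 2, 0, 3], 221)], 149), ([(73, [3, 1, 2, 0, 2, 1, 2, 0, 3, 1, 3, 0, 3, 1, 2, 0, 2], 118), (66, [1, 2, 0, 1, 2, 0, 2, 2, 1, 2, 0, 2, 1, 2, 0, 1, 2, 0, 2, 1, 3, 0], 111), (92, [3, 1, 3, 0, 3, 3], 252)], 0), ([(72, [3, 1, 2, 0, 2, 1, 2, 0, 3, 1, 3, 0, 3, 1, 2, 0, 2], 118), (54, [2, 1, 2, 0, 1, 2, 0, 2, 1, 3, 0, 1, 3, 0, 3, 1, 3, 0], 230), (89, [3, 1, 3, 0, 3, 3], 330)], 0), ([(72, [1, 3, 0, 1, 3, 0, 3, 3, 1, 2, 0, 2, 2, 1, 2, 0, 3, 3, 1, 2, 0, 2], 187), (67, [1, 2, 0, 3, 1, 3, 0, 1, 3, 0, 2, 1, 2, 0, 2, 2, 1, 3, 0, 1, 3, 0, 2], 174), (41, [1, 2, 0, 2, 1, 2, 0, 3, 1, 3, 0, 3, 1, 2, 0, 2, 2, 1, 2, 0], 630)], 31),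 ([(54, [3, 1, 2, 0, 2, 1, 3, 0, 3, 1, 3, 0, 1, 3, 0, 2, 2, 1, 3, 0, 1, 3, 0], 124), (80, [2, 1, 2, 0, 1, 2, 0, 1, 2, 0, 2, 1, 3, 0, 3, 1, 3, 0, 1, 3, 0, 3, 1, 2, 0], 163), (25, [3, 1, 3, 0, 3, 3], 512)], 184), ([(55, [1, 2, 0, 2, 1, 2, 0, 2, 1, 3, 0, 1, 3, 0, 2, 1, 2, 0], 27), (95, [1, 3, 0, 1, 3, 0, 3, 1, 2, 0, 1, 2, 0, 1, 2, 0, 2, 1, 2, 0], 6), (84, [3, 1, 2, 0, 1, 2, 0, 3, 1, 3, 0, 1, 3, 0, 3, 1, 2, 0, 1, 2, 0, 2], 103)], 53), ([(75, [1, 3, 0, 3, 1, 2, 0, 1, 2, 0, 2, 1, 2, 0, 2, 1, 3, 0, 2, 2, 1, 3, 0], 81), (65, [1, 3, 0, 1, 3, 0, 3, 1, 2, 0, 2, 1, 2, 0, 3, 1, 3, 0, 2, 2, 1, 3, 0], 112), (90, [3, 1, 3, 0, 3, 3], 181)], 146), ([(74, [1, 3, 0, 3, 1, 2, 0, 1, 2, 0, 2, 1, 2, 0, 2, 1, 3,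 0, 2, 2, 1, 3, 0], 81), (70, [1, 3, 0, 2, 1, 2, 0, 1, 2, 0, 2, 1, 2, 0, 3, 1, 3, 0, 3, 3, 1, 3, 0, 2], 208), (59, [2, 1, 2, 0, 2, 2, 2, 1, 3, 0, 3, 1, 3, 0, 1, 3, 0, 3, 3, 1, 2, 0], 90)], 204), ([(62, [3, 1, 3, 0, 3, 3], 228), (69, [2, 2, 1, 2, 0, 2, 1, 2, 0, 3], 191), (68, [2, 2, 1, 2, 0, 2, 1, 2, 0, 3], 14)], 146), ([(61, [3, 1, 3, 0, 3, 3], 228), (100, [2, 1, 3, 0, 2, 1, 2, 0, 2, 1, 3, 0], 11268), (99, [3, 1, 3, 0, 3, 3], 9333)], 0), ([(72, [3, 1, 2, 0, 2, 2, 2, 1, 2, 0, 2, 1, 2, 0, 1, 2, 0, 3, 1, 3, 0, 1, 3, 0], 118), (72, [2, 2, 1, 3, 0, 3, 3, 1, 3, 0, 2, 1, 2, 0, 2, 1, 2, 0, 3, 3], 167), (64, [3, 1, 3, 0, 2, 2, 1, 2, 0, 1, 2, 0, 2, 2, 1, 3, 0, 1, 3, 0, 2], 60)], 228), ([(72, [1, 3,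 0, 2, 1, 2, 0, 3, 1, 3, 0, 1, 3, 0, 3, 1, 3, 0, 1, 3, 0, 2], 185), (54, [3, 3, 1, 2, 0, 1, 2, 0, 2, 1, 2, 0, 3, 1, 3, 0, 3, 3, 1, 2, 0, 2], 49), (81, [3, 1, 3, 0, 3, 3], 103)], 0), ([(74, [3, 1, 2, 0, 3, 1, 3, 0, 2, 1, 2, 0, 2, 1, 3, 0, 3], 116), (60, [2, 2, 1, 3, 0, 2, 2, 1, 2, 0, 1, 2, 0, 1, 2, 0, 2, 1, 3, 0, 3, 1, 2, 0], 76), (86, [3, 1, 2, 0, 3, 3, 1, 3, 0, 2, 1, 2, 0, 3, 1, 3, 0, 3], 186)], 113), ([(73, [1, 3, 0, 3, 1, 2, 0, 1, 2, 0, 2, 1, 2, 0, 2, 1, 3, 0, 2, 2, 1, 3, 0], 220), (67, [1, 3, 0, 3, 3, 1, 2, 0, 3, 1, 3, 0, 3, 3, 1, 3, 0, 1, 3, 0], 143), (44, [3, 1, 3, 0, 2, 1, 2, 0, 1, 2, 0, 3, 1, 3, 0, 2, 1, 2, 0, 2], 16)], 63), ([(72, [1, 3, 0, 3, 1, 2, 0, 1, 2, 0, 2, 1, 2, 0, 2, 1,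 3, 0, 2, 2, 1, 3, 0], 220), (71, [1, 3, 0, 2, 2, 2, 1, 3, 0, 3, 1, 2, 0, 2, 1, 2, 0, 1, 2, 0, 2, 1, 3, 0], 100), (97, [3, 1, 3, 0, 3, 3], 3)], 0), ([(68, [3, 1, 3, 0, 3, 3], 191), (62, [1, 2, 0, 3, 3, 1, 3, 0, 3, 3], 228), (69, [3, 1, 3, 0, 3, 3], 191)], 110), ([(69, [3, 1, 3, 0, 3, 3], 191), (68, [3, 1, 3, 0, 3, 3], 14), (62, [1, 2, 0, 3, 3, 1, 3, 0, 3, 3], 228)], 146), ([(75, [3, 1, 2, 0, 2, 1, 2, 0, 3, 1, 3, 0, 3, 1, 2, 0, 2], 194), (66, [1, 2, 0, 1, 2, 0, 2, 1, 3, 0, 3, 1, 3, 0, 1, 3, 0, 2, 1, 2, 0], 36), (93, [3, 1, 3, 0, 2, 1, 2, 0, 1, 2, 0, 3, 1, 3, 0, 2, 1, 2, 0, 2], 574)], 182), ([(74, [3, 1, 2, 0, 2, 1, 2, 0, 3, 1, 3, 0, 3, 1, 2, 0, 2], 194), (72, [3, 3, 1, 2, 0, 1, 2, 0, 1, 2,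 0, 2, 1, 2, 0, 3, 1, 3, 0, 3, 1, 2, 0, 1, 2, 0], 14), (70, [3, 3, 1, 3, 0, 2, 1, 2, 0, 3, 1, 3, 0, 3], 173)], 146), ([(73, [3, 1, 3, 0, 3, 3], 181), (69, [3, 3, 1, 3, 0, 2, 2, 1, 2, 0], 218), (72, [3, 1, 2, 0, 1, 2, 0, 2, 2, 1, 2, 0, 3, 3, 1, 2, 0, 2, 1, 3, 0, 3], 159)], 40), ([(72, [3, 1, 3, 0, 3, 3], 181), (69, [3, 1, 3, 0, 1, 3, 0, 2, 1, 2, 0, 2, 2, 1, 3, 0, 1, 3, 0, 3], 187), (73, [2, 2, 1, 3, 0, 2, 2, 1, 2, 0, 3, 3, 1, 3, 0, 2, 1, 2, 0, 1, 2, 0], 164)], 34), ([(74, [3, 1, 3, 0, 3, 3], 224), (73, [1, 2, 0, 2, 2, 1, 3, 0, 3, 1, 2, 0, 2, 1, 3, 0, 3, 3], 31), (74, [1, 2, 0, 3, 1, 3, 0, 2, 1, 2, 0, 2, 1, 3, 0, 3, 3, 1, 2, 0, 2], 144)], 68), ([(75, [3, 1, 3, 0, 3, 3], 224), (72, [2, 2, 1,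 2, 0, 2, 2, 1, 2, 0, 1, 2, 0, 1, 2, 0, 2, 1, 2, 0, 1, 2, 0, 2, 1, 2, 0], 10), (75, [3, 3, 1, 3, 0, 2, 2, 1, 2, 0, 1, 2, 0, 2, 2, 1, 2, 0, 3], 98)], 159), ([(80, [2, 1, 3, 0, 1, 3, 0, 2, 1, 2, 0, 1, 2, 0, 2, 1, 3, 0, 3], 31), (17, [2, 2, 2, 1, 2, 0, 2, 2, 1, 3, 0], 3775), (11, [2, 2, 1, 2, 0, 2], 73751)], 54), ([(81, [2, 1, 3, 0, 1, 3, 0, 2, 1, 2, 0, 1, 2, 0, 2, 1, 3, 0, 3], 139), (65, [2, 2, 1, 3, 0, 1, 3, 0, 3, 1, 3, 0, 2, 1, 2, 0, 2, 2, 1, 3, 0, 1, 3, 0], 118), (78, [2, 2], 47)], 23), ([(87, [1, 3, 0, 2, 2, 2, 1, 2, 0, 2, 1, 2, 0, 3, 1, 3, 0], 223), (42, [3, 3, 1, 2, 0, 3, 1, 3, 0, 2, 1, 2, 0, 2, 1, 3, 0, 2], 1280), (79, [3, 1, 2, 0, 3, 1, 3, 0, 3, 1, 2, 0], 251)], 207), ([(86, [1, 2,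 0, 3, 3, 1, 2, 0, 2, 1, 3, 0, 3, 3, 1, 3, 0], 75), (63, [1, 2, 0, 3, 3, 1, 2, 0, 2, 1, 3, 0, 3, 3, 1, 3, 0], 50), (76, [3, 1, 2, 0, 2, 2], 414)], 51), ([(89, [1, 3, 0, 2, 2, 2, 1, 2, 0, 3, 1, 3, 0, 3, 3, 1, 2, 0, 1, 2, 0, 2, 1, 3, 0], 213), (72, [1, 2, 0, 3, 3, 1, 2, 0, 1, 2, 0, 2, 2, 1, 3, 0, 2, 1, 2, 0, 1, 2, 0, 3, 1, 3, 0, 3], 71), (63, [3, 1, 3, 0, 3, 3], 191)], 462), ([(88, [3, 3, 1, 2, 0, 1, 2, 0, 2, 1, 2, 0, 3, 1, 3, 0, 3, 3, 1, 2, 0, 2], 234), (80, [2, 2, 2, 1, 2, 0, 2, 1, 2, 0, 1, 2, 0, 1, 2, 0, 3], 164), (24, [3, 1, 3, 0, 3, 3], 3108)], 300), ([(88, [2, 1, 3, 0, 3, 3, 1, 3, 0, 2, 2, 1, 2, 0, 3, 3, 1, 2, 0], 97), (88, [2, 2, 1, 2, 0, 2, 1, 3, 0, 2, 2, 1, 3, 0, 3, 1, 3, 0, 2, 1,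 2, 0], 358), (83, [2, 2, 1, 2, 0, 2, 2, 1, 3, 0, 1, 3, 0, 2, 2, 1, 2, 0], 388)], 449), ([(89, [1, 3, 0, 1, 3, 0, 3, 3, 1, 3, 0, 3, 1, 2, 0, 1, 2, 0, 2], 351), (67, [2, 2, 1, 2, 0, 3, 3, 1, 3, 0, 3], 75), (40, [3, 1, 3, 0, 3, 3], 981)], 0), ([(85, [2, 2, 1, 2, 0, 2, 2, 1, 2, 0, 1, 2, 0, 2, 1, 2, 0, 3, 3], 315), (88, [3, 1, 3, 0, 3, 3, 1, 3, 0, 1, 3, 0, 3, 3, 1, 3, 0, 1, 3, 0], 28), (85, [2, 2, 2, 1, 2, 0, 2, 2, 1, 2, 0, 3, 3, 1, 2, 0, 3, 3], 47)], 185), ([(84, [2, 2, 1, 2, 0, 2, 2, 1, 2, 0, 1, 2, 0, 2, 1, 2, 0, 3, 3], 315), (59, [2, 2, 1, 2, 0, 1, 2, 0, 2, 2, 1, 2, 0, 1, 2, 0, 2, 1, 3, 0, 2], 63), (57, [2, 2, 1, 2, 0, 3, 1, 3, 0, 3, 1, 2, 0, 3, 3, 1, 2, 0], 50)], 433), ([(91, [2, 2, 1, 2,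 0, 2, 1, 3, 0, 1, 3, 0, 3, 1, 2, 0, 2, 1, 2, 0], 77), (94, [1, 2, 0, 2, 1, 2, 0, 3, 1, 3, 0, 3, 1, 2, 0, 3, 1, 3, 0], 116), (42, [1, 3, 0, 1, 3, 0, 2, 1, 2, 0, 2, 2], 948)], 432), ([(90, [2, 1, 3, 0, 3, 1, 3, 0, 2, 2, 1, 2, 0, 3, 3, 1, 2, 0, 3, 3], 96), (74, [2, 1, 2, 0, 1, 2, 0, 3, 3, 1, 3, 0, 3, 3, 1, 3, 0, 3, 1, 2, 0], 63), (65, [1, 3, 0, 3, 1, 3, 0, 2, 1, 2, 0, 1, 2, 0, 3, 3, 1, 2, 0, 1, 2, 0], 176)], 88), ([(89, [2, 1, 2, 0, 1, 2, 0, 2, 1, 3, 0, 1, 3, 0, 3, 1, 3, 0], 414), (73, [2, 1, 2, 0, 3, 1, 3, 0, 3, 1, 2, 0, 3, 3, 1, 3, 0, 1, 3, 0, 2], 77), (54, [3, 1, 3, 0, 3, 3], 225)], 26), ([(88, [2, 1, 2, 0, 1, 2, 0, 2, 1, 3, 0, 1, 3, 0, 3, 1, 3, 0], 414), (83, [2, 1, 3, 0, 3, 1, 3, 0, 2,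 2, 1, 2, 0, 3], 389), (88, [1, 2, 0, 2, 1, 2, 0, 2, 2, 1, 2, 0, 2, 1, 3, 0, 2, 1, 2, 0], 318)], 194), ([(87, [1, 2, 0, 2, 1, 2, 0, 1, 2, 0, 2, 1, 3, 0, 3, 1, 2, 0, 3, 1, 3, 0, 2], 221), (45, [1, 3, 0, 2, 2, 2, 1, 2, 0, 2, 1, 3, 0, 3, 1, 3, 0], 696), (95, [1, 3, 0, 1, 3, 0, 3, 1, 3, 0, 2, 1, 2, 0, 2, 1, 3, 0, 2, 1, 2, 0], 315)], 49), ([(86, [2, 1, 3, 0, 2, 2, 2], 116), (74, [1, 2, 0, 3, 3, 1, 2, 0, 2, 2, 1, 2, 0, 2], 95), (60, [3, 1, 3, 0, 3, 3], 152)], 0), ([(96, [1, 2, 0, 1, 2, 0, 2, 2, 1, 2, 0, 2, 1, 2, 0, 1, 2, 0, 2, 1, 3, 0], 12), (97, [2, 1, 3, 0, 3, 1, 2, 0, 1, 2, 0, 2, 2], 269), (55, [1, 2, 0, 2, 1, 2, 0, 2, 2, 1, 2, 0, 2, 1, 3, 0, 2, 1, 2, 0], 122)], 379), ([(98, [2, 1, 3, 0, 3,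 1, 3, 0, 1, 3, 0, 3, 1, 3, 0, 2, 2, 1, 2, 0], 131), (94, [3, 1, 3, 0, 1, 3, 0, 2, 2, 1, 2, 0, 3, 1, 3, 0, 1, 3, 0, 3], 616), (45, [3, 1, 3, 0, 3, 3], 1082)], 0), ([(98, [2, 1, 2, 0, 2, 2, 2, 1, 2, 0, 2, 1, 3, 0, 1, 3, 0, 3, 1, 3, 0], 247), (97, [2, 1, 3, 0, 3, 1, 2, 0, 2, 2, 1, 2, 0, 2, 2, 1, 3, 0, 3, 3, 1, 3, 0], 268), (71, [2, 1, 3, 0, 3, 1, 2, 0, 2, 2, 1, 2, 0, 2, 1, 2, 0, 3], 232)], 411), ([(92, [2, 2, 2, 1, 2, 0, 2, 1, 2, 0, 1, 2, 0], 533), (60, [1, 2, 0, 1, 2, 0, 2, 1, 2, 0, 1, 2, 0, 2, 2, 1, 2, 0, 2, 1, 3, 0, 1, 3, 0], 187), (91, [1, 3, 0, 2, 2, 2], 268)], 379), ([(93, [2, 2, 1, 2, 0, 1, 2, 0, 1, 2, 0, 2, 1, 2, 0, 2, 1, 3, 0, 3, 1, 3, 0], 348), (73, [3, 3, 1, 2, 0, 2, 1, 3, 0, 2,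 1, 2, 0], 170), (66, [3, 1, 3, 0, 3, 3], 85)], 522), ([(94, [1, 2, 0, 1, 2, 0, 3, 1, 3, 0, 1, 3, 0, 2, 2, 1, 2, 0, 2], 145), (45, [1, 2, 0, 2, 1, 3, 0, 3, 1, 2, 0, 3, 1, 3, 0, 2, 1, 2, 0, 2], 1177), (96, [3, 3, 1, 3, 0, 2, 1, 2, 0, 3, 1, 3, 0, 3], 329)], 517), ([(98, [1, 3, 0, 1, 3, 0, 3, 1, 2, 0, 1, 2, 0, 2, 1, 2, 0, 3, 1, 3, 0, 2], 64), (98, [2, 2, 1, 3, 0, 3, 3, 1, 2, 0, 1, 2, 0, 2, 2], 228), (98, [2, 1, 3, 0, 3, 1, 3, 0, 2, 1, 2, 0, 2, 1, 3, 0, 1, 3, 0], 218)], 535), ([(100, [2, 1, 3, 0, 2, 1, 2, 0, 2, 1, 3, 0], 28162), (99, [3, 1, 3, 0, 3, 3], 9333), (61, [3, 1, 3, 0, 3, 3], 228)], 2342), ([(99, [1, 3, 0, 2, 1, 2, 0, 2, 1, 3, 0, 3, 1, 3, 0], 26659), (61, [1, 3, 0, 2, 1, 2, 0, 2, 1,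 3, 0, 3, 1, 3, 0], 228), (100, [2, 2, 1, 2, 0, 2], 18)], 26453)]]

end CfsgLib.InvChar.SporHN
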