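import Cfsg.Agent.Lib.InvChar.SporHNTrace

/-! The saturation. -/

set_option autoImplicit false
set_option maxRecDepth 100000

namespace CfsgLib.InvChar.SporHN

open CfsgLib.InvChar.Coset

/-- hints -/
def relC4 : List (List (List (ℕ × List ℕ × ℕ) × ℕ)) := [
[([(0, [], 0), (5, [], 0), (2, [], 24400)], 0), ([(5, [], 3427), (2, [], 24400), (0, [], 0)], 43002), ([(6, [], 3427), (14, [], 2300), (3, [], 24400)], 43002), ([(7, [], 25170), (26, [], 9832), (4, [], 24400)], 7058), ([(8, [], 25170), (12, [], 2300), (1, [], 24400)], 7058), ([(9, [2, 1, 3, 0, 2, 2, 2], 56958), (19, [1, 3, 0, 1, 3, 0, 3, 3, 1, 2, 0], 3081), (12, [1, 2, 0, 1, 2, 0, 2, 2], 4058)], 41640), ([(9, [2, 2, 1, 2, 0,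 2, 2, 1, 2, 0, 2, 1, 2, 0], 63379), (17, [2, 1, 3, 0, 2, 2, 2], 2951), (5, [1, 2, 0, 1, 2, 0, 2, 2], 80511)], 41640), ([(10, [2, 1, 3, 0, 2, 2, 2], 6780), (34, [3, 1, 2, 0, 1, 2, 0, 2, 2, 1, 3, 0], 768), (14, [1, 2, 0, 1, 2, 0, 2, 2], 3284)], 55891), ([(10, [2, 2, 1, 2, 0, 2, 2, 1, 2, 0, 2, 1, 2, 0], 85716), (36, [1, 3, 0, 1, 3, 0, 3, 3, 1, 2, 0], 415), (26, [1, 2, 0, 1, 2, 0, 2, 2], 16997)], 55891), ([(11, [2, 1, 2, 0, 2, 1, 2, 0, 1, 2, 0, 1, 2, 0, 2], 73484), (80, [1, 3, 0, 2, 2, 1, 2, 0, 1, 2, 0, 1, 2, 0, 2, 1, 2, 0], 93), (17, [1, 3, 0, 1, 3, 0, 2], 4109)], 22533), ([(11, [3], 48913), (82, [1, 3, 0, 2, 2, 1, 2, 0, 1, 2, 0, 1, 2, 0, 2, 1, 2, 0], 204), (31, [1, 3, 0, 1, 3, 0, 2],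 741)], 61129), ([(10, [3, 3, 1, 2, 0, 2, 2, 1, 2, 0], 106494), (40, [1, 2, 0, 2, 2, 1, 2, 0, 3, 1, 3, 0, 2, 1, 2, 0], 904), (77, [1, 3, 0, 2, 1, 2, 0, 3], 387)], 50924), ([(18, [3, 1, 2, 0, 1, 2, 0, 2, 2, 1, 3, 0], 2951), (50, [1, 3, 0, 1, 3, 0, 3, 3, 1, 2, 0], 114), (27, [1, 2, 0, 1, 2, 0, 2, 2], 12210)], 3279), ([(19, [3, 1, 2, 0, 1, 2, 0, 2, 2, 1, 3, 0], 2951), (17, [2, 2, 1, 2, 0, 2, 2, 1, 2, 0, 2, 1, 2, 0], 837), (6, [1, 2, 0, 1, 2, 0, 2, 2], 112671)], 3279), ([(20, [3, 1, 2, 0, 1, 2, 0, 2, 2, 1, 3, 0], 3474), (49, [3, 1, 2, 0, 1, 2, 0, 2, 2, 1, 3, 0], 14), (15, [1, 2, 0, 1, 2, 0, 2, 2], 3284)], 3616), ([(21, [3, 1, 2, 0, 1, 2, 0, 2, 2, 1, 3, 0], 3474), (31, [2, 2, 1, 2, 0,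 2, 2, 1, 2, 0, 2, 1, 2, 0], 846), (8, [1, 2, 0, 1, 2, 0, 2, 2], 115052)], 3616), ([(24, [1, 3, 0, 2, 2, 1, 2, 0, 1, 2, 0, 1, 2, 0, 2, 1, 2, 0], 2624), (77, [2, 1, 2, 0, 2, 1, 2, 0, 1, 2, 0, 1, 2, 0, 2], 366), (9, [1, 3, 0, 1, 3, 0, 2], 68594)], 2912), ([(24, [2, 2, 2, 1, 3, 0, 3, 3, 1, 3, 0, 2, 2, 1, 3, 0, 1, 3, 0], 964), (87, [1, 2, 0, 2, 2, 1, 3, 0, 3, 1, 2, 0, 2, 1, 2, 0, 1, 2, 0, 1, 2, 0], 225), (33, [1, 3, 0, 1, 3, 0, 2], 868)], 3256), ([(24, [3, 1, 2, 0, 2, 1, 2, 0, 1, 2, 0, 1, 2, 0, 3, 1, 3, 0], 2332), (80, [1, 2, 0, 3, 3, 1, 2, 0, 3, 1, 3, 0, 3, 1, 2, 0, 2, 2, 1, 2, 0], 172), (19, [3, 1, 2, 0, 1, 2, 0, 2, 2, 1, 3, 0, 1, 3, 0], 4082)], 4270), ([(24, [3, 1, 2, 0, 1, 2, 0, 3,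 1, 3, 0, 1, 3, 0, 3, 3, 1, 2, 0, 3, 1, 3, 0], 82), (89, [1, 2, 0, 2, 1, 2, 0, 1, 2, 0, 3, 1, 3, 0, 3, 3, 1, 3, 0], 419), (47, [1, 3, 0, 1, 3, 0, 3, 3], 145)], 0), ([(25, [1, 3, 0, 2, 1, 2, 0, 3, 1, 3, 0, 3, 3], 2558), (67, [1, 2, 0, 2, 1, 3, 0, 3, 1, 2, 0, 2, 1, 2, 0, 1, 2, 0, 2, 1, 3, 0, 1, 3, 0], 104), (34, [1, 3, 0, 1, 3, 0, 3, 3], 988)], 0), ([(25, [1, 3, 0, 3, 3, 1, 3, 0, 3, 1, 2, 0, 2, 1, 3, 0, 1, 3, 0, 3], 3480), (59, [1, 3, 0, 3, 1, 2, 0, 3, 3, 1, 2, 0, 1, 2, 0, 1, 2, 0, 2], 53), (49, [1, 3, 0, 1, 3, 0, 3, 3], 205)], 0), ([(25, [1, 3, 0, 2, 1, 2, 0, 1, 2, 0, 2, 1, 3, 0, 3, 1, 2, 0, 2], 1014), (58, [3, 1, 3, 0, 2, 2, 2, 1, 3, 0, 3, 1, 2, 0, 2, 1, 3, 0, 1, 3, 0], 20), (23,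 [1, 2, 0, 1, 2, 0, 3, 1, 3, 0, 2, 1, 2, 0, 2], 75)], 1295), ([(25, [2, 2, 2, 1, 3, 0, 3, 1, 2, 0, 1, 2, 0, 2, 1, 2, 0, 1, 2, 0], 347), (56, [1, 2, 0, 3, 3, 1, 2, 0, 2, 2, 1, 2, 0, 3, 1, 3, 0], 145), (30, [2, 2, 1, 2, 0, 1, 2, 0, 3, 3, 1, 2, 0, 1, 2, 0, 2], 1187)], 4383), ([(25, [3, 3, 1, 2, 0, 2, 1, 2, 0, 3, 1, 3, 0, 3, 3], 2924), (54, [1, 2, 0, 2, 1, 2, 0, 2, 1, 3, 0, 1, 3, 0, 3, 3, 1, 2, 0], 198), (80, [1, 2, 0, 2, 1, 2, 0, 1, 2, 0, 1, 2, 0, 3, 1, 3, 0, 1, 3, 0, 3, 1, 3, 0, 2], 8)], 2230), ([(25, [2, 2, 2, 1, 2, 0, 1, 2, 0, 2, 1, 2, 0, 2, 1, 3, 0, 3], 2408), (74, [2, 1, 3, 0, 3, 3, 1, 3, 0, 2, 2, 1, 2, 0, 1, 2, 0, 1, 2, 0, 3, 3], 171), (58, [1, 3, 0, 2, 1, 2, 0, 3], 159)], 4939),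 ([(28, [1, 3, 0, 1, 3, 0, 3, 3, 1, 2, 0], 16326), (31, [2, 1, 3, 0, 2, 2, 2], 1011), (7, [1, 2, 0, 1, 2, 0, 2, 2], 78535)], 44119), ([(29, [1, 3, 0, 1, 3, 0, 3, 3, 1, 2, 0], 10594), (47, [3, 1, 2, 0, 1, 2, 0, 2, 2, 1, 3, 0], 64), (13, [1, 2, 0, 1, 2, 0, 2, 2], 3696)], 45033), ([(29, [2, 2, 2, 1, 2, 0, 1, 2, 0, 1, 2, 0, 2], 9665), (67, [2, 1, 2, 0, 1, 2, 0, 2, 1, 3, 0, 2, 2, 2, 1, 2, 0], 124), (36, [1, 3, 0, 1, 3, 0, 3, 3], 605)], 0), ([(28, [2, 2, 2, 1, 2, 0, 1, 2, 0, 1, 2, 0, 2], 8348), (44, [1, 2, 0, 1, 2, 0, 1, 2, 0, 2, 2, 1, 2, 0, 2, 1, 3, 0, 3, 1, 2, 0, 2], 886), (50, [1, 3, 0, 1, 3, 0, 3, 3], 120)], 0), ([(40, [1, 3, 0, 2, 2, 1, 2, 0, 1, 2, 0, 1, 2, 0, 2, 1, 2, 0], 739), (77,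 [3], 277), (10, [1, 3, 0, 1, 3, 0, 2], 117646)], 752), ([(41, [1, 3, 0, 2, 2, 1, 2, 0, 1, 2, 0, 1, 2, 0, 2, 1, 2, 0], 764), (58, [2, 2, 1, 2, 0, 1, 2, 0, 3, 3, 1, 3, 0, 3], 57), (22, [2, 1, 3, 0, 3, 1, 3, 0], 707)], 1071), ([(42, [1, 3, 0, 2, 2, 1, 2, 0, 1, 2, 0, 1, 2, 0, 2, 1, 2, 0], 812), (80, [1, 2, 0, 2, 1, 3, 0, 1, 3, 0, 3, 1, 2, 0, 2, 1, 2, 0, 1, 2, 0, 1, 2, 0], 239), (16, [1, 3, 0, 1, 3, 0, 2], 1987)], 1353), ([(43, [1, 3, 0, 2, 2, 1, 2, 0, 1, 2, 0, 1, 2, 0, 2, 1, 2, 0], 856), (43, [1, 2, 0, 3, 1, 3, 0, 2, 1, 2, 0, 3, 1, 3, 0, 3, 1, 2, 0], 543), (32, [1, 3, 0, 1, 3, 0, 2], 20)], 756), ([(44, [1, 2, 0, 2, 1, 2, 0, 1, 2, 0, 3, 1, 3, 0, 3, 3, 1, 3, 0], 785), (58, [2, 1, 3, 0,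 1, 3, 0, 3, 1, 3, 0, 1, 3, 0, 2, 2, 1, 2, 0, 1, 2, 0], 114), (21, [3, 1, 2, 0, 1, 2, 0, 2, 2, 1, 3, 0, 1, 3, 0], 3262)], 453), ([(44, [2, 1, 2, 0, 3, 3, 1, 2, 0, 2, 2, 1, 2, 0, 2, 1, 2, 0, 1, 2, 0], 755), (50, [2, 2, 2, 1, 2, 0, 1, 2, 0, 1, 2, 0, 2], 87), (28, [1, 3, 0, 1, 3, 0, 3, 3], 8251)], 569), ([(44, [2, 1, 3, 0, 3, 1, 3, 0, 1, 3, 0, 2, 2, 1, 3, 0, 2, 2, 1, 2, 0], 479), (70, [1, 2, 0, 2, 1, 3, 0, 2, 2, 1, 3, 0, 3, 3, 1, 2, 0, 2, 1, 3, 0], 56), (53, [1, 3, 0, 1, 3, 0, 3, 3], 95)], 0), ([(45, [1, 2, 0, 2, 1, 2, 0, 1, 2, 0, 3, 1, 3, 0, 3, 3, 1, 3, 0], 859), (92, [1, 2, 0, 2, 1, 2, 0, 1, 2, 0, 3, 1, 3, 0, 3, 3, 1, 3, 0], 291), (46, [1, 3, 0, 1, 3, 0, 3, 3], 145)], 0), ([(45, [2,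 1, 2, 0, 3, 3, 1, 2, 0, 2, 2, 1, 2, 0, 2, 1, 2, 0, 1, 2, 0], 771), (94, [2, 1, 3, 0, 3, 1, 3, 0, 1, 3, 0, 2, 2, 1, 3, 0, 2, 2, 1, 2, 0], 510), (39, [1, 3, 0, 1, 3, 0, 3, 3], 480)], 668), ([(45, [2, 1, 3, 0, 3, 1, 3, 0, 1, 3, 0, 2, 2, 1, 3, 0, 2, 2, 1, 2, 0], 480), (97, [2, 1, 3, 0, 1, 3, 0, 2, 2, 2, 1, 2, 0, 2], 187), (51, [1, 3, 0, 1, 3, 0, 3, 3], 119)], 0), ([(41, [2, 2, 1, 2, 0, 1, 2, 0, 2, 1, 3, 0, 2, 2, 1, 3, 0, 3, 1, 3, 0], 215), (59, [1, 2, 0, 2, 1, 2, 0, 2, 1, 3, 0, 1, 3, 0, 3, 3, 1, 2, 0], 221), (56, [1, 3, 0, 1, 3, 0, 3, 3], 202)], 1341), ([(42, [2, 2, 1, 2, 0, 1, 2, 0, 2, 1, 3, 0, 2, 2, 1, 3, 0, 3, 1, 3, 0], 1084), (88, [1, 2, 0, 1, 2, 0, 2, 2, 1, 2, 0, 3, 3, 1, 3, 0,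 1, 3, 0, 3, 1, 3, 0], 496), (82, [1, 3, 0, 1, 3, 0, 3, 3], 224)], 0), ([(42, [1, 2, 0, 1, 2, 0, 1, 2, 0, 2, 1, 3, 0, 1, 3, 0, 3, 1, 3, 0, 1, 3, 0, 3], 180), (82, [3, 1, 2, 0, 2, 1, 3, 0, 2, 2, 1, 2, 0, 1, 2, 0, 1, 2, 0, 3], 3), (43, [2, 1, 2, 0, 3, 3, 1, 2, 0, 1, 2, 0, 1, 2, 0, 3, 1, 3, 0, 3], 1193)], 61), ([(40, [2, 2, 1, 2, 0, 1, 2, 0, 2, 1, 3, 0, 2, 2, 1, 3, 0, 3, 1, 3, 0], 1169), (88, [1, 3, 0, 2, 2, 1, 2, 0, 3, 1, 3, 0, 2, 2, 1, 2, 0, 3, 3, 1, 2, 0, 3], 415), (87, [1, 2, 0, 2, 2, 1, 3, 0, 1, 3, 0, 3, 1, 3, 0, 1, 3, 0, 3, 1, 3, 0, 2], 56)], 929), ([(41, [2, 2, 2, 1, 3, 0, 2, 2, 1, 2, 0, 3, 1, 3, 0, 3, 1, 2, 0], 560), (72, [1, 2, 0, 3, 1, 3, 0, 1, 3, 0, 3, 3, 1, 2, 0, 2], 106),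 (67, [2, 1, 3, 0, 3, 1, 2, 0, 2, 1, 2, 0, 1, 2, 0, 1, 2, 0, 3, 3], 64)], 537), ([(43, [2, 2, 2, 1, 3, 0, 2, 2, 1, 2, 0, 3, 1, 3, 0, 3, 1, 2, 0], 610), (45, [1, 2, 0, 3, 1, 3, 0, 3, 1, 2, 0, 1, 2, 0, 2, 1, 2, 0, 1, 2, 0, 3], 1409), (94, [1, 3, 0, 1, 3, 0, 3, 3], 481)], 0), ([(54, [1, 2, 0, 2, 1, 2, 0, 1, 2, 0, 3, 1, 3, 0, 3, 3, 1, 3, 0], 145), (80, [2, 2, 1, 2, 0, 2, 2, 2, 1, 2, 0], 41), (18, [1, 3, 0, 1, 3, 0, 3, 3], 4908)], 0), ([(55, [1, 2, 0, 2, 1, 2, 0, 1, 2, 0, 3, 1, 3, 0, 3, 3, 1, 3, 0], 145), (94, [2, 1, 3, 0, 1, 3, 0, 2, 2, 2, 1, 2, 0, 2], 297), (37, [3, 1, 2, 0, 1, 2, 0, 2, 2, 1, 3, 0, 1, 3, 0], 815)], 121), ([(59, [1, 2, 0, 2, 1, 2, 0, 1, 2, 0, 3, 1, 3, 0, 3, 3, 1, 3, 0],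 130), (58, [1, 3, 0, 2, 1, 2, 0, 3, 1, 3, 0, 3, 3], 130), (20, [1, 3, 0, 1, 3, 0, 3, 3], 4950)], 0), ([(60, [1, 2, 0, 2, 1, 2, 0, 1, 2, 0, 3, 1, 3, 0, 3, 3, 1, 3, 0], 130), (90, [2, 1, 3, 0, 1, 3, 0, 2, 2, 2, 1, 2, 0, 2], 432), (48, [3, 1, 2, 0, 1, 2, 0, 2, 2, 1, 3, 0, 1, 3, 0], 169)], 138), ([(66, [2, 1, 3, 0, 1, 3, 0, 2, 2, 2, 1, 2, 0, 2], 99), (94, [2, 1, 2, 0, 3, 3, 1, 2, 0, 2, 2, 1, 2, 0, 2, 1, 2, 0, 1, 2, 0], 604), (38, [1, 3, 0, 1, 3, 0, 3, 3], 1070)], 0), ([(67, [2, 1, 3, 0, 1, 3, 0, 2, 2, 2, 1, 2, 0, 2], 99), (36, [2, 2, 2, 1, 2, 0, 1, 2, 0, 1, 2, 0, 2], 723), (29, [1, 3, 0, 1, 3, 0, 3, 3], 9674)], 0), ([(70, [2, 1, 3, 0, 1, 3, 0, 2, 2, 2, 1, 2, 0, 2], 102), (67, [1, 2,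 0, 3, 1, 3, 0, 1, 3, 0, 2, 2, 1, 3, 0, 2, 1, 2, 0, 2, 1, 2, 0, 1, 2, 0], 11), (35, [1, 3, 0, 1, 3, 0, 3, 3], 509)], 48), ([(71, [2, 1, 3, 0, 1, 3, 0, 2, 2, 2, 1, 2, 0, 2], 102), (93, [1, 2, 0, 1, 2, 0, 1, 2, 0, 2, 2, 1, 2, 0, 2, 1, 3, 0, 3, 1, 2, 0, 2], 574), (52, [1, 3, 0, 1, 3, 0, 3, 3], 11)], 0), ([(54, [1, 2, 0, 1, 2, 0, 1, 2, 0, 2, 1, 3, 0, 1, 3, 0, 3, 1, 3, 0, 1, 3, 0, 3], 16), (91, [3, 1, 2, 0, 3, 3, 1, 2, 0, 3, 3, 1, 2, 0, 2, 1, 2, 0], 268), (92, [1, 3, 0, 1, 3, 0, 3, 3], 456)], 0), ([(55, [1, 2, 0, 1, 2, 0, 1, 2, 0, 2, 1, 3, 0, 1, 3, 0, 3, 1, 3, 0, 1, 3, 0, 3], 16), (95, [3, 1, 3, 0, 2, 2, 1, 2, 0, 3, 1, 3, 0, 3, 1, 2, 0, 2, 1, 2, 0], 14), (89, [1, 3, 0, 1, 3, 0, 3, 3],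 263)], 0), ([(60, [1, 2, 0, 2, 2, 2, 1, 2, 0, 1, 2, 0, 1, 2, 0, 2, 1, 2, 0], 132), (87, [2, 1, 2, 0, 2, 1, 2, 0, 1, 2, 0, 2, 1, 3, 0, 2, 2], 5), (41, [2, 1, 2, 0, 3, 3, 1, 2, 0, 1, 2, 0, 1, 2, 0, 3, 1, 3, 0, 3], 1362)], 12), ([(74, [1, 3, 0, 3, 1, 2, 0, 2, 1, 2, 0, 3, 3, 1, 3, 0, 3, 3, 1, 3, 0], 45), (58, [2, 2, 2, 1, 2, 0, 1, 2, 0, 2, 1, 2, 0, 2, 1, 3, 0, 3], 76), (25, [1, 3, 0, 2, 1, 2, 0, 3], 1952)], 232), ([(74, [3, 3, 1, 2, 0, 3, 1, 3, 0, 3, 1, 2, 0, 2, 2, 1, 2, 0, 2], 88), (60, [1, 2, 0, 2, 1, 3, 0, 3, 1, 2, 0, 2, 2, 1, 3, 0, 3, 1, 2, 0, 3, 3], 146), (84, [1, 2, 0, 2, 1, 2, 0, 3, 1, 3, 0, 3, 1, 2, 0, 2, 2, 1, 2, 0], 187)], 13), ([(71, [1, 3, 0, 2, 1, 2, 0, 3, 1, 3, 0, 3, 3],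 102), (95, [2, 2, 2, 1, 2, 0, 3, 3, 1, 3, 0, 2, 1, 2, 0, 2, 2, 1, 2, 0], 190), (90, [1, 3, 0, 1, 3, 0, 3, 3], 288)], 146), ([(70, [1, 3, 0, 2, 1, 2, 0, 3, 1, 3, 0, 3, 3], 102), (75, [3, 1, 2, 0, 3, 3, 1, 2, 0, 2, 1, 3, 0, 3, 1, 3, 0, 1, 3, 0, 2, 1, 2, 0], 0), (59, [2, 2, 1, 2, 0, 2, 1, 2, 0, 3, 3, 1, 3, 0, 3, 3, 1, 2, 0], 76)], 204), ([(74, [2, 2, 1, 2, 0, 2, 1, 3, 0, 2, 2, 1, 3, 0, 2, 2, 2, 1, 2, 0, 2], 75), (73, [1, 2, 0, 1, 2, 0, 2, 2, 1, 2, 0, 1, 2, 0, 2, 1, 2, 0, 3, 1, 3, 0, 3], 10), (68, [2, 1, 2, 0, 1, 2, 0, 1, 2, 0, 3, 3], 9)], 146), ([(75, [2, 2, 1, 2, 0, 2, 1, 3, 0, 2, 2, 1, 3, 0, 2, 2, 2, 1, 2, 0, 2], 75), (61, [3, 1, 3, 0, 1, 3, 0, 3, 3, 1, 3, 0, 3, 1, 2, 0], 123), (99,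 [1, 3, 0, 1, 3, 0, 3, 3], 14672)], 0), ([(55, [1, 2, 0, 1, 2, 0, 2, 2, 1, 3, 0, 1, 3, 0], 26), (93, [2, 1, 2, 0, 3, 1, 3, 0, 2, 2, 1, 2, 0, 3, 3, 1, 2, 0, 3], 254), (64, [3, 1, 2, 0, 2, 1, 2, 0, 1, 2, 0, 3, 1, 3, 0, 3, 3, 1, 2, 0], 97)], 228), ([(60, [3, 3, 1, 3, 0, 1, 3, 0, 2, 2, 1, 3, 0, 1, 3, 0], 124), (88, [2, 2, 2, 1, 3, 0, 2, 1, 2, 0, 1, 2, 0, 2, 1, 2, 0, 1, 2, 0, 2, 2], 330), (81, [1, 3, 0, 1, 3, 0, 3, 3], 197)], 0), ([(75, [1, 2, 0, 1, 2, 0, 2, 1, 3, 0, 1, 3, 0, 3, 1, 2, 0, 2, 2, 1, 2, 0, 3], 108), (60, [3, 3, 1, 2, 0, 3, 1, 3, 0, 1, 3, 0, 2, 2, 1, 2, 0, 3, 3], 140), (86, [3, 1, 2, 0, 1, 2, 0, 2, 1, 3, 0, 2, 2, 1, 3, 0, 2, 2], 191)], 88), ([(54, [1, 3, 0, 2, 1, 2, 0, 3, 1,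 3, 0, 3, 3], 99), (82, [1, 3, 0, 2, 2, 1, 3, 0, 1, 3, 0, 3, 1, 2, 0, 1, 2, 0, 2, 2], 49), (44, [1, 2, 0, 3, 3, 1, 3, 0, 3, 1, 2, 0, 2, 1, 2, 0, 1, 2, 0, 2], 535)], 63), ([(55, [1, 3, 0, 2, 1, 2, 0, 3, 1, 3, 0, 3, 3], 99), (96, [1, 2, 0, 2, 2, 1, 2, 0, 1, 2, 0, 3, 3, 1, 2, 0, 3, 1, 3, 0], 518), (97, [1, 3, 0, 1, 3, 0, 3, 3], 189)], 0), ([(73, [2, 2, 1, 2, 0, 3, 1, 3, 0, 2, 1, 2, 0, 2, 1, 2, 0, 3, 3], 160), (72, [1, 2, 0, 2, 1, 3, 0, 3, 1, 2, 0, 2, 2, 2, 1, 2, 0, 1, 2, 0, 1, 2, 0, 2, 2], 169), (69, [1, 3, 0, 1, 3, 0, 3, 3], 213)], 110), ([(72, [2, 2, 1, 2, 0, 3, 1, 3, 0, 2, 1, 2, 0, 2, 1, 2, 0, 3, 3], 160), (75, [1, 2, 0, 2, 1, 3, 0, 3, 1, 3, 0, 2, 1, 2, 0, 2, 2, 1, 3, 0, 1, 3, 0,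 2], 89), (62, [1, 2, 0, 3, 1, 3, 0, 1, 3, 0, 3, 3], 112)], 146), ([(60, [1, 2, 0, 1, 2, 0, 1, 2, 0, 2, 1, 3, 0, 1, 3, 0, 3, 1, 3, 0, 1, 3, 0, 3], 130), (91, [2, 1, 2, 0, 3, 3, 1, 2, 0, 2, 2, 1, 2, 0], 469), (93, [1, 2, 0, 3, 3, 1, 3, 0, 3, 1, 2, 0, 2, 1, 2, 0, 1, 2, 0, 2], 258)], 182), ([(59, [1, 2, 0, 1, 2, 0, 1, 2, 0, 2, 1, 3, 0, 1, 3, 0, 3, 1, 3, 0, 1, 3, 0, 3], 130), (74, [2, 1, 2, 0, 1, 2, 0, 2, 2, 2, 1, 2, 0, 2, 2, 1, 3, 0, 2], 37), (70, [3, 1, 3, 0, 1, 3, 0, 2, 2, 1, 3, 0, 1, 3, 0, 3, 1, 2, 0, 1, 2, 0, 2], 11)], 146), ([(75, [2, 1, 2, 0, 1, 2, 0, 1, 2, 0, 2, 1, 3, 0, 3, 1, 3, 0, 2, 1, 2, 0, 2, 2, 1, 2, 0], 214), (72, [1, 2, 0, 1, 2, 0, 2, 2, 2, 1, 2, 0, 3, 1, 3, 0, 1, 3, 0,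 3], 21), (72, [1, 2, 0, 2, 1, 2, 0, 3, 1, 3, 0, 2, 2, 1, 2, 0, 2, 1, 3, 0, 2, 1, 2, 0], 112)], 40), ([(74, [2, 1, 2, 0, 1, 2, 0, 1, 2, 0, 2, 1, 3, 0, 3, 1, 3, 0, 2, 1, 2, 0, 2, 2, 1, 2, 0], 214), (75, [1, 2, 0, 1, 2, 0, 1, 2, 0, 2, 2, 1, 2, 0, 2, 1, 3, 0, 1, 3, 0, 3, 1, 3, 0, 2], 180), (73, [2, 2, 1, 3, 0, 3, 1, 2, 0, 1, 2, 0, 2, 1, 2, 0, 1, 2, 0, 2, 1, 3, 0, 2], 184)], 34), ([(73, [2, 1, 2, 0, 2, 2, 2, 1, 3, 0, 1, 3, 0, 3, 1, 3, 0, 2, 1, 2, 0, 1, 2, 0], 40), (75, [2, 1, 3, 0, 1, 3, 0, 3, 3, 1, 3, 0, 3, 1, 2, 0, 2, 1, 2, 0, 3, 1, 3, 0], 161), (74, [1, 2, 0, 3, 1, 3, 0, 1, 3, 0, 2, 1, 2, 0, 1, 2, 0, 2, 1, 3, 0, 1, 3, 0, 2, 1, 2, 0], 180)], 159), ([(72, [2, 1, 2, 0, 2, 2, 2, 1, 3,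 0, 1, 3, 0, 3, 1, 3, 0, 2, 1, 2, 0, 1, 2, 0], 40), (72, [3, 1, 3, 0, 3, 1, 2, 0, 1, 2, 0, 2, 1, 2, 0, 1, 2, 0, 2, 1, 3, 0], 151), (75, [1, 3, 0, 3, 1, 2, 0, 2, 2, 1, 2, 0, 1, 2, 0, 1, 2, 0, 3, 1, 3, 0, 2, 1, 2, 0], 154)], 159), ([(82, [1, 2, 0, 2, 2, 1, 2, 0, 3, 1, 3, 0, 2, 1, 2, 0], 183), (31, [3, 3, 1, 2, 0, 2, 2, 1, 2, 0], 964), (11, [1, 3, 0, 2, 1, 2, 0, 3], 65676)], 2), ([(83, [1, 2, 0, 2, 2, 1, 2, 0, 3, 1, 3, 0, 2, 1, 2, 0], 333), (85, [1, 2, 0, 1, 2, 0, 2, 2, 1, 3, 0, 2, 1, 2, 0, 2, 1, 2, 0, 3, 3], 57), (78, [1, 2, 0, 2, 2, 1, 2, 0, 1, 2, 0, 2], 33)], 180), ([(87, [2, 1, 2, 0, 2, 1, 2, 0, 1, 2, 0, 2, 2, 1, 2, 0], 222), (42, [2, 1, 3, 0, 2, 1, 2, 0, 3, 3], 1213), (79, [3, 1,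 2, 0, 2, 2], 419)], 185), ([(86, [2, 1, 2, 0, 2, 2, 1, 2, 0, 3, 3, 1, 2, 0, 2, 1, 3, 0], 215), (63, [2, 1, 2, 0, 2, 2, 1, 2, 0, 3, 3, 1, 2, 0, 2, 1, 3, 0], 50), (76, [3, 1, 3, 0, 1, 3, 0, 2], 299)], 87), ([(88, [2, 1, 3, 0, 2, 2, 1, 3, 0, 2, 1, 2, 0, 2, 1, 3, 0, 3], 30), (89, [1, 2, 0, 1, 2, 0, 2, 2, 1, 3, 0, 1, 3, 0], 496), (63, [1, 3, 0, 1, 3, 0, 3, 3], 2)], 462), ([(89, [2, 1, 3, 0, 3, 1, 2, 0, 1, 2, 0, 2, 1, 2, 0, 1, 2, 0, 1, 2, 0, 3], 212), (58, [3, 3, 1, 2, 0, 2, 1, 2, 0, 3, 1, 3, 0, 3, 3], 33), (24, [1, 3, 0, 1, 3, 0, 3, 3], 4460)], 300), ([(89, [1, 2, 0, 1, 2, 0, 2, 2, 1, 3, 0, 2, 1, 2, 0, 2, 1, 2, 0, 3, 3], 57), (60, [2, 1, 3, 0, 3, 1, 2, 0, 2, 1, 2, 0, 2, 2, 1, 3, 0, 1,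 3, 0], 204), (83, [2, 1, 3, 0, 2, 2, 2, 1, 2, 0, 3, 1, 3, 0, 2, 1, 2, 0, 3], 439)], 411), ([(88, [3, 1, 3, 0, 1, 3, 0, 2, 2, 1, 2, 0, 3, 3, 1, 2, 0, 2, 1, 3, 0], 261), (82, [2, 2, 1, 2, 0, 1, 2, 0, 2, 1, 3, 0, 2, 2, 1, 3, 0, 3, 1, 3, 0], 17), (40, [1, 3, 0, 1, 3, 0, 3, 3], 342)], 0), ([(90, [2, 2, 2, 1, 3, 0, 3, 1, 2, 0, 3, 3, 1, 2, 0, 3], 59), (57, [1, 2, 0, 2, 1, 2, 0, 3, 3, 1, 2, 0, 3, 1, 3, 0, 2, 1, 2, 0], 117), (85, [1, 2, 0, 3, 3, 1, 2, 0, 3, 1, 3, 0, 2, 2, 1, 3, 0], 99)], 79), ([(91, [2, 2, 2, 1, 3, 0, 3, 1, 2, 0, 3, 3, 1, 2, 0, 3], 59), (97, [2, 1, 2, 0, 1, 2, 0, 2, 1, 3, 0, 3, 3, 1, 2, 0, 2, 2], 31), (57, [2, 1, 2, 0, 2, 1, 2, 0, 1, 2, 0, 2, 2, 1, 2, 0], 58)], 427), ([(90,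 [3, 3, 1, 3, 0, 2, 2, 1, 2, 0, 3, 3, 1, 2, 0, 2, 1, 3, 0], 241), (56, [2, 1, 2, 0, 1, 2, 0, 2, 1, 3, 0, 1, 3, 0, 3, 3], 111), (42, [1, 3, 0, 3, 1, 2, 0, 1, 2, 0, 2, 2], 845)], 432), ([(91, [2, 1, 2, 0, 2, 2, 1, 3, 0, 1, 3, 0, 2, 2, 1, 2, 0, 1, 2, 0, 3, 1, 3, 0, 3], 229), (93, [3, 1, 3, 0, 2, 2, 2, 1, 2, 0, 1, 2, 0, 2, 1, 3, 0, 1, 3, 0, 3, 3], 126), (65, [2, 1, 2, 0, 3, 3, 1, 3, 0, 1, 3, 0, 3, 3, 1, 2, 0, 2, 1, 2, 0], 5)], 244), ([(91, [1, 2, 0, 2, 1, 3, 0, 3, 1, 3, 0, 2, 2, 1, 2, 0, 1, 2, 0, 2, 1, 2, 0], 316), (92, [1, 2, 0, 1, 2, 0, 1, 2, 0, 2, 1, 3, 0, 1, 3, 0, 3, 1, 3, 0, 1, 3, 0, 3], 456), (54, [1, 3, 0, 1, 3, 0, 3, 3], 16)], 26), ([(90, [1, 2, 0, 2, 1, 3, 0, 3, 1, 3, 0, 2, 2,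 1, 2, 0, 1, 2, 0, 2, 1, 2, 0], 316), (60, [2, 2, 2, 1, 2, 0, 1, 2, 0, 2, 1, 3, 0, 3, 1, 2, 0, 1, 2, 0, 2], 17), (88, [1, 2, 0, 2, 2, 1, 3, 0, 2, 2, 1, 2, 0, 2, 2, 1, 3, 0, 3, 1, 3, 0, 2], 486)], 194), ([(90, [2, 1, 2, 0, 2, 2, 2, 1, 3, 0, 2, 1, 2, 0], 469), (71, [2, 2, 1, 3, 0, 3, 3, 1, 2, 0, 1, 2, 0, 3], 122), (95, [2, 2, 1, 3, 0, 2, 2, 1, 2, 0, 2, 2, 1, 3, 0, 3, 1, 3, 0], 228)], 49), ([(91, [2, 1, 2, 0, 2, 2, 2, 1, 3, 0, 2, 1, 2, 0], 469), (93, [2, 2, 1, 3, 0, 3, 3, 1, 2, 0, 1, 2, 0, 2, 1, 2, 0], 146), (60, [1, 3, 0, 1, 3, 0, 3, 3], 20)], 0), ([(95, [2, 1, 3, 0, 1, 3, 0, 2, 2, 2, 1, 3, 0, 2, 1, 2, 0], 43), (89, [3, 1, 2, 0, 3, 3, 1, 3, 0, 2, 1, 2, 0, 2, 2], 263), (55, [1, 2, 0,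 2, 2, 1, 3, 0, 2, 2, 1, 2, 0, 2, 2, 1, 3, 0, 3, 1, 3, 0, 2], 13)], 379), ([(95, [2, 1, 2, 0, 3, 3, 1, 3, 0, 2, 1, 2, 0, 2, 1, 3, 0, 3, 1, 2, 0, 2, 2, 1, 3, 0], 381), (87, [1, 2, 0, 1, 2, 0, 2, 1, 3, 0, 3, 1, 3, 0, 1, 3, 0, 3, 1, 2, 0, 2, 1, 2, 0], 196), (45, [1, 3, 0, 1, 3, 0, 3, 3], 398)], 0), ([(93, [1, 2, 0, 3, 1, 3, 0, 3, 1, 2, 0, 1, 2, 0, 2, 1, 2, 0, 1, 2, 0, 3], 54), (74, [2, 1, 2, 0, 1, 2, 0, 2, 1, 3, 0, 2, 1, 2, 0, 2, 2, 2], 168), (71, [2, 1, 3, 0, 3, 1, 2, 0, 2, 1, 2, 0, 1, 2, 0, 1, 2, 0, 3, 3], 54)], 411), ([(92, [2, 1, 3, 0, 3, 1, 3, 0], 432), (54, [2, 1, 2, 0, 1, 2, 0, 2, 1, 2, 0, 3, 1, 3, 0, 2, 2, 1, 2, 0, 2], 12), (91, [3, 3, 1, 2, 0, 2, 2, 2], 268)], 297), ([(96, [2,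 2, 1, 3, 0, 3, 3, 1, 3, 0, 1, 3, 0, 2, 1, 2, 0, 2, 1, 3, 0, 3], 104), (92, [1, 3, 0, 2, 1, 2, 0, 3, 1, 3, 0, 3, 3], 124), (66, [1, 3, 0, 1, 3, 0, 3, 3], 119)], 522), ([(97, [2, 2, 1, 3, 0, 3, 3, 1, 3, 0, 1, 3, 0, 2, 1, 2, 0, 2, 1, 3, 0, 3], 104), (55, [2, 1, 3, 0, 2, 2, 1, 2, 0, 1, 2, 0, 3, 1, 3, 0, 3, 1, 2, 0, 3], 94), (96, [3, 1, 3, 0, 1, 3, 0, 2, 2, 1, 3, 0, 1, 3, 0, 3, 1, 2, 0, 1, 2, 0, 2], 590)], 517), ([(98, [1, 2, 0, 1, 2, 0, 1, 2, 0, 2, 1, 3, 0, 1, 3, 0, 3, 1, 3, 0, 2, 1, 2, 0], 74), (98, [1, 2, 0, 3, 1, 3, 0, 3, 3, 1, 3, 0, 1, 3, 0], 159), (98, [2, 1, 2, 0, 1, 2, 0, 2, 1, 3, 0, 1, 3, 0, 3], 166)], 20), ([(99, [3, 1, 3, 0, 1, 3, 0, 3, 3, 1, 3, 0, 3, 1, 2, 0], 2558), (74,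 [1, 3, 0, 2, 1, 2, 0, 2, 1, 2, 0, 1, 2, 0, 2, 1, 3, 0, 2], 102), (61, [1, 3, 0, 1, 3, 0, 3, 3], 109)], 2342), ([(100, [1, 3, 0, 1, 3, 0, 3, 3], 27878), (100, [1, 3, 0, 1, 3, 0, 3, 3], 11628), (100, [1, 3, 0, 1, 3, 0, 3, 3], 11628)], 26170)],
[([(0, [], 0), (5, [], 0), (2, [], 24400)], 0), ([(5, [], 860), (2, [], 24400), (0, [], 0)], 63224), ([(6, [], 860), (14, [], 2300), (3, [], 24400)], 63224), ([(7, [], 9798), (26, [], 9832), (4, [], 24400)], 22204), ([(8, [], 9798), (12, [], 2300), (1, [], 24400)], 22204), ([(9, [2, 2, 1, 2, 0, 3, 1, 3, 0, 2, 2, 1, 3, 0], 83082), (19, [1, 2, 0, 1, 2, 0, 1, 2, 0, 3, 3, 1, 3, 0, 3, 3, 1, 2, 0], 3434), (12, [2, 2, 2], 3220)], 9979), ([(9, [1, 2,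 0, 1, 2, 0, 2, 2, 1, 2, 0], 89503), (17, [2, 2, 1, 2, 0, 3, 1, 3, 0, 2, 2, 1, 3, 0], 4446), (5, [2, 2, 2], 26189)], 9979), ([(10, [2, 2, 1, 2, 0, 3, 1, 3, 0, 2, 2, 1, 3, 0], 35953), (34, [2, 2, 1, 3, 0, 3, 1, 2, 0, 1, 2, 0, 2, 1, 3, 0, 2], 754), (14, [2, 2, 2], 2981)], 9979), ([(10, [1, 2, 0, 1, 2, 0, 2, 2, 1, 2, 0], 66925), (36, [2, 2, 1, 3, 0, 3, 1, 2, 0, 1, 2, 0, 2, 1, 3, 0, 2], 752), (26, [2, 2, 2], 42640)], 9979), ([(11, [3, 1, 2, 0, 1, 2, 0, 2, 1, 3, 0], 62105), (80, [1, 3, 0, 3, 3, 1, 2, 0, 3, 3, 1, 2, 0, 2, 1, 3, 0], 44), (17, [2, 1, 3, 0, 3, 3], 3797)], 0), ([(11, [1, 2, 0, 2, 1, 3, 0, 2, 2], 20090), (82, [1, 3, 0, 3, 3, 1, 2, 0, 3, 3, 1, 2, 0, 2, 1, 3, 0], 80), (31, [2,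 1, 3, 0, 3, 3], 761)], 94616), ([(9, [2, 2, 1, 3, 0, 2], 71283), (24, [2, 1, 3, 0, 2], 2985), (77, [2, 1, 3, 0, 2], 300)], 71283), ([(18, [2, 2, 1, 3, 0, 3, 1, 2, 0, 1, 2, 0, 2, 1, 3, 0, 2], 3929), (50, [2, 2, 1, 3, 0, 3, 1, 2, 0, 1, 2, 0, 2, 1, 3, 0, 2], 146), (27, [2, 2, 2], 42683)], 2744), ([(19, [2, 2, 1, 3, 0, 3, 1, 2, 0, 1, 2, 0, 2, 1, 3, 0, 2], 3929), (17, [1, 2, 0, 1, 2, 0, 2, 2, 1, 2, 0], 113), (6, [2, 2, 2], 73935)], 2744), ([(20, [2, 2, 1, 3, 0, 3, 1, 2, 0, 1, 2, 0, 2, 1, 3, 0, 2], 3037), (49, [2, 2, 1, 3, 0, 3, 1, 2, 0, 1, 2, 0, 2, 1, 3, 0, 2], 14), (15, [2, 2, 2], 2981)], 2744), ([(21, [2, 2, 1, 3, 0, 3, 1, 2, 0, 1, 2, 0, 2, 1, 3, 0, 2], 3037), (31, [1, 2, 0, 1, 2, 0,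 2, 2, 1, 2, 0], 800), (8, [2, 2, 2], 102913)], 2744), ([(24, [1, 3, 0, 3, 3, 1, 2, 0, 3, 3, 1, 2, 0, 2, 1, 3, 0], 4084), (77, [3, 1, 2, 0, 1, 2, 0, 2, 1, 3, 0], 284), (9, [2, 1, 3, 0, 3, 3], 69620)], 2985), ([(24, [3, 1, 2, 0, 2, 1, 2, 0, 3, 1, 3, 0, 2, 1, 2, 0], 1883), (87, [2, 2, 2, 1, 2, 0, 2, 1, 2, 0, 1, 2, 0, 2, 1, 2, 0, 1, 2, 0, 1, 2, 0], 118), (33, [2, 1, 3, 0, 3, 3], 897)], 4192), ([(24, [2, 1, 2, 0, 2, 2, 1, 2, 0, 3, 1, 3, 0, 1, 3, 0, 2, 1, 2, 0], 1346), (80, [2, 1, 3, 0, 1, 3, 0, 3, 1, 2, 0, 1, 2, 0, 3, 1, 3, 0, 1, 3, 0, 3, 3, 1, 2, 0], 53), (19, [2, 1, 2, 0, 2, 1, 3, 0, 3, 3, 1, 3, 0, 2], 3025)], 3240), ([(24, [3, 3, 1, 2, 0, 1, 2, 0, 2, 1, 3, 0, 3, 3, 1, 3, 0], 1565),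 (89, [1, 3, 0, 3, 3, 1, 2, 0, 3, 3, 1, 2, 0, 2, 1, 3, 0], 324), (47, [2, 1, 3, 0, 3, 3], 174)], 0), ([(25, [1, 3, 0, 3, 3, 1, 2, 0, 3, 3, 1, 2, 0, 2, 1, 3, 0], 4399), (67, [1, 2, 0, 1, 2, 0, 1, 2, 0, 2, 1, 3, 0, 1, 3, 0, 2, 1, 2, 0, 1, 2, 0, 3, 1, 3, 0], 143), (34, [2, 1, 3, 0, 3, 3], 409)], 0), ([(25, [2, 2, 2, 1, 2, 0, 1, 2, 0, 3, 1, 3, 0, 1, 3, 0], 2817), (59, [3, 1, 2, 0, 2, 2, 1, 3, 0, 3, 1, 2, 0, 2, 2, 2, 1, 2, 0], 24), (49, [2, 1, 3, 0, 3, 3], 237)], 0), ([(25, [1, 3, 0, 3, 3, 1, 2, 0, 2, 1, 3, 0, 2, 2, 1, 2, 0], 1252), (58, [2, 1, 2, 0, 3, 1, 3, 0, 2, 1, 2, 0, 2, 2, 1, 2, 0, 3, 3], 14), (23, [1, 2, 0, 2, 1, 3, 0, 3, 1, 3, 0, 1, 3, 0, 3, 1, 2, 0, 2], 17)], 1424), ([(25, [2,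 1, 2, 0, 1, 2, 0, 1, 2, 0, 2, 2, 2, 1, 3, 0, 1, 3, 0], 1148), (56, [2, 1, 3, 0, 1, 3, 0, 2, 2, 1, 3, 0, 1, 3, 0, 3, 1, 2, 0, 2], 159), (30, [2, 1, 2, 0, 3, 1, 3, 0, 2, 1, 2, 0, 2, 2], 1342)], 2983), ([(24, [2, 2, 2, 1, 2, 0, 3, 3, 1, 3, 0, 3, 1, 2, 0, 1, 2, 0], 1869), (88, [1, 2, 0, 2, 1, 3, 0, 3, 1, 2, 0, 2, 2, 2, 1, 3, 0, 1, 3, 0, 2], 352), (80, [2, 2, 2, 1, 2, 0, 3, 1, 3, 0, 3, 3, 1, 2, 0, 2, 2, 1, 2, 0], 142)], 1873), ([(24, [1, 2, 0, 1, 2, 0, 1, 2, 0, 3, 1, 3, 0, 3, 3, 1, 3, 0, 2, 2], 2523), (81, [1, 3, 0, 1, 3, 0, 3, 3, 1, 3, 0, 2, 1, 2, 0, 3, 1, 3, 0], 99), (58, [2, 1, 3, 0, 3, 3], 85)], 4816), ([(28, [2, 2, 1, 3, 0, 3, 1, 2, 0, 1, 2, 0, 2, 1, 3, 0, 2], 46738), (31, [2, 2,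 1, 2, 0, 3, 1, 3, 0, 2, 2, 1, 3, 0], 668), (7, [2, 2, 2], 22850)], 41609), ([(29, [2, 2, 1, 3, 0, 3, 1, 2, 0, 1, 2, 0, 2, 1, 3, 0, 2], 43155), (47, [2, 2, 1, 3, 0, 3, 1, 2, 0, 1, 2, 0, 2, 1, 3, 0, 2], 146), (13, [2, 2, 2], 2960)], 41609), ([(29, [2, 1, 3, 0, 3, 3, 1, 2, 0, 2, 1, 3, 0], 1323), (67, [2, 2, 1, 3, 0, 3, 1, 2, 0, 2, 2, 2, 1, 2, 0], 101), (36, [2, 1, 3, 0, 3, 3], 618)], 0), ([(28, [2, 1, 3, 0, 3, 3, 1, 2, 0, 2, 1, 3, 0], 2160), (44, [1, 2, 0, 1, 2, 0, 2, 1, 2, 0, 3, 3, 1, 2, 0, 2, 2, 1, 2, 0], 909), (50, [2, 1, 3, 0, 3, 3], 77)], 0), ([(40, [1, 3, 0, 3, 3, 1, 2, 0, 3, 3, 1, 2, 0, 2, 1, 3, 0], 991), (77, [1, 2, 0, 2, 1, 3, 0, 2, 2], 480), (10, [2, 1, 3, 0, 3, 3], 54170)],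 0), ([(41, [1, 3, 0, 3, 3, 1, 2, 0, 3, 3, 1, 2, 0, 2, 1, 3, 0], 819), (58, [2, 2, 2, 1, 3, 0, 3, 1, 2, 0, 3, 3, 1, 3, 0, 2, 1, 2, 0], 33), (22, [1, 2, 0, 2, 2, 1, 2, 0, 2], 730)], 833), ([(42, [1, 3, 0, 3, 3, 1, 2, 0, 3, 3, 1, 2, 0, 2, 1, 3, 0], 829), (80, [2, 2, 1, 3, 0, 3, 3, 1, 3, 0, 2, 1, 2, 0, 1, 2, 0], 238), (16, [2, 1, 3, 0, 3, 3], 2465)], 1337), ([(43, [1, 3, 0, 3, 3, 1, 2, 0, 3, 3, 1, 2, 0, 2, 1, 3, 0], 817), (43, [3, 1, 2, 0, 2, 1, 3, 0, 3, 1, 2, 0, 2, 1, 2, 0, 3], 451), (32, [2, 1, 3, 0, 3, 3], 87)], 752), ([(44, [1, 3, 0, 3, 3, 1, 2, 0, 3, 3, 1, 2, 0, 2, 1, 3, 0], 991), (58, [2, 1, 2, 0, 2, 1, 3, 0, 2, 1, 2, 0, 1, 2, 0, 2, 1, 2, 0, 3, 1, 3, 0], 79), (21, [2, 1, 2, 0,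 2, 1, 3, 0, 3, 3, 1, 3, 0, 2], 4962)], 456), ([(44, [1, 3, 0, 2, 2, 1, 2, 0, 3, 1, 3, 0, 2, 1, 2, 0], 932), (50, [2, 1, 3, 0, 3, 3, 1, 2, 0, 2, 1, 3, 0], 144), (28, [2, 1, 3, 0, 3, 3], 55638)], 569), ([(44, [2, 2, 2, 1, 2, 0, 3, 3, 1, 3, 0, 1, 3, 0, 3, 3, 1, 2, 0, 1, 2, 0], 713), (70, [1, 2, 0, 2, 2, 1, 2, 0, 2, 2, 1, 2, 0, 1, 2, 0, 1, 2, 0, 2], 9), (53, [2, 1, 3, 0, 3, 3], 71)], 0), ([(45, [1, 3, 0, 3, 3, 1, 2, 0, 3, 3, 1, 2, 0, 2, 1, 3, 0], 829), (92, [1, 3, 0, 3, 3, 1, 2, 0, 3, 3, 1, 2, 0, 2, 1, 3, 0], 291), (46, [2, 1, 3, 0, 3, 3], 174)], 0), ([(45, [1, 3, 0, 2, 2, 1, 2, 0, 3, 1, 3, 0, 2, 1, 2, 0], 848), (94, [2, 2, 2, 1, 2, 0, 3, 3, 1, 3, 0, 1, 3, 0, 3, 3, 1, 2, 0, 1, 2, 0],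 510), (39, [2, 1, 3, 0, 3, 3], 410)], 668), ([(45, [2, 2, 2, 1, 2, 0, 3, 3, 1, 3, 0, 1, 3, 0, 3, 3, 1, 2, 0, 1, 2, 0], 616), (97, [1, 3, 0, 3, 3, 1, 2, 0, 3, 3, 1, 2, 0, 2, 1, 3, 0], 286), (51, [2, 1, 3, 0, 3, 3], 174)], 0), ([(44, [2, 2, 2, 1, 2, 0, 2, 1, 3, 0, 3, 3, 1, 2, 0, 3, 3], 878), (72, [2, 1, 2, 0, 3, 1, 3, 0, 1, 3, 0, 2, 1, 2, 0, 1, 2, 0, 3], 223), (56, [2, 1, 3, 0, 3, 3], 177)], 1341), ([(44, [2, 2, 1, 3, 0, 3, 3, 1, 2, 0, 2, 1, 2, 0, 3, 1, 3, 0, 2], 788), (54, [2, 2, 1, 3, 0, 3, 1, 2, 0, 2, 2, 2, 1, 3, 0, 1, 3, 0], 118), (82, [2, 1, 3, 0, 3, 3], 197)], 0), ([(45, [2, 2, 2, 1, 2, 0, 2, 1, 3, 0, 3, 3, 1, 2, 0, 3, 3], 750), (94, [2, 2, 2, 1, 2, 0, 3, 1, 3, 0, 2, 1, 2, 0,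 2, 2, 1, 3, 0], 531), (43, [1, 3, 0, 2, 1, 2, 0, 2, 2, 1, 3, 0, 1, 3, 0], 541)], 94), ([(45, [2, 2, 1, 3, 0, 3, 3, 1, 2, 0, 2, 1, 2, 0, 3, 1, 3, 0, 2], 737), (95, [3, 1, 2, 0, 2, 1, 3, 0, 2, 1, 2, 0, 3, 1, 3, 0, 3], 112), (87, [3, 1, 2, 0, 1, 2, 0, 2, 2, 1, 2, 0, 2, 1, 3, 0, 3, 3, 1, 3, 0], 186)], 909), ([(44, [2, 1, 3, 0, 2, 1, 2, 0, 3, 1, 3, 0, 3, 1, 2, 0, 2, 1, 2, 0, 1, 2, 0], 1117), (73, [2, 1, 3, 0, 2, 1, 2, 0], 26), (67, [3, 1, 2, 0, 1, 2, 0, 3, 1, 3, 0, 3], 146)], 537), ([(45, [2, 1, 3, 0, 2, 1, 2, 0, 2, 1, 2, 0, 3, 3, 1, 3, 0, 2, 1, 2, 0], 1338), (96, [2, 2, 1, 2, 0, 1, 2, 0, 1, 2, 0, 2, 1, 2, 0, 1, 2, 0, 2], 280), (94, [2, 1, 3, 0, 3, 3], 529)], 0), ([(54, [1, 3, 0, 3, 3,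 1, 2, 0, 3, 3, 1, 2, 0, 2, 1, 3, 0], 151), (80, [1, 3, 0, 2, 2, 1, 3, 0, 2, 1, 2, 0, 3, 1, 3, 0, 1, 3, 0, 3, 1, 3, 0], 222), (18, [2, 1, 3, 0, 3, 3], 3934)], 0), ([(55, [1, 3, 0, 3, 3, 1, 2, 0, 3, 3, 1, 2, 0, 2, 1, 3, 0], 151), (94, [1, 2, 0, 3, 1, 3, 0, 1, 3, 0, 3, 1, 3, 0, 1, 3, 0, 2, 2, 1, 2, 0], 295), (37, [2, 1, 2, 0, 2, 1, 3, 0, 3, 3, 1, 3, 0, 2], 604)], 133), ([(59, [1, 3, 0, 3, 3, 1, 2, 0, 3, 3, 1, 2, 0, 2, 1, 3, 0], 137), (58, [1, 3, 0, 3, 3, 1, 2, 0, 3, 3, 1, 2, 0, 2, 1, 3, 0], 146), (20, [2, 1, 3, 0, 3, 3], 3444)], 0), ([(60, [1, 3, 0, 3, 3, 1, 2, 0, 3, 3, 1, 2, 0, 2, 1, 3, 0], 137), (90, [1, 2, 0, 2, 2, 1, 3, 0, 2, 2, 1, 3, 0, 2, 1, 2, 0, 1, 2, 0, 3], 491), (48, [2, 1,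 2, 0, 2, 1, 3, 0, 3, 3, 1, 3, 0, 2], 157)], 134), ([(66, [1, 3, 0, 3, 3, 1, 2, 0, 3, 3, 1, 2, 0, 2, 1, 3, 0], 151), (94, [1, 3, 0, 2, 2, 1, 2, 0, 3, 1, 3, 0, 2, 1, 2, 0], 487), (38, [2, 1, 3, 0, 3, 3], 1038)], 0), ([(67, [1, 3, 0, 3, 3, 1, 2, 0, 3, 3, 1, 2, 0, 2, 1, 3, 0], 151), (36, [2, 1, 3, 0, 3, 3, 1, 2, 0, 2, 1, 3, 0], 875), (29, [2, 1, 3, 0, 3, 3], 77180)], 0), ([(70, [1, 3, 0, 3, 3, 1, 2, 0, 3, 3, 1, 2, 0, 2, 1, 3, 0], 137), (67, [1, 2, 0, 3, 1, 3, 0, 2, 1, 2, 0, 1, 2, 0, 3, 1, 3, 0, 2, 1, 2, 0], 208), (35, [2, 1, 3, 0, 3, 3], 685)], 48), ([(71, [1, 3, 0, 3, 3, 1, 2, 0, 3, 3, 1, 2, 0, 2, 1, 3, 0], 137), (93, [1, 2, 0, 1, 2, 0, 2, 1, 2, 0, 3, 3, 1, 2, 0, 2, 2, 1, 2, 0], 574),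 (52, [2, 1, 3, 0, 3, 3], 223)], 0), ([(72, [2, 1, 2, 0, 2, 1, 3, 0, 1, 3, 0, 3, 1, 2, 0, 2, 1, 2, 0, 1, 2, 0, 3], 170), (55, [2, 1, 2, 0, 1, 2, 0, 2, 1, 3, 0, 3, 1, 2, 0, 2, 1, 2, 0, 1, 2, 0, 2, 2], 194), (92, [2, 1, 3, 0, 3, 3], 541)], 0), ([(73, [2, 1, 2, 0, 2, 1, 3, 0, 1, 3, 0, 3, 1, 2, 0, 2, 1, 2, 0, 1, 2, 0, 3], 170), (60, [2, 2, 1, 3, 0, 3, 3, 1, 2, 0, 2, 1, 3, 0, 2, 2, 1, 3, 0], 222), (89, [2, 1, 3, 0, 3, 3], 496)], 0), ([(72, [2, 1, 2, 0, 1, 2, 0, 2, 1, 3, 0, 1, 3, 0, 2, 1, 2, 0, 2], 52), (67, [2, 2, 1, 3, 0, 2, 2, 1, 3, 0, 2, 1, 2, 0, 1, 2, 0, 2, 1, 2, 0, 3], 158), (41, [1, 3, 0, 2, 1, 2, 0, 2, 2, 1, 3, 0, 1, 3, 0], 1000)], 32), ([(60, [1, 2, 0, 2, 1, 2, 0, 2, 1, 3, 0, 1,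 3, 0, 3, 3, 1, 3, 0, 2], 76), (80, [1, 3, 0, 1, 3, 0, 3, 1, 2, 0, 2, 1, 3, 0, 2, 1, 2, 0], 211), (25, [2, 1, 3, 0, 3, 3], 1105)], 184), ([(64, [1, 3, 0, 1, 3, 0, 3, 3, 1, 3, 0, 2, 1, 2, 0, 3, 1, 3, 0], 84), (54, [1, 3, 0, 2, 1, 2, 0, 1, 2, 0, 2, 2, 1, 2, 0, 1, 2, 0, 2], 60), (84, [1, 2, 0, 2, 1, 2, 0, 1, 2, 0, 2, 1, 3, 0, 3, 1, 3, 0, 2, 2, 1, 3, 0], 99)], 31), ([(74, [2, 1, 2, 0, 2, 1, 3, 0, 1, 3, 0, 3, 1, 2, 0, 2, 1, 2, 0, 1, 2, 0, 3], 128), (57, [2, 1, 2, 0, 1, 2, 0, 2, 1, 2, 0, 3, 3, 1, 3, 0, 2], 211), (90, [2, 1, 3, 0, 3, 3], 430)], 146), ([(75, [2, 1, 2, 0, 2, 1, 3, 0, 1, 3, 0, 3, 1, 2, 0, 2, 1, 2, 0, 1, 2, 0, 3], 128), (74, [2, 2, 1, 3, 0, 2, 1, 2, 0, 2, 1, 3, 0, 1, 3, 0, 3,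 3, 1, 2, 0, 3, 3], 18), (59, [2, 1, 2, 0, 3, 1, 3, 0, 3, 1, 2, 0, 1, 2, 0, 2, 1, 2, 0, 3], 60)], 208), ([(74, [2, 2, 2, 1, 3, 0, 1, 3, 0, 2, 1, 2, 0, 1, 2, 0, 2, 1, 3, 0], 60), (73, [1, 3, 0, 1, 3, 0, 2, 1, 2, 0, 1, 2, 0, 2, 1, 3, 0, 1, 3, 0, 3, 1, 3, 0], 193), (68, [1, 2, 0, 2, 2, 2], 233)], 146), ([(75, [2, 2, 2, 1, 3, 0, 1, 3, 0, 2, 1, 2, 0, 1, 2, 0, 2, 1, 3, 0], 60), (61, [3, 3, 1, 3, 0, 3, 1, 2, 0, 2, 1, 2, 0, 1, 2, 0], 87), (99, [2, 1, 3, 0, 3, 3], 15375)], 0), ([(72, [1, 3, 0, 3, 3, 1, 3, 0, 3], 128), (72, [2, 1, 2, 0, 2, 1, 3, 0, 2, 2, 1, 2, 0, 2, 1, 3, 0, 1, 3, 0, 2], 169), (64, [2, 1, 2, 0, 2, 1, 2, 0, 3, 3, 1, 3, 0, 3, 1, 2, 0, 2], 129)], 215), ([(72, [2, 1, 2, 0, 2, 2,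 1, 3, 0, 3, 3, 1, 2, 0], 41), (54, [1, 3, 0, 3, 1, 3, 0, 2, 1, 2, 0, 1, 2, 0, 2, 1, 2, 0, 2, 1, 3, 0, 3], 220), (81, [2, 1, 3, 0, 3, 3], 247)], 0), ([(75, [2, 1, 3, 0, 2, 1, 2, 0, 1, 2, 0, 2, 1, 2, 0, 1, 2, 0, 2, 1, 3, 0, 3, 1, 3, 0], 94), (60, [2, 2, 1, 2, 0, 3, 3, 1, 3, 0, 2, 2, 1, 3, 0, 3], 149), (86, [3, 1, 2, 0, 2, 1, 3, 0, 3, 1, 3, 0, 1, 3, 0, 2, 2, 1, 3, 0, 2], 249)], 89), ([(72, [2, 1, 2, 0, 2, 1, 2, 0, 3, 3, 1, 2, 0, 3, 3, 1, 3, 0, 3, 1, 2, 0], 25), (56, [2, 2, 1, 3, 0, 3, 3, 1, 2, 0, 2, 2, 1, 2, 0, 3], 80), (44, [2, 2, 2, 1, 2, 0, 1, 2, 0, 2, 1, 2, 0, 2, 1, 3, 0], 1224)], 132), ([(73, [2, 1, 2, 0, 2, 1, 2, 0, 3, 3, 1, 2, 0, 3, 3, 1, 3, 0, 3, 1, 2, 0], 25), (55, [3, 1, 2,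 0, 3, 3, 1, 2, 0, 3, 3, 1, 3, 0, 3, 1, 2, 0], 184), (97, [2, 1, 3, 0, 3, 3], 505)], 0), ([(73, [2, 2, 2, 1, 3, 0, 1, 3, 0, 2, 1, 2, 0, 1, 2, 0, 2, 1, 3, 0], 88), (72, [1, 2, 0, 2, 1, 2, 0, 1, 2, 0, 1, 2, 0, 3, 1, 3, 0, 1, 3, 0, 2, 1, 2, 0], 169), (69, [2, 1, 3, 0, 3, 3], 47)], 110), ([(72, [2, 2, 2, 1, 3, 0, 1, 3, 0, 2, 1, 2, 0, 1, 2, 0, 2, 1, 3, 0], 88), (75, [1, 2, 0, 2, 2, 2, 1, 2, 0, 2, 1, 3, 0, 2, 2, 1, 2, 0, 3], 89), (62, [3, 3], 129)], 146), ([(74, [1, 2, 0, 3, 3, 1, 3, 0, 3, 1, 2, 0, 2, 2, 1, 2, 0, 1, 2, 0, 1, 2, 0], 198), (71, [3, 3, 1, 3, 0, 2, 1, 2, 0, 3, 1, 3, 0, 3, 3, 1, 2, 0, 1, 2, 0], 7), (93, [2, 2, 2, 1, 2, 0, 1, 2, 0, 2, 1, 2, 0, 2, 1, 3, 0], 543)], 9), ([(75, [1,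 2, 0, 3, 3, 1, 3, 0, 3, 1, 2, 0, 2, 2, 1, 2, 0, 1, 2, 0, 1, 2, 0], 198), (59, [3, 3, 1, 2, 0, 2, 2, 1, 3, 0, 2, 1, 2, 0, 3, 1, 3, 0, 3], 152), (70, [3, 1, 3, 0, 1, 3, 0, 3, 1, 2, 0, 2, 1, 2, 0, 1, 2, 0, 2, 2, 1, 2, 0], 205)], 93), ([(71, [2, 1, 3, 0, 3, 3, 1, 2, 0, 2, 2, 1, 3, 0, 2, 1, 2, 0, 2, 2], 36), (97, [3, 1, 2, 0, 2, 2, 1, 2, 0, 2, 2, 1, 2, 0], 168), (72, [2, 1, 2, 0, 1, 2, 0, 1, 2, 0, 3, 1, 3, 0, 1, 3, 0, 2, 2, 1, 3, 0, 1, 3, 0, 3, 3], 45)], 40), ([(70, [2, 1, 3, 0, 3, 3, 1, 2, 0, 2, 2, 1, 3, 0, 2, 1, 2, 0, 2, 2], 36), (75, [1, 2, 0, 2, 2, 2, 1, 2, 0, 2, 2, 1, 3, 0, 2, 1, 2, 0], 232), (73, [2, 1, 2, 0, 3, 3, 1, 2, 0, 1, 2, 0, 2, 1, 2, 0, 1, 2, 0, 3, 3], 191)], 34), ([(54,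 [2, 1, 3, 0, 3, 1, 2, 0, 1, 2, 0, 2, 1, 2, 0, 2, 2, 1, 3, 0, 1, 3, 0, 2, 1, 2, 0], 69), (90, [1, 2, 0, 2, 1, 3, 0, 3, 3, 1, 2, 0, 1, 2, 0, 1, 2, 0, 3, 1, 3, 0, 3, 1, 2, 0], 363), (74, [3, 1, 3, 0, 1, 3, 0, 2, 1, 2, 0, 1, 2, 0, 2, 1, 3, 0, 3, 1, 3, 0, 2, 1, 2, 0], 101)], 159), ([(55, [2, 1, 3, 0, 3, 1, 2, 0, 1, 2, 0, 2, 1, 2, 0, 2, 2, 1, 3, 0, 1, 3, 0, 2, 1, 2, 0], 69), (92, [1, 2, 0, 1, 2, 0, 2, 1, 2, 0, 3, 3, 1, 3, 0, 1, 3, 0, 3, 3, 1, 3, 0, 3, 3], 5), (75, [3, 1, 2, 0, 3, 3, 1, 2, 0, 2, 1, 3, 0, 3, 3, 1, 3, 0], 179)], 159), ([(80, [2, 1, 3, 0, 2], 48), (17, [2, 2, 1, 3, 0, 2], 2679), (11, [2, 1, 3, 0, 2], 24400)], 48), ([(81, [2, 1, 3, 0, 2], 44), (65, [2, 2, 1, 2, 0, 1, 2, 0,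 3, 3, 1, 2, 0, 1, 2, 0, 1, 2, 0], 108), (78, [2, 1, 3, 0, 3, 1, 3, 0, 2], 229)], 44), ([(87, [], 49), (42, [1, 2, 0, 2, 2, 1, 2, 0, 3, 1, 3, 0], 1081), (79, [1, 2, 0, 1, 2, 0, 2, 1, 3, 0], 295)], 116), ([(86, [1, 2, 0, 3, 3, 1, 2, 0, 2, 2, 1, 2, 0, 3, 3, 1, 2, 0], 205), (63, [1, 2, 0, 3, 3, 1, 2, 0, 2, 2, 1, 2, 0, 3, 3, 1, 2, 0], 50), (76, [1, 2, 0, 2, 2, 1, 2, 0, 3, 1, 3, 0], 286)], 61), ([(89, [3, 1, 2, 0, 2, 1, 2, 0, 3, 3, 1, 2, 0, 3, 1, 3, 0], 23), (72, [1, 3, 0, 2, 1, 2, 0, 1, 2, 0, 2, 1, 2, 0, 3, 3, 1, 3, 0, 3, 3], 125), (63, [2, 1, 3, 0, 3, 3], 58)], 462), ([(88, [1, 3, 0, 3, 1, 3, 0, 2, 1, 2, 0, 1, 2, 0, 2, 1, 2, 0, 2, 1, 3, 0, 3], 80), (80, [2, 1, 2, 0, 2, 1, 3, 0, 3, 3,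 1, 3, 0, 3, 3, 1, 2, 0], 49), (24, [2, 1, 3, 0, 3, 3], 4390)], 300), ([(88, [2, 2, 1, 3, 0, 3, 1, 2, 0, 2, 2, 2, 1, 3, 0, 1, 3, 0], 181), (88, [2, 1, 2, 0, 3, 1, 3, 0, 1, 3, 0, 3, 1, 2, 0, 2, 2, 1, 3, 0, 3], 428), (83, [2, 2, 1, 2, 0, 1, 2, 0, 1, 2, 0, 2, 1, 3, 0, 3, 1, 2, 0, 1, 2, 0, 1, 2, 0], 331)], 411), ([(89, [1, 2, 0, 2, 1, 3, 0, 2, 1, 2, 0, 3, 1, 3, 0, 3, 1, 2, 0, 2, 1, 2, 0], 355), (67, [1, 2, 0, 1, 2, 0, 2, 1, 3, 0, 3, 3, 1, 2, 0, 1, 2, 0, 2, 1, 3, 0, 1, 3, 0, 2], 119), (40, [2, 1, 3, 0, 3, 3], 803)], 0), ([(84, [2, 1, 3, 0, 1, 3, 0, 2, 2, 2, 1, 2, 0, 3, 3, 1, 2, 0], 402), (60, [1, 3, 0, 3, 1, 3, 0, 2, 2, 1, 2, 0, 3, 3, 1, 2, 0, 2, 1, 3, 0], 96), (85, [3, 1, 3, 0, 1, 3,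 0, 3, 3, 1, 2, 0, 2, 2, 1, 2, 0], 28)], 248), ([(85, [2, 1, 3, 0, 1, 3, 0, 2, 2, 2, 1, 2, 0, 3, 3, 1, 2, 0], 402), (90, [1, 2, 0, 2, 2, 2, 1, 3, 0, 3, 3, 1, 2, 0, 2, 1, 2, 0, 3, 1, 3, 0, 3], 209), (57, [2, 1, 2, 0, 1, 2, 0, 3, 1, 3, 0, 1, 3, 0, 2, 1, 2, 0, 2], 119)], 427), ([(91, [2, 1, 3, 0, 2, 1, 2, 0, 3, 1, 3, 0, 1, 3, 0, 3, 1, 2, 0, 1, 2, 0], 240), (94, [1, 2, 0, 2, 1, 2, 0, 2, 1, 3, 0, 2, 1, 2, 0, 3, 1, 3, 0, 3, 3], 245), (42, [2, 1, 2, 0, 2, 1, 2, 0, 3, 1, 3, 0, 3, 1, 2, 0, 2, 2], 1027)], 273), ([(90, [1, 2, 0, 1, 2, 0, 2, 2, 2, 1, 3, 0, 2, 2, 1, 3, 0, 2, 2, 1, 3, 0], 55), (74, [1, 3, 0, 2, 1, 2, 0, 3, 1, 3, 0, 1, 3, 0, 2, 2, 1, 3, 0, 2, 1, 2, 0, 2], 63), (65, [2, 2, 1, 3,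 0, 2, 2, 1, 2, 0, 1, 2, 0, 1, 2, 0, 3], 143)], 229), ([(90, [2, 2, 1, 3, 0, 3, 3, 1, 2, 0, 2, 1, 3, 0, 2, 2, 1, 3, 0], 326), (72, [1, 3, 0, 1, 3, 0, 2, 2, 1, 3, 0, 1, 3, 0, 3, 1, 2, 0, 2], 163), (54, [2, 1, 3, 0, 3, 3], 181)], 26), ([(91, [2, 2, 1, 3, 0, 3, 3, 1, 2, 0, 2, 1, 3, 0, 2, 2, 1, 3, 0], 326), (95, [2, 1, 3, 0, 3, 1, 3, 0, 1, 3, 0, 3, 3, 1, 3, 0, 1, 3, 0, 3, 1, 2, 0], 584), (88, [2, 1, 2, 0, 3, 1, 3, 0, 3, 1, 2, 0, 2, 2, 1, 2, 0, 2], 306)], 238), ([(85, [2, 1, 2, 0, 1, 2, 0, 1, 2, 0, 2, 1, 3, 0, 1, 3, 0, 3, 1, 3, 0, 1, 3, 0], 160), (91, [2, 1, 2, 0, 1, 2, 0, 2, 2, 1, 2, 0, 1, 2, 0, 2, 1, 3, 0, 2, 1, 2, 0, 2], 142), (95, [1, 2, 0, 3, 3, 1, 3, 0, 1, 3, 0, 2, 2, 1, 3, 0], 66)],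 49), ([(84, [2, 1, 2, 0, 1, 2, 0, 1, 2, 0, 2, 1, 3, 0, 1, 3, 0, 3, 1, 3, 0, 1, 3, 0], 160), (75, [1, 2, 0, 3, 3, 1, 2, 0, 1, 2, 0, 2, 1, 2, 0, 1, 2, 0, 1, 2, 0], 225), (60, [2, 1, 3, 0, 3, 3], 105)], 0), ([(92, [1, 2, 0, 1, 2, 0, 1, 2, 0, 3, 3, 1, 3, 0, 1, 3, 0, 3, 3, 1, 2, 0, 2, 2], 91), (74, [2, 2, 1, 2, 0, 1, 2, 0, 2, 1, 2, 0, 3, 1, 3, 0, 3, 1, 2, 0, 2, 1, 2, 0], 115), (55, [2, 1, 2, 0, 3, 1, 3, 0, 3, 1, 2, 0, 2, 2, 1, 2, 0, 2], 97)], 297), ([(96, [2, 2, 1, 2, 0, 2, 2, 1, 2, 0, 2, 1, 2, 0, 1, 2, 0, 3], 384), (94, [2, 1, 3, 0, 2, 1, 2, 0, 2, 1, 2, 0, 3, 3, 1, 3, 0, 2, 1, 2, 0], 592), (45, [2, 1, 3, 0, 3, 3], 1315)], 0), ([(97, [1, 2, 0, 3, 1, 3, 0, 1, 3, 0, 2, 1, 2, 0, 3, 1, 3,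 0, 1, 3, 0, 3], 178), (75, [1, 3, 0, 2, 1, 2, 0, 1, 2, 0, 2, 2, 1, 2, 0, 2, 1, 3, 0, 1, 3, 0, 2], 209), (71, [3, 1, 2, 0, 1, 2, 0, 3, 1, 3, 0, 3], 197)], 411), ([(98, [2, 1, 3, 0, 3, 1, 2, 0, 2, 2, 2, 1, 3, 0, 2], 487), (95, [2, 1, 2, 0, 3, 3, 1, 2, 0, 3, 1, 3, 0, 1, 3, 0, 3, 1, 2, 0, 1, 2, 0], 207), (91, [3, 1, 3, 0, 2, 1, 2, 0, 2, 1, 3, 0, 3, 3], 434)], 297), ([(92, [3, 1, 2, 0, 3, 3, 1, 2, 0, 3, 3, 1, 3, 0, 3, 1, 2, 0], 549), (72, [2, 2, 1, 3, 0, 3, 3, 1, 3, 0, 3, 1, 2, 0, 1, 2, 0], 76), (66, [2, 1, 3, 0, 3, 3], 130)], 522), ([(92, [1, 2, 0, 1, 2, 0, 2, 2, 1, 3, 0, 2, 2, 1, 2, 0, 1, 2, 0, 1, 2, 0], 555), (66, [3, 1, 3, 0, 2, 2, 2, 1, 2, 0, 1, 2, 0], 130), (96, [3, 1, 3, 0, 1,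 3, 0, 3, 1, 2, 0, 2, 1, 2, 0, 1, 2, 0, 2, 2, 1, 2, 0], 269)], 622), ([(96, [3, 1, 3, 0, 1, 3, 0, 3, 1, 2, 0, 1, 2, 0, 2, 1, 3, 0], 428), (98, [1, 2, 0, 2, 1, 3, 0, 3, 3, 1, 2, 0, 1, 2, 0, 1, 2, 0], 200), (98, [1, 2, 0, 2, 1, 3, 0, 3, 1, 2, 0, 2], 118)], 535), ([(99, [3, 3, 1, 3, 0, 3, 1, 2, 0, 2, 1, 2, 0, 1, 2, 0], 4159), (74, [1, 3, 0, 2, 2, 1, 2, 0, 3, 1, 3, 0, 3, 3, 1, 3, 0, 2, 1, 2, 0, 3], 168), (61, [2, 1, 3, 0, 3, 3], 96)], 2342), ([(99, [2, 2, 1, 2, 0, 2, 1, 3, 0, 2, 1, 2, 0], 4367), (61, [2, 2, 1, 2, 0, 2, 1, 3, 0, 2, 1, 2, 0], 228), (100, [2, 1, 3, 0, 3, 3], 12651)], 26170)],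
[([(0, [], 0), (5, [], 0), (2, [], 24400)], 0), ([(5, [], 25170), (2, [], 24400), (0, [], 0)], 7058), ([(6, [], 25170), (14, [], 2300), (3, [], 24400)], 7058), ([(7, [], 3427), (26, [], 9832), (4, [], 24400)], 43002), ([(8, [], 3427), (12, [], 2300), (1, [], 24400)], 43002), ([(9, [2, 1, 2, 0, 1, 2, 0, 2], 40631), (19, [3, 3, 1, 3, 0, 1, 3, 0, 3], 2962), (12, [2, 2, 1, 2, 0, 1, 2, 0], 3552)], 55891), ([(9, [2, 2, 1, 3, 0, 3, 3, 1, 3, 0, 3, 1, 2, 0], 45372), (17, [2, 1, 2, 0, 1, 2, 0, 2], 4748), (5, [2, 2, 1, 2, 0, 1, 2, 0], 38462)], 55891), ([(10, [2, 1, 2, 0, 1, 2, 0, 2], 40631), (34, [2, 1, 2, 0, 1, 2, 0, 2], 786), (14, [2, 2, 1, 2, 0, 1, 2, 0], 3356)], 41640), ([(10, [2, 2, 1,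 3, 0, 3, 3, 1, 3, 0, 3, 1, 2, 0], 44824), (36, [2, 1, 2, 0, 1, 2, 0, 2], 911), (26, [2, 2, 1, 2, 0, 1, 2, 0], 43783)], 41640), ([(11, [2, 1, 2, 0, 2, 2, 2, 1, 3, 0, 2], 15868), (80, [1, 2, 0, 2, 2, 2, 1, 3, 0, 3, 1, 3, 0, 1, 3, 0, 3], 104), (17, [3, 3, 1, 2, 0], 4675)], 43022), ([(11, [1, 3, 0, 1, 3, 0, 2, 2, 1, 3, 0], 3725), (82, [1, 2, 0, 2, 2, 2, 1, 3, 0, 3, 1, 3, 0, 1, 3, 0, 3], 190), (31, [3, 3, 1, 2, 0], 732)], 106872), ([(10, [2, 2, 1, 2, 0, 2, 1, 2, 0], 54567), (40, [2, 1, 2, 0, 2, 1, 2, 0], 786), (77, [3, 3, 1, 3, 0, 1, 3, 0], 441)], 0), ([(18, [2, 1, 2, 0, 1, 2, 0, 2], 3234), (50, [2, 1, 2, 0, 1, 2, 0, 2], 146), (27, [2, 2, 1, 2, 0, 1, 2, 0], 44272)], 3616), ([(19, [2,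 1, 2, 0, 1, 2, 0, 2], 3234), (17, [2, 2, 1, 3, 0, 3, 3, 1, 3, 0, 3, 1, 2, 0], 787), (6, [2, 2, 1, 2, 0, 1, 2, 0], 106845)], 3616), ([(20, [2, 1, 2, 0, 1, 2, 0, 2], 3234), (49, [2, 1, 2, 0, 1, 2, 0, 2], 14), (15, [2, 2, 1, 2, 0, 1, 2, 0], 3356)], 3279), ([(21, [2, 1, 2, 0, 1, 2, 0, 2], 3234), (31, [2, 2, 1, 3, 0, 3, 3, 1, 3, 0, 3, 1, 2, 0], 759), (8, [2, 2, 1, 2, 0, 1, 2, 0], 80329)], 3279), ([(24, [1, 2, 0, 2, 2, 2, 1, 3, 0, 3, 1, 3, 0, 1, 3, 0, 3], 4347), (77, [2, 1, 2, 0, 2, 2, 2, 1, 3, 0, 2], 477), (9, [3, 3, 1, 2, 0], 37405)], 3467), ([(24, [2, 2, 2, 1, 2, 0, 2, 1, 3, 0, 3, 1, 2, 0, 1, 2, 0], 90), (87, [2, 2, 1, 3, 0, 3, 1, 3, 0, 2, 1, 2, 0, 3, 1, 3, 0, 1, 3, 0], 22), (33, [3,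 3, 1, 2, 0], 774)], 4497), ([(24, [1, 3, 0, 2, 1, 2, 0, 2, 2, 2, 1, 3, 0], 2315), (80, [2, 1, 2, 0, 2, 1, 3, 0, 3, 1, 2, 0, 1, 2, 0, 1, 2, 0, 3], 177), (19, [2, 1, 2, 0, 1, 2, 0, 2, 2], 2939)], 3962), ([(24, [2, 2, 1, 2, 0, 2, 2, 2, 1, 2, 0, 2, 1, 3, 0, 3, 1, 2, 0], 113), (89, [2, 1, 2, 0, 1, 2, 0, 2, 2, 1, 2, 0, 3, 1, 3, 0, 3, 1, 2, 0, 3], 324), (47, [3, 3, 1, 3, 0, 1, 3, 0], 168)], 0), ([(25, [2, 1, 2, 0, 2, 2, 2, 1, 3, 0, 2], 2872), (67, [1, 2, 0, 3, 1, 3, 0, 3, 3, 1, 2, 0, 1, 2, 0, 3, 3], 177), (34, [3, 3, 1, 3, 0, 1, 3, 0], 463)], 0), ([(25, [2, 2, 1, 3, 0, 2, 2, 1, 2, 0, 1, 2, 0, 3, 1, 3, 0, 3, 1, 2, 0], 4425), (59, [2, 1, 2, 0, 2, 1, 2, 0, 3, 3, 1, 2, 0, 2], 24), (49, [3,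 3, 1, 3, 0, 1, 3, 0], 228)], 0), ([(25, [1, 3, 0, 3, 3, 1, 2, 0, 2, 1, 3, 0, 2, 2, 1, 2, 0], 620), (58, [2, 1, 2, 0, 3, 1, 3, 0, 2, 1, 2, 0, 2, 2, 1, 2, 0, 3, 3], 14), (23, [1, 2, 0, 2, 1, 3, 0, 3, 1, 3, 0, 1, 3, 0, 3, 1, 2, 0, 2], 17)], 1642), ([(25, [2, 1, 2, 0, 1, 2, 0, 1, 2, 0, 2, 2, 2, 1, 3, 0, 1, 3, 0], 2258), (56, [2, 1, 3, 0, 1, 3, 0, 2, 2, 1, 3, 0, 1, 3, 0, 3, 1, 2, 0, 2], 159), (30, [2, 1, 2, 0, 3, 1, 3, 0, 2, 1, 2, 0, 2, 2], 1342)], 3125), ([(25, [2, 1, 2, 0, 3, 1, 3, 0, 2, 2, 2, 1, 2, 0, 2], 2772), (54, [1, 3, 0, 1, 3, 0, 2, 1, 2, 0, 2, 2, 1, 3, 0, 1, 3, 0, 2, 2], 212), (80, [2, 2, 1, 3, 0, 2, 2, 1, 2, 0, 3, 1, 3, 0, 2, 1, 2, 0, 2], 8)], 622), ([(25, [2, 1, 3, 0, 2, 2,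 2, 1, 2, 0, 3, 1, 3, 0, 3, 1, 2, 0], 417), (75, [1, 3, 0, 1, 3, 0, 2, 2, 1, 3, 0, 1, 3, 0, 3, 1, 3, 0, 1, 3, 0, 2, 2], 71), (58, [3, 3, 1, 3, 0, 1, 3, 0], 140)], 4816), ([(28, [2, 1, 2, 0, 1, 2, 0, 2], 44029), (31, [2, 1, 2, 0, 1, 2, 0, 2], 569), (7, [2, 2, 1, 2, 0, 1, 2, 0], 75552)], 45033), ([(29, [2, 1, 2, 0, 1, 2, 0, 2], 44029), (47, [2, 1, 2, 0, 1, 2, 0, 2], 146), (13, [2, 2, 1, 2, 0, 1, 2, 0], 3171)], 44119), ([(29, [1, 2, 0, 1, 2, 0, 2, 1, 2, 0, 1, 2, 0], 71788), (67, [3, 1, 3, 0, 2, 1, 2, 0, 1, 2, 0, 2, 2, 2, 1, 3, 0], 102), (36, [3, 3, 1, 3, 0, 1, 3, 0], 708)], 0), ([(28, [1, 2, 0, 1, 2, 0, 2, 1, 2, 0, 1, 2, 0], 61150), (44, [1, 2, 0, 2, 1, 2, 0, 1, 2, 0, 3, 1, 3, 0, 3,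 1, 2, 0, 2, 1, 3, 0, 3, 1, 3, 0], 883), (50, [3, 3, 1, 3, 0, 1, 3, 0], 81)], 0), ([(40, [1, 2, 0, 2, 2, 2, 1, 3, 0, 3, 1, 3, 0, 1, 3, 0, 3], 967), (77, [1, 3, 0, 1, 3, 0, 2, 2, 1, 3, 0], 415), (10, [3, 3, 1, 2, 0], 48921)], 859), ([(41, [1, 2, 0, 2, 2, 2, 1, 3, 0, 3, 1, 3, 0, 1, 3, 0, 3], 851), (58, [2, 2, 1, 3, 0, 2, 2, 1, 2, 0, 1, 2, 0, 1, 2, 0, 3, 3, 1, 3, 0], 34), (22, [2, 1, 3, 0], 1835)], 800), ([(42, [1, 2, 0, 2, 2, 2, 1, 3, 0, 3, 1, 3, 0, 1, 3, 0, 3], 947), (80, [1, 3, 0, 2, 2, 1, 2, 0, 2, 1, 3, 0, 3, 1, 2, 0, 2, 2], 151), (16, [3, 3, 1, 2, 0], 1273)], 1091), ([(43, [1, 2, 0, 2, 2, 2, 1, 3, 0, 3, 1, 3, 0, 1, 3, 0, 3], 784), (43, [2, 1, 3, 0, 3, 1, 2, 0, 2, 1, 3, 0, 3, 1,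 3, 0, 2], 604), (32, [3, 3, 1, 2, 0], 270)], 837), ([(44, [2, 1, 2, 0, 1, 2, 0, 2, 2, 1, 2, 0, 3, 1, 3, 0, 3, 1, 2, 0, 3], 1068), (58, [2, 2, 1, 3, 0, 3, 1, 2, 0, 2, 2, 1, 3, 0, 2, 2, 1, 3, 0], 84), (21, [2, 1, 2, 0, 1, 2, 0, 2, 2], 3772)], 452), ([(44, [3, 1, 3, 0, 2, 1, 2, 0, 2, 1, 3, 0, 3, 1, 2, 0, 3, 3, 1, 3, 0], 749), (50, [1, 2, 0, 1, 2, 0, 2, 1, 2, 0, 1, 2, 0], 127), (28, [3, 3, 1, 3, 0, 1, 3, 0], 73641)], 569), ([(44, [2, 1, 3, 0, 2, 1, 2, 0, 2, 2, 2, 1, 2, 0, 2, 1, 2, 0, 3], 456), (70, [1, 2, 0, 2, 2, 1, 3, 0, 2, 1, 2, 0, 2, 1, 2, 0, 1, 2, 0, 2, 1, 3, 0], 9), (53, [3, 3, 1, 3, 0, 1, 3, 0], 68)], 0), ([(45, [2, 1, 2, 0, 1, 2, 0, 2, 2, 1, 2, 0, 3, 1, 3, 0, 3, 1, 2, 0, 3],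 834), (92, [2, 1, 2, 0, 1, 2, 0, 2, 2, 1, 2, 0, 3, 1, 3, 0, 3, 1, 2, 0, 3], 291), (46, [3, 3, 1, 3, 0, 1, 3, 0], 168)], 0), ([(45, [3, 1, 3, 0, 2, 1, 2, 0, 2, 1, 3, 0, 3, 1, 2, 0, 3, 3, 1, 3, 0], 1063), (94, [2, 1, 3, 0, 2, 1, 2, 0, 2, 2, 2, 1, 2, 0, 2, 1, 2, 0, 3], 510), (39, [3, 3, 1, 3, 0, 1, 3, 0], 384)], 668), ([(45, [2, 1, 3, 0, 2, 1, 2, 0, 2, 2, 2, 1, 2, 0, 2, 1, 2, 0, 3], 455), (97, [1, 2, 0, 2, 2, 2, 1, 3, 0], 385), (51, [3, 3, 1, 3, 0, 1, 3, 0], 110)], 0), ([(41, [1, 2, 0, 1, 2, 0, 2, 2, 1, 3, 0, 3, 1, 2, 0, 2, 1, 2, 0, 2], 225), (59, [1, 3, 0, 1, 3, 0, 2, 1, 2, 0, 2, 2, 1, 3, 0, 1, 3, 0, 2, 2], 182), (56, [3, 3, 1, 3, 0, 1, 3, 0], 227)], 1341), ([(42, [1, 2, 0, 1, 2, 0,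 2, 2, 1, 3, 0, 3, 1, 2, 0, 2, 1, 2, 0, 2], 1164), (88, [1, 2, 0, 2, 1, 3, 0, 3, 1, 2, 0, 2, 1, 2, 0, 2, 2, 1, 3, 0, 1, 3, 0], 496), (82, [3, 3, 1, 3, 0, 1, 3, 0], 68)], 0), ([(42, [1, 2, 0, 1, 2, 0, 2, 2, 1, 2, 0, 1, 2, 0, 3, 3, 1, 2, 0, 1, 2, 0], 185), (82, [3, 1, 2, 0, 2, 1, 2, 0, 2, 2, 1, 3, 0, 3, 1, 2, 0, 3], 23), (43, [1, 2, 0, 3, 3, 1, 2, 0, 2, 2, 2, 1, 3, 0, 2, 1, 2, 0], 1198)], 344), ([(40, [1, 2, 0, 1, 2, 0, 2, 2, 1, 3, 0, 3, 1, 2, 0, 2, 1, 2, 0, 2], 1181), (88, [2, 1, 2, 0, 2, 1, 3, 0, 3, 1, 3, 0, 2, 2, 1, 2, 0, 2, 1, 3, 0, 3, 1, 3, 0, 2], 453), (87, [1, 2, 0, 1, 2, 0, 2, 1, 3, 0, 3, 3, 1, 3, 0, 2, 2, 1, 2, 0, 2], 82)], 1015), ([(41, [2, 1, 2, 0, 3, 3, 1, 3, 0], 562), (73,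 [1, 2, 0, 3, 3, 1, 2, 0, 2, 2, 1, 3, 0, 2, 2, 1, 3, 0, 3, 3, 1, 2, 0], 178), (67, [2, 1, 3, 0, 3, 1, 2, 0, 2, 1, 3, 0, 3, 3, 1, 3, 0, 1, 3, 0], 159)], 537), ([(43, [2, 1, 2, 0, 3, 3, 1, 3, 0], 667), (45, [1, 2, 0, 2, 2, 2, 1, 2, 0, 2, 1, 2, 0, 3, 3, 1, 3, 0], 1171), (94, [3, 3, 1, 3, 0, 1, 3, 0], 555)], 0), ([(54, [2, 1, 2, 0, 1, 2, 0, 2, 2, 1, 2, 0, 3, 1, 3, 0, 3, 1, 2, 0, 3], 168), (80, [3, 1, 2, 0, 2, 2, 2, 1, 2, 0, 3, 1, 3, 0, 1, 3, 0], 140), (18, [3, 3, 1, 3, 0, 1, 3, 0], 4572)], 0), ([(55, [2, 1, 2, 0, 1, 2, 0, 2, 2, 1, 2, 0, 3, 1, 3, 0, 3, 1, 2, 0, 3], 168), (94, [1, 2, 0, 2, 2, 2, 1, 3, 0], 379), (37, [2, 1, 2, 0, 1, 2, 0, 2, 2], 858)], 166), ([(59, [2, 1, 2, 0, 1, 2, 0,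 2, 2, 1, 2, 0, 3, 1, 3, 0, 3, 1, 2, 0, 3], 133), (58, [2, 1, 2, 0, 2, 2, 2, 1, 3, 0, 2], 132), (20, [3, 3, 1, 3, 0, 1, 3, 0], 3291)], 0), ([(60, [2, 1, 2, 0, 1, 2, 0, 2, 2, 1, 2, 0, 3, 1, 3, 0, 3, 1, 2, 0, 3], 133), (90, [1, 2, 0, 2, 2, 2, 1, 3, 0], 491), (48, [2, 1, 2, 0, 1, 2, 0, 2, 2], 132)], 133), ([(66, [1, 2, 0, 2, 2, 2, 1, 3, 0], 110), (94, [3, 1, 3, 0, 2, 1, 2, 0, 2, 1, 3, 0, 3, 1, 2, 0, 3, 3, 1, 3, 0], 606), (38, [3, 3, 1, 3, 0, 1, 3, 0], 1078)], 0), ([(67, [1, 2, 0, 2, 2, 2, 1, 3, 0], 110), (36, [1, 2, 0, 1, 2, 0, 2, 1, 2, 0, 1, 2, 0], 713), (29, [3, 3, 1, 3, 0, 1, 3, 0], 63891)], 0), ([(70, [1, 2, 0, 2, 2, 2, 1, 3, 0], 62), (67, [1, 2, 0, 1, 2, 0, 2, 1, 3, 0, 3, 1, 2,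 0, 2, 2, 1, 3, 0, 1, 3, 0, 3, 1, 2, 0], 208), (35, [3, 3, 1, 3, 0, 1, 3, 0], 881)], 48), ([(71, [1, 2, 0, 2, 2, 2, 1, 3, 0], 62), (93, [1, 2, 0, 2, 1, 2, 0, 1, 2, 0, 3, 1, 3, 0, 3, 1, 2, 0, 2, 1, 3, 0, 3, 1, 3, 0], 541), (52, [3, 3, 1, 3, 0, 1, 3, 0], 180)], 0), ([(54, [1, 2, 0, 1, 2, 0, 1, 2, 0, 2, 2, 1, 2, 0, 1, 2, 0, 3, 1, 3, 0, 2, 1, 2, 0], 17), (91, [3, 1, 3, 0, 2, 1, 2, 0, 1, 2, 0, 3, 1, 3, 0, 3], 396), (92, [3, 3, 1, 3, 0, 1, 3, 0], 638)], 0), ([(55, [1, 2, 0, 1, 2, 0, 1, 2, 0, 2, 2, 1, 2, 0, 1, 2, 0, 3, 1, 3, 0, 2, 1, 2, 0], 17), (95, [3, 1, 2, 0, 2, 2, 2, 1, 2, 0, 2, 1, 2, 0, 3, 1, 3, 0, 3], 500), (89, [3, 3, 1, 3, 0, 1, 3, 0], 250)], 0), ([(60, [1, 3, 0, 1, 3, 0, 3, 1,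 3, 0, 2, 1, 2, 0, 1, 2, 0, 2], 120), (87, [1, 2, 0, 1, 2, 0, 3, 1, 3, 0, 3, 1, 2, 0, 2, 1, 2, 0, 2], 136), (41, [1, 2, 0, 3, 3, 1, 2, 0, 2, 2, 2, 1, 3, 0, 2, 1, 2, 0], 1215)], 29), ([(75, [2, 2, 1, 3, 0, 3, 3, 1, 3, 0, 2, 1, 2, 0, 3, 1, 3, 0, 1, 3, 0], 187), (58, [2, 1, 3, 0, 2, 2, 2, 1, 2, 0, 3, 1, 3, 0, 3, 1, 2, 0], 83), (25, [3, 3, 1, 3, 0, 1, 3, 0], 1723)], 184), ([(75, [2, 2, 2, 1, 3, 0, 2, 1, 2, 0, 1, 2, 0, 2, 1, 2, 0, 2, 2, 2], 152), (60, [1, 2, 0, 3, 1, 3, 0, 3, 3, 1, 3, 0, 3, 3, 1, 2, 0, 2, 1, 3, 0], 134), (84, [2, 1, 3, 0, 3, 1, 2, 0, 3, 3, 1, 2, 0, 1, 2, 0, 1, 2, 0, 3], 94)], 35), ([(71, [1, 2, 0, 1, 2, 0, 1, 2, 0, 2, 2, 1, 2, 0, 1, 2, 0, 3, 1, 3, 0, 2, 1, 2, 0], 167),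 (95, [1, 2, 0, 2, 1, 3, 0, 2, 1, 2, 0, 1, 2, 0, 2, 1, 2, 0, 1, 2, 0, 3], 321), (90, [3, 3, 1, 3, 0, 1, 3, 0], 348)], 146), ([(70, [1, 2, 0, 1, 2, 0, 1, 2, 0, 2, 2, 1, 2, 0, 1, 2, 0, 3, 1, 3, 0, 2, 1, 2, 0], 167), (74, [1, 2, 0, 1, 2, 0, 2, 1, 3, 0, 2, 1, 2, 0, 2, 2, 2, 1, 2, 0, 3], 23), (59, [2, 1, 2, 0, 1, 2, 0, 2, 1, 2, 0, 2, 2, 2, 1, 3, 0, 3], 116)], 208), ([(75, [2, 2, 1, 3, 0, 1, 3, 0, 3, 1, 2, 0, 1, 2, 0, 2, 1, 2, 0, 3, 1, 3, 0, 2], 132), (72, [1, 3, 0, 2, 1, 2, 0, 1, 2, 0, 2, 1, 2, 0, 1, 2, 0, 2, 2, 1, 2, 0, 2], 208), (68, [2, 1, 3, 0, 3, 3, 1, 3, 0, 1, 3, 0], 201)], 146), ([(74, [2, 2, 1, 3, 0, 1, 3, 0, 3, 1, 2, 0, 1, 2, 0, 2, 1, 2, 0, 3, 1, 3, 0, 2], 132), (61, [1, 3, 0,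 1, 3, 0, 2, 1, 2, 0, 2, 2, 1, 2, 0, 3], 145), (99, [3, 3, 1, 3, 0, 1, 3, 0], 18375)], 0), ([(55, [3, 3, 1, 2, 0, 1, 2, 0, 2, 2, 1, 3, 0, 1, 3, 0, 2, 2], 57), (93, [1, 3, 0, 3, 3, 1, 3, 0, 2, 1, 2, 0, 1, 2, 0, 2], 379), (64, [2, 2, 2, 1, 2, 0, 2, 1, 2, 0, 1, 2, 0, 3, 3], 149)], 205), ([(60, [1, 3, 0, 1, 3, 0, 3, 3, 1, 3, 0, 1, 3, 0, 2, 2], 147), (88, [2, 1, 2, 0, 3, 1, 3, 0, 2, 2, 2, 1, 2, 0, 2], 330), (81, [3, 3, 1, 3, 0, 1, 3, 0], 151)], 0), ([(74, [1, 3, 0, 2, 2, 1, 2, 0, 1, 2, 0, 2, 1, 2, 0, 1, 2, 0, 1, 2, 0, 3, 1, 3, 0], 95), (60, [3, 1, 3, 0, 3, 3, 1, 2, 0, 1, 2, 0, 2, 1, 3, 0, 1, 3, 0, 3], 118), (86, [3, 1, 2, 0, 1, 2, 0, 2, 1, 2, 0, 1, 2, 0, 3, 3, 1, 3, 0], 149)], 89), ([(54,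 [3, 3, 1, 2, 0, 1, 2, 0, 3, 1, 3, 0, 3, 1, 2, 0, 2, 1, 2, 0, 1, 2, 0], 97), (82, [1, 2, 0, 3, 3, 1, 2, 0, 2, 1, 2, 0, 1, 2, 0, 3, 3, 1, 3, 0, 1, 3, 0], 109), (44, [2, 1, 3, 0, 1, 3, 0, 3, 3, 1, 2, 0, 3, 1, 3, 0, 3, 3, 1, 3, 0], 384)], 104), ([(55, [3, 3, 1, 2, 0, 1, 2, 0, 3, 1, 3, 0, 3, 1, 2, 0, 2, 1, 2, 0, 1, 2, 0], 97), (96, [2, 1, 3, 0, 3, 1, 2, 0, 2, 2, 2, 1, 3, 0, 3], 46), (97, [3, 3, 1, 3, 0, 1, 3, 0], 322)], 0), ([(72, [2, 1, 2, 0, 1, 2, 0, 1, 2, 0, 3, 1, 3, 0, 1, 3, 0, 3, 3, 1, 2, 0, 2, 2], 68), (73, [2, 1, 2, 0, 2, 2, 1, 2, 0, 2, 2], 60), (69, [3, 3, 1, 3, 0, 1, 3, 0], 218)], 110), ([(73, [2, 1, 2, 0, 1, 2, 0, 1, 2, 0, 3, 1, 3, 0, 1, 3, 0, 3, 3, 1, 2, 0, 2, 2], 68), (74,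 [2, 2, 1, 2, 0, 3, 1, 3, 0, 3, 3, 1, 2, 0, 2], 60), (62, [1, 2, 0, 2, 2, 2, 1, 3, 0, 1, 3, 0], 87)], 146), ([(60, [1, 2, 0, 1, 2, 0, 1, 2, 0, 2, 2, 1, 2, 0, 1, 2, 0, 3, 1, 3, 0, 2, 1, 2, 0], 167), (91, [1, 2, 0, 2, 1, 3, 0, 1, 3, 0, 2, 1, 2, 0, 1, 2, 0, 2, 2, 1, 3, 0, 2], 414), (93, [2, 1, 3, 0, 1, 3, 0, 3, 3, 1, 2, 0, 3, 1, 3, 0, 3, 3, 1, 3, 0], 244)], 221), ([(59, [1, 2, 0, 1, 2, 0, 1, 2, 0, 2, 2, 1, 2, 0, 1, 2, 0, 3, 1, 3, 0, 2, 1, 2, 0], 167), (75, [1, 2, 0, 3, 1, 3, 0, 3, 1, 2, 0, 1, 2, 0, 2, 1, 3, 0, 3, 1, 3, 0], 186), (70, [3, 1, 3, 0, 3, 1, 2, 0, 2, 1, 3, 0, 3, 1, 3, 0], 2)], 146), ([(75, [3, 1, 2, 0, 2, 1, 2, 0, 3, 1, 3, 0, 2, 2, 1, 2, 0, 3, 1, 3, 0, 3], 230), (59, [1, 2,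 0, 2, 2, 1, 2, 0, 1, 2, 0, 3, 3, 1, 2, 0, 1, 2, 0, 2], 131), (72, [3, 1, 3, 0, 2, 1, 2, 0, 1, 2, 0, 2, 1, 2, 0, 1, 2, 0, 2, 1, 3, 0, 3, 1, 2, 0], 19)], 40), ([(74, [3, 1, 2, 0, 2, 1, 2, 0, 3, 1, 3, 0, 2, 2, 1, 2, 0, 3, 1, 3, 0, 3], 230), (59, [1, 2, 0, 3, 1, 3, 0, 3, 3, 1, 2, 0, 1, 2, 0, 1, 2, 0, 2, 1, 2, 0, 3, 3], 68), (73, [2, 1, 2, 0, 2, 1, 2, 0, 3, 1, 3, 0, 1, 3, 0, 3, 3, 1, 2, 0, 1, 2, 0, 1, 2, 0], 27)], 34), ([(73, [3, 1, 2, 0, 2, 1, 2, 0, 3, 1, 3, 0, 2, 2, 1, 2, 0, 3, 1, 3, 0, 3], 227), (59, [2, 2, 1, 2, 0, 1, 2, 0, 2, 1, 2, 0, 3, 1, 3, 0, 2, 1, 2, 0, 3, 1, 3, 0, 1, 3, 0], 210), (74, [1, 2, 0, 2, 1, 2, 0, 3, 1, 3, 0, 1, 3, 0, 3, 3, 1, 3, 0], 181)], 68), ([(72, [3, 1, 2, 0,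 2, 1, 2, 0, 3, 1, 3, 0, 2, 2, 1, 2, 0, 3, 1, 3, 0, 3], 227), (59, [1, 2, 0, 3, 1, 3, 0, 2, 2, 2, 1, 3, 0, 3, 1, 2, 0, 1, 2, 0, 1, 2, 0], 216), (75, [2, 1, 3, 0, 1, 3, 0, 3, 1, 2, 0, 2, 2, 1, 2, 0, 3, 3, 1, 2, 0, 2], 38)], 68), ([(82, [2, 1, 2, 0, 2, 1, 2, 0], 140), (31, [2, 2, 1, 2, 0, 2, 1, 2, 0], 786), (11, [3, 3, 1, 3, 0, 1, 3, 0], 64275)], 0), ([(83, [2, 1, 2, 0, 2, 1, 2, 0], 262), (85, [2, 1, 2, 0, 1, 2, 0, 2, 2, 1, 3, 0, 3, 1, 2, 0, 2, 1, 2, 0, 3], 179), (78, [1, 3, 0, 3, 3, 1, 2, 0], 47)], 18), ([(87, [2, 1, 3, 0, 2, 1, 2, 0, 2, 2, 2, 1, 3, 0], 204), (42, [2, 1, 2, 0, 1, 2, 0, 2, 2, 1, 2, 0], 1213), (79, [1, 2, 0, 3, 3, 1, 3, 0, 3, 1, 2, 0], 449)], 9), ([(86, [1, 3, 0, 2,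 1, 2, 0, 2, 2, 1, 2, 0, 3, 3, 1, 3, 0, 1, 3, 0], 20), (63, [1, 3, 0, 2, 1, 2, 0, 2, 2, 1, 2, 0, 3, 3, 1, 3, 0, 1, 3, 0], 50), (76, [2, 1, 2, 0, 1, 2, 0, 2, 2, 1, 2, 0], 336)], 79), ([(88, [3, 1, 3, 0, 2, 1, 2, 0, 2, 2, 1, 3, 0, 1, 3, 0, 2, 2], 76), (89, [3, 3, 1, 2, 0, 1, 2, 0, 2, 2, 1, 3, 0, 1, 3, 0, 2, 2], 382), (63, [3, 3, 1, 3, 0, 1, 3, 0], 9)], 462), ([(89, [2, 1, 3, 0, 3, 1, 2, 0, 2, 2, 1, 2, 0, 2, 2, 1, 2, 0, 1, 2, 0, 2], 230), (58, [2, 1, 2, 0, 3, 1, 3, 0, 2, 2, 2, 1, 2, 0, 2], 11), (24, [3, 3, 1, 3, 0, 1, 3, 0], 4899)], 300), ([(89, [2, 1, 2, 0, 1, 2, 0, 2, 2, 1, 3, 0, 3, 1, 2, 0, 2, 1, 2, 0, 3], 41), (60, [1, 2, 0, 2, 1, 3, 0, 2, 2, 1, 3, 0, 1, 3, 0, 3, 3, 1, 3, 0, 1, 3,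 0, 2], 204), (83, [2, 2, 1, 2, 0, 1, 2, 0, 2, 2, 1, 2, 0, 2, 1, 2, 0, 3, 1, 3, 0, 2], 363)], 449), ([(88, [2, 2, 2, 1, 2, 0, 1, 2, 0, 3, 1, 3, 0, 1, 3, 0, 3, 1, 2, 0, 1, 2, 0, 3], 298), (82, [1, 2, 0, 1, 2, 0, 2, 2, 1, 3, 0, 3, 1, 2, 0, 2, 1, 2, 0, 2], 17), (40, [3, 3, 1, 3, 0, 1, 3, 0], 320)], 0), ([(90, [1, 3, 0, 3, 1, 2, 0, 1, 2, 0, 2, 1, 2, 0, 3, 1, 3, 0, 1, 3, 0, 3], 209), (57, [2, 1, 3, 0, 3, 3, 1, 3, 0, 1, 3, 0, 2, 1, 2, 0, 1, 2, 0, 2, 2], 110), (85, [2, 2, 2, 1, 2, 0, 2, 1, 2, 0, 1, 2, 0, 3, 3, 1, 3, 0], 139)], 185), ([(91, [1, 3, 0, 3, 1, 2, 0, 1, 2, 0, 2, 1, 2, 0, 3, 1, 3, 0, 1, 3, 0, 3], 209), (97, [2, 1, 3, 0, 3, 1, 2, 0, 1, 2, 0, 1, 2, 0, 2, 2, 2, 1, 3, 0], 8), (57,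 [2, 1, 2, 0, 2, 2, 2, 1, 2, 0, 1, 2, 0, 2], 200)], 427), ([(90, [2, 2, 2, 1, 2, 0, 1, 2, 0, 2, 2, 1, 2, 0, 1, 2, 0, 3, 1, 3, 0, 2], 45), (56, [2, 1, 3, 0, 2, 2, 1, 3, 0, 2, 2, 2, 1, 2, 0, 1, 2, 0], 114), (42, [1, 3, 0, 2, 1, 2, 0, 1, 2, 0], 789)], 403), ([(91, [1, 2, 0, 2, 2, 1, 3, 0, 3, 3, 1, 2, 0, 1, 2, 0, 2, 2, 1, 2, 0, 3], 228), (93, [2, 1, 3, 0, 2, 2, 1, 2, 0, 3, 1, 3, 0, 1, 3, 0, 2, 2, 2, 1, 3, 0], 126), (65, [1, 2, 0, 2, 2, 1, 2, 0, 2, 1, 3, 0, 3, 1, 2, 0, 2, 1, 2, 0], 31)], 170), ([(91, [2, 1, 2, 0, 2, 1, 3, 0, 3, 1, 3, 0, 2, 2, 1, 2, 0], 263), (92, [1, 2, 0, 1, 2, 0, 1, 2, 0, 2, 2, 1, 2, 0, 1, 2, 0, 3, 1, 3, 0, 2, 1, 2, 0], 14), (54, [3, 3, 1, 3, 0, 1, 3, 0], 17)], 26),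 ([(90, [2, 1, 2, 0, 2, 1, 3, 0, 3, 1, 3, 0, 2, 2, 1, 2, 0], 263), (60, [2, 1, 3, 0, 3, 1, 2, 0, 1, 2, 0, 1, 2, 0, 3, 1, 3, 0, 3], 16), (88, [3, 1, 2, 0, 1, 2, 0, 2, 1, 3, 0, 3, 3, 1, 2, 0, 3, 3], 250)], 194), ([(90, [2, 1, 3, 0, 2, 2, 1, 3, 0, 1, 3, 0, 3, 1, 2, 0, 2, 2, 1, 3, 0, 2], 414), (71, [2, 2, 1, 2, 0, 2, 2, 1, 2, 0, 1, 2, 0, 2, 2, 1, 2, 0], 177), (95, [1, 2, 0, 2, 1, 3, 0, 3, 3, 1, 2, 0, 3, 3], 270)], 49), ([(91, [2, 1, 3, 0, 2, 2, 1, 3, 0, 1, 3, 0, 3, 1, 2, 0, 2, 2, 1, 3, 0, 2], 414), (93, [2, 2, 2, 1, 2, 0, 1, 2, 0, 2, 2, 1, 3, 0, 1, 3, 0, 2, 1, 2, 0], 244), (60, [3, 3, 1, 3, 0, 1, 3, 0], 213)], 0), ([(95, [1, 2, 0, 3, 1, 3, 0, 3], 432), (89, [3, 1, 3, 0, 2, 2, 2, 1, 3,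 0, 3, 1, 3, 0, 1, 3, 0], 260), (55, [3, 1, 2, 0, 1, 2, 0, 2, 1, 3, 0, 3, 3, 1, 2, 0, 3, 3], 19)], 379), ([(95, [1, 3, 0, 2, 2, 1, 2, 0, 3, 3, 1, 3, 0, 3, 1, 2, 0, 2, 1, 2, 0, 1, 2, 0], 238), (87, [2, 1, 3, 0, 3, 1, 2, 0, 1, 2, 0, 2, 1, 2, 0, 2, 2, 1, 2, 0], 20), (45, [3, 3, 1, 3, 0, 1, 3, 0], 528)], 0), ([(93, [1, 2, 0, 2, 2, 2, 1, 2, 0, 2, 1, 2, 0, 3, 3, 1, 3, 0], 37), (75, [1, 3, 0, 3, 1, 3, 0, 1, 3, 0, 3, 1, 3, 0, 2, 2, 1, 2, 0, 3, 3], 77), (71, [2, 1, 3, 0, 3, 1, 2, 0, 2, 1, 3, 0, 3, 3, 1, 3, 0, 1, 3, 0], 21)], 411), ([(92, [1, 2, 0, 3, 3, 1, 2, 0, 1, 2, 0, 2, 1, 3, 0, 2, 2], 43), (54, [3, 1, 3, 0, 3, 3, 1, 3, 0, 2, 1, 2, 0, 2, 1, 2, 0, 1, 2, 0], 15), (91, [1, 3, 0, 3, 1, 2,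 0, 3, 1, 3, 0, 1, 3, 0], 491)], 379), ([(96, [2, 2, 1, 2, 0, 2, 2, 1, 2, 0, 3, 1, 3, 0, 2, 1, 2, 0], 441), (92, [3, 3, 1, 2, 0, 1, 2, 0, 3, 1, 3, 0, 3, 1, 2, 0, 2, 1, 2, 0, 1, 2, 0], 363), (66, [3, 3, 1, 3, 0, 1, 3, 0], 63)], 522), ([(97, [2, 2, 1, 2, 0, 2, 2, 1, 2, 0, 3, 1, 3, 0, 2, 1, 2, 0], 441), (55, [2, 1, 3, 0, 2, 1, 2, 0, 2, 2, 1, 3, 0, 3], 98), (96, [3, 1, 3, 0, 3, 1, 2, 0, 2, 1, 3, 0, 3, 1, 3, 0], 576)], 517), ([(96, [1, 2, 0, 2, 2, 2, 1, 2, 0, 3, 1, 3, 0, 1, 3, 0], 548), (98, [1, 3, 0, 3, 1, 2, 0, 2, 1, 2, 0, 2, 1, 3, 0, 2, 2, 1, 2, 0], 351), (98, [3, 3, 1, 2, 0, 1, 2, 0, 2, 1, 2, 0, 1, 2, 0, 2, 2, 1, 2, 0, 2], 331)], 518), ([(99, [1, 3, 0, 1, 3, 0, 2, 1, 2, 0, 2, 2, 1,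 2, 0, 3], 22348), (75, [2, 1, 3, 0, 1, 3, 0, 2, 2, 1, 2, 0, 3, 3, 1, 2, 0, 3, 3, 1, 2, 0, 2], 158), (61, [3, 3, 1, 3, 0, 1, 3, 0], 104)], 2342), ([(99, [3, 1, 2, 0, 2, 2, 1, 3, 0, 3, 1, 3, 0, 1, 3, 0, 3, 1, 2, 0, 2], 24351), (61, [3, 1, 2, 0, 2, 2, 1, 3, 0, 3, 1, 3, 0, 1, 3, 0, 3, 1, 2, 0, 2], 239), (100, [3, 3, 1, 3, 0, 1, 3, 0], 8345)], 26170)],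
[([(0, [], 0), (5, [], 0), (2, [], 24400)], 0), ([(5, [], 33661), (2, [], 24400), (0, [], 0)], 7016), ([(6, [], 33661), (14, [], 2300), (3, [], 24400)], 7016), ([(7, [], 25452), (26, [], 9832), (4, [], 24400)], 42638), ([(8, [], 25452), (12, [], 2300), (1, [], 24400)], 42638), ([(9, [1, 3, 0], 23809), (19, [3], 2758), (12, [3], 2569)], 14900), ([(9, [2, 2, 2, 1, 3, 0, 2, 1, 2, 0, 3, 3, 1, 3, 0], 118367), (17, [1, 3, 0], 3054), (5, [3], 628)], 14900), ([(10, [1, 3, 0], 75835), (34, [2, 1, 2, 0, 2, 2, 2, 1, 2, 0, 2], 949), (14, [3], 2629)], 10050), ([(10, [2, 2, 2, 1, 3, 0, 2, 1, 2, 0, 3, 3, 1, 3, 0], 94981), (36, [3], 658), (26, [3], 25175)], 10050), ([(11, [1, 2, 0, 2, 2, 2, 1, 3,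 0], 53493), (80, [1, 2, 0, 2, 2, 2, 1, 3, 0], 49), (17, [2, 1, 2, 0, 1, 2, 0], 3876)], 38290), ([(11, [3, 1, 2, 0, 1, 2, 0, 2, 1, 3, 0, 3, 1, 3, 0], 108103), (82, [1, 2, 0, 2, 2, 2, 1, 3, 0], 127), (31, [2, 1, 2, 0, 1, 2, 0], 771)], 93449), ([(10, [2, 1, 2, 0, 3, 3, 1, 3, 0, 3], 15005), (40, [1, 2, 0, 3, 3, 1, 3, 0, 3], 786), (77, [1, 3, 0, 3, 1, 3, 0, 1, 3, 0], 290)], 0), ([(18, [2, 1, 2, 0, 2, 2, 2, 1, 2, 0, 2], 3545), (50, [3], 110), (27, [3], 25175)], 2785), ([(19, [2, 1, 2, 0, 2, 2, 2, 1, 2, 0, 2], 3545), (17, [2, 2, 2, 1, 3, 0, 2, 1, 2, 0, 3, 3, 1, 3, 0], 1456), (6, [3], 110913)], 2785), ([(20, [2, 1, 2, 0, 2, 2, 2, 1, 2, 0, 2], 3545), (49, [2, 1, 2, 0, 2, 2, 2, 1, 2, 0, 2],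 14), (15, [3], 2629)], 2755), ([(21, [2, 1, 2, 0, 2, 2, 2, 1, 2, 0, 2], 3545), (31, [2, 2, 2, 1, 3, 0, 2, 1, 2, 0, 3, 3, 1, 3, 0], 777), (8, [3], 115699)], 2755), ([(24, [1, 2, 0, 2, 2, 2, 1, 3, 0], 3339), (77, [1, 2, 0, 2, 2, 2, 1, 3, 0], 300), (9, [2, 1, 2, 0, 1, 2, 0], 105049)], 2787), ([(24, [1, 2, 0, 1, 2, 0, 2, 1, 3, 0, 3, 1, 2, 0, 2, 2, 1, 3, 0, 2, 1, 2, 0, 1, 2, 0], 2202), (87, [1, 3, 0, 2, 1, 2, 0, 1, 2, 0, 2, 1, 2, 0, 3, 1, 3, 0, 3, 1, 2, 0], 118), (33, [2, 1, 2, 0, 1, 2, 0], 1007)], 4481), ([(24, [1, 3, 0, 3, 1, 3, 0, 1, 3, 0, 2, 1, 2, 0, 3, 1, 3, 0], 1298), (80, [2, 1, 2, 0, 2, 1, 3, 0, 3, 1, 3, 0, 2], 14), (19, [3, 3, 1, 3, 0, 1, 3, 0, 3, 3], 2939)], 4439), ([(24, [1,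 3, 0, 1, 3, 0, 3, 3, 1, 3, 0, 3, 1, 2, 0, 2, 2, 2, 1, 3, 0], 299), (89, [3, 1, 3, 0, 1, 3, 0, 3, 3, 1, 2, 0, 3, 3, 1, 3, 0, 1, 3, 0, 3], 381), (47, [2, 1, 2, 0, 1, 2, 0], 149)], 3142), ([(25, [3, 1, 3, 0, 2, 2, 2, 1, 2, 0, 2, 1, 3, 0], 4731), (67, [2, 2, 1, 3, 0, 1, 3, 0, 2, 2, 1, 3, 0, 1, 3, 0, 3, 1, 3, 0, 2], 73), (34, [2, 1, 2, 0, 1, 2, 0], 1033)], 3308), ([(25, [2, 2, 2, 1, 3, 0, 2, 1, 2, 0, 3, 3, 1, 3, 0], 3681), (59, [1, 3, 0, 2, 1, 2, 0, 2, 2, 2, 1, 3, 0, 3], 24), (49, [2, 1, 2, 0, 1, 2, 0], 203)], 3308), ([(25, [2, 2, 1, 3, 0, 2, 2, 1, 2, 0, 1, 2, 0, 1, 2, 0, 3, 3, 1, 3, 0], 2105), (58, [2, 2, 1, 2, 0, 2, 2, 1, 2, 0, 3, 3, 1, 2, 0, 3, 1, 3, 0, 2, 2], 11), (23, [2, 1, 2, 0,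 3, 3, 1, 3, 0, 3, 1, 2, 0, 2, 1, 2, 0], 83)], 1554), ([(25, [1, 3, 0, 3, 1, 2, 0], 1312), (56, [2, 1, 3, 0, 3, 1, 2, 0, 2, 1, 3, 0, 1, 3, 0], 145), (30, [2, 2, 1, 3, 0, 3, 1, 2, 0, 2, 1, 2, 0], 1390)], 2795), ([(18, [1, 3, 0, 3, 3, 1, 2, 0, 3, 3], 280), (54, [2, 1, 2, 0, 1, 2, 0, 2, 2, 1, 3, 0, 2, 1, 2, 0, 2, 1, 2, 0, 1, 2, 0, 3], 176), (80, [3, 1, 2, 0, 3, 3, 1, 3, 0, 3, 3, 1, 3, 0, 2, 2], 41)], 622), ([(25, [3, 1, 2, 0, 1, 2, 0, 2, 1, 3, 0, 2, 2, 1, 2, 0, 3], 756), (74, [2, 1, 2, 0, 3, 1, 3, 0, 2, 2, 1, 2, 0, 1, 2, 0, 3, 3, 1, 2, 0], 121), (58, [1, 3, 0, 3, 1, 3, 0, 1, 3, 0], 157)], 4816), ([(28, [3], 15908), (31, [1, 3, 0], 752), (7, [3], 48493)], 41691), ([(29, [3], 27764), (47,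 [2, 1, 2, 0, 2, 2, 2, 1, 2, 0, 2], 110), (13, [3], 2985)], 41631), ([(29, [1, 2, 0, 2, 1, 3, 0, 3, 1, 3, 0, 1, 3, 0], 76609), (67, [1, 2, 0, 3, 3, 1, 2, 0, 1, 2, 0, 1, 2, 0, 2, 1, 2, 0], 65), (36, [2, 1, 2, 0, 1, 2, 0], 632)], 43725), ([(28, [1, 2, 0, 2, 1, 3, 0, 3, 1, 3, 0, 1, 3, 0], 61526), (44, [3, 1, 2, 0, 3, 1, 3, 0, 3, 1, 2, 0, 2, 1, 3, 0, 2, 2, 1, 2, 0], 384), (50, [2, 1, 2, 0, 1, 2, 0], 173)], 44177), ([(40, [1, 2, 0, 2, 2, 2, 1, 3, 0], 949), (77, [3, 1, 2, 0, 1, 2, 0, 2, 1, 3, 0, 3, 1, 3, 0], 269), (10, [2, 1, 2, 0, 1, 2, 0], 25543)], 776), ([(41, [1, 2, 0, 2, 2, 2, 1, 3, 0], 763), (58, [2, 2, 1, 3, 0, 2, 1, 2, 0, 3, 1, 3, 0, 1, 3, 0, 2, 1, 2, 0], 20), (22, [1, 3, 0, 2,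 2, 1, 2, 0, 1, 2, 0], 2326)], 738), ([(42, [1, 2, 0, 2, 2, 2, 1, 3, 0], 840), (80, [2, 2, 1, 2, 0, 2, 1, 3, 0, 3, 1, 2, 0, 3, 3, 1, 2, 0], 196), (16, [2, 1, 2, 0, 1, 2, 0], 281)], 1200), ([(43, [1, 2, 0, 2, 2, 2, 1, 3, 0], 732), (43, [1, 3, 0, 2, 2, 1, 3, 0, 3, 3, 1, 3, 0, 2, 2, 1, 2, 0, 3], 482), (32, [2, 1, 2, 0, 1, 2, 0], 254)], 807), ([(44, [3, 1, 3, 0, 1, 3, 0, 3, 3, 1, 2, 0, 3, 3, 1, 3, 0, 1, 3, 0, 3], 770), (58, [1, 3, 0, 3, 3, 1, 2, 0, 2, 2, 1, 2, 0, 2, 1, 3, 0], 105), (21, [3, 3, 1, 3, 0, 1, 3, 0, 3, 3], 3085)], 377), ([(44, [2, 1, 2, 0, 3, 1, 3, 0, 2, 1, 2, 0, 2, 2, 1, 2, 0, 3, 3], 979), (50, [1, 2, 0, 2, 1, 3, 0, 3, 1, 3, 0, 1, 3, 0], 127), (28, [2, 1, 2, 0, 1, 2, 0],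 69448)], 502), ([(44, [2, 1, 3, 0, 3, 1, 2, 0, 3, 3, 1, 3, 0, 3], 956), (70, [1, 2, 0, 2, 1, 3, 0, 3, 1, 2, 0, 1, 2, 0, 1, 2, 0, 3, 1, 3, 0, 3, 3, 1, 2, 0], 9), (53, [2, 1, 2, 0, 1, 2, 0], 127)], 892), ([(45, [3, 1, 3, 0, 1, 3, 0, 3, 3, 1, 2, 0, 3, 3, 1, 3, 0, 1, 3, 0, 3], 752), (92, [3, 1, 3, 0, 1, 3, 0, 3, 3, 1, 2, 0, 3, 3, 1, 3, 0, 1, 3, 0, 3], 291), (46, [2, 1, 2, 0, 1, 2, 0], 149)], 774), ([(45, [2, 1, 2, 0, 3, 1, 3, 0, 2, 1, 2, 0, 2, 2, 1, 2, 0, 3, 3], 920), (94, [2, 1, 3, 0, 3, 1, 2, 0, 3, 3, 1, 3, 0, 3], 100), (39, [2, 1, 2, 0, 1, 2, 0], 937)], 656), ([(45, [2, 1, 3, 0, 3, 1, 2, 0, 3, 3, 1, 3, 0, 3], 1017), (97, [1, 2, 0, 2, 2, 2, 1, 3, 0, 2, 1, 2, 0, 1, 2, 0, 2], 282), (51,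 [2, 1, 2, 0, 1, 2, 0], 104)], 837), ([(42, [1, 2, 0, 1, 2, 0, 3, 1, 3, 0, 3, 3, 1, 3, 0, 3], 1277), (90, [2, 2, 2, 1, 2, 0, 2, 1, 2, 0, 1, 2, 0, 2, 2, 1, 3, 0, 2, 1, 2, 0, 2], 462), (56, [1, 3, 0, 3, 1, 3, 0, 1, 3, 0], 112)], 1341), ([(41, [1, 2, 0, 1, 2, 0, 3, 1, 3, 0, 3, 3, 1, 3, 0, 3], 271), (65, [2, 1, 3, 0, 1, 3, 0, 3, 1, 2, 0, 2, 1, 3, 0, 3, 3, 1, 2, 0, 1, 2, 0], 55), (82, [1, 3, 0, 3, 1, 3, 0, 1, 3, 0], 288)], 0), ([(40, [1, 2, 0, 1, 2, 0, 3, 1, 3, 0, 3, 3, 1, 3, 0, 3], 1332), (87, [2, 1, 3, 0, 1, 3, 0, 3, 1, 2, 0, 2, 1, 3, 0, 2, 1, 2, 0, 3], 172), (43, [1, 3, 0, 2, 2, 1, 3, 0, 3, 3, 1, 2, 0, 1, 2, 0, 3, 3, 1, 3, 0], 34)], 61), ([(42, [2, 1, 2, 0, 2, 1, 3, 0, 2, 2, 1, 3, 0,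 3, 1, 3, 0], 233), (83, [2, 1, 3, 0, 2, 2, 1, 2, 0, 1, 2, 0], 331), (87, [1, 2, 0, 2, 1, 2, 0, 1, 2, 0, 2, 1, 2, 0, 3, 1, 3, 0, 1, 3, 0, 3], 217)], 975), ([(45, [3, 1, 3, 0, 3, 1, 2, 0, 3, 3, 1, 3, 0, 1, 3, 0, 3, 3], 257), (92, [2, 2, 1, 2, 0, 1, 2, 0, 3, 3, 1, 2, 0, 1, 2, 0, 1, 2, 0, 2], 394), (67, [2, 1, 3, 0, 3, 1, 2, 0, 2, 1, 3, 0, 1, 3, 0, 3, 1, 3, 0, 1, 3, 0], 61)], 537), ([(44, [3, 1, 3, 0, 3, 1, 2, 0, 3, 3, 1, 3, 0, 1, 3, 0, 3, 3], 110), (55, [2, 1, 2, 0, 2, 1, 3, 0, 2, 2, 1, 2, 0, 2, 2, 1, 2, 0, 1, 2, 0, 3], 86), (94, [1, 3, 0, 3, 1, 3, 0, 1, 3, 0], 348)], 0), ([(54, [3, 1, 3, 0, 1, 3, 0, 3, 3, 1, 2, 0, 3, 3, 1, 3, 0, 1, 3, 0, 3], 130), (80, [1, 3, 0, 1, 3, 0, 2, 2, 1, 2,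 0, 1, 2, 0, 3, 1, 3, 0, 2], 70), (18, [2, 1, 2, 0, 1, 2, 0], 3094)], 136), ([(55, [3, 1, 3, 0, 1, 3, 0, 3, 3, 1, 2, 0, 3, 3, 1, 3, 0, 1, 3, 0, 3], 130), (94, [1, 2, 0, 2, 2, 2, 1, 3, 0, 2, 1, 2, 0, 1, 2, 0, 2], 297), (37, [3, 3, 1, 3, 0, 1, 3, 0, 3, 3], 858)], 138), ([(59, [3, 1, 3, 0, 1, 3, 0, 3, 3, 1, 2, 0, 3, 3, 1, 3, 0, 1, 3, 0, 3], 145), (58, [3, 1, 3, 0, 2, 2, 2, 1, 2, 0, 2, 1, 3, 0], 122), (20, [2, 1, 2, 0, 1, 2, 0], 4186)], 134), ([(60, [3, 1, 3, 0, 1, 3, 0, 3, 3, 1, 2, 0, 3, 3, 1, 3, 0, 1, 3, 0, 3], 145), (90, [1, 2, 0, 2, 2, 2, 1, 3, 0, 2, 1, 2, 0, 1, 2, 0, 2], 432), (48, [3, 3, 1, 3, 0, 1, 3, 0, 3, 3], 132)], 148), ([(66, [1, 2, 0, 2, 2, 2, 1, 3, 0, 2, 1, 2, 0, 1, 2, 0,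 2], 65), (94, [2, 1, 2, 0, 3, 1, 3, 0, 2, 1, 2, 0, 2, 2, 1, 2, 0, 3, 3], 604), (38, [2, 1, 2, 0, 1, 2, 0], 1013)], 136), ([(67, [1, 2, 0, 2, 2, 2, 1, 3, 0, 2, 1, 2, 0, 1, 2, 0, 2], 65), (36, [1, 2, 0, 2, 1, 3, 0, 3, 1, 3, 0, 1, 3, 0], 514), (29, [2, 1, 2, 0, 1, 2, 0], 58883)], 136), ([(70, [1, 2, 0, 2, 2, 2, 1, 3, 0, 2, 1, 2, 0, 1, 2, 0, 2], 96), (67, [2, 1, 2, 0, 1, 2, 0, 2, 1, 3, 0, 1, 3, 0, 3, 1, 2, 0, 2, 1, 3, 0, 3, 1, 3, 0, 2], 204), (35, [2, 1, 2, 0, 1, 2, 0], 973)], 59), ([(71, [1, 2, 0, 2, 2, 2, 1, 3, 0, 2, 1, 2, 0, 1, 2, 0, 2], 96), (93, [3, 1, 2, 0, 3, 1, 3, 0, 3, 1, 2, 0, 2, 1, 3, 0, 2, 2, 1, 2, 0], 624), (52, [2, 1, 2, 0, 1, 2, 0], 33)], 134), ([(60, [3, 1, 3, 0, 3, 1,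 2, 0, 3, 3, 1, 3, 0, 1, 3, 0, 3, 3], 228), (91, [3, 3, 1, 2, 0, 3, 1, 3, 0, 2, 1, 2, 0, 2, 2], 374), (92, [1, 3, 0, 3, 1, 3, 0, 1, 3, 0], 586)], 0), ([(59, [3, 1, 3, 0, 3, 1, 2, 0, 3, 3, 1, 3, 0, 1, 3, 0, 3, 3], 228), (54, [2, 2, 1, 3, 0, 3, 3, 1, 3, 0, 2, 1, 2, 0, 3], 133), (89, [1, 3, 0, 3, 1, 3, 0, 1, 3, 0], 406)], 0), ([(59, [2, 2, 2, 1, 2, 0, 2, 1, 2, 0, 1, 2, 0, 2, 2, 1, 3, 0, 2, 1, 2, 0, 2], 103), (56, [2, 1, 3, 0, 2, 2, 2, 1, 3, 0, 2], 235), (41, [1, 3, 0, 2, 2, 1, 3, 0, 3, 3, 1, 2, 0, 1, 2, 0, 3, 3, 1, 3, 0], 646)], 12), ([(74, [1, 2, 0, 3, 1, 3, 0, 1, 3, 0, 3, 1, 2, 0, 2, 1, 2, 0, 3, 1, 3, 0, 2], 189), (58, [3, 1, 2, 0, 1, 2, 0, 2, 1, 3, 0, 2, 2, 1, 2, 0, 3], 151), (25,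 [1, 3, 0, 3, 1, 3, 0, 1, 3, 0], 1456)], 184), ([(74, [3, 1, 3, 0, 2, 2, 1, 3, 0, 2, 1, 2, 0, 2, 2, 1, 3, 0, 3, 1, 2, 0, 2], 110), (60, [1, 2, 0, 2, 2, 2, 1, 3, 0, 1, 3, 0, 3, 1, 2, 0, 1, 2, 0, 2], 143), (84, [1, 2, 0, 2, 1, 2, 0, 1, 2, 0, 2, 2, 1, 2, 0, 1, 2, 0, 3, 1, 3, 0, 3], 236)], 35), ([(55, [3, 1, 3, 0, 3, 1, 2, 0, 3, 3, 1, 3, 0, 1, 3, 0, 3, 3], 191), (95, [3, 1, 2, 0, 1, 2, 0, 2, 1, 3, 0, 3, 1, 2, 0, 3], 602), (90, [1, 3, 0, 3, 1, 3, 0, 1, 3, 0], 347)], 146), ([(54, [3, 1, 3, 0, 3, 1, 2, 0, 3, 3, 1, 3, 0, 1, 3, 0, 3, 3], 191), (89, [1, 3, 0, 3, 3, 1, 3, 0, 2, 2, 1, 3, 0, 2], 452), (59, [2, 1, 3, 0, 2, 1, 2, 0, 2, 1, 2, 0, 1, 2, 0, 1, 2, 0, 2, 1, 2, 0, 2], 196)], 208), ([(62,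 [1, 3, 0, 3, 1, 3, 0, 1, 3, 0], 191), (69, [2, 1, 3, 0, 1, 3, 0, 3, 1, 3, 0, 1, 3, 0], 228), (68, [2, 1, 3, 0, 1, 3, 0, 3, 1, 3, 0, 1, 3, 0], 24)], 146), ([(61, [1, 3, 0, 3, 1, 3, 0, 1, 3, 0], 191), (100, [1, 2, 0, 2, 1, 2, 0, 1, 2, 0, 3, 3, 1, 3, 0], 10845), (99, [1, 3, 0, 3, 1, 3, 0, 1, 3, 0], 18298)], 0), ([(57, [2, 2, 1, 3, 0, 1, 3, 0, 2, 1, 2, 0, 1, 2, 0, 2, 1, 2, 0, 3], 167), (89, [1, 3, 0, 1, 3, 0, 3, 1, 3, 0, 1, 3, 0, 3, 1, 2, 0, 2, 1, 3, 0, 1, 3, 0], 334), (64, [1, 2, 0, 2, 1, 2, 0, 3, 3, 1, 3, 0, 3, 3, 1, 3, 0, 3, 1, 2, 0], 82)], 229), ([(70, [1, 2, 0, 2, 1, 3, 0, 2, 1, 2, 0, 2, 2, 1, 3, 0, 3, 1, 3, 0, 1, 3, 0, 2], 232), (63, [2, 1, 2, 0, 2, 1, 3, 0, 3, 1, 3, 0, 2, 1, 2,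 0, 2, 1, 3, 0, 3], 153), (81, [1, 3, 0, 3, 1, 3, 0, 1, 3, 0], 69)], 0), ([(55, [2, 1, 2, 0, 3, 1, 3, 0, 1, 3, 0, 3, 3, 1, 2, 0, 1, 2, 0, 1, 2, 0], 185), (95, [1, 3, 0, 3, 1, 2, 0, 3, 3, 1, 2, 0, 2, 1, 3, 0, 2, 2, 1, 2, 0], 539), (86, [2, 2, 2, 1, 3, 0, 2, 1, 2, 0, 3, 1, 3, 0, 3, 3, 1, 3, 0], 101)], 104), ([(71, [3, 1, 3, 0, 3, 1, 2, 0, 3, 3, 1, 3, 0, 1, 3, 0, 3, 3], 228), (94, [1, 3, 0, 2, 2, 1, 2, 0, 1, 2, 0, 3, 3, 1, 3, 0, 2, 2, 1, 2, 0], 107), (44, [1, 3, 0, 3, 1, 2, 0, 1, 2, 0, 2, 1, 3, 0, 3, 1, 2, 0, 2, 1, 2, 0], 12)], 63), ([(70, [3, 1, 3, 0, 3, 1, 2, 0, 3, 3, 1, 3, 0, 1, 3, 0, 3, 3], 228), (66, [1, 2, 0, 1, 2, 0, 2, 2, 1, 2, 0, 3, 3, 1, 3, 0, 1, 3, 0, 3], 23), (97, [1, 3,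 0, 3, 1, 3, 0, 1, 3, 0], 137)], 0), ([(68, [1, 3, 0, 3, 1, 3, 0, 1, 3, 0], 228), (62, [1, 2, 0, 1, 2, 0, 2, 1, 2, 0, 2, 1, 3, 0], 191), (69, [1, 3, 0, 3, 1, 3, 0, 1, 3, 0], 228)], 110), ([(69, [1, 3, 0, 3, 1, 3, 0, 1, 3, 0], 228), (68, [1, 3, 0, 3, 1, 3, 0, 1, 3, 0], 24), (62, [1, 2, 0, 1, 2, 0, 2, 1, 2, 0, 2, 1, 3, 0], 191)], 146), ([(67, [3, 1, 3, 0, 3, 1, 2, 0, 3, 3, 1, 3, 0, 1, 3, 0, 3, 3], 191), (45, [1, 2, 0, 2, 2, 1, 3, 0, 3, 1, 3, 0, 2, 1, 2, 0, 2, 2, 2], 184), (93, [1, 3, 0, 3, 1, 2, 0, 1, 2, 0, 2, 1, 3, 0, 3, 1, 2, 0, 2, 1, 2, 0], 574)], 182), ([(66, [3, 1, 3, 0, 3, 1, 2, 0, 3, 3, 1, 3, 0, 1, 3, 0, 3, 3], 191), (97, [1, 3, 0, 2, 2, 2, 1, 2, 0, 2, 2, 1, 3, 0, 3], 222), (70,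 [2, 2, 2, 1, 2, 0, 2, 1, 2, 0, 1, 2, 0, 2, 1, 2, 0, 1, 2, 0, 1, 2, 0, 2], 228)], 143), ([(67, [1, 2, 0, 3, 1, 3, 0, 2, 2, 1, 2, 0, 3, 1, 3, 0, 3, 3], 191), (41, [1, 3, 0, 2, 2, 1, 2, 0, 2, 1, 3, 0, 2, 1, 2, 0, 1, 2, 0], 858), (72, [3, 3, 1, 2, 0, 2, 2, 1, 2, 0, 1, 2, 0, 2, 2, 1, 3, 0], 74)], 40), ([(66, [1, 2, 0, 3, 1, 3, 0, 2, 2, 1, 2, 0, 3, 1, 3, 0, 3, 3], 191), (92, [3, 1, 3, 0, 3, 3, 1, 2, 0, 1, 2, 0, 2, 1, 2, 0, 1, 2, 0, 3, 1, 3, 0], 404), (73, [2, 1, 2, 0, 3, 1, 3, 0, 2, 1, 2, 0, 3, 1, 3, 0, 3, 1, 2, 0], 149)], 34), ([(60, [1, 2, 0, 3, 1, 3, 0, 2, 2, 1, 2, 0, 3, 1, 3, 0, 3, 3], 62), (84, [1, 3, 0, 2, 1, 2, 0, 1, 2, 0, 2, 1, 3, 0, 3, 3, 1, 2, 0], 118), (74, [1, 3, 0, 2, 2, 1,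 2, 0, 2, 2, 2, 1, 3, 0, 2, 2, 1, 3, 0, 2, 1, 2, 0], 208)], 68), ([(59, [1, 2, 0, 3, 1, 3, 0, 2, 2, 1, 2, 0, 3, 1, 3, 0, 3, 3], 62), (74, [2, 2, 1, 2, 0, 2, 2, 1, 2, 0, 1, 2, 0, 3, 1, 3, 0, 1, 3, 0, 2], 197), (75, [2, 1, 2, 0, 1, 2, 0, 1, 2, 0, 2, 2, 1, 3, 0, 3, 3, 1, 3, 0, 2, 1, 2, 0, 1, 2, 0, 3], 184)], 68), ([(82, [1, 2, 0, 3, 3, 1, 3, 0, 3], 68), (31, [2, 1, 2, 0, 3, 3, 1, 3, 0, 3], 786), (11, [1, 3, 0, 3, 1, 3, 0, 1, 3, 0], 92431)], 0), ([(83, [1, 2, 0, 3, 3, 1, 3, 0, 3], 383), (85, [1, 2, 0, 1, 2, 0, 2, 1, 3, 0, 3, 1, 3, 0, 2, 2, 1, 3, 0, 2, 1, 2, 0, 1, 2, 0], 33), (78, [3, 1, 3, 0, 1, 3, 0, 2], 89)], 107), ([(84, [1, 2, 0, 3, 3, 1, 2, 0, 2, 2, 1, 2, 0, 3, 1, 3, 0], 31), (57,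 [2, 1, 3, 0, 3, 3, 1, 3, 0, 2, 1, 2, 0], 215), (79, [2, 1, 2, 0, 3, 3, 1, 2, 0], 286)], 144), ([(85, [1, 2, 0, 3, 3, 1, 2, 0, 2, 2, 1, 2, 0, 3, 1, 3, 0], 31), (83, [3, 1, 3, 0, 3, 1, 2, 0, 3, 3, 1, 3, 0, 1, 3, 0, 3], 198), (76, [1, 2, 0, 1, 2, 0], 308)], 54), ([(80, [2, 2, 1, 2, 0, 2, 1, 3, 0, 2, 1, 2, 0, 2, 2, 1, 2, 0, 1, 2, 0], 356), (25, [2, 2, 1, 3, 0, 1, 3, 0, 2, 1, 2, 0, 1, 2, 0, 2, 1, 2, 0, 3], 105), (63, [1, 3, 0, 3, 1, 3, 0, 1, 3, 0], 232)], 462), ([(80, [2, 1, 2, 0, 2, 1, 3, 0, 3, 1, 3, 0, 2, 1, 2, 0, 2, 1, 3, 0, 3], 374), (19, [2, 2, 2, 1, 2, 0, 2, 1, 2, 0, 1, 2, 0], 4198), (24, [1, 3, 0, 3, 1, 3, 0, 1, 3, 0], 1849)], 300), ([(87, [2, 2, 1, 2, 0, 2, 1, 3, 0, 2, 1, 2, 0,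 2, 2, 1, 2, 0, 1, 2, 0], 360), (42, [2, 1, 3, 0, 2, 2, 1, 2, 0, 1, 2, 0], 113), (83, [2, 1, 3, 0, 2, 1, 2, 0, 3, 1, 3, 0, 1, 3, 0, 2, 1, 2, 0, 3], 280)], 436), ([(87, [2, 1, 2, 0, 2, 1, 3, 0, 3, 1, 3, 0, 2, 1, 2, 0, 2, 1, 3, 0, 3], 63), (43, [2, 1, 3, 0, 1, 3, 0, 2, 2, 1, 3, 0, 2, 1, 2, 0, 3, 1, 3, 0, 3], 212), (40, [1, 3, 0, 3, 1, 3, 0, 1, 3, 0], 367)], 0), ([(91, [2, 1, 3, 0, 3, 1, 2, 0, 2, 1, 2, 0, 1, 2, 0, 3, 3, 1, 3, 0, 3], 213), (95, [1, 2, 0, 2, 2, 1, 3, 0, 3, 3, 1, 3, 0, 2, 1, 2, 0, 1, 2, 0], 546), (85, [1, 2, 0, 2, 1, 3, 0, 1, 3, 0, 3, 3, 1, 3, 0, 1, 3, 0, 2, 2], 26)], 49), ([(90, [2, 1, 3, 0, 3, 1, 2, 0, 2, 1, 2, 0, 1, 2, 0, 3, 3, 1, 3, 0, 3], 213), (74, [2, 2, 2, 1, 2,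 0, 3, 1, 3, 0, 1, 3, 0, 2, 2, 1, 2, 0, 3], 128), (57, [2, 1, 3, 0, 3, 3, 1, 3, 0, 3, 3, 1, 2, 0, 2, 1, 3, 0], 236)], 286), ([(82, [2, 1, 2, 0, 2, 1, 3, 0, 3, 1, 3, 0, 2, 1, 2, 0, 2, 1, 3, 0, 3], 319), (43, [2, 1, 3, 0, 1, 3, 0, 3, 1, 2, 0, 2, 1, 3, 0, 2, 1, 2, 0, 3], 1285), (42, [1, 3, 0, 1, 3, 0, 2, 2, 1, 2, 0, 1, 2, 0], 1006)], 403), ([(82, [2, 2, 1, 2, 0, 2, 1, 3, 0, 2, 1, 2, 0, 2, 2, 1, 2, 0, 1, 2, 0], 360), (41, [3, 1, 2, 0, 2, 2, 1, 2, 0, 3, 3], 129), (65, [3, 1, 2, 0, 2, 2, 2, 1, 2, 0, 2, 1, 3, 0, 3, 1, 3, 0], 16)], 7), ([(89, [2, 2, 1, 3, 0, 3, 3, 1, 3, 0, 2, 1, 2, 0, 3], 374), (59, [1, 3, 0, 3, 1, 2, 0, 1, 2, 0, 2, 1, 2, 0, 3, 3, 1, 2, 0, 3], 228), (54, [1, 3, 0, 3, 1, 3,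 0, 1, 3, 0], 133)], 26), ([(88, [2, 2, 1, 3, 0, 3, 3, 1, 3, 0, 2, 1, 2, 0, 3], 374), (88, [3, 1, 2, 0, 2, 1, 2, 0, 2, 2, 1, 2, 0, 1, 2, 0, 1, 2, 0, 3, 1, 3, 0], 427), (88, [1, 2, 0, 1, 2, 0, 3, 1, 3, 0, 3, 1, 2, 0, 1, 2, 0, 2, 1, 2, 0, 1, 2, 0, 3], 329)], 194), ([(90, [3, 1, 3, 0, 3, 1, 2, 0, 3, 1, 3, 0, 3, 3, 1, 3, 0, 1, 3, 0], 347), (55, [1, 3, 0, 2, 2, 2], 231), (95, [1, 2, 0, 2, 1, 3, 0, 2, 1, 2, 0, 2, 1, 2, 0, 1, 2, 0, 3, 1, 3, 0, 3], 496)], 49), ([(91, [3, 1, 3, 0, 3, 1, 2, 0, 3, 1, 3, 0, 3, 3, 1, 3, 0, 1, 3, 0], 347), (92, [3, 1, 3, 0, 3, 1, 2, 0, 3, 3, 1, 3, 0, 1, 3, 0, 3, 3], 472), (60, [1, 3, 0, 3, 1, 3, 0, 1, 3, 0], 191)], 0), ([(95, [1, 2, 0, 1, 2, 0, 1, 2, 0, 2, 1, 2,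 0, 2, 2], 533), (90, [2, 1, 2, 0, 1, 2, 0, 1, 2, 0, 2, 1, 2, 0, 2, 2, 1, 3, 0, 3, 1, 2, 0], 374), (55, [1, 2, 0, 1, 2, 0, 3, 1, 3, 0, 3, 1, 2, 0, 1, 2, 0, 2, 1, 2, 0, 1, 2, 0, 3], 187)], 379), ([(92, [3, 3, 1, 3, 0, 2, 1, 2, 0, 1, 2, 0, 2, 2, 1, 2, 0, 1, 2, 0, 3, 3], 354), (67, [2, 1, 3, 0, 1, 3, 0, 3, 3, 1, 3, 0, 1, 3, 0, 2, 1, 2, 0, 1, 2, 0, 2, 1, 3, 0], 115), (45, [1, 3, 0, 3, 1, 3, 0, 1, 3, 0], 1162)], 0), ([(92, [2, 2, 1, 2, 0, 2, 1, 3, 0, 3, 1, 3, 0, 1, 3, 0, 3, 3, 1, 2, 0, 1, 2, 0], 263), (59, [3, 1, 3, 0, 1, 3, 0, 3, 1, 3, 0, 2, 2, 1, 2, 0, 2, 1, 3, 0, 3, 3], 194), (71, [2, 1, 3, 0, 3, 1, 2, 0, 2, 1, 3, 0, 1, 3, 0, 3, 1, 3, 0, 1, 3, 0], 233)], 411), ([(94, [2, 1, 2, 0, 2,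 1, 2, 0, 1, 2, 0, 2, 2, 2], 112), (42, [3, 1, 3, 0, 1, 3, 0, 2, 2, 1, 2, 0, 3, 1, 3, 0, 1, 3, 0], 441), (91, [3, 1, 2, 0, 1, 2, 0, 1, 2, 0], 276)], 297), ([(97, [1, 2, 0, 1, 2, 0, 2, 2, 1, 2, 0, 3, 3, 1, 3, 0, 1, 3, 0, 3], 618), (70, [1, 2, 0, 2, 2, 1, 2, 0, 2, 2, 2, 1, 3, 0, 1, 3, 0], 196), (66, [1, 3, 0, 3, 1, 3, 0, 1, 3, 0], 8)], 522), ([(96, [1, 2, 0, 1, 2, 0, 2, 2, 1, 2, 0, 3, 3, 1, 3, 0, 1, 3, 0, 3], 618), (96, [1, 3, 0, 2, 1, 2, 0, 1, 2, 0, 2, 2, 2, 1, 3, 0, 2, 2, 1, 3, 0], 331), (96, [2, 2, 2, 1, 2, 0, 2, 1, 2, 0, 1, 2, 0, 2, 1, 2, 0, 1, 2, 0, 1, 2, 0, 2], 400)], 498), ([(93, [3, 1, 3, 0, 1, 3, 0, 2, 2, 1, 2, 0, 3, 3, 1, 3, 0], 399), (66, [3, 1, 3, 0, 1, 3, 0, 2, 2, 1, 2,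 0, 1, 2, 0, 2, 2, 1, 3, 0, 3], 117), (98, [2, 1, 2, 0, 2, 2, 1, 3, 0, 1, 3, 0, 2, 2, 1, 2, 0, 1, 2, 0, 1, 2, 0], 214)], 20), ([(100, [1, 2, 0, 2, 1, 2, 0, 1, 2, 0, 3, 3, 1, 3, 0], 24352), (99, [1, 3, 0, 3, 1, 3, 0, 1, 3, 0], 18298), (61, [1, 3, 0, 3, 1, 3, 0, 1, 3, 0], 191)], 2342), ([(100, [1, 3, 0, 3, 1, 3, 0, 1, 3, 0], 2026), (100, [1, 3, 0, 3, 1, 3, 0, 1, 3, 0], 10784), (100, [1, 3, 0, 3, 1, 3, 0, 1, 3, 0], 10784)], 26170)],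
[([(0, [], 0), (5, [], 0), (2, [], 24400)], 0), ([(5, [], 9798), (2, [], 24400), (0, [], 0)], 22204), ([(6, [], 9798), (14, [], 2300), (3, [], 24400)], 22204), ([(7, [], 860), (26, [], 9832), (4, [], 24400)], 63224), ([(8, [], 860), (12, [], 2300), (1, [], 24400)], 63224), ([(9, [2, 2, 1, 2, 0, 1, 2, 0, 2, 1, 2, 0, 1, 2, 0, 3], 102755), (19, [1, 2, 0, 1, 2, 0, 2, 2, 1, 2, 0, 2, 2, 1, 3, 0], 2702), (12, [1, 2, 0, 1, 2, 0, 1, 2, 0], 3941)], 9979), ([(9, [1, 2, 0, 1, 2, 0, 2, 1, 3, 0, 3], 86482), (17, [2, 2, 1, 2, 0, 1, 2, 0, 2, 1, 2, 0, 1, 2, 0, 3], 4920), (5, [1, 2, 0, 1, 2, 0, 1, 2, 0], 34689)], 9979), ([(10, [2, 2, 1, 2, 0, 1, 2, 0, 2, 1, 2, 0, 1, 2, 0, 3], 102872), (34, [2, 2,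 1, 2, 0, 1, 2, 0, 2, 1, 2, 0, 1, 2, 0, 2, 2], 807), (14, [1, 2, 0, 1, 2, 0, 1, 2, 0], 3310)], 9979), ([(10, [1, 2, 0, 1, 2, 0, 2, 1, 3, 0, 3], 26267), (36, [1, 2, 0, 1, 2, 0, 2, 2, 1, 2, 0, 2, 2, 1, 3, 0], 625), (26, [1, 2, 0, 1, 2, 0, 1, 2, 0], 30712)], 9979), ([(11, [2, 1, 2, 0, 2, 1, 2, 0, 1, 2, 0, 1, 2, 0, 2], 18811), (80, [1, 3, 0, 2, 2, 1, 2, 0, 1, 2, 0, 1, 2, 0, 2, 1, 2, 0], 93), (17, [1, 3, 0, 1, 3, 0, 2], 4109)], 42864), ([(11, [3], 100479), (82, [1, 3, 0, 2, 2, 1, 2, 0, 1, 2, 0, 1, 2, 0, 2, 1, 2, 0], 204), (31, [1, 3, 0, 1, 3, 0, 2], 741)], 115618), ([(10, [3, 1, 2, 0, 1, 2, 0], 111226), (40, [2, 1, 2, 0, 1, 2, 0, 2, 2, 1, 2, 0, 3, 1, 3, 0], 804), (77, [1, 2, 0, 3, 1, 3,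 0, 1, 3, 0], 422)], 0), ([(18, [2, 2, 1, 2, 0, 1, 2, 0, 2, 1, 2, 0, 1, 2, 0, 2, 2], 4237), (50, [1, 2, 0, 1, 2, 0, 2, 2, 1, 2, 0, 2, 2, 1, 3, 0], 91), (27, [1, 2, 0, 1, 2, 0, 1, 2, 0], 30712)], 2744), ([(19, [2, 2, 1, 2, 0, 1, 2, 0, 2, 1, 2, 0, 1, 2, 0, 2, 2], 4237), (17, [1, 2, 0, 1, 2, 0, 2, 1, 3, 0, 3], 1009), (6, [1, 2, 0, 1, 2, 0, 1, 2, 0], 77304)], 2744), ([(20, [2, 2, 1, 2, 0, 1, 2, 0, 2, 1, 2, 0, 1, 2, 0, 2, 2], 3023), (49, [2, 2, 1, 2, 0, 1, 2, 0, 2, 1, 2, 0, 1, 2, 0, 2, 2], 14), (15, [1, 2, 0, 1, 2, 0, 1, 2, 0], 3310)], 2744), ([(21, [2, 2, 1, 2, 0, 1, 2, 0, 2, 1, 2, 0, 1, 2, 0, 2, 2], 3023), (31, [1, 2, 0, 1, 2, 0, 2, 1, 3, 0, 3], 1042), (8, [1, 2, 0, 1, 2, 0, 1, 2, 0],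 24397)], 2744), ([(24, [1, 3, 0, 2, 2, 1, 2, 0, 1, 2, 0, 1, 2, 0, 2, 1, 2, 0], 3523), (77, [2, 1, 2, 0, 2, 1, 2, 0, 1, 2, 0, 1, 2, 0, 2], 366), (9, [1, 3, 0, 1, 3, 0, 2], 68594)], 3491), ([(24, [2, 2, 2, 1, 3, 0, 3, 3, 1, 3, 0, 2, 2, 1, 3, 0, 1, 3, 0], 2162), (87, [1, 2, 0, 2, 2, 1, 3, 0, 3, 1, 2, 0, 2, 1, 2, 0, 1, 2, 0, 1, 2, 0], 225), (33, [1, 3, 0, 1, 3, 0, 2], 868)], 4432), ([(24, [2, 2, 1, 2, 0, 3, 3, 1, 2, 0, 2, 1, 2, 0, 1, 2, 0], 1733), (80, [3, 3, 1, 3, 0, 2, 1, 2, 0, 2, 1, 3, 0, 3, 1, 2, 0, 1, 2, 0], 105), (19, [2, 1, 2, 0, 3, 1, 3, 0, 3, 1, 2, 0, 1, 2, 0, 2], 3605)], 4760), ([(24, [2, 2, 1, 3, 0, 1, 3, 0, 3, 1, 2, 0, 2, 2, 1, 2, 0], 1276), (89, [2, 2, 1, 3, 0, 1, 3, 0,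 2, 1, 2, 0, 1, 2, 0, 2, 2, 2, 1, 2, 0, 2], 324), (47, [1, 2, 0, 3, 1, 3, 0, 1, 3, 0], 129)], 0), ([(25, [1, 2, 0, 2, 1, 3, 0, 2, 1, 2, 0, 3, 3, 1, 3, 0, 2, 1, 2, 0, 1, 2, 0], 3900), (67, [1, 3, 0, 1, 3, 0, 3, 1, 2, 0, 2, 2, 1, 3, 0, 1, 3, 0, 2, 2, 1, 2, 0, 1, 2, 0], 127), (34, [1, 2, 0, 3, 1, 3, 0, 1, 3, 0], 598)], 0), ([(25, [2, 2, 2, 1, 2, 0, 2, 1, 3, 0, 1, 3, 0, 3, 1, 3, 0], 2998), (59, [2, 2, 1, 2, 0, 3, 1, 3, 0, 2, 2, 2, 1, 2, 0, 2], 7), (49, [1, 2, 0, 3, 1, 3, 0, 1, 3, 0], 186)], 0), ([(25, [1, 3, 0, 3, 1, 3, 0, 2, 1, 2, 0, 1, 2, 0, 2, 1, 2, 0, 2], 1230), (58, [2, 1, 2, 0, 3, 3, 1, 3, 0, 3, 3, 1, 3, 0, 2, 2], 14), (23, [1, 2, 0, 2, 1, 3, 0, 3, 1, 3, 0, 1, 3, 0, 3], 1943)],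 1836), ([(25, [1, 3, 0, 2, 2, 1, 2, 0, 2, 1, 3, 0, 2], 1389), (56, [2, 1, 3, 0, 2, 1, 2, 0, 2, 2, 1, 3, 0, 2, 2, 1, 3, 0, 1, 3, 0], 134), (30, [2, 2, 1, 3, 0, 3, 3, 1, 2, 0, 1, 2, 0, 2], 1217)], 3602), ([(25, [2, 1, 2, 0, 3, 3, 1, 2, 0, 1, 2, 0, 2, 1, 2, 0, 2, 2], 3721), (60, [1, 3, 0, 2, 1, 2, 0, 3, 1, 3, 0, 1, 3, 0, 2, 1, 2, 0, 1, 2, 0, 2, 1, 2, 0, 3], 33), (80, [1, 3, 0, 3, 3, 1, 2, 0, 2, 2, 1, 2, 0, 1, 2, 0, 2, 1, 2, 0, 2, 2], 30)], 772), ([(25, [2, 1, 2, 0, 3, 1, 3, 0, 2, 1, 2, 0, 3, 1, 3, 0, 3, 1, 2, 0, 2, 1, 2, 0], 226), (74, [2, 1, 2, 0, 3, 1, 3, 0, 2, 2, 2, 1, 2, 0, 2, 2, 1, 2, 0, 1, 2, 0], 72), (58, [1, 2, 0, 3, 1, 3, 0, 1, 3, 0], 113)], 4816), ([(28, [1, 2, 0, 1, 2, 0,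 2, 2, 1, 2, 0, 2, 2, 1, 3, 0], 43183), (31, [2, 2, 1, 2, 0, 1, 2, 0, 2, 1, 2, 0, 1, 2, 0, 3], 928), (7, [1, 2, 0, 1, 2, 0, 1, 2, 0], 26344)], 41609), ([(29, [1, 2, 0, 1, 2, 0, 2, 2, 1, 2, 0, 2, 2, 1, 3, 0], 43183), (47, [2, 2, 1, 2, 0, 1, 2, 0, 2, 1, 2, 0, 1, 2, 0, 2, 2], 91), (13, [1, 2, 0, 1, 2, 0, 1, 2, 0], 2669)], 41609), ([(29, [2, 2, 1, 2, 0, 2, 1, 2, 0, 1, 2, 0, 3, 3, 1, 2, 0], 50570), (67, [2, 2, 1, 2, 0, 1, 2, 0, 2, 1, 3, 0, 1, 3, 0, 3, 1, 2, 0, 2, 1, 2, 0], 119), (36, [1, 2, 0, 3, 1, 3, 0, 1, 3, 0], 625)], 0), ([(28, [2, 2, 1, 2, 0, 2, 1, 2, 0, 1, 2, 0, 3, 3, 1, 2, 0], 69744), (44, [2, 1, 2, 0, 2, 2, 2, 1, 2, 0, 2, 2, 1, 2, 0, 3, 3], 861), (50, [1, 2, 0, 3, 1, 3, 0, 1,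 3, 0], 99)], 0), ([(40, [1, 3, 0, 2, 2, 1, 2, 0, 1, 2, 0, 1, 2, 0, 2, 1, 2, 0], 890), (77, [3], 277), (10, [1, 3, 0, 1, 3, 0, 2], 117646)], 890), ([(41, [1, 3, 0, 2, 2, 1, 2, 0, 1, 2, 0, 1, 2, 0, 2, 1, 2, 0], 779), (58, [2, 2, 1, 2, 0, 1, 2, 0, 3, 3, 1, 3, 0, 3], 57), (22, [2, 1, 3, 0, 3, 1, 3, 0], 707)], 845), ([(42, [1, 3, 0, 2, 2, 1, 2, 0, 1, 2, 0, 1, 2, 0, 2, 1, 2, 0], 954), (80, [1, 2, 0, 2, 1, 3, 0, 1, 3, 0, 3, 1, 2, 0, 2, 1, 2, 0, 1, 2, 0, 1, 2, 0], 239), (16, [1, 3, 0, 1, 3, 0, 2], 1987)], 1295), ([(43, [1, 3, 0, 2, 2, 1, 2, 0, 1, 2, 0, 1, 2, 0, 2, 1, 2, 0], 720), (43, [1, 2, 0, 3, 1, 3, 0, 2, 1, 2, 0, 3, 1, 3, 0, 3, 1, 2, 0], 543), (32, [1, 3, 0, 1, 3, 0, 2], 20)], 1032),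 ([(44, [2, 2, 1, 3, 0, 1, 3, 0, 2, 1, 2, 0, 1, 2, 0, 2, 2, 2, 1, 2, 0, 2], 992), (58, [3, 1, 3, 0, 1, 3, 0, 3, 1, 2, 0, 2, 1, 3, 0, 3, 3, 1, 2, 0], 85), (21, [2, 1, 2, 0, 3, 1, 3, 0, 3, 1, 2, 0, 1, 2, 0, 2], 3990)], 381), ([(44, [3, 3, 1, 2, 0, 1, 2, 0, 2, 1, 2, 0, 3, 1, 3, 0, 2, 1, 2, 0, 2, 1, 2, 0], 946), (50, [2, 2, 1, 2, 0, 2, 1, 2, 0, 1, 2, 0, 3, 3, 1, 2, 0], 130), (28, [1, 2, 0, 3, 1, 3, 0, 1, 3, 0], 51876)], 569), ([(44, [2, 2, 2, 1, 3, 0, 1, 3, 0, 3, 3, 1, 3, 0, 1, 3, 0, 3, 1, 2, 0, 2], 568), (70, [1, 2, 0, 2, 2, 1, 2, 0, 3, 3, 1, 2, 0, 1, 2, 0, 1, 2, 0, 3], 9), (53, [1, 2, 0, 3, 1, 3, 0, 1, 3, 0], 105)], 0), ([(45, [2, 2, 1, 3, 0, 1, 3, 0, 2, 1, 2, 0, 1, 2, 0, 2, 2, 2, 1,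 2, 0, 2], 1007), (92, [2, 2, 1, 3, 0, 1, 3, 0, 2, 1, 2, 0, 1, 2, 0, 2, 2, 2, 1, 2, 0, 2], 291), (46, [1, 2, 0, 3, 1, 3, 0, 1, 3, 0], 129)], 0), ([(45, [3, 3, 1, 2, 0, 1, 2, 0, 2, 1, 2, 0, 3, 1, 3, 0, 2, 1, 2, 0, 2, 1, 2, 0], 861), (94, [2, 2, 2, 1, 3, 0, 1, 3, 0, 3, 3, 1, 3, 0, 1, 3, 0, 3, 1, 2, 0, 2], 510), (39, [1, 2, 0, 3, 1, 3, 0, 1, 3, 0], 591)], 668), ([(45, [2, 2, 2, 1, 3, 0, 1, 3, 0, 3, 3, 1, 3, 0, 1, 3, 0, 3, 1, 2, 0, 2], 530), (97, [2, 1, 2, 0, 2, 1, 2, 0, 3, 1, 3, 0, 2, 1, 2, 0, 2, 1, 3, 0, 2], 187), (51, [1, 2, 0, 3, 1, 3, 0, 1, 3, 0], 89)], 0), ([(40, [2, 2, 2, 1, 3, 0, 3, 1, 3, 0, 1, 3, 0, 2, 2], 92), (86, [1, 2, 0, 1, 2, 0, 2, 1, 3, 0, 3, 1, 3, 0, 1, 3, 0], 26), (56,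 [1, 2, 0, 3, 1, 3, 0, 1, 3, 0], 61)], 1341), ([(43, [2, 2, 2, 1, 3, 0, 3, 1, 3, 0, 1, 3, 0, 2, 2], 1437), (42, [1, 3, 0, 2, 1, 2, 0, 1, 2, 0, 2, 1, 2, 0, 2, 1, 3, 0, 2, 2, 1, 2, 0, 3], 986), (82, [1, 2, 0, 3, 1, 3, 0, 1, 3, 0], 158)], 0), ([(43, [2, 1, 3, 0, 1, 3, 0, 2, 2, 1, 2, 0, 2, 1, 3, 0, 1, 3, 0, 2], 349), (43, [1, 2, 0, 1, 2, 0, 1, 2, 0, 3, 1, 3, 0, 1, 3, 0, 3, 3, 1, 2, 0], 924), (43, [1, 3, 0, 3, 3, 1, 3, 0, 2, 2, 1, 2, 0, 1, 2, 0, 2], 1059)], 294), ([(41, [2, 2, 2, 1, 3, 0, 3, 1, 3, 0, 1, 3, 0, 2, 2], 1402), (60, [1, 2, 0, 1, 2, 0, 2, 2, 1, 2, 0, 3, 1, 3, 0, 3, 1, 2, 0, 3], 30), (87, [2, 2, 1, 2, 0, 1, 2, 0, 1, 2, 0, 2, 1, 2, 0, 2, 1, 3, 0, 3], 5)], 975), ([(40, [3, 1, 3,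 0, 3, 1, 2, 0, 2, 2, 2, 1, 2, 0, 2], 582), (89, [2, 1, 3, 0, 3, 1, 2, 0, 1, 2, 0, 2, 1, 3, 0, 3, 1, 3, 0], 351), (67, [2, 1, 3, 0, 3, 1, 3, 0], 75)], 537), ([(42, [3, 1, 3, 0, 3, 1, 2, 0, 2, 2, 2, 1, 2, 0, 2], 436), (91, [2, 2, 2, 1, 3, 0, 3, 3, 1, 2, 0, 2, 2, 2], 277), (94, [1, 2, 0, 3, 1, 3, 0, 1, 3, 0], 373)], 0), ([(54, [2, 2, 1, 3, 0, 1, 3, 0, 2, 1, 2, 0, 1, 2, 0, 2, 2, 2, 1, 2, 0, 2], 152), (80, [2, 2, 1, 2, 0, 3, 3, 1, 2, 0, 3, 1, 3, 0, 2, 1, 2, 0, 3], 20), (18, [1, 2, 0, 3, 1, 3, 0, 1, 3, 0], 3542)], 0), ([(55, [2, 2, 1, 3, 0, 1, 3, 0, 2, 1, 2, 0, 1, 2, 0, 2, 2, 2, 1, 2, 0, 2], 152), (94, [2, 1, 2, 0, 2, 1, 2, 0, 3, 1, 3, 0, 2, 1, 2, 0, 2, 1, 3, 0, 2], 297), (37, [2, 1, 2,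 0, 3, 1, 3, 0, 3, 1, 2, 0, 1, 2, 0, 2], 948)], 176), ([(59, [2, 2, 1, 3, 0, 1, 3, 0, 2, 1, 2, 0, 1, 2, 0, 2, 2, 2, 1, 2, 0, 2], 129), (58, [1, 2, 0, 2, 1, 3, 0, 2, 1, 2, 0, 3, 3, 1, 3, 0, 2, 1, 2, 0, 1, 2, 0], 122), (20, [1, 2, 0, 3, 1, 3, 0, 1, 3, 0], 3898)], 0), ([(60, [2, 2, 1, 3, 0, 1, 3, 0, 2, 1, 2, 0, 1, 2, 0, 2, 2, 2, 1, 2, 0, 2], 129), (90, [2, 1, 2, 0, 2, 1, 2, 0, 3, 1, 3, 0, 2, 1, 2, 0, 2, 1, 3, 0, 2], 432), (48, [2, 1, 2, 0, 3, 1, 3, 0, 3, 1, 2, 0, 1, 2, 0, 2], 149)], 163), ([(66, [2, 1, 2, 0, 2, 1, 2, 0, 3, 1, 3, 0, 2, 1, 2, 0, 2, 1, 3, 0, 2], 80), (94, [3, 3, 1, 2, 0, 1, 2, 0, 2, 1, 2, 0, 3, 1, 3, 0, 2, 1, 2, 0, 2, 1, 2, 0], 604), (38, [1, 2, 0, 3, 1, 3, 0, 1, 3, 0],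 1030)], 0), ([(67, [2, 1, 2, 0, 2, 1, 2, 0, 3, 1, 3, 0, 2, 1, 2, 0, 2, 1, 3, 0, 2], 80), (36, [2, 2, 1, 2, 0, 2, 1, 2, 0, 1, 2, 0, 3, 3, 1, 2, 0], 389), (29, [1, 2, 0, 3, 1, 3, 0, 1, 3, 0], 72530)], 0), ([(70, [2, 1, 2, 0, 2, 1, 2, 0, 3, 1, 3, 0, 2, 1, 2, 0, 2, 1, 3, 0, 2], 71), (67, [2, 2, 2, 1, 2, 0, 3, 1, 3, 0, 2, 1, 2, 0, 1, 2, 0, 3, 1, 3, 0, 2, 1, 2, 0], 11), (35, [1, 2, 0, 3, 1, 3, 0, 1, 3, 0], 702)], 48), ([(71, [2, 1, 2, 0, 2, 1, 2, 0, 3, 1, 3, 0, 2, 1, 2, 0, 2, 1, 3, 0, 2], 71), (93, [2, 1, 2, 0, 2, 2, 2, 1, 2, 0, 2, 2, 1, 2, 0, 3, 3], 541), (52, [1, 2, 0, 3, 1, 3, 0, 1, 3, 0], 197)], 0), ([(55, [1, 3, 0, 2, 2, 1, 3, 0, 1, 3, 0, 3, 1, 2, 0, 2, 2, 1, 3, 0, 1, 3, 0, 2], 5),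 (98, [1, 3, 0, 2, 2, 2, 1, 2, 0, 3, 3, 1, 2, 0], 596), (92, [1, 2, 0, 3, 1, 3, 0, 1, 3, 0], 357)], 0), ([(54, [1, 3, 0, 2, 2, 1, 3, 0, 1, 3, 0, 3, 1, 2, 0, 2, 2, 1, 3, 0, 1, 3, 0, 2], 5), (88, [3, 3, 1, 3, 0, 1, 3, 0, 3, 1, 2, 0, 2, 1, 3, 0, 2, 2, 1, 3, 0], 263), (89, [1, 2, 0, 3, 1, 3, 0, 1, 3, 0], 286)], 0), ([(65, [1, 3, 0, 2, 1, 2, 0, 1, 2, 0, 2, 1, 3, 0, 1, 3, 0, 2, 1, 2, 0, 1, 2, 0, 3], 161), (82, [1, 2, 0, 2, 2, 2, 1, 2, 0, 1, 2, 0, 2], 484), (41, [1, 3, 0, 3, 3, 1, 3, 0, 2, 2, 1, 2, 0, 1, 2, 0, 2], 152)], 28), ([(74, [1, 3, 0, 2, 2, 1, 2, 0, 2, 1, 3, 0, 3, 1, 2, 0, 1, 2, 0, 1, 2, 0, 3, 3], 193), (58, [2, 1, 2, 0, 3, 1, 3, 0, 2, 1, 2, 0, 3, 1, 3, 0, 3, 1, 2, 0, 2, 1, 2, 0],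 158), (25, [1, 2, 0, 3, 1, 3, 0, 1, 3, 0], 2371)], 184), ([(74, [3, 1, 2, 0, 3, 3, 1, 2, 0, 2, 2, 1, 3, 0, 1, 3, 0, 3, 1, 2, 0], 176), (60, [2, 1, 2, 0, 1, 2, 0, 2, 1, 2, 0, 3, 1, 3, 0, 3, 1, 2, 0, 3, 1, 3, 0], 70), (84, [2, 2, 2, 1, 2, 0, 2, 1, 2, 0, 1, 2, 0, 2, 1, 2, 0, 1, 2, 0], 221)], 35), ([(70, [1, 2, 0, 2, 1, 2, 0, 1, 2, 0, 2, 2, 1, 2, 0, 1, 2, 0, 3, 3], 78), (60, [2, 1, 3, 0, 2, 1, 2, 0, 2, 1, 3, 0, 2, 2, 1, 2, 0, 2, 2, 1, 2, 0], 107), (90, [1, 2, 0, 3, 1, 3, 0, 1, 3, 0], 444)], 146), ([(71, [1, 2, 0, 2, 1, 2, 0, 1, 2, 0, 2, 2, 1, 2, 0, 1, 2, 0, 3, 3], 78), (92, [3, 1, 2, 0, 1, 2, 0, 3, 3, 1, 3, 0, 1, 3, 0, 3, 3], 135), (59, [3, 3, 1, 2, 0, 3, 3, 1, 2, 0, 1, 2, 0, 2, 1, 2,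 0, 1, 2, 0, 3], 232)], 204), ([(75, [1, 2, 0, 2, 1, 2, 0, 2, 2, 1, 3, 0, 1, 3, 0, 2, 2, 1, 2, 0, 3, 1, 3, 0], 164), (72, [3, 1, 3, 0, 2, 1, 2, 0, 3, 1, 3, 0, 1, 3, 0, 2, 2, 2, 1, 3, 0, 2], 208), (68, [1, 3, 0, 1, 3, 0], 236)], 146), ([(74, [1, 2, 0, 2, 1, 2, 0, 2, 2, 1, 3, 0, 1, 3, 0, 2, 2, 1, 2, 0, 3, 1, 3, 0], 164), (61, [3, 3], 62), (99, [1, 2, 0, 3, 1, 3, 0, 1, 3, 0], 14827)], 0), ([(71, [3, 1, 2, 0, 3, 1, 3, 0, 3, 3, 1, 2, 0, 1, 2, 0, 3, 3], 126), (92, [2, 1, 3, 0, 2, 1, 2, 0, 2, 1, 2, 0, 1, 2, 0, 2, 2, 1, 2, 0, 1, 2, 0, 3, 1, 3, 0], 187), (64, [1, 2, 0, 1, 2, 0, 3, 1, 3, 0, 3, 1, 2, 0, 3, 3, 1, 3, 0, 3], 116)], 194), ([(58, [1, 2, 0, 3, 3, 1, 3, 0, 2, 2, 1, 2, 0, 3, 3, 1, 2,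 0, 3], 119), (24, [2, 2, 1, 3, 0, 1, 3, 0, 3, 1, 2, 0, 1, 2, 0, 2, 1, 2, 0, 1, 2, 0], 3846), (81, [1, 2, 0, 3, 1, 3, 0, 1, 3, 0], 206)], 0), ([(75, [3, 1, 2, 0, 1, 2, 0, 2, 1, 3, 0, 3, 3, 1, 2, 0, 3], 61), (60, [3, 1, 2, 0, 2, 2, 1, 3, 0, 1, 3, 0, 3, 1, 2, 0, 1, 2, 0, 2, 2, 1, 3, 0], 140), (86, [2, 1, 3, 0, 1, 3, 0, 2, 2, 1, 3, 0, 2, 1, 2, 0, 1, 2, 0, 2, 1, 2, 0, 3], 191)], 113), ([(55, [1, 2, 0, 2, 1, 2, 0, 1, 2, 0, 2, 2, 1, 2, 0, 1, 2, 0, 3, 3], 69), (94, [1, 2, 0, 1, 2, 0, 2, 1, 3, 0, 3, 1, 3, 0, 1, 3, 0, 3, 3, 1, 2, 0], 180), (44, [1, 2, 0, 2, 2, 1, 2, 0, 2, 1, 3, 0, 1, 3, 0, 2], 1407)], 177), ([(54, [1, 2, 0, 2, 1, 2, 0, 1, 2, 0, 2, 2, 1, 2, 0, 1, 2, 0, 3, 3], 69), (91, [2,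 2, 1, 2, 0, 2, 1, 3, 0, 2, 2, 2, 1, 2, 0, 3, 3, 1, 3, 0, 1, 3, 0], 329), (97, [1, 2, 0, 3, 1, 3, 0, 1, 3, 0], 532)], 0), ([(72, [1, 2, 0, 1, 2, 0, 3, 1, 3, 0, 1, 3, 0, 3, 3, 1, 2, 0, 1, 2, 0, 2, 1, 3, 0, 1, 3, 0], 145), (73, [2, 1, 3, 0, 1, 3, 0, 3, 1, 2, 0, 2, 1, 3, 0, 3, 1, 3, 0, 1, 3, 0, 3, 3], 155), (69, [1, 2, 0, 3, 1, 3, 0, 1, 3, 0], 191)], 110), ([(73, [1, 2, 0, 1, 2, 0, 3, 1, 3, 0, 1, 3, 0, 3, 3, 1, 2, 0, 1, 2, 0, 2, 1, 3, 0, 1, 3, 0], 145), (74, [1, 2, 0, 2, 1, 3, 0, 3, 1, 2, 0, 3, 3], 60), (62, [2, 1, 2, 0, 1, 2, 0, 1, 2, 0], 126)], 146), ([(59, [1, 3, 0, 2, 2, 1, 3, 0, 1, 3, 0, 3, 1, 2, 0, 2, 2, 1, 3, 0, 1, 3, 0, 2], 123), (55, [3, 1, 2, 0, 2, 2, 1, 2, 0, 1, 2, 0, 2, 2,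 1, 2, 0, 1, 2, 0, 3, 1, 3, 0], 124), (93, [1, 2, 0, 2, 2, 1, 2, 0, 2, 1, 3, 0, 1, 3, 0, 2], 209)], 56), ([(60, [1, 3, 0, 2, 2, 1, 3, 0, 1, 3, 0, 3, 1, 2, 0, 2, 2, 1, 3, 0, 1, 3, 0, 2], 123), (90, [1, 3, 0, 2, 1, 2, 0, 3, 1, 3, 0, 1, 3, 0, 3, 3, 1, 3, 0, 2], 456), (70, [2, 2, 1, 3, 0, 2, 1, 2, 0, 1, 2, 0, 3, 1, 3, 0, 1, 3, 0, 3], 179)], 146), ([(75, [1, 2, 0, 1, 2, 0, 2, 2, 1, 2, 0, 3, 3, 1, 3, 0, 2, 2, 2, 1, 3, 0, 1, 3, 0], 221), (62, [3, 1, 2, 0, 2, 1, 2, 0, 1, 2, 0, 2, 1, 3, 0, 3, 1, 2, 0, 2, 2], 170), (72, [1, 2, 0, 2, 2, 2, 1, 3, 0, 2, 1, 2, 0, 3, 1, 3, 0, 3, 1, 2, 0], 97)], 40), ([(74, [1, 2, 0, 1, 2, 0, 2, 2, 1, 2, 0, 3, 3, 1, 3, 0, 2, 2, 2, 1, 3, 0, 1, 3, 0], 221), (74, [1,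 2, 0, 1, 2, 0, 3, 1, 3, 0, 1, 3, 0, 3, 1, 2, 0, 2, 1, 3, 0, 3, 1, 3, 0, 2, 1, 2, 0], 12), (73, [2, 2, 1, 2, 0, 1, 2, 0, 2, 2, 1, 2, 0, 3, 3, 1, 3, 0, 2], 208)], 34), ([(73, [1, 2, 0, 1, 2, 0, 2, 2, 1, 2, 0, 3, 3, 1, 3, 0, 2, 2, 2, 1, 3, 0, 1, 3, 0], 201), (73, [1, 3, 0, 3, 1, 2, 0, 2, 1, 3, 0, 2, 2, 2, 1, 3, 0, 3, 1, 2, 0], 92), (74, [1, 2, 0, 1, 2, 0, 2, 1, 3, 0, 3, 1, 2, 0, 1, 2, 0, 1, 2, 0, 3, 1, 3, 0, 2], 67)], 159), ([(72, [1, 2, 0, 1, 2, 0, 2, 2, 1, 2, 0, 3, 3, 1, 3, 0, 2, 2, 2, 1, 3, 0, 1, 3, 0], 201), (74, [3, 1, 3, 0, 2, 1, 2, 0, 3, 1, 3, 0, 1, 3, 0, 3, 1, 2, 0, 1, 2, 0, 2, 1, 2, 0, 3], 141), (75, [2, 2, 1, 2, 0, 3, 3, 1, 3, 0, 1, 3, 0, 3, 1, 3, 0], 32)], 159), ([(82, [2,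 1, 2, 0, 1, 2, 0, 2, 2, 1, 2, 0, 3, 1, 3, 0], 119), (31, [3, 1, 2, 0, 1, 2, 0], 1070), (11, [1, 2, 0, 3, 1, 3, 0, 1, 3, 0], 98127)], 0), ([(83, [2, 1, 2, 0, 1, 2, 0, 2, 2, 1, 2, 0, 3, 1, 3, 0], 267), (85, [2, 1, 3, 0, 2, 2, 1, 2, 0, 3, 3, 1, 2, 0, 3, 1, 3, 0, 3, 1, 2, 0], 179), (78, [2, 1, 2, 0, 1, 2, 0, 2, 1, 3, 0, 3], 188)], 154), ([(84, [2, 1, 3, 0, 2], 48), (57, [2, 2, 1, 3, 0, 2, 2, 1, 3, 0, 2, 2, 1, 2, 0], 215), (79, [2, 2, 1, 3, 0, 2, 1, 2, 0, 1, 2, 0, 2], 408)], 219), ([(85, [2, 1, 3, 0, 2], 48), (83, [3, 3, 1, 2, 0, 2, 2, 1, 3, 0, 3, 1, 2, 0, 1, 2, 0], 30), (76, [1, 2, 0, 3, 1, 3, 0, 3, 1, 2, 0], 274)], 48), ([(81, [2, 2, 1, 2, 0, 2, 1, 3, 0, 2, 2, 2, 1, 2, 0, 3, 3, 1, 3,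 0], 434), (70, [1, 3, 0, 2, 2, 2, 1, 3, 0, 3, 1, 2, 0, 2, 2, 1, 3, 0, 3], 38), (63, [1, 2, 0, 3, 1, 3, 0, 1, 3, 0], 70)], 462), ([(81, [2, 2, 1, 3, 0, 1, 3, 0, 3, 1, 2, 0, 1, 2, 0, 2, 1, 2, 0, 1, 2, 0], 419), (58, [2, 1, 2, 0, 3, 3, 1, 2, 0, 1, 2, 0, 2, 1, 2, 0, 2, 2], 115), (24, [1, 2, 0, 3, 1, 3, 0, 1, 3, 0], 3258)], 300), ([(86, [2, 2, 1, 2, 0, 2, 1, 3, 0, 2, 2, 2, 1, 2, 0, 3, 3, 1, 3, 0], 264), (54, [2, 1, 2, 0, 2, 1, 2, 0, 3, 1, 3, 0, 2, 1, 2, 0, 1, 2, 0, 3, 1, 3, 0, 1, 3, 0], 209), (83, [1, 2, 0, 1, 2, 0, 1, 2, 0, 2, 2, 1, 2, 0, 3, 3, 1, 3, 0], 482)], 411), ([(86, [2, 2, 1, 3, 0, 1, 3, 0, 3, 1, 2, 0, 1, 2, 0, 2, 1, 2, 0, 1, 2, 0], 27), (56, [2, 2, 2, 1, 3, 0, 3, 1, 3, 0, 1,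 3, 0, 2, 2], 114), (40, [1, 2, 0, 3, 1, 3, 0, 1, 3, 0], 456)], 0), ([(91, [1, 2, 0, 1, 2, 0, 3, 3, 1, 3, 0, 2, 2, 1, 2, 0, 1, 2, 0, 2, 1, 3, 0, 1, 3, 0], 214), (95, [3, 1, 3, 0, 1, 3, 0, 3, 1, 2, 0, 2, 1, 3, 0, 2, 1, 2, 0, 2], 536), (85, [1, 2, 0, 1, 2, 0, 2, 2, 2, 1, 3, 0, 1, 3, 0, 2], 225)], 212), ([(90, [1, 2, 0, 1, 2, 0, 3, 3, 1, 3, 0, 2, 2, 1, 2, 0, 1, 2, 0, 2, 1, 3, 0, 1, 3, 0], 214), (74, [3, 1, 3, 0, 2, 1, 2, 0, 2, 1, 3, 0, 1, 3, 0, 3, 1, 2, 0, 2, 1, 3, 0, 2], 82), (57, [2, 1, 2, 0, 1, 2, 0, 2, 2, 2, 1, 2, 0, 2, 1, 2, 0], 13)], 427), ([(83, [2, 2, 1, 3, 0, 1, 3, 0, 3, 1, 2, 0, 1, 2, 0, 2, 1, 2, 0, 1, 2, 0], 177), (87, [1, 2, 0, 1, 2, 0, 1, 2, 0, 3, 1, 3, 0, 1, 3, 0, 3, 3,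 1, 2, 0], 10), (42, [1, 2, 0, 2, 2, 1, 2, 0, 3, 3, 1, 3, 0, 1, 3, 0], 281)], 295), ([(83, [2, 2, 1, 2, 0, 2, 1, 3, 0, 2, 2, 2, 1, 2, 0, 3, 3, 1, 3, 0], 150), (89, [3, 1, 2, 0, 3, 1, 3, 0, 3, 3, 1, 2, 0, 1, 2, 0, 3, 3], 358), (65, [2, 2, 1, 2, 0, 1, 2, 0, 3, 3], 204)], 229), ([(88, [1, 2, 0, 1, 2, 0, 2, 1, 3, 0, 3, 3, 1, 2, 0, 3, 1, 3, 0, 3], 478), (89, [1, 3, 0, 2, 2, 1, 3, 0, 1, 3, 0, 3, 1, 2, 0, 2, 2, 1, 3, 0, 1, 3, 0, 2], 295), (54, [1, 2, 0, 3, 1, 3, 0, 1, 3, 0], 28)], 26), ([(89, [1, 2, 0, 1, 2, 0, 2, 1, 3, 0, 3, 3, 1, 2, 0, 3, 1, 3, 0, 3], 478), (54, [2, 1, 2, 0, 2, 2, 1, 2, 0, 3, 3, 1, 3, 0, 1, 3, 0, 3, 1, 2, 0], 28), (88, [3, 1, 3, 0, 3, 1, 2, 0, 1, 2, 0, 2, 1, 2, 0, 1, 2,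 0, 3], 418)], 194), ([(91, [2, 1, 3, 0, 2, 1, 2, 0, 2, 1, 3, 0, 2, 2, 1, 2, 0, 2, 2, 1, 2, 0], 444), (96, [1, 2, 0, 2, 2, 1, 2, 0, 2, 2, 2, 1, 2, 0, 1, 2, 0, 2, 1, 3, 0, 1, 3, 0], 539), (95, [1, 3, 0, 1, 3, 0, 3, 1, 2, 0, 1, 2, 0, 2, 1, 2, 0, 1, 2, 0, 3], 263)], 49), ([(90, [2, 1, 3, 0, 2, 1, 2, 0, 2, 1, 3, 0, 2, 2, 1, 2, 0, 2, 2, 1, 2, 0], 444), (70, [3, 1, 2, 0, 2, 1, 2, 0, 1, 2, 0, 3, 1, 3, 0, 3], 115), (60, [1, 2, 0, 3, 1, 3, 0, 1, 3, 0], 100)], 0), ([(98, [1, 2, 0, 1, 2, 0, 2, 1, 2, 0, 1, 2, 0, 3, 1, 3, 0, 3, 3], 535), (92, [2, 1, 3, 0, 3, 3, 1, 2, 0, 1, 2, 0, 2, 2, 1, 2, 0, 1, 2, 0, 3], 357), (55, [3, 1, 3, 0, 3, 1, 2, 0, 1, 2, 0, 2, 1, 2, 0, 1, 2, 0, 3], 52)], 379), ([(94,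 [2, 1, 2, 0, 1, 2, 0, 2, 1, 2, 0, 1, 2, 0, 2, 2, 1, 3, 0], 481), (43, [2, 1, 2, 0, 1, 2, 0, 1, 2, 0, 2, 1, 3, 0, 3, 1, 3, 0, 1, 3, 0], 530), (45, [1, 2, 0, 3, 1, 3, 0, 1, 3, 0], 1439)], 0), ([(95, [1, 3, 0, 1, 3, 0, 2, 2, 1, 2, 0, 2, 2, 1, 3, 0, 3, 3], 130), (90, [2, 1, 2, 0, 1, 2, 0, 2, 1, 2, 0, 3, 1, 3, 0, 2, 2, 1, 2, 0, 2], 452), (71, [2, 1, 3, 0, 3, 1, 3, 0], 176)], 411), ([(95, [2, 2, 1, 3, 0, 2, 1, 2, 0, 1, 2, 0, 2, 1, 2, 0, 2, 2, 1, 3, 0, 1, 3, 0], 69), (88, [2, 1, 2, 0, 2, 2, 1, 2, 0, 1, 2, 0, 2, 2, 2, 1, 3, 0, 2], 355), (91, [3, 1, 3, 0, 2, 1, 2, 0, 1, 2, 0, 3, 1, 3, 0, 1, 3, 0], 455)], 297), ([(95, [2, 1, 2, 0, 3, 1, 3, 0, 2, 1, 2, 0, 1, 2, 0, 2, 1, 2, 0, 1, 2, 0, 2, 1,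 3, 0, 2], 612), (89, [1, 2, 0, 2, 1, 2, 0, 1, 2, 0, 2, 2, 1, 2, 0, 1, 2, 0, 3, 3], 304), (66, [1, 2, 0, 3, 1, 3, 0, 1, 3, 0], 113)], 522), ([(95, [2, 1, 3, 0, 2, 1, 2, 0, 1, 2, 0, 3, 1, 3, 0, 3, 1, 2, 0, 2, 1, 2, 0, 3, 1, 3, 0], 587), (91, [2, 2, 1, 3, 0, 1, 3, 0, 2, 1, 2, 0, 1, 2, 0, 2, 2, 2, 1, 2, 0], 444), (96, [2, 2, 1, 3, 0, 2, 1, 2, 0, 1, 2, 0, 3, 1, 3, 0, 1, 3, 0, 3], 605)], 517), ([(98, [1, 2, 0, 3, 3, 1, 2, 0, 2, 2, 1, 2, 0, 2, 2, 2, 1, 2, 0], 550), (96, [2, 1, 3, 0, 3, 1, 2, 0, 1, 2, 0, 2, 1, 2, 0, 1, 2, 0, 1, 2, 0, 3, 3], 212), (98, [1, 2, 0, 2, 2, 2, 1, 3, 0, 2, 2, 1, 3, 0, 3, 1, 3, 0], 264)], 50), ([(99, [3, 3], 4437), (75, [1, 3, 0, 3, 1, 3, 0, 2, 1, 2, 0, 1, 2, 0,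 3, 1, 3, 0, 3, 3, 1, 2, 0], 173), (61, [1, 2, 0, 3, 1, 3, 0, 1, 3, 0], 132)], 2342), ([(99, [1, 2, 0, 2, 2, 1, 3, 0, 1, 3, 0, 3, 1, 3, 0, 2, 1, 2, 0, 2], 4320), (61, [1, 2, 0, 2, 2, 1, 3, 0, 1, 3, 0, 3, 1, 3, 0, 2, 1, 2, 0, 2], 191), (100, [1, 2, 0, 3, 1, 3, 0, 1, 3, 0], 16641)], 26170)]]

end CfsgLib.InvChar.SporHN
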