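import Cfsg.Agent.Lib.InvChar.SporHNTrace

/-! The saturation. -/

set_option autoImplicit false
set_option maxRecDepth 100000

namespace CfsgLib.InvChar.SporHN

open CfsgLib.InvChar.Coset

/-- hints -/
def relC5 : List (List (List (ℕ × List ℕ × ℕ) × ℕ)) := [
[([(0, [], 0), (5, [], 0), (2, [], 24400)], 0), ([(5, [], 4270), (2, [], 24400), (0, [], 0)], 7496), ([(6, [], 4270), (14, [], 2300), (3, [], 24400)], 7496), ([(7, [], 45627), (26, [], 9832), (4, [], 24400)], 42270), ([(8, [], 45627), (12, [], 2300), (1, [], 24400)], 42270), ([(9, [1, 3, 0], 28), (19, [3], 2758), (12, [3], 2569)], 770), ([(9, [2, 2, 2, 1, 3, 0, 2, 1, 2, 0, 3, 3, 1, 3, 0], 51922), (17, [1, 3, 0], 3054), (5, [3],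 628)], 770), ([(10, [1, 3, 0], 9181), (34, [2, 1, 2, 0, 2, 2, 2, 1, 2, 0, 2], 949), (14, [3], 2629)], 16101), ([(10, [2, 2, 2, 1, 3, 0, 2, 1, 2, 0, 3, 3, 1, 3, 0], 65431), (36, [3], 658), (26, [3], 25175)], 16101), ([(11, [2, 1, 2, 0, 1, 2, 0, 2, 1, 2, 0, 1, 2, 0, 1, 2, 0], 10932), (80, [2, 1, 3, 0, 3, 1, 3, 0, 1, 3, 0, 3, 1, 2, 0, 1, 2, 0, 2, 2], 211), (17, [1, 2, 0, 2, 1, 3, 0, 1, 3, 0], 3775)], 43414), ([(11, [1, 2, 0, 1, 2, 0, 2, 2, 2, 1, 2, 0], 105566), (82, [2, 1, 3, 0, 3, 1, 3, 0, 1, 3, 0, 3, 1, 2, 0, 1, 2, 0, 2, 2], 124), (31, [1, 2, 0, 2, 1, 3, 0, 1, 3, 0], 789)], 94415), ([(9, [2, 1, 3, 0, 2, 1, 2, 0, 2], 1452), (24, [2, 1, 3, 0, 2, 1, 2, 0, 2, 2, 2, 1, 3, 0], 3238), (77,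 [3, 1, 2, 0, 1, 2, 0, 1, 2, 0], 458)], 24400), ([(18, [2, 1, 2, 0, 2, 2, 2, 1, 2, 0, 2], 2689), (50, [3], 110), (27, [3], 25175)], 2527), ([(19, [2, 1, 2, 0, 2, 2, 2, 1, 2, 0, 2], 2689), (17, [2, 2, 2, 1, 3, 0, 2, 1, 2, 0, 3, 3, 1, 3, 0], 1456), (6, [3], 110913)], 2527), ([(20, [2, 1, 2, 0, 2, 2, 2, 1, 2, 0, 2], 3341), (49, [2, 1, 2, 0, 2, 2, 2, 1, 2, 0, 2], 14), (15, [3], 2629)], 2928), ([(21, [2, 1, 2, 0, 2, 2, 2, 1, 2, 0, 2], 3341), (31, [2, 2, 2, 1, 3, 0, 2, 1, 2, 0, 3, 3, 1, 3, 0], 777), (8, [3], 115699)], 2928), ([(24, [2, 1, 3, 0, 3, 1, 3, 0, 1, 3, 0, 3, 1, 2, 0, 1, 2, 0, 2, 2], 2738), (77, [2, 1, 2, 0, 1, 2, 0, 2, 1, 2, 0, 1, 2, 0, 1, 2, 0], 326), (9, [1, 2, 0, 2, 1, 3, 0,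 1, 3, 0], 88788)], 2672), ([(24, [2, 1, 3, 0, 3, 1, 2, 0, 1, 2, 0, 2, 1, 3, 0, 3, 3], 2152), (87, [1, 3, 0, 3, 3, 1, 2, 0, 3, 1, 3, 0, 2, 1, 2, 0, 1, 2, 0], 137), (33, [1, 2, 0, 2, 1, 3, 0, 1, 3, 0], 990)], 3894), ([(24, [1, 2, 0, 2, 1, 3, 0, 2, 1, 2, 0, 3, 1, 3, 0, 2], 2059), (80, [3, 1, 3, 0, 3, 1, 2, 0, 2, 1, 3, 0, 1, 3, 0, 3, 1, 3, 0], 84), (19, [1, 2, 0, 1, 2, 0, 2, 2, 1, 3, 0, 2, 2, 1, 3, 0], 3475)], 3655), ([(24, [1, 2, 0, 1, 2, 0, 1, 2, 0, 2, 1, 3, 0, 1, 3, 0, 2, 1, 2, 0, 1, 2, 0, 2, 2], 1283), (89, [2, 1, 2, 0, 2, 2, 2, 1, 2, 0, 1, 2, 0, 2, 1, 3, 0, 3, 1, 2, 0, 2, 1, 3, 0], 498), (47, [1, 2, 0, 2, 1, 3, 0, 1, 3, 0], 159)], 3338), ([(25, [2, 1, 3, 0, 3, 1, 2, 0, 1, 2, 0, 1,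 2, 0, 2, 1, 3, 0, 1, 3, 0], 2678), (67, [1, 3, 0, 2, 2, 1, 2, 0, 1, 2, 0, 2, 2, 1, 2, 0, 1, 2, 0, 2], 132), (34, [1, 2, 0, 2, 1, 3, 0, 1, 3, 0], 656)], 2664), ([(25, [3, 1, 3, 0, 3, 1, 2, 0, 3, 3, 1, 3, 0, 3, 1, 2, 0, 2, 2], 2584), (59, [3, 3, 1, 3, 0, 3, 1, 2, 0, 3, 3, 1, 2, 0, 1, 2, 0, 3], 37), (49, [1, 2, 0, 2, 1, 3, 0, 1, 3, 0], 215)], 2664), ([(25, [1, 2, 0, 3, 3, 1, 2, 0, 1, 2, 0, 1, 2, 0, 2, 1, 3, 0, 1, 3, 0, 2], 721), (58, [2, 2, 1, 3, 0, 1, 3, 0, 2, 2, 1, 2, 0, 3, 3, 1, 3, 0], 4), (23, [3, 1, 3, 0, 1, 3, 0, 2, 1, 2, 0, 3], 1328)], 1416), ([(25, [1, 3, 0, 3, 1, 2, 0, 3, 1, 3, 0, 2, 1, 2, 0], 353), (56, [3, 1, 2, 0, 1, 2, 0, 2, 1, 2, 0, 1, 2, 0, 2, 1, 3, 0, 1, 3, 0, 2], 164),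 (30, [2, 2, 1, 2, 0, 1, 2, 0, 2, 1, 2, 0, 2, 2], 1092)], 4972), ([(24, [3, 1, 2, 0, 2, 2, 2, 1, 2, 0, 2, 1, 3, 0], 1797), (88, [1, 2, 0, 3, 3, 1, 3, 0, 2, 2, 1, 3, 0, 2, 1, 2, 0, 1, 2, 0, 2], 309), (80, [2, 1, 3, 0, 2, 2, 1, 2, 0, 3, 1, 3, 0, 1, 3, 0, 3, 1, 3, 0], 180)], 1469), ([(24, [1, 3, 0, 3, 1, 2, 0, 1, 2, 0, 2, 1, 3, 0, 3, 1, 3, 0, 1, 3, 0], 4412), (89, [2, 1, 3, 0, 3, 1, 2, 0, 1, 2, 0, 1, 2, 0, 2, 2, 2, 1, 3, 0], 331), (58, [3, 1, 2, 0, 1, 2, 0, 1, 2, 0], 57)], 4816), ([(28, [3], 31227), (31, [1, 3, 0], 752), (7, [3], 48493)], 40455), ([(29, [3], 17617), (47, [2, 1, 2, 0, 2, 2, 2, 1, 2, 0, 2], 110), (13, [3], 2985)], 41977), ([(29, [1, 3, 0, 3, 1, 3, 0, 2, 2, 1, 3, 0, 2],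 53290), (67, [2, 1, 2, 0, 2, 2, 1, 2, 0, 3, 3, 1, 2, 0, 2, 1, 3, 0], 131), (36, [1, 2, 0, 2, 1, 3, 0, 1, 3, 0], 524)], 44236), ([(28, [1, 3, 0, 3, 1, 3, 0, 2, 2, 1, 3, 0, 2], 79858), (44, [2, 2, 1, 2, 0, 1, 2, 0, 1, 2, 0, 3, 3, 1, 3, 0, 2, 1, 2, 0, 2], 918), (50, [1, 2, 0, 2, 1, 3, 0, 1, 3, 0], 168)], 40968), ([(40, [2, 1, 3, 0, 3, 1, 3, 0, 1, 3, 0, 3, 1, 2, 0, 1, 2, 0, 2, 2], 790), (77, [1, 2, 0, 1, 2, 0, 2, 2, 2, 1, 2, 0], 430), (10, [1, 2, 0, 2, 1, 3, 0, 1, 3, 0], 61753)], 742), ([(41, [2, 1, 3, 0, 3, 1, 3, 0, 1, 3, 0, 3, 1, 2, 0, 1, 2, 0, 2, 2], 974), (58, [2, 2, 2, 1, 2, 0, 3, 1, 3, 0, 2, 1, 2, 0, 3], 11), (22, [1, 2, 0, 1, 2, 0], 1540)], 721), ([(42, [2, 1, 3, 0, 3, 1, 3, 0,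 1, 3, 0, 3, 1, 2, 0, 1, 2, 0, 2, 2], 794), (80, [2, 1, 2, 0, 1, 2, 0, 2, 1, 2, 0, 1, 2, 0, 1, 2, 0], 151), (16, [1, 2, 0, 2, 1, 3, 0, 1, 3, 0], 1478)], 1119), ([(43, [2, 1, 3, 0, 3, 1, 3, 0, 1, 3, 0, 3, 1, 2, 0, 1, 2, 0, 2, 2], 1000), (43, [1, 3, 0, 3, 1, 3, 0, 2, 1, 2, 0, 3, 3, 1, 3, 0, 2, 1, 2, 0, 3], 543), (32, [1, 2, 0, 2, 1, 3, 0, 1, 3, 0], 42)], 814), ([(44, [3, 1, 3, 0, 3, 1, 2, 0, 1, 2, 0, 2, 1, 3, 0, 3, 1, 2, 0, 2, 2], 604), (58, [2, 2, 1, 3, 0, 2, 1, 2, 0, 2, 1, 3, 0, 2, 1, 2, 0, 3], 165), (21, [1, 2, 0, 1, 2, 0, 2, 2, 1, 3, 0, 2, 2, 1, 3, 0], 3613)], 454), ([(44, [1, 2, 0, 1, 2, 0, 2, 2, 1, 2, 0, 1, 2, 0, 2, 1, 2, 0, 3, 3], 371), (50, [1, 3, 0, 3, 1, 3, 0, 2, 2, 1, 3, 0,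 2], 149), (28, [1, 2, 0, 2, 1, 3, 0, 1, 3, 0], 64092)], 675), ([(44, [1, 2, 0, 2, 1, 2, 0, 3, 1, 3, 0, 2, 1, 2, 0, 2, 1, 2, 0, 1, 2, 0], 783), (70, [1, 3, 0, 1, 3, 0, 3, 3, 1, 3, 0, 2, 1, 2, 0, 2, 2, 2], 9), (53, [1, 2, 0, 2, 1, 3, 0, 1, 3, 0], 135)], 752), ([(45, [3, 1, 3, 0, 3, 1, 2, 0, 1, 2, 0, 2, 1, 3, 0, 3, 1, 2, 0, 2, 2], 557), (92, [2, 1, 2, 0, 2, 2, 2, 1, 2, 0, 1, 2, 0, 2, 1, 3, 0, 3, 1, 2, 0, 2, 1, 3, 0], 331), (46, [1, 2, 0, 2, 1, 3, 0, 1, 3, 0], 159)], 948), ([(45, [1, 2, 0, 1, 2, 0, 2, 2, 1, 2, 0, 1, 2, 0, 2, 1, 2, 0, 3, 3], 429), (94, [1, 2, 0, 2, 1, 2, 0, 3, 1, 3, 0, 2, 1, 2, 0, 2, 1, 2, 0, 1, 2, 0], 580), (39, [1, 2, 0, 2, 1, 3, 0, 1, 3, 0], 725)], 507), ([(45, [1,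 2, 0, 2, 1, 2, 0, 3, 1, 3, 0, 2, 1, 2, 0, 2, 1, 2, 0, 1, 2, 0], 766), (97, [3, 1, 2, 0, 1, 2, 0, 2, 1, 3, 0, 2, 1, 2, 0, 3, 1, 3, 0, 2], 286), (51, [1, 2, 0, 2, 1, 3, 0, 1, 3, 0], 114)], 793), ([(44, [2, 1, 2, 0, 1, 2, 0, 1, 2, 0, 2, 2, 2, 1, 2, 0, 1, 2, 0, 1, 2, 0, 2], 969), (73, [3, 3, 1, 2, 0, 2, 1, 2, 0, 3, 1, 3, 0, 2, 2, 2, 1, 2, 0, 1, 2, 0], 214), (56, [3, 1, 2, 0, 1, 2, 0, 1, 2, 0], 173)], 1341), ([(44, [2, 1, 3, 0, 1, 3, 0, 3, 3, 1, 2, 0, 3, 1, 3, 0, 2, 2], 795), (54, [3, 1, 2, 0, 2, 1, 2, 0, 2, 2, 2, 1, 2, 0, 2, 2, 1, 3, 0], 89), (82, [3, 1, 2, 0, 1, 2, 0, 1, 2, 0], 117)], 786), ([(45, [2, 1, 2, 0, 1, 2, 0, 1, 2, 0, 2, 2, 2, 1, 2, 0, 1, 2, 0, 1, 2, 0, 2], 945), (94, [3, 1,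 3, 0, 2, 1, 2, 0, 2, 1, 3, 0, 3, 1, 3, 0, 1, 3, 0], 76), (43, [2, 1, 2, 0, 2, 1, 3, 0, 3, 1, 3, 0, 2, 1, 2, 0, 1, 2, 0, 2], 630)], 82), ([(45, [2, 1, 3, 0, 1, 3, 0, 3, 3, 1, 2, 0, 3, 1, 3, 0, 2, 2], 779), (95, [2, 2, 1, 2, 0, 3, 1, 3, 0, 3, 3, 1, 2, 0, 1, 2, 0, 1, 2, 0, 2, 1, 3, 0], 131), (87, [1, 2, 0, 2, 1, 2, 0, 3, 3, 1, 3, 0, 3, 1, 2, 0, 3, 3, 1, 3, 0], 202)], 770), ([(44, [1, 2, 0, 1, 2, 0, 1, 2, 0, 2, 1, 2, 0, 1, 2, 0, 1, 2, 0, 2, 2], 1143), (70, [1, 2, 0, 1, 2, 0, 2, 2, 2, 1, 3, 0, 2, 2, 1, 3, 0, 2, 1, 2, 0, 3], 23), (67, [3, 1, 2, 0, 2, 1, 3, 0, 3, 1, 2, 0, 2, 1, 2, 0], 38)], 537), ([(45, [2, 2, 1, 2, 0, 2, 1, 2, 0, 3, 1, 3, 0, 1, 3, 0, 2, 1, 2, 0], 133), (98, [1, 3, 0, 3,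 1, 2, 0, 2, 2, 2, 1, 2, 0, 1, 2, 0, 2, 1, 3, 0], 238), (94, [3, 1, 2, 0, 1, 2, 0, 1, 2, 0], 616)], 786), ([(54, [2, 1, 2, 0, 2, 2, 2, 1, 2, 0, 1, 2, 0, 2, 1, 3, 0, 3, 1, 2, 0, 2, 1, 3, 0], 121), (80, [1, 2, 0, 1, 2, 0, 2, 1, 3, 0, 1, 3, 0, 3, 1, 3, 0], 124), (18, [1, 2, 0, 2, 1, 3, 0, 1, 3, 0], 4443)], 122), ([(55, [2, 1, 2, 0, 2, 2, 2, 1, 2, 0, 1, 2, 0, 2, 1, 3, 0, 3, 1, 2, 0, 2, 1, 3, 0], 121), (94, [3, 1, 2, 0, 1, 2, 0, 2, 1, 3, 0, 2, 1, 2, 0, 3, 1, 3, 0, 2], 297), (37, [1, 2, 0, 1, 2, 0, 2, 2, 1, 3, 0, 2, 2, 1, 3, 0], 919)], 139), ([(59, [2, 1, 2, 0, 2, 2, 2, 1, 2, 0, 1, 2, 0, 2, 1, 3, 0, 3, 1, 2, 0, 2, 1, 3, 0], 157), (58, [2, 1, 3, 0, 3, 1, 2, 0, 1, 2, 0, 1, 2, 0, 2, 1, 3, 0,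 1, 3, 0], 132), (20, [1, 2, 0, 2, 1, 3, 0, 1, 3, 0], 2833)], 149), ([(60, [2, 1, 2, 0, 2, 2, 2, 1, 2, 0, 1, 2, 0, 2, 1, 3, 0, 3, 1, 2, 0, 2, 1, 3, 0], 157), (90, [3, 1, 2, 0, 1, 2, 0, 2, 1, 3, 0, 2, 1, 2, 0, 3, 1, 3, 0, 2], 432), (48, [1, 2, 0, 1, 2, 0, 2, 2, 1, 3, 0, 2, 2, 1, 3, 0], 123)], 136), ([(66, [3, 1, 2, 0, 1, 2, 0, 2, 1, 3, 0, 2, 1, 2, 0, 3, 1, 3, 0, 2], 114), (94, [1, 2, 0, 1, 2, 0, 2, 2, 1, 2, 0, 1, 2, 0, 2, 1, 2, 0, 3, 3], 471), (38, [1, 2, 0, 2, 1, 3, 0, 1, 3, 0], 449)], 122), ([(67, [3, 1, 2, 0, 1, 2, 0, 2, 1, 3, 0, 2, 1, 2, 0, 3, 1, 3, 0, 2], 114), (36, [1, 3, 0, 3, 1, 3, 0, 2, 2, 1, 3, 0, 2], 1067), (29, [1, 2, 0, 2, 1, 3, 0, 1, 3, 0], 63314)], 122), ([(70, [3, 1,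 2, 0, 1, 2, 0, 2, 1, 3, 0, 2, 1, 2, 0, 3, 1, 3, 0, 2], 87), (67, [1, 3, 0, 3, 3, 1, 2, 0, 1, 2, 0, 2, 1, 3, 0, 3, 1, 2, 0, 2, 2], 14), (35, [1, 2, 0, 2, 1, 3, 0, 1, 3, 0], 418)], 24), ([(71, [3, 1, 2, 0, 1, 2, 0, 2, 1, 3, 0, 2, 1, 2, 0, 3, 1, 3, 0, 2], 87), (93, [2, 2, 1, 2, 0, 1, 2, 0, 1, 2, 0, 3, 3, 1, 3, 0, 2, 1, 2, 0, 2], 624), (52, [1, 2, 0, 2, 1, 3, 0, 1, 3, 0], 48)], 149), ([(72, [3, 3, 1, 2, 0, 2, 2, 1, 2, 0, 1, 2, 0, 2, 1, 2, 0, 1, 2, 0], 76), (66, [1, 3, 0, 3, 1, 2, 0, 3, 3, 1, 2, 0, 2, 2, 1, 2, 0, 2], 102), (92, [3, 1, 2, 0, 1, 2, 0, 1, 2, 0], 272)], 146), ([(73, [3, 3, 1, 2, 0, 2, 2, 1, 2, 0, 1, 2, 0, 2, 1, 2, 0, 1, 2, 0], 76), (54, [1, 3, 0, 2, 2, 1, 2, 0, 2, 1, 3, 0,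 3, 1, 2, 0, 3, 3], 189), (89, [3, 1, 2, 0, 1, 2, 0, 1, 2, 0], 334)], 146), ([(73, [2, 1, 3, 0, 1, 3, 0, 3, 1, 2, 0, 2, 1, 3, 0, 3, 3, 1, 2, 0, 3, 1, 3, 0, 2], 51), (67, [2, 2, 1, 3, 0, 3, 1, 2, 0, 2, 1, 2, 0, 1, 2, 0, 2, 1, 3, 0], 81), (41, [2, 1, 2, 0, 2, 1, 3, 0, 3, 1, 3, 0, 2, 1, 2, 0, 1, 2, 0, 2], 543)], 3), ([(54, [3, 3, 1, 3, 0, 2, 2, 2, 1, 3, 0, 1, 3, 0, 2], 128), (80, [1, 3, 0, 1, 3, 0, 2, 1, 2, 0, 1, 2, 0, 2, 1, 3, 0, 3, 1, 2, 0, 2, 1, 3, 0], 234), (25, [3, 1, 2, 0, 1, 2, 0, 1, 2, 0], 1574)], 184), ([(55, [2, 1, 3, 0, 3, 1, 2, 0, 1, 2, 0, 1, 2, 0, 2, 2, 2, 1, 3, 0], 9), (95, [1, 2, 0, 3, 1, 3, 0, 2, 2, 1, 2, 0, 2, 2, 2, 1, 3, 0], 6), (84, [1, 2, 0, 3, 1, 3, 0, 2, 1, 2, 0,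 1, 2, 0, 2, 1, 3, 0, 1, 3, 0, 3, 1, 2, 0], 25)], 26), ([(74, [2, 1, 3, 0, 1, 3, 0, 2, 1, 2, 0, 1, 2, 0, 3, 1, 3, 0, 1, 3, 0, 2, 2, 1, 2, 0], 152), (65, [1, 2, 0, 1, 2, 0, 2, 2, 1, 2, 0, 2, 1, 3, 0, 1, 3, 0, 3], 73), (90, [3, 1, 2, 0, 1, 2, 0, 1, 2, 0], 128)], 146), ([(75, [2, 1, 3, 0, 1, 3, 0, 2, 1, 2, 0, 1, 2, 0, 3, 1, 3, 0, 1, 3, 0, 2, 2, 1, 2, 0], 152), (70, [2, 2, 1, 3, 0, 2, 2, 2, 1, 3, 0, 3, 1, 3, 0, 1, 3, 0, 3, 1, 2, 0], 59), (59, [3, 1, 2, 0, 1, 2, 0, 2, 1, 3, 0, 3, 3, 1, 2, 0, 3, 3], 169)], 204), ([(71, [2, 2, 1, 3, 0, 1, 3, 0, 3, 1, 2, 0, 2, 1, 3, 0, 2, 2], 175), (97, [2, 2, 1, 3, 0, 1, 3, 0, 3, 1, 2, 0, 2, 1, 3, 0, 2, 2], 244), (68, [2, 2, 1, 2, 0], 175)], 134), ([(70,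 [2, 2, 1, 3, 0, 1, 3, 0, 3, 1, 2, 0, 2, 1, 3, 0, 2, 2], 175), (61, [3, 1, 2, 0, 2, 2, 1, 2, 0], 77), (99, [1, 2, 0, 2, 1, 2, 0], 56)], 134), ([(73, [2, 1, 2, 0, 1, 2, 0, 3, 1, 3, 0, 1, 3, 0, 2, 1, 2, 0, 2, 2, 1, 3, 0, 1, 3, 0], 75), (73, [1, 2, 0, 2, 1, 3, 0, 1, 3, 0, 2, 1, 2, 0, 1, 2, 0, 2, 1, 3, 0, 1, 3, 0, 3, 3, 1, 2, 0], 60), (64, [1, 3, 0, 3, 3, 1, 2, 0, 3, 1, 3, 0, 3, 1, 2, 0, 2, 2], 122)], 193), ([(73, [2, 1, 2, 0, 2, 1, 3, 0, 3, 1, 2, 0, 2, 2, 1, 3, 0, 2, 2], 206), (54, [1, 2, 0, 1, 2, 0, 2, 1, 2, 0, 3, 1, 3, 0, 3, 1, 2, 0, 2, 1, 3, 0, 2, 1, 2, 0, 3], 41), (81, [3, 1, 2, 0, 1, 2, 0, 1, 2, 0], 131)], 146), ([(75, [3, 3, 1, 2, 0, 2, 1, 3, 0, 2, 2, 1, 3, 0, 3], 77), (60, [2,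 2, 2, 1, 3, 0, 2, 2, 1, 2, 0, 3, 1, 3, 0, 3, 3, 1, 2, 0], 149), (86, [3, 1, 2, 0, 1, 2, 0, 2, 2, 1, 2, 0, 3, 3, 1, 3, 0], 128)], 89), ([(72, [1, 2, 0, 2, 2, 2, 1, 3, 0, 1, 3, 0, 3, 1, 2, 0, 2, 1, 2, 0, 2], 34), (67, [1, 3, 0, 3, 3, 1, 2, 0, 3, 3, 1, 3, 0, 1, 3, 0, 3, 3], 93), (44, [1, 2, 0, 2, 1, 3, 0, 3, 1, 2, 0, 3, 3, 1, 2, 0, 2, 2], 345)], 63), ([(73, [1, 2, 0, 2, 2, 2, 1, 3, 0, 1, 3, 0, 3, 1, 2, 0, 2, 1, 2, 0, 2], 34), (71, [1, 2, 0, 2, 1, 2, 0, 1, 2, 0, 2, 1, 2, 0, 3, 1, 3, 0, 2, 1, 2, 0, 3], 163), (97, [3, 1, 2, 0, 1, 2, 0, 1, 2, 0], 178)], 146), ([(55, [2, 1, 2, 0, 2, 2, 1, 2, 0, 2, 1, 3, 0, 3, 3, 1, 3, 0, 3, 1, 2, 0], 188), (92, [2, 1, 2, 0, 2, 2, 1, 2, 0, 2, 1, 3, 0, 3, 3,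 1, 3, 0, 3, 1, 2, 0], 484), (69, [1, 2, 0, 2, 1, 2, 0], 232)], 102), ([(54, [2, 1, 2, 0, 2, 2, 1, 2, 0, 2, 1, 3, 0, 3, 3, 1, 3, 0, 3, 1, 2, 0], 188), (90, [2, 2, 1, 3, 0, 1, 3, 0, 3, 1, 2, 0, 2, 1, 3, 0, 2, 2], 348), (62, [2, 1, 3, 0, 2, 2, 1, 2, 0], 59)], 136), ([(74, [3, 3, 1, 2, 0, 2, 2, 1, 2, 0, 1, 2, 0, 2, 1, 2, 0, 1, 2, 0], 232), (66, [1, 2, 0, 2, 2, 2, 1, 2, 0, 2, 1, 3, 0, 3, 1, 2, 0, 1, 2, 0], 46), (93, [1, 2, 0, 2, 1, 3, 0, 3, 1, 2, 0, 3, 3, 1, 2, 0, 2, 2], 633)], 182), ([(75, [3, 3, 1, 2, 0, 2, 2, 1, 2, 0, 1, 2, 0, 2, 1, 2, 0, 1, 2, 0], 232), (73, [1, 2, 0, 2, 1, 2, 0, 2, 1, 3, 0, 2, 2, 2, 1, 2, 0, 3, 3, 1, 2, 0, 2], 14), (70, [3, 3, 1, 2, 0, 3, 3, 1, 2, 0, 2, 1, 3, 0, 3,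 1, 3, 0], 72)], 146), ([(72, [3, 1, 2, 0, 3, 1, 3, 0, 1, 3, 0, 2, 2, 2, 1, 2, 0, 2, 1, 3, 0, 3], 9), (75, [1, 3, 0, 1, 3, 0, 3, 1, 2, 0, 2, 1, 2, 0, 1, 2, 0, 1, 2, 0, 3], 66), (72, [3, 1, 2, 0, 1, 2, 0, 2, 1, 2, 0, 1, 2, 0, 3, 3], 239)], 40), ([(73, [3, 1, 2, 0, 3, 1, 3, 0, 1, 3, 0, 2, 2, 2, 1, 2, 0, 2, 1, 3, 0, 3], 9), (73, [3, 1, 2, 0, 2, 2, 1, 2, 0, 2, 2, 1, 2, 0, 3, 1, 3, 0, 3], 81), (73, [2, 2, 2, 1, 2, 0, 1, 2, 0, 1, 2, 0, 3, 1, 3, 0, 2], 97)], 34), ([(75, [3, 1, 2, 0, 1, 2, 0, 2, 2, 1, 2, 0, 2, 2, 1, 3, 0, 2], 48), (59, [2, 2, 1, 3, 0, 2, 1, 2, 0, 3, 1, 3, 0, 3, 1, 2, 0, 3, 1, 3, 0], 70), (74, [1, 2, 0, 2, 2, 1, 3, 0, 2, 1, 2, 0, 2, 1, 2, 0, 3, 3, 1, 3, 0], 8)], 68), ([(74,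 [3, 1, 2, 0, 1, 2, 0, 2, 2, 1, 2, 0, 2, 2, 1, 3, 0, 2], 48), (59, [1, 2, 0, 2, 1, 3, 0, 3, 3, 1, 2, 0, 1, 2, 0, 2, 1, 3, 0, 2, 2, 2, 1, 2, 0], 60), (75, [1, 2, 0, 1, 2, 0, 1, 2, 0, 2, 1, 2, 0, 3, 1, 3, 0, 3, 1, 2, 0, 2, 1, 3, 0], 54)], 68), ([(80, [2, 1, 3, 0, 2, 1, 2, 0, 2, 2, 2, 1, 3, 0], 109), (17, [2, 1, 3, 0, 2, 1, 2, 0, 2], 4284), (11, [3, 1, 2, 0, 1, 2, 0, 1, 2, 0], 60849)], 49), ([(81, [2, 1, 3, 0, 2, 1, 2, 0, 2, 2, 2, 1, 3, 0], 122), (65, [2, 2, 1, 2, 0, 1, 2, 0, 2, 1, 2, 0, 1, 2, 0, 2, 2, 2, 1, 2, 0], 108), (78, [3, 1, 2, 0, 2, 1, 3, 0], 217)], 67), ([(87, [1, 3, 0, 3, 3, 1, 3, 0, 3, 1, 2, 0, 3], 57), (42, [1, 3, 0, 3, 3, 1, 3, 0, 2, 2, 1, 3, 0], 1354), (79, [1, 3, 0, 1,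 3, 0, 2, 2, 1, 2, 0, 1, 2, 0], 394)], 49), ([(86, [3, 1, 2, 0, 1, 2, 0, 3, 1, 3, 0, 1, 3, 0, 3, 1, 2, 0, 2], 206), (63, [3, 1, 2, 0, 1, 2, 0, 3, 1, 3, 0, 1, 3, 0, 3, 1, 2, 0, 2], 50), (76, [3, 1, 2, 0, 3, 3, 1, 3, 0, 1, 3, 0], 301)], 51), ([(89, [2, 2, 2, 1, 2, 0, 1, 2, 0, 3, 3, 1, 2, 0, 1, 2, 0, 2, 1, 3, 0, 3, 1, 3, 0], 99), (73, [2, 2, 1, 2, 0, 1, 2, 0, 3, 3, 1, 2, 0, 1, 2, 0, 2, 1, 3, 0, 3, 1, 3, 0], 146), (63, [3, 1, 2, 0, 1, 2, 0, 1, 2, 0], 26)], 462), ([(88, [1, 2, 0, 1, 2, 0, 2, 1, 2, 0, 3, 1, 3, 0, 3, 1, 2, 0, 2, 1, 3, 0, 2, 1, 2, 0, 3], 71), (80, [2, 1, 3, 0, 3, 1, 2, 0, 2, 1, 3, 0, 1, 3, 0, 3, 1, 3, 0, 2], 101), (24, [3, 1, 2, 0, 1, 2, 0, 1, 2, 0], 3709)], 300), ([(88, [3,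 1, 2, 0, 2, 1, 2, 0, 2, 2, 2, 1, 2, 0, 2, 2, 1, 3, 0], 175), (88, [2, 1, 3, 0, 2, 2, 2, 1, 2, 0, 2, 1, 2, 0, 3, 1, 3, 0, 1, 3, 0, 3, 1, 3, 0], 476), (83, [1, 2, 0, 1, 2, 0, 1, 2, 0, 2, 1, 2, 0, 1, 2, 0, 3, 3, 1, 3, 0, 3, 3], 255)], 259), ([(89, [1, 2, 0, 2, 1, 2, 0, 3, 1, 3, 0, 1, 3, 0, 3, 3, 1, 3, 0, 2], 250), (67, [1, 2, 0, 1, 2, 0, 2, 1, 2, 0, 3, 1, 3, 0, 2, 1, 2, 0, 2, 1, 2, 0], 104), (40, [3, 1, 2, 0, 1, 2, 0, 1, 2, 0], 916)], 49), ([(85, [2, 2, 1, 2, 0, 2, 2, 2, 1, 3, 0, 2], 487), (88, [1, 3, 0, 2, 1, 2, 0, 2, 2, 2, 1, 3, 0, 3], 22), (85, [2, 2, 2, 1, 2, 0, 2, 2, 1, 2, 0, 3, 3, 1, 3, 0], 51)], 185), ([(84, [2, 2, 1, 2, 0, 2, 2, 2, 1, 3, 0, 2], 487), (59, [3, 1, 2, 0, 3, 3, 1,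 3, 0, 2, 2, 2, 1, 2, 0], 76), (57, [2, 1, 2, 0, 2, 2, 1, 3, 0, 1, 3, 0, 3, 1, 3, 0, 1, 3, 0, 3, 1, 2, 0], 58)], 427), ([(91, [2, 2, 2, 1, 3, 0, 3, 3, 1, 3, 0, 1, 3, 0, 3, 3, 1, 3, 0, 2], 8), (94, [1, 2, 0, 2, 2, 1, 2, 0, 3, 3, 1, 3, 0, 2, 2, 2, 1, 2, 0], 360), (42, [3, 3, 1, 2, 0, 2, 1, 2, 0, 1, 2, 0], 752)], 432), ([(90, [1, 2, 0, 3, 3, 1, 2, 0, 1, 2, 0, 1, 2, 0, 2, 1, 3, 0, 3, 1, 3, 0], 106), (75, [2, 1, 3, 0, 2, 2, 2, 1, 3, 0, 3, 1, 2, 0, 2, 1, 2, 0, 2], 81), (65, [2, 2, 1, 3, 0, 2, 2, 1, 3, 0, 3, 3, 1, 2, 0, 2, 1, 2, 0], 64)], 229), ([(89, [1, 3, 0, 2, 2, 1, 2, 0, 2, 1, 3, 0, 3, 1, 2, 0, 3, 3], 469), (72, [2, 2, 2, 1, 2, 0, 3, 3, 1, 3, 0, 2, 2, 2, 1, 2, 0, 3], 116), (54, [3, 1,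 2, 0, 1, 2, 0, 1, 2, 0], 190)], 26), ([(88, [1, 3, 0, 2, 2, 1, 2, 0, 2, 1, 3, 0, 3, 1, 2, 0, 3, 3], 469), (83, [2, 1, 2, 0, 2, 1, 2, 0, 1, 2, 0, 2, 1, 3, 0, 2, 1, 2, 0], 293), (88, [3, 3, 1, 3, 0, 3, 1, 2, 0, 2, 2, 1, 3, 0, 2, 2], 378)], 238), ([(87, [2, 1, 2, 0, 3, 3, 1, 2, 0, 2, 2, 1, 2, 0, 1, 2, 0], 57), (45, [2, 1, 2, 0, 3, 3, 1, 2, 0, 1, 2, 0], 1020), (95, [2, 1, 2, 0, 2, 1, 2, 0, 1, 2, 0, 2, 2, 1, 3, 0, 2, 2], 131)], 185), ([(86, [1, 2, 0, 2, 1, 2, 0, 3, 1, 3, 0, 1, 3, 0, 2, 2], 206), (75, [3, 1, 2, 0, 2, 1, 2, 0, 1, 2, 0, 2, 1, 3, 0, 2, 2, 1, 2, 0, 2], 167), (60, [3, 1, 2, 0, 1, 2, 0, 1, 2, 0], 140)], 49), ([(96, [1, 3, 0, 3, 1, 2, 0, 3, 3, 1, 2, 0, 2, 2, 1, 2, 0, 2], 545),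 (97, [1, 2, 0, 1, 2, 0, 1, 2, 0, 2, 2, 1, 2, 0, 1, 2, 0, 3, 1, 3, 0, 2, 1, 2, 0], 390), (55, [3, 3, 1, 3, 0, 3, 1, 2, 0, 2, 2, 1, 3, 0, 2, 2], 95)], 297), ([(98, [1, 2, 0, 1, 2, 0, 2, 2, 1, 2, 0, 2, 1, 3, 0, 2], 355), (94, [2, 2, 1, 2, 0, 2, 1, 2, 0, 3, 1, 3, 0, 1, 3, 0, 2, 1, 2, 0], 66), (45, [3, 1, 2, 0, 1, 2, 0, 1, 2, 0], 133)], 291), ([(98, [1, 2, 0, 2, 1, 3, 0, 3, 1, 3, 0, 2, 1, 2, 0, 2, 1, 2, 0], 112), (97, [1, 3, 0, 3, 3, 1, 2, 0, 2, 1, 2, 0, 3, 1, 3, 0, 2, 1, 2, 0, 2], 221), (71, [3, 1, 2, 0, 2, 1, 3, 0, 3, 1, 2, 0, 2, 1, 2, 0], 25)], 411), ([(92, [1, 3, 0, 2, 2, 2], 610), (60, [3, 1, 3, 0, 3, 1, 2, 0, 3, 1, 3, 0, 3, 3, 1, 3, 0, 1, 3, 0], 196), (91, [1, 3, 0, 3, 1, 3, 0, 1,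 3, 0], 347)], 379), ([(93, [3, 3, 1, 3, 0, 2, 1, 2, 0, 1, 2, 0, 3, 3, 1, 3, 0, 2], 145), (72, [3, 1, 3, 0, 2, 2, 1, 3, 0, 2, 2, 2, 1, 3, 0, 2, 1, 2, 0], 69), (66, [3, 1, 2, 0, 1, 2, 0, 1, 2, 0], 156)], 522), ([(94, [3, 1, 3, 0, 3, 1, 2, 0, 2, 1, 3, 0, 2, 1, 2, 0, 2, 2, 1, 3, 0, 3], 174), (45, [2, 1, 2, 0, 3, 3, 1, 2, 0, 2, 2, 1, 3, 0, 1, 3, 0, 2, 1, 2, 0], 1149), (96, [3, 3, 1, 2, 0, 3, 3, 1, 2, 0, 2, 1, 3, 0, 3, 1, 3, 0], 344)], 517), ([(98, [1, 2, 0, 1, 2, 0, 3, 1, 3, 0, 3, 1, 2, 0, 1, 2, 0, 2, 1, 3, 0, 1, 3, 0], 70), (98, [3, 3, 1, 2, 0, 2, 1, 2, 0, 3, 1, 3, 0, 3], 210), (98, [1, 2, 0, 3, 3, 1, 3, 0, 3, 1, 2, 0, 2, 1, 2, 0], 228)], 50), ([(99, [3, 1, 2, 0, 2, 2, 1, 2, 0], 26418),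 (70, [3, 3, 1, 2, 0, 1, 2, 0, 1, 2, 0, 3, 1, 3, 0, 2, 1, 2, 0, 1, 2, 0], 125), (61, [1, 2, 0, 2, 1, 2, 0], 76)], 2704), ([(99, [3, 1, 2, 0, 3, 3, 1, 2, 0, 2, 1, 3, 0, 2, 2, 1, 3, 0, 1, 3, 0], 25871), (61, [3, 1, 2, 0, 3, 3, 1, 2, 0, 2, 1, 3, 0, 2, 2, 1, 3, 0, 1, 3, 0], 239), (100, [3, 1, 2, 0, 1, 2, 0, 1, 2, 0], 17391)], 26170)],
[([(0, [], 0), (5, [], 0), (2, [], 24400)], 0), ([(5, [], 17140), (2, [], 24400), (0, [], 0)], 7406), ([(6, [], 17140), (14, [], 2300), (3, [], 24400)], 7406), ([(7, [], 5532), (26, [], 9832), (4, [], 24400)], 42322), ([(8, [], 5532), (12, [], 2300), (1, [], 24400)], 42322), ([(9, [], 9884), (19, [2, 1, 2, 0, 2, 2, 2, 1, 2, 0, 2, 2], 2983), (12, [2], 2648)],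 9884), ([(9, [2, 2, 2, 1, 3, 0, 2, 1, 2, 0, 3, 3], 33210), (17, [], 4086), (5, [2], 24400)], 9884), ([(10, [], 14833), (34, [], 0), (14, [2], 2983)], 14833), ([(10, [2, 2, 2, 1, 3, 0, 2, 1, 2, 0, 3, 3], 46894), (36, [], 786), (26, [2], 42686)], 14833), ([(11, [1, 2, 0, 2, 1, 2, 0, 2], 38290), (80, [1, 2, 0, 2, 1, 2, 0, 2], 49), (17, [1, 3, 0, 3, 1, 3, 0], 2679)], 16126), ([(11, [3, 3, 1, 2, 0, 1, 2, 0, 2, 1, 2, 0, 1, 2, 0], 103286), (82, [1, 2, 0, 2, 1, 2, 0, 2], 123), (31, [1, 3, 0, 3, 1, 3, 0], 786)], 29854), ([(9, [2, 2, 2, 1, 2, 0, 3, 1, 3, 0, 2], 29310), (24, [1, 3, 0, 2, 2, 1, 3, 0, 3, 3, 1, 2, 0, 3], 2643), (77, [2, 1, 2, 0, 1, 2, 0, 1, 2, 0], 367)], 24400), ([(18, [], 2730),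 (50, [], 0), (27, [2], 42686)], 2730), ([(19, [], 2730), (17, [2, 2, 2, 1, 3, 0, 2, 1, 2, 0, 3, 3], 1936), (6, [2], 94337)], 2730), ([(20, [], 2770), (49, [], 14), (15, [2], 2983)], 2770), ([(21, [], 2770), (31, [2, 2, 2, 1, 3, 0, 2, 1, 2, 0, 3, 3], 843), (8, [2], 117107)], 2770), ([(24, [1, 2, 0, 2, 1, 2, 0, 2], 2801), (77, [1, 2, 0, 2, 1, 2, 0, 2], 300), (9, [1, 3, 0, 3, 1, 3, 0], 24400)], 4731), ([(24, [2, 1, 3, 0, 1, 3, 0, 2, 1, 2, 0, 2, 1, 3, 0, 3, 1, 3, 0, 2, 1, 2, 0, 3], 1217), (87, [1, 2, 0, 2, 1, 2, 0, 1, 2, 0, 3, 1, 3, 0, 1, 3, 0, 3, 1, 2, 0, 2, 2], 118), (33, [1, 3, 0, 3, 1, 3, 0], 770)], 4253), ([(24, [3, 3, 1, 2, 0, 1, 2, 0, 2, 1, 2, 0, 1, 2, 0], 1027), (80, [1, 2, 0,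 1, 2, 0, 2, 1, 2, 0, 2, 1, 3, 0, 2, 2, 2, 1, 3, 0, 2], 52), (19, [3, 3, 1, 3, 0, 3, 3, 1, 2, 0, 2], 2936)], 3746), ([(24, [1, 3, 0, 1, 3, 0, 3, 1, 3, 0, 2, 1, 2, 0, 3, 3], 252), (89, [1, 2, 0, 2, 1, 2, 0, 2], 381), (47, [1, 3, 0, 3, 1, 3, 0], 146)], 2930), ([(25, [1, 2, 0, 2, 1, 2, 0, 2], 3308), (67, [2, 1, 3, 0, 3, 1, 2, 0, 2, 2, 1, 2, 0, 2], 146), (34, [1, 3, 0, 3, 1, 3, 0], 537)], 2896), ([(25, [2, 2, 1, 3, 0, 3, 1, 2, 0, 2, 2, 2], 3623), (59, [2, 2, 1, 2, 0, 3, 1, 3, 0, 1, 3, 0, 3, 3, 1, 2, 0, 1, 2, 0, 1, 2, 0, 2], 24), (49, [1, 3, 0, 3, 1, 3, 0], 204)], 2896), ([(22, [2], 1871), (34, [1, 2, 0, 1, 2, 0, 2, 1, 3, 0, 2, 2, 1, 2, 0, 1, 2, 0, 3], 502), (23, [2, 1, 2, 0, 3, 3, 1, 3,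 0, 3, 1, 2, 0, 2, 1, 3, 0], 2797)], 1724), ([(23, [2], 1871), (21, [1, 2, 0, 1, 2, 0, 2, 1, 3, 0, 2, 2, 1, 2, 0, 1, 2, 0, 3], 1970), (30, [2, 2, 1, 3, 0, 3, 1, 2, 0, 2, 1, 3, 0], 488)], 2770), ([(24, [2, 2, 1, 2, 0, 3, 1, 3, 0, 2, 1, 2, 0, 2, 2, 1, 2, 0], 565), (88, [2, 1, 3, 0, 3, 1, 2, 0, 3, 3, 1, 3, 0, 3, 1, 2, 0, 2], 452), (80, [2, 1, 3, 0, 2, 2, 1, 2, 0, 3, 1, 3, 0, 1, 3, 0, 3, 1, 3, 0, 2, 2], 122)], 1281), ([(24, [2, 1, 2, 0, 3, 3, 1, 3, 0, 2, 2, 1, 2, 0, 3, 1, 3, 0], 4794), (90, [1, 3, 0, 2, 1, 2, 0, 2, 1, 3, 0, 2, 2, 1, 2, 0, 1, 2, 0, 3], 437), (58, [2, 1, 2, 0, 1, 2, 0, 1, 2, 0], 223)], 4816), ([(28, [], 41580), (31, [], 569), (7, [2], 94616)], 41580), ([(29, [], 41661),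 (47, [], 146), (13, [2], 2983)], 41661), ([(29, [2, 1, 3, 0, 3, 3, 1, 3, 0], 59914), (67, [1, 3, 0, 3, 3, 1, 3, 0], 146), (36, [1, 3, 0, 3, 1, 3, 0], 786)], 41981), ([(28, [2, 1, 3, 0, 3, 3, 1, 3, 0], 59992), (44, [1, 3, 0, 2, 2, 1, 2, 0, 3, 1, 3, 0, 2, 2, 2, 1, 3, 0, 3], 708), (50, [1, 3, 0, 3, 1, 3, 0], 132)], 41913), ([(40, [1, 2, 0, 2, 1, 2, 0, 2], 776), (77, [3, 3, 1, 2, 0, 1, 2, 0, 2, 1, 2, 0, 1, 2, 0], 252), (10, [1, 3, 0, 3, 1, 3, 0], 51606)], 1065), ([(41, [1, 2, 0, 2, 1, 2, 0, 2], 892), (58, [3, 1, 2, 0, 1, 2, 0, 2, 1, 3, 0, 3, 3, 1, 3, 0, 2, 2, 1, 3, 0], 14), (22, [3, 1, 2, 0, 3, 3, 1, 3, 0], 2318)], 1037), ([(42, [1, 2, 0, 2, 1, 2, 0, 2], 774), (80, [2, 2, 1, 2, 0, 2,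 1, 3, 0, 1, 3, 0, 3, 1, 2, 0, 1, 2, 0], 196), (16, [1, 3, 0, 3, 1, 3, 0], 2230)], 1097), ([(43, [1, 2, 0, 2, 1, 2, 0, 2], 837), (43, [3, 1, 3, 0, 3, 3, 1, 3, 0, 2, 2, 1, 3, 0, 3, 3], 670), (32, [1, 3, 0, 3, 1, 3, 0], 4)], 742), ([(44, [1, 2, 0, 2, 1, 2, 0, 2], 776), (58, [1, 2, 0, 2, 1, 2, 0, 2, 2, 2, 1, 3, 0, 3], 105), (21, [3, 3, 1, 3, 0, 3, 3, 1, 2, 0, 2], 3759)], 375), ([(44, [1, 2, 0, 1, 2, 0, 2, 1, 2, 0, 3, 3, 1, 2, 0, 3, 3, 1, 3, 0, 3], 394), (50, [2, 1, 3, 0, 3, 3, 1, 3, 0], 63), (28, [1, 3, 0, 3, 1, 3, 0], 53297)], 432), ([(44, [1, 2, 0, 3, 1, 3, 0, 2, 1, 2, 0, 3, 1, 3, 0, 3, 3, 1, 3, 0], 453), (70, [3, 3, 1, 3, 0, 2, 1, 2, 0, 3, 1, 3, 0, 1, 3, 0], 221), (53, [1, 3, 0, 3,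 1, 3, 0], 146)], 875), ([(45, [1, 2, 0, 2, 1, 2, 0, 2], 774), (92, [1, 2, 0, 2, 1, 2, 0, 2], 291), (46, [1, 3, 0, 3, 1, 3, 0], 146)], 744), ([(45, [1, 2, 0, 1, 2, 0, 2, 1, 2, 0, 3, 3, 1, 2, 0, 3, 3, 1, 3, 0, 3], 479), (94, [1, 2, 0, 3, 1, 3, 0, 2, 1, 2, 0, 3, 1, 3, 0, 3, 3, 1, 3, 0], 97), (39, [1, 3, 0, 3, 1, 3, 0], 361)], 685), ([(45, [1, 2, 0, 3, 1, 3, 0, 2, 1, 2, 0, 3, 1, 3, 0, 3, 3, 1, 3, 0], 705), (97, [1, 2, 0, 2, 1, 2, 0, 2], 286), (51, [1, 3, 0, 3, 1, 3, 0], 146)], 723), ([(44, [1, 2, 0, 3, 1, 3, 0, 1, 3, 0, 2, 2, 1, 2, 0, 1, 2, 0], 758), (72, [3, 3, 1, 2, 0, 1, 2, 0, 2, 1, 3, 0, 3, 1, 2, 0, 3, 1, 3, 0], 223), (56, [2, 1, 2, 0, 1, 2, 0, 1, 2, 0], 174)], 1341), ([(44, [2, 2,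 2, 1, 2, 0, 3, 3, 1, 2, 0, 1, 2, 0, 2, 1, 2, 0, 2], 422), (54, [3, 3, 1, 2, 0, 2, 1, 2, 0, 3, 3, 1, 3, 0], 127), (82, [2, 1, 2, 0, 1, 2, 0, 1, 2, 0], 63)], 786), ([(45, [1, 2, 0, 3, 1, 3, 0, 1, 3, 0, 2, 2, 1, 2, 0, 1, 2, 0], 758), (94, [2, 1, 2, 0, 3, 3, 1, 2, 0, 2, 2, 1, 2, 0, 3], 444), (43, [2, 1, 3, 0, 3, 1, 2, 0, 2, 2, 1, 2, 0, 1, 2, 0, 3, 1, 3, 0, 3], 877)], 82), ([(45, [2, 2, 2, 1, 2, 0, 3, 3, 1, 2, 0, 1, 2, 0, 2, 1, 2, 0, 2], 425), (95, [2, 2, 2, 1, 3, 0, 2, 2, 1, 3, 0, 3, 3, 1, 2, 0, 1, 2, 0], 191), (87, [3, 1, 2, 0, 2, 1, 3, 0, 3, 3, 1, 2, 0, 2, 2, 1, 2, 0, 2, 1, 2, 0], 157)], 1015), ([(44, [2, 1, 2, 0, 3, 1, 3, 0, 2, 1, 2, 0, 1, 2, 0, 2, 1, 2, 0, 3], 276), (74, [2, 2, 2,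 1, 2, 0, 1, 2, 0, 1, 2, 0, 2, 1, 3, 0, 3, 1, 3, 0], 27), (67, [2, 1, 3, 0, 3, 1, 2, 0, 1, 2, 0, 3, 1, 3, 0, 1, 3, 0], 28)], 537), ([(45, [2, 1, 3, 0, 2, 2, 1, 3, 0, 3, 3, 1, 2, 0, 3], 22), (96, [2, 1, 3, 0, 1, 3, 0, 2, 1, 2, 0, 1, 2, 0, 2], 202), (94, [2, 1, 2, 0, 1, 2, 0, 1, 2, 0], 610)], 786), ([(54, [1, 2, 0, 2, 1, 2, 0, 2], 136), (80, [1, 3, 0, 1, 3, 0, 2, 2, 2, 1, 2, 0, 3, 1, 3, 0, 2], 20), (18, [1, 3, 0, 3, 1, 3, 0], 3707)], 165), ([(55, [1, 2, 0, 2, 1, 2, 0, 2], 136), (94, [2, 2, 1, 3, 0, 3, 1, 2, 0, 3, 1, 3, 0, 3], 379), (37, [3, 3, 1, 3, 0, 3, 3, 1, 2, 0, 2], 834)], 165), ([(59, [1, 2, 0, 2, 1, 2, 0, 2], 134), (58, [1, 2, 0, 2, 1, 2, 0, 2], 146), (20, [1, 3, 0, 3, 1, 3, 0],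 4816)], 124), ([(60, [1, 2, 0, 2, 1, 2, 0, 2], 134), (90, [2, 2, 1, 3, 0, 3, 1, 2, 0, 3, 1, 3, 0, 3], 491), (48, [3, 3, 1, 3, 0, 3, 3, 1, 2, 0, 2], 133)], 141), ([(66, [1, 2, 0, 2, 1, 2, 0, 2], 136), (94, [1, 2, 0, 1, 2, 0, 2, 1, 2, 0, 3, 3, 1, 2, 0, 3, 3, 1, 3, 0, 3], 604), (38, [1, 3, 0, 3, 1, 3, 0], 583)], 165), ([(67, [1, 2, 0, 2, 1, 2, 0, 2], 136), (36, [2, 1, 3, 0, 3, 3, 1, 3, 0], 1035), (29, [1, 3, 0, 3, 1, 3, 0], 60961)], 165), ([(70, [1, 2, 0, 2, 1, 2, 0, 2], 134), (67, [2, 2, 2, 1, 2, 0, 2, 2, 1, 2, 0, 3, 3, 1, 2, 0, 2, 1, 2, 0], 11), (35, [1, 3, 0, 3, 1, 3, 0], 872)], 38), ([(71, [1, 2, 0, 2, 1, 2, 0, 2], 134), (93, [1, 3, 0, 2, 2, 1, 2, 0, 3, 1, 3, 0, 2, 2, 2, 1, 3, 0,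 3], 534), (52, [1, 3, 0, 3, 1, 3, 0], 9)], 124), ([(73, [1, 2, 0, 2, 1, 2, 0, 1, 2, 0, 3, 1, 3, 0, 1, 3, 0, 3, 1, 2, 0, 2, 2], 71), (55, [1, 2, 0, 2, 1, 2, 0, 1, 2, 0, 2, 2, 1, 2, 0, 1, 2, 0, 2, 1, 3, 0, 2, 1, 2, 0], 209), (92, [2, 1, 2, 0, 1, 2, 0, 1, 2, 0], 102)], 146), ([(72, [1, 2, 0, 2, 1, 2, 0, 1, 2, 0, 3, 1, 3, 0, 1, 3, 0, 3, 1, 2, 0, 2, 2], 71), (63, [2, 1, 3, 0, 3, 3, 1, 2, 0, 2, 2, 1, 3, 0, 2, 1, 2, 0, 3, 3], 187), (89, [2, 1, 2, 0, 1, 2, 0, 1, 2, 0], 371)], 146), ([(72, [2, 1, 2, 0, 2, 2, 1, 3, 0, 2, 1, 2, 0, 2, 1, 2, 0, 3, 1, 3, 0, 1, 3, 0], 31), (67, [1, 2, 0, 3, 1, 3, 0, 1, 3, 0, 2, 2, 1, 3, 0, 2, 1, 2, 0, 3], 80), (41, [2, 1, 3, 0, 3, 1, 2, 0, 2, 2, 1, 2, 0, 1, 2, 0,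 3, 1, 3, 0, 3], 393)], 3), ([(63, [3, 3, 1, 3, 0, 1, 3, 0, 3, 1, 2, 0, 2, 1, 2, 0, 1, 2, 0, 3], 132), (80, [2, 1, 3, 0, 1, 3, 0, 3, 3, 1, 3, 0, 3, 1, 2, 0, 2, 1, 3, 0], 193), (25, [2, 1, 2, 0, 1, 2, 0, 1, 2, 0], 2229)], 184), ([(59, [1, 3, 0, 2, 1, 2, 0, 2, 1, 3, 0, 2, 2, 1, 2, 0, 1, 2, 0, 3], 237), (57, [1, 2, 0, 2, 1, 3, 0, 3, 1, 2, 0, 2, 1, 2, 0, 2, 1, 3, 0, 1, 3, 0], 59), (84, [1, 3, 0, 3, 1, 3, 0, 1, 3, 0, 3, 1, 2, 0, 2, 1, 2, 0, 1, 2, 0, 3], 172)], 35), ([(75, [2, 2, 1, 3, 0, 3, 1, 3, 0, 2, 1, 2, 0, 2, 1, 2, 0], 93), (54, [2, 2, 2, 1, 2, 0, 2, 1, 3, 0, 3, 1, 3, 0, 2, 2, 1, 2, 0, 3], 135), (90, [2, 1, 2, 0, 1, 2, 0, 1, 2, 0], 481)], 146), ([(74, [2, 2, 1, 3, 0, 3, 1, 3, 0, 2,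 1, 2, 0, 2, 1, 2, 0], 93), (73, [1, 3, 0, 2, 2, 1, 2, 0, 1, 2, 0, 2, 1, 2, 0, 1, 2, 0, 1, 2, 0, 3], 190), (59, [1, 3, 0, 3, 3, 1, 3, 0, 3, 1, 2, 0, 3, 1, 3, 0, 3], 215)], 208), ([(75, [3, 1, 2, 0, 1, 2, 0, 2, 1, 3, 0, 1, 3, 0, 3, 1, 3, 0, 2, 1, 2, 0, 3], 129), (72, [3, 1, 2, 0, 3, 3, 1, 3, 0, 3, 1, 2, 0, 1, 2, 0, 2, 1, 2, 0, 3], 208), (68, [1, 2, 0, 3, 1, 3, 0, 1, 3, 0], 225)], 146), ([(74, [3, 1, 2, 0, 1, 2, 0, 2, 1, 3, 0, 1, 3, 0, 3, 1, 3, 0, 2, 1, 2, 0, 3], 129), (61, [2, 2, 2, 1, 3, 0, 3, 3, 1, 3, 0], 61), (99, [2, 1, 2, 0, 1, 2, 0, 1, 2, 0], 16902)], 146), ([(72, [3, 1, 3, 0, 2, 2, 1, 3, 0, 2, 2, 2, 1, 2, 0, 2, 1, 3, 0, 2], 155), (72, [2, 2, 1, 3, 0, 3, 3, 1, 3, 0, 2, 1, 2, 0,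 2, 1, 3, 0, 2, 2], 98), (64, [3, 1, 3, 0, 2, 2, 1, 2, 0, 2, 1, 3, 0, 2, 1, 2, 0, 3], 60)], 211), ([(72, [1, 2, 0, 2, 2, 1, 2, 0, 3, 3, 1, 3, 0, 2, 2, 1, 2, 0], 202), (54, [1, 3, 0, 2, 1, 2, 0, 2, 1, 3, 0, 1, 3, 0, 3, 1, 3, 0, 2, 1, 2, 0, 1, 2, 0, 2], 40), (81, [2, 1, 2, 0, 1, 2, 0, 1, 2, 0], 27)], 146), ([(75, [2, 2, 1, 2, 0, 2, 1, 2, 0, 1, 2, 0, 1, 2, 0, 3], 80), (60, [2, 1, 2, 0, 1, 2, 0, 1, 2, 0, 2, 1, 2, 0, 2, 2, 1, 3, 0, 1, 3, 0, 3, 1, 3, 0], 149), (86, [1, 2, 0, 3, 1, 3, 0, 1, 3, 0, 3, 1, 2, 0, 2, 1, 2, 0, 3], 14)], 89), ([(73, [2, 2, 1, 3, 0, 3, 1, 3, 0, 2, 1, 2, 0, 2, 1, 2, 0], 208), (56, [1, 2, 0, 2, 1, 2, 0, 1, 2, 0, 2, 2, 1, 2, 0, 2, 1, 3, 0, 3], 76), (44, [1, 2, 0, 2,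 1, 3, 0, 3, 1, 2, 0, 3, 3, 1, 3, 0, 1, 3, 0, 3, 3], 1104)], 63), ([(72, [2, 2, 1, 3, 0, 3, 1, 3, 0, 2, 1, 2, 0, 2, 1, 2, 0], 208), (55, [2, 2, 1, 3, 0, 3, 1, 3, 0, 1, 3, 0, 3, 3], 191), (97, [2, 1, 2, 0, 1, 2, 0, 1, 2, 0], 12)], 146), ([(72, [2, 1, 3, 0, 3, 1, 2, 0, 2, 2, 2, 1, 2, 0, 2, 1, 3, 0, 2, 2], 105), (73, [1, 3, 0, 2, 2, 1, 3, 0, 2, 1, 2, 0, 1, 2, 0, 2, 2, 2], 155), (69, [2, 1, 2, 0, 1, 2, 0, 1, 2, 0], 49)], 110), ([(73, [2, 1, 3, 0, 3, 1, 2, 0, 2, 2, 2, 1, 2, 0, 2, 1, 3, 0, 2, 2], 105), (74, [2, 2, 1, 2, 0, 3, 1, 3, 0, 2, 1, 2, 0, 2, 1, 3, 0, 3, 3, 1, 3, 0], 158), (62, [1, 3, 0, 1, 3, 0], 157)], 146), ([(75, [2, 2, 1, 2, 0, 2, 2, 1, 3, 0, 2, 1, 2, 0, 3, 1, 3, 0], 21), (71,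 [2, 1, 2, 0, 2, 1, 2, 0, 1, 2, 0, 1, 2, 0, 3, 1, 3, 0, 1, 3, 0, 3, 1, 2, 0, 2], 11), (93, [1, 2, 0, 2, 1, 3, 0, 3, 1, 2, 0, 3, 3, 1, 3, 0, 1, 3, 0, 3, 3], 435)], 182), ([(74, [2, 2, 1, 2, 0, 2, 2, 1, 3, 0, 2, 1, 2, 0, 3, 1, 3, 0], 21), (59, [2, 2, 2, 1, 2, 0, 3, 3, 1, 3, 0, 3, 1, 2, 0, 2, 2, 1, 2, 0, 1, 2, 0], 77), (70, [1, 2, 0, 3, 1, 3, 0, 3, 1, 2, 0, 3, 3, 1, 2, 0, 1, 2, 0, 1, 2, 0, 3, 1, 3, 0], 206)], 146), ([(72, [2, 2, 2, 1, 3, 0, 2, 2, 1, 2, 0, 3, 1, 3, 0, 1, 3, 0], 17), (64, [2, 1, 2, 0, 2, 2, 1, 3, 0, 2, 1, 2, 0, 2, 2, 1, 3, 0, 2], 129), (72, [2, 1, 2, 0, 1, 2, 0, 1, 2, 0, 3, 1, 3, 0, 1, 3, 0, 2, 2, 1, 2, 0, 1, 2, 0], 184)], 40), ([(73, [2, 2, 2, 1, 3, 0, 2, 2, 1, 2, 0, 3,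 1, 3, 0, 1, 3, 0], 17), (64, [2, 2, 1, 2, 0, 2, 1, 2, 0, 1, 2, 0, 3, 3, 1, 3, 0, 3, 3, 1, 3, 0], 66), (73, [2, 1, 2, 0, 3, 3, 1, 2, 0, 1, 2, 0, 2], 55)], 34), ([(75, [1, 3, 0, 1, 3, 0, 3, 3, 1, 2, 0, 1, 2, 0, 2, 1, 2, 0, 3, 1, 3, 0, 2, 2, 2], 211), (72, [1, 2, 0, 1, 2, 0, 1, 2, 0, 2, 2, 1, 2, 0, 1, 2, 0, 3, 1, 3, 0, 1, 3, 0, 2, 2], 228), (74, [1, 2, 0, 3, 3, 1, 2, 0, 1, 2, 0, 2, 1, 2, 0, 2, 2, 2, 1, 2, 0], 141)], 68), ([(74, [1, 3, 0, 1, 3, 0, 3, 3, 1, 2, 0, 1, 2, 0, 2, 1, 2, 0, 3, 1, 3, 0, 2, 2, 2], 211), (72, [3, 1, 3, 0, 3, 3, 1, 2, 0, 2, 1, 3, 0, 3, 1, 3, 0, 1, 3, 0, 2], 41), (75, [1, 2, 0, 1, 2, 0, 2, 1, 3, 0, 2, 2, 2, 1, 3, 0, 2, 1, 2, 0, 2, 2], 162)], 159), ([(80, [1, 3, 0,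 2, 2, 1, 3, 0, 3, 3, 1, 2, 0, 3], 223), (17, [2, 2, 2, 1, 2, 0, 3, 1, 3, 0, 2], 4043), (11, [2, 1, 2, 0, 1, 2, 0, 1, 2, 0], 56992)], 49), ([(81, [1, 3, 0, 2, 2, 1, 3, 0, 3, 3, 1, 2, 0, 3], 225), (65, [1, 2, 0, 1, 2, 0, 3, 1, 3, 0, 3, 1, 2, 0, 3, 3, 1, 3, 0, 1, 3, 0], 63), (78, [2, 1, 3, 0, 3, 1, 2, 0, 1, 2, 0, 1, 2, 0], 136)], 49), ([(84, [1, 3, 0, 3, 1, 2, 0, 1, 2, 0, 1, 2, 0, 2, 1, 2, 0], 106), (57, [2, 2, 1, 2, 0, 2, 1, 3, 0, 2], 226), (79, [2, 2, 1, 3, 0, 2], 322)], 248), ([(85, [1, 3, 0, 3, 1, 2, 0, 1, 2, 0, 1, 2, 0, 2, 1, 2, 0], 106), (83, [1, 2, 0, 1, 2, 0, 1, 2, 0, 2, 1, 2, 0, 3, 1, 3, 0, 1, 3, 0, 3], 30), (76, [1, 2, 0, 2, 1, 2, 0], 373)], 109), ([(89, [2, 1, 2, 0, 1, 2,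 0, 2, 2, 1, 2, 0, 2, 1, 3, 0, 3, 1, 2, 0, 2, 1, 2, 0], 114), (72, [2, 2, 2, 1, 3, 0, 3, 1, 2, 0, 1, 2, 0, 1, 2, 0, 3, 1, 3, 0, 2, 1, 2, 0, 2], 124), (63, [2, 1, 2, 0, 1, 2, 0, 1, 2, 0], 11)], 462), ([(88, [1, 3, 0, 2, 1, 2, 0, 2, 1, 3, 0, 1, 3, 0, 3, 1, 3, 0, 2, 1, 2, 0, 1, 2, 0, 2], 243), (80, [3, 3, 1, 2, 0, 3, 3, 1, 2, 0, 3, 3, 1, 2, 0], 180), (24, [2, 1, 2, 0, 1, 2, 0, 1, 2, 0], 3594)], 300), ([(88, [3, 3, 1, 2, 0, 2, 1, 2, 0, 3, 3, 1, 3, 0], 232), (88, [2, 1, 2, 0, 3, 3, 1, 2, 0, 2, 2, 1, 2, 0, 1, 2, 0, 3, 1, 3, 0, 1, 3, 0], 428), (83, [1, 2, 0, 1, 2, 0, 1, 2, 0, 2, 1, 2, 0, 1, 2, 0, 3, 3, 1, 3, 0], 451)], 411), ([(89, [1, 3, 0, 2, 1, 2, 0, 3, 1, 3, 0, 3, 1, 2, 0, 3, 3, 1, 2,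 0], 333), (67, [1, 2, 0, 1, 2, 0, 1, 2, 0, 2, 1, 3, 0, 3, 1, 2, 0], 119), (40, [2, 1, 2, 0, 1, 2, 0, 1, 2, 0], 806)], 49), ([(91, [2, 1, 2, 0, 2, 1, 2, 0, 1, 2, 0, 1, 2, 0, 2, 1, 3, 0, 1, 3, 0, 2, 1, 2, 0, 1, 2, 0, 2], 167), (95, [1, 3, 0, 2, 2, 1, 3, 0, 2, 1, 2, 0, 2], 590), (85, [3, 3, 1, 3, 0, 2, 1, 2, 0, 3, 1, 3, 0, 3, 1, 2, 0, 2], 220)], 129), ([(90, [2, 1, 2, 0, 2, 1, 2, 0, 1, 2, 0, 1, 2, 0, 2, 1, 3, 0, 1, 3, 0, 2, 1, 2, 0, 1, 2, 0, 2], 167), (74, [2, 1, 3, 0, 3, 1, 2, 0, 2, 1, 2, 0, 1, 2, 0, 3, 1, 3, 0, 2], 80), (57, [1, 2, 0, 3, 1, 3, 0, 1, 3, 0, 2, 2, 2, 1, 3, 0, 3], 35)], 427), ([(91, [1, 3, 0, 3, 1, 2, 0, 3, 1, 3, 0, 2, 1, 2, 0, 2, 1, 3, 0, 2, 2], 106), (94, [3, 1, 2, 0,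 2, 1, 2, 0, 2, 1, 3, 0, 3, 3, 1, 2, 0], 116), (42, [3, 3, 1, 2, 0, 2, 1, 2, 0, 1, 2, 0, 2, 2], 948)], 426), ([(90, [3, 1, 3, 0, 2, 2, 1, 2, 0, 3, 3, 1, 3, 0], 97), (74, [1, 2, 0, 3, 3, 1, 3, 0, 2, 1, 2, 0, 3, 1, 3, 0, 3, 1, 2, 0, 3, 1, 3, 0], 157), (65, [2, 2, 1, 3, 0, 2, 2, 1, 2, 0, 1, 2, 0, 1, 2, 0, 2, 1, 3, 0, 1, 3, 0], 73)], 229), ([(81, [2, 2, 1, 2, 0, 1, 2, 0, 1, 2, 0, 2, 1, 3, 0, 1, 3, 0, 2, 1, 2, 0, 1, 2, 0, 3], 210), (73, [2, 2, 1, 2, 0, 3, 1, 3, 0, 2, 1, 2, 0, 1, 2, 0, 3, 1, 3, 0, 1, 3, 0, 3], 56), (54, [2, 1, 2, 0, 1, 2, 0, 1, 2, 0], 234)], 26), ([(80, [2, 1, 3, 0, 3, 3, 1, 2, 0, 2, 2, 1, 3, 0, 2, 1, 2, 0, 3, 3], 23), (24, [1, 2, 0, 1, 2, 0, 1, 2, 0, 2, 1, 2, 0, 1, 2, 0,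 2, 2, 1, 2, 0, 1, 2, 0], 4938), (88, [3, 1, 2, 0, 1, 2, 0, 2, 1, 2, 0, 1, 2, 0, 3, 1, 3, 0, 3], 414)], 194), ([(88, [2, 2, 2, 1, 2, 0, 2, 1, 3, 0, 3, 1, 3, 0, 2, 2, 1, 2, 0, 3], 308), (91, [2, 2, 1, 3, 0, 1, 3, 0, 3, 1, 2, 0, 1, 2, 0, 2, 2, 1, 2, 0, 2, 1, 3, 0], 293), (95, [1, 2, 0, 2, 1, 2, 0, 1, 2, 0, 3, 1, 3, 0, 3], 557)], 49), ([(89, [2, 2, 2, 1, 2, 0, 2, 1, 3, 0, 3, 1, 3, 0, 2, 2, 1, 2, 0, 3], 308), (74, [1, 3, 0, 3, 3, 1, 3, 0, 2, 1, 2, 0, 1, 2, 0, 3, 1, 3, 0, 2, 1, 2, 0], 71), (60, [2, 1, 2, 0, 1, 2, 0, 1, 2, 0], 83)], 49), ([(92, [1, 2, 0, 1, 2, 0, 2, 1, 2, 0, 1, 2, 0, 2, 2, 2, 1, 3, 0], 590), (72, [3, 1, 2, 0, 1, 2, 0, 2, 1, 2, 0, 1, 2, 0, 2, 2, 2, 1, 3, 0], 146), (55, [3,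 1, 2, 0, 1, 2, 0, 2, 1, 2, 0, 1, 2, 0, 3, 1, 3, 0, 3], 57)], 379), ([(96, [3, 1, 3, 0, 3, 3, 1, 3, 0, 1, 3, 0, 3, 1, 3, 0], 293), (94, [2, 1, 3, 0, 2, 2, 1, 3, 0, 3, 3, 1, 2, 0, 3], 496), (45, [2, 1, 2, 0, 1, 2, 0, 1, 2, 0], 57)], 291), ([(97, [1, 2, 0, 3, 1, 3, 0, 3, 1, 2, 0, 3, 3, 1, 3, 0, 2], 186), (73, [2, 2, 2, 1, 2, 0, 3, 3, 1, 3, 0, 1, 3, 0, 2, 1, 2, 0, 1, 2, 0, 2], 201), (71, [2, 1, 3, 0, 3, 1, 2, 0, 1, 2, 0, 3, 1, 3, 0, 1, 3, 0], 163)], 411), ([(96, [1, 2, 0, 1, 2, 0, 1, 2, 0, 3, 3, 1, 3, 0, 2, 1, 2, 0, 3, 1, 3, 0, 3], 425), (95, [1, 2, 0, 1, 2, 0, 2, 1, 3, 0, 2, 1, 2, 0, 1, 2, 0, 2], 208), (91, [3, 1, 3, 0, 2, 1, 2, 0, 2, 1, 2, 0, 1, 2, 0, 1, 2, 0], 419)], 297), ([(92, [2,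 2, 1, 3, 0, 3, 1, 3, 0, 1, 3, 0, 3, 3], 48), (73, [2, 1, 2, 0, 2, 2, 1, 3, 0, 2, 1, 2, 0, 1, 2, 0, 2, 1, 3, 0, 1, 3, 0, 3, 1, 3, 0], 118), (66, [2, 1, 2, 0, 1, 2, 0, 1, 2, 0], 111)], 522), ([(92, [1, 2, 0, 1, 2, 0, 1, 2, 0, 3, 1, 3, 0, 3, 1, 2, 0, 2, 2, 1, 3, 0], 26), (66, [2, 1, 2, 0, 2, 2, 2, 1, 3, 0, 3, 3], 119), (96, [1, 2, 0, 3, 1, 3, 0, 3, 1, 2, 0, 3, 3, 1, 2, 0, 1, 2, 0, 1, 2, 0, 3, 1, 3, 0], 170)], 517), ([(97, [1, 3, 0, 2, 1, 2, 0, 2, 2, 2, 1, 2, 0, 1, 2, 0], 454), (71, [1, 2, 0, 1, 2, 0, 1, 2, 0, 3, 1, 3, 0, 1, 3, 0, 2, 2, 2, 1, 3, 0, 2], 235), (98, [1, 2, 0, 2, 2, 2, 1, 2, 0, 3, 3, 1, 2, 0, 3, 1, 3, 0], 383)], 50), ([(99, [2, 2, 2, 1, 3, 0, 3, 3, 1, 3, 0], 27626), (75,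 [2, 1, 3, 0, 3, 1, 2, 0, 1, 2, 0, 2, 1, 2, 0, 2, 2, 1, 3, 0, 3, 1, 3, 0], 87), (61, [2, 1, 2, 0, 1, 2, 0, 1, 2, 0], 117)], 2342), ([(100, [2, 1, 2, 0, 2, 2], 3278), (100, [2, 1, 2, 0, 2, 2], 18271), (100, [2, 1, 2, 0, 2, 2], 18271)], 29071)],
[([(0, [], 0), (5, [], 0), (2, [], 24400)], 0), ([(5, [], 9811), (2, [], 24400), (0, [], 0)], 44266), ([(6, [], 9811), (14, [], 2300), (3, [], 24400)], 44266), ([(7, [], 970), (26, [], 9832), (4, [], 24400)], 12854), ([(8, [], 970), (12, [], 2300), (1, [], 24400)], 12854), ([(9, [2, 2, 1, 2, 0, 3, 1, 3, 0, 2, 2, 1, 3, 0], 109670), (19, [1, 2, 0, 1, 2, 0, 1, 2, 0, 3, 3, 1, 3, 0, 3, 3, 1, 2, 0], 3434), (12, [2, 2, 2], 3220)], 994), ([(9, [1, 2,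 0, 1, 2, 0, 2, 2, 1, 2, 0], 2207), (17, [2, 2, 1, 2, 0, 3, 1, 3, 0, 2, 2, 1, 3, 0], 4446), (5, [2, 2, 2], 26189)], 994), ([(10, [2, 2, 1, 2, 0, 3, 1, 3, 0, 2, 2, 1, 3, 0], 82876), (34, [2, 2, 1, 3, 0, 3, 1, 2, 0, 1, 2, 0, 2, 1, 3, 0, 2], 754), (14, [2, 2, 2], 2981)], 994), ([(10, [1, 2, 0, 1, 2, 0, 2, 2, 1, 2, 0], 86224), (36, [2, 2, 1, 3, 0, 3, 1, 2, 0, 1, 2, 0, 2, 1, 3, 0, 2], 752), (26, [2, 2, 2], 42640)], 994), ([(11, [1, 2, 0, 3, 1, 3, 0, 3, 3, 1, 2, 0], 2441), (80, [1, 2, 0, 2, 1, 2, 0, 1, 2, 0, 3, 1, 3, 0, 3, 1, 2, 0, 2], 232), (17, [3, 1, 2, 0, 2, 2], 3040)], 0), ([(11, [3, 1, 2, 0, 2, 1, 2, 0, 2], 5199), (82, [1, 2, 0, 2, 1, 2, 0, 1, 2, 0, 3, 1, 3, 0, 3, 1, 2, 0, 2], 60),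 (31, [3, 1, 2, 0, 2, 2], 849)], 94616), ([(9, [1, 2, 0, 1, 2, 0, 2, 1, 3, 0, 1, 3, 0, 3], 13377), (24, [1, 2, 0, 3, 3, 1, 2, 0, 2, 1, 3, 0, 3, 3, 1, 3, 0], 2618), (77, [3, 1, 2, 0, 2, 2], 418)], 0), ([(18, [2, 2, 1, 3, 0, 3, 1, 2, 0, 1, 2, 0, 2, 1, 3, 0, 2], 3042), (50, [2, 2, 1, 3, 0, 3, 1, 2, 0, 1, 2, 0, 2, 1, 3, 0, 2], 146), (27, [2, 2, 2], 42683)], 2569), ([(19, [2, 2, 1, 3, 0, 3, 1, 2, 0, 1, 2, 0, 2, 1, 3, 0, 2], 3042), (17, [1, 2, 0, 1, 2, 0, 2, 2, 1, 2, 0], 113), (6, [2, 2, 2], 73935)], 2569), ([(20, [2, 2, 1, 3, 0, 3, 1, 2, 0, 1, 2, 0, 2, 1, 3, 0, 2], 3920), (49, [2, 2, 1, 3, 0, 3, 1, 2, 0, 1, 2, 0, 2, 1, 3, 0, 2], 14), (15, [2, 2, 2], 2981)], 2569), ([(21, [2, 2, 1, 3, 0,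 3, 1, 2, 0, 1, 2, 0, 2, 1, 3, 0, 2], 3920), (31, [1, 2, 0, 1, 2, 0, 2, 2, 1, 2, 0], 800), (8, [2, 2, 2], 102913)], 2569), ([(24, [1, 2, 0, 2, 1, 2, 0, 1, 2, 0, 3, 1, 3, 0, 3, 1, 2, 0, 2], 4003), (77, [1, 2, 0, 3, 1, 3, 0, 3, 3, 1, 2, 0], 476), (9, [3, 1, 2, 0, 2, 2], 9522)], 2985), ([(24, [3, 3, 1, 3, 0, 2, 2, 1, 3, 0, 3], 1238), (87, [1, 2, 0, 2, 1, 2, 0, 3, 1, 3, 0, 2, 2, 1, 3, 0, 2, 2], 118), (33, [3, 1, 2, 0, 2, 2], 767)], 4192), ([(24, [2, 1, 3, 0, 1, 3, 0, 3, 1, 2, 0, 2, 1, 3, 0, 2, 2, 1, 3, 0], 1449), (80, [2, 1, 2, 0, 3, 3, 1, 3, 0, 2, 2, 1, 2, 0, 3, 1, 3, 0, 2, 1, 2, 0], 213), (19, [2, 1, 2, 0, 2, 2, 1, 3, 0, 3, 1, 3, 0, 2], 4800)], 2648), ([(24, [3, 3, 1, 2, 0, 1, 2, 0,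 2, 1, 3, 0, 3, 3, 1, 2, 0, 1, 2, 0], 1736), (89, [2, 2, 1, 3, 0, 1, 3, 0, 2, 1, 2, 0, 1, 2, 0, 2, 2, 1, 3, 0], 419), (47, [3, 1, 2, 0, 2, 2], 161)], 0), ([(25, [2, 2, 1, 3, 0, 1, 3, 0, 2, 1, 2, 0, 1, 2, 0, 2, 2, 1, 3, 0], 2691), (67, [2, 1, 2, 0, 2, 1, 3, 0, 1, 3, 0, 3, 1, 2, 0, 2, 1, 3, 0, 3, 3, 1, 2, 0], 91), (34, [3, 1, 2, 0, 2, 2], 914)], 0), ([(25, [2, 2, 2, 1, 2, 0, 2, 1, 3, 0, 2], 4901), (59, [2, 2, 1, 2, 0, 3, 1, 3, 0, 2, 2, 1, 3, 0], 7), (49, [3, 1, 2, 0, 2, 2], 220)], 0), ([(25, [1, 3, 0, 3, 1, 3, 0, 2, 1, 2, 0], 1213), (58, [1, 3, 0, 3, 3, 1, 3, 0, 3, 1, 2, 0, 3, 3, 1, 3, 0, 3], 57), (23, [2, 2, 1, 3, 0, 1, 3, 0, 2, 1, 2, 0, 1, 2, 0, 3], 1340)], 1695), ([(25, [1, 3, 0,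 2, 2, 1, 2, 0, 2, 1, 3, 0, 1, 3, 0, 3, 1, 3, 0], 1403), (56, [2, 1, 3, 0, 1, 3, 0, 3, 1, 3, 0, 1, 3, 0, 3, 1, 2, 0, 1, 2, 0, 3], 159), (30, [1, 3, 0, 3, 3, 1, 2, 0, 2, 1, 3, 0], 1438)], 3506), ([(24, [1, 2, 0, 1, 2, 0, 1, 2, 0, 2, 1, 3, 0, 1, 3, 0, 3, 3, 1, 3, 0, 1, 3, 0], 2442), (88, [2, 1, 3, 0, 2, 1, 2, 0, 3, 1, 3, 0, 3, 3, 1, 3, 0, 1, 3, 0, 2, 1, 2, 0], 414), (80, [2, 1, 3, 0, 2, 1, 2, 0, 2, 1, 3, 0, 3, 1, 2, 0], 26)], 1873), ([(24, [3, 1, 2, 0, 3, 3, 1, 3, 0, 2, 1, 2, 0, 2, 2], 3683), (89, [1, 2, 0, 2, 1, 2, 0, 3, 1, 3, 0, 3, 3, 1, 2, 0, 1, 2, 0, 2, 2, 1, 2, 0], 254), (58, [3, 1, 2, 0, 2, 2], 33)], 4816), ([(28, [2, 2, 1, 3, 0, 3, 1, 2, 0, 1, 2, 0, 2, 1, 3, 0, 2], 43164), (31,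 [2, 2, 1, 2, 0, 3, 1, 3, 0, 2, 2, 1, 3, 0], 668), (7, [2, 2, 2], 22850)], 40539), ([(29, [2, 2, 1, 3, 0, 3, 1, 2, 0, 1, 2, 0, 2, 1, 3, 0, 2], 46720), (47, [2, 2, 1, 3, 0, 3, 1, 2, 0, 1, 2, 0, 2, 1, 3, 0, 2], 146), (13, [2, 2, 2], 2960)], 40539), ([(29, [1, 3, 0, 1, 3, 0, 3, 1, 2, 0, 2, 1, 3, 0, 2], 59913), (67, [1, 3, 0, 2, 2, 2, 1, 2, 0, 3, 1, 3, 0, 2, 2, 1, 3, 0], 126), (36, [3, 1, 2, 0, 2, 2], 592)], 0), ([(28, [1, 3, 0, 1, 3, 0, 3, 1, 2, 0, 2, 1, 3, 0, 2], 68313), (44, [2, 1, 2, 0, 1, 2, 0, 2, 2, 1, 3, 0, 1, 3, 0, 3, 1, 3, 0, 1, 3, 0], 363), (50, [3, 1, 2, 0, 2, 2], 110)], 0), ([(40, [1, 2, 0, 2, 1, 2, 0, 1, 2, 0, 3, 1, 3, 0, 3, 1, 2, 0, 2], 878), (77, [3, 1, 2, 0, 2, 1, 2, 0,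 2], 453), (10, [3, 1, 2, 0, 2, 2], 75683)], 0), ([(41, [1, 2, 0, 2, 1, 2, 0, 1, 2, 0, 3, 1, 3, 0, 3, 1, 2, 0, 2], 1002), (58, [2, 1, 2, 0, 1, 2, 0, 1, 2, 0, 2, 1, 2, 0], 33), (22, [2, 2], 1385)], 721), ([(42, [1, 2, 0, 2, 1, 2, 0, 1, 2, 0, 3, 1, 3, 0, 3, 1, 2, 0, 2], 750), (80, [1, 2, 0, 3, 3, 1, 3, 0, 3, 1, 2, 0, 2, 2], 195), (16, [3, 1, 2, 0, 2, 2], 1299)], 1337), ([(43, [1, 2, 0, 2, 1, 2, 0, 1, 2, 0, 3, 1, 3, 0, 3, 1, 2, 0, 2], 1078), (43, [1, 3, 0, 3, 1, 3, 0, 2, 1, 2, 0, 2, 1, 3, 0, 2, 2, 1, 2, 0, 1, 2, 0], 521), (32, [3, 1, 2, 0, 2, 2], 303)], 752), ([(44, [2, 2, 1, 3, 0, 1, 3, 0, 2, 1, 2, 0, 1, 2, 0, 2, 2, 1, 3, 0], 997), (58, [3, 1, 3, 0, 3, 1, 2, 0, 3, 3, 1, 2, 0, 2, 2, 1,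 2, 0, 1, 2, 0], 84), (21, [2, 1, 2, 0, 2, 2, 1, 3, 0, 3, 1, 3, 0, 2], 3975)], 459), ([(44, [2, 1, 2, 0, 3, 3, 1, 3, 0, 2, 1, 2, 0, 1, 2, 0, 3, 3, 1, 3, 0, 1, 3, 0], 777), (50, [1, 3, 0, 1, 3, 0, 3, 1, 2, 0, 2, 1, 3, 0, 2], 83), (28, [3, 1, 2, 0, 2, 2], 73497)], 569), ([(44, [3, 1, 2, 0, 1, 2, 0, 2, 2, 1, 2, 0, 1, 2, 0, 2, 2, 1, 2, 0], 389), (70, [1, 2, 0, 2, 2, 1, 3, 0, 1, 3, 0, 2, 2, 1, 2, 0, 1, 2, 0, 3, 1, 3, 0], 9), (53, [3, 1, 2, 0, 2, 2], 60)], 0), ([(45, [2, 2, 1, 3, 0, 1, 3, 0, 2, 1, 2, 0, 1, 2, 0, 2, 2, 1, 3, 0], 1003), (92, [2, 2, 1, 3, 0, 1, 3, 0, 2, 1, 2, 0, 1, 2, 0, 2, 2, 1, 3, 0], 291), (46, [3, 1, 2, 0, 2, 2], 161)], 0), ([(45, [2, 1, 2, 0, 3, 3, 1, 3, 0, 2, 1, 2, 0,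 1, 2, 0, 3, 3, 1, 3, 0, 1, 3, 0], 791), (94, [3, 1, 2, 0, 1, 2, 0, 2, 2, 1, 2, 0, 1, 2, 0, 2, 2, 1, 2, 0], 510), (39, [3, 1, 2, 0, 2, 2], 712)], 668), ([(45, [3, 1, 2, 0, 1, 2, 0, 2, 2, 1, 2, 0, 1, 2, 0, 2, 2, 1, 2, 0], 555), (97, [2, 2, 1, 3, 0, 1, 3, 0, 2, 1, 2, 0, 1, 2, 0, 2, 2, 1, 3, 0], 286), (51, [3, 1, 2, 0, 2, 2], 161)], 0), ([(44, [3, 1, 3, 0, 3, 1, 2, 0, 3, 1, 3, 0, 2, 2, 1, 2, 0, 3, 1, 3, 0, 1, 3, 0], 916), (72, [2, 2, 1, 3, 0, 2, 2, 1, 2, 0, 3, 3, 1, 3, 0, 2], 45), (56, [3, 1, 2, 0, 2, 2], 61)], 1341), ([(44, [3, 3, 1, 3, 0, 3, 3, 1, 2, 0, 2, 1, 2, 0, 3, 1, 3, 0, 2, 1, 2, 0], 818), (54, [1, 2, 0, 1, 2, 0, 1, 2, 0, 2, 1, 3, 0, 1, 3, 0, 3, 1, 3, 0, 2, 2, 1, 2, 0, 3], 118),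 (82, [3, 1, 2, 0, 2, 2], 208)], 0), ([(45, [3, 1, 3, 0, 3, 1, 2, 0, 3, 1, 3, 0, 2, 2, 1, 2, 0, 3, 1, 3, 0, 1, 3, 0], 753), (94, [3, 1, 2, 0, 3, 1, 3, 0, 1, 3, 0, 2, 1, 2, 0, 2, 2], 449), (43, [2, 1, 3, 0, 3, 3, 1, 2, 0, 1, 2, 0, 2, 1, 2, 0, 2, 1, 3, 0, 3], 457)], 304), ([(45, [3, 3, 1, 3, 0, 3, 3, 1, 2, 0, 2, 1, 2, 0, 3, 1, 3, 0, 2, 1, 2, 0], 856), (95, [1, 2, 0, 1, 2, 0, 3, 3, 1, 3, 0, 1, 3, 0, 3, 1, 2, 0, 2, 1, 3, 0], 150), (87, [3, 3, 1, 2, 0, 3, 1, 3, 0, 3, 3, 1, 2, 0, 1, 2, 0], 81)], 841), ([(44, [2, 2, 1, 2, 0, 3, 1, 3, 0, 2, 1, 2, 0, 2, 1, 2, 0, 1, 2, 0, 3], 187), (70, [1, 2, 0, 2, 1, 3, 0, 2, 1, 2, 0, 2, 1, 3, 0, 3, 1, 2, 0, 2, 1, 3, 0], 233), (67, [1, 3, 0, 2, 1, 2, 0, 3,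 1, 3, 0, 2, 1, 2, 0, 2], 2)], 537), ([(45, [1, 3, 0, 2, 1, 2, 0, 1, 2, 0, 2, 2, 2], 275), (98, [3, 3, 1, 3, 0, 2, 1, 2, 0, 2, 2, 2], 145), (94, [3, 1, 2, 0, 2, 2], 524)], 0), ([(54, [2, 2, 1, 3, 0, 1, 3, 0, 2, 1, 2, 0, 1, 2, 0, 2, 2, 1, 3, 0], 157), (80, [1, 3, 0, 2, 2, 1, 3, 0, 2, 1, 2, 0, 3, 1, 3, 0, 1, 3, 0, 3, 1, 2, 0, 1, 2, 0], 152), (18, [3, 1, 2, 0, 2, 2], 4902)], 0), ([(55, [2, 2, 1, 3, 0, 1, 3, 0, 2, 1, 2, 0, 1, 2, 0, 2, 2, 1, 3, 0], 157), (94, [1, 2, 0, 2, 1, 2, 0, 2, 2, 1, 3, 0, 1, 3, 0, 2, 2, 1, 3, 0], 379), (37, [2, 1, 2, 0, 2, 2, 1, 3, 0, 3, 1, 3, 0, 2], 1035)], 146), ([(59, [2, 2, 1, 3, 0, 1, 3, 0, 2, 1, 2, 0, 1, 2, 0, 2, 2, 1, 3, 0], 121), (58, [2, 2, 1, 3, 0, 1, 3,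 0, 2, 1, 2, 0, 1, 2, 0, 2, 2, 1, 3, 0], 146), (20, [3, 1, 2, 0, 2, 2], 2698)], 0), ([(60, [2, 2, 1, 3, 0, 1, 3, 0, 2, 1, 2, 0, 1, 2, 0, 2, 2, 1, 3, 0], 121), (90, [1, 2, 0, 2, 1, 2, 0, 2, 2, 1, 3, 0, 1, 3, 0, 2, 2, 1, 3, 0], 491), (48, [2, 1, 2, 0, 2, 2, 1, 3, 0, 3, 1, 3, 0, 2], 142)], 132), ([(66, [2, 2, 1, 3, 0, 1, 3, 0, 2, 1, 2, 0, 1, 2, 0, 2, 2, 1, 3, 0], 157), (94, [2, 1, 2, 0, 3, 3, 1, 3, 0, 2, 1, 2, 0, 1, 2, 0, 3, 3, 1, 3, 0, 1, 3, 0], 487), (38, [3, 1, 2, 0, 2, 2], 1031)], 0), ([(67, [2, 2, 1, 3, 0, 1, 3, 0, 2, 1, 2, 0, 1, 2, 0, 2, 2, 1, 3, 0], 157), (36, [1, 3, 0, 1, 3, 0, 3, 1, 2, 0, 2, 1, 3, 0, 2], 621), (29, [3, 1, 2, 0, 2, 2], 50626)], 0), ([(70, [2, 2, 1, 3, 0, 1, 3,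 0, 2, 1, 2, 0, 1, 2, 0, 2, 2, 1, 3, 0], 121), (67, [1, 3, 0, 3, 1, 3, 0, 2, 2, 1, 2, 0, 3, 1, 3, 0, 2, 1, 2, 0, 1, 2, 0], 204), (35, [3, 1, 2, 0, 2, 2], 399)], 48), ([(71, [2, 2, 1, 3, 0, 1, 3, 0, 2, 1, 2, 0, 1, 2, 0, 2, 2, 1, 3, 0], 121), (93, [2, 1, 2, 0, 1, 2, 0, 2, 2, 1, 3, 0, 1, 3, 0, 3, 1, 3, 0, 1, 3, 0], 574), (52, [3, 1, 2, 0, 2, 2], 219)], 0), ([(73, [3, 3, 1, 2, 0, 1, 2, 0, 3, 3, 1, 3, 0, 3, 1, 2, 0, 3, 1, 3, 0], 116), (66, [1, 3, 0, 2, 2, 1, 3, 0, 1, 3, 0, 3, 1, 2, 0, 1, 2, 0, 2, 1, 3, 0, 3, 1, 3, 0], 167), (92, [3, 1, 2, 0, 2, 2], 404)], 0), ([(72, [3, 3, 1, 2, 0, 1, 2, 0, 3, 3, 1, 3, 0, 3, 1, 2, 0, 3, 1, 3, 0], 116), (54, [1, 2, 0, 2, 1, 3, 0, 3, 1, 3, 0, 1, 3, 0, 3,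 3, 1, 3, 0, 1, 3, 0, 3, 1, 2, 0], 190), (89, [3, 1, 2, 0, 2, 2], 487)], 0), ([(72, [2, 1, 2, 0, 1, 2, 0, 2, 1, 2, 0, 1, 2, 0, 3, 3, 1, 3, 0, 2, 1, 2, 0, 2, 1, 2, 0], 5), (67, [1, 2, 0, 2, 1, 2, 0, 3, 1, 3, 0, 3, 3, 1, 2, 0, 1, 2, 0, 1, 2, 0, 3, 1, 3, 0], 152), (41, [2, 1, 3, 0, 3, 3, 1, 2, 0, 1, 2, 0, 2, 1, 2, 0, 2, 1, 3, 0, 3], 1063)], 31), ([(54, [1, 3, 0, 2, 2, 1, 2, 0, 2, 2, 1, 2, 0, 3, 1, 3, 0, 2, 2], 147), (80, [1, 2, 0, 3, 3, 1, 2, 0, 2, 1, 3, 0, 2, 2, 1, 2, 0, 3], 75), (25, [3, 1, 2, 0, 2, 2], 1761)], 184), ([(55, [1, 2, 0, 2, 1, 2, 0, 3, 1, 3, 0, 3, 3, 1, 2, 0, 1, 2, 0, 2, 2, 1, 2, 0], 20), (95, [2, 2, 1, 2, 0, 1, 2, 0, 2, 2, 1, 2, 0, 1, 2, 0, 2, 1, 2, 0, 2], 24), (84, [3,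 1, 2, 0, 1, 2, 0, 3, 1, 3, 0, 1, 3, 0, 2, 2, 1, 3, 0, 1, 3, 0, 3], 63)], 53), ([(75, [3, 1, 2, 0, 3, 3, 1, 2, 0, 1, 2, 0, 2, 1, 3, 0, 1, 3, 0, 2, 1, 2, 0, 1, 2, 0], 122), (65, [2, 2, 2, 1, 2, 0, 3, 3, 1, 2, 0], 170), (90, [3, 1, 2, 0, 2, 2], 246)], 146), ([(74, [3, 1, 2, 0, 3, 3, 1, 2, 0, 1, 2, 0, 2, 1, 3, 0, 1, 3, 0, 2, 1, 2, 0, 1, 2, 0], 122), (70, [1, 2, 0, 2, 1, 3, 0, 1, 3, 0, 2, 1, 2, 0, 1, 2, 0, 2, 1, 2, 0, 1, 2, 0, 1, 2, 0], 191), (59, [1, 3, 0, 2, 2, 1, 2, 0, 3, 1, 3, 0, 3, 1, 2, 0, 3, 1, 3, 0], 132)], 208), ([(75, [1, 2, 0, 1, 2, 0, 1, 2, 0, 2, 1, 2, 0, 2, 1, 3, 0, 3, 3, 1, 3, 0, 2], 71), (72, [3, 1, 3, 0, 2, 1, 2, 0, 2, 2, 1, 2, 0, 1, 2, 0, 2, 2, 1, 3, 0], 31), (68, [1,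 3, 0, 2, 1, 2, 0, 2], 236)], 156), ([(74, [1, 2, 0, 1, 2, 0, 1, 2, 0, 2, 1, 2, 0, 2, 1, 3, 0, 3, 3, 1, 3, 0, 2], 71), (61, [2, 2, 2, 1, 3, 0, 3, 1, 3, 0], 129), (99, [3, 1, 2, 0, 2, 2], 17053)], 0), ([(72, [3, 1, 3, 0, 1, 3, 0, 3, 3, 1, 3, 0, 1, 3, 0, 3, 1, 2, 0, 1, 2, 0, 1, 2, 0], 117), (72, [2, 1, 3, 0, 2, 1, 2, 0, 2, 2, 1, 3, 0, 3, 1, 3, 0, 1, 3, 0, 2, 2], 167), (64, [2, 2, 1, 2, 0, 3, 3, 1, 2, 0, 3, 1, 3, 0, 3, 1, 2, 0], 85)], 189), ([(72, [1, 3, 0, 3, 1, 2, 0, 3, 3, 1, 3, 0, 1, 3, 0, 2, 2, 1, 2, 0, 1, 2, 0], 12), (54, [2, 2, 1, 2, 0, 1, 2, 0, 2, 2, 1, 2, 0, 2, 1, 2, 0], 220), (81, [3, 1, 2, 0, 2, 2], 167)], 0), ([(74, [1, 3, 0, 1, 3, 0, 2, 1, 2, 0, 2, 2, 1, 3, 0], 118), (60,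 [1, 3, 0, 2, 1, 2, 0, 1, 2, 0, 3, 3, 1, 2, 0, 3, 1, 3, 0], 118), (86, [2, 1, 2, 0, 2, 2, 2, 1, 2, 0, 2, 1, 3, 0], 94)], 68), ([(73, [3, 1, 2, 0, 1, 2, 0, 1, 2, 0, 2, 1, 3, 0, 1, 3, 0, 2, 1, 2, 0, 1, 2, 0, 2, 2], 45), (67, [1, 2, 0, 2, 2, 2, 1, 2, 0, 2, 1, 2, 0, 1, 2, 0, 3, 1, 3, 0, 2], 143), (44, [3, 1, 2, 0, 3, 3, 1, 3, 0, 2, 1, 2, 0, 3, 1, 3, 0, 3], 1231)], 104), ([(72, [3, 1, 2, 0, 1, 2, 0, 1, 2, 0, 2, 1, 3, 0, 1, 3, 0, 2, 1, 2, 0, 1, 2, 0, 2, 2], 45), (71, [2, 2, 2, 1, 2, 0, 2, 1, 3, 0, 3, 1, 2, 0, 1, 2, 0, 2, 1, 2, 0, 1, 2, 0], 61), (97, [3, 1, 2, 0, 2, 2], 214)], 0), ([(72, [1, 2, 0, 1, 2, 0, 1, 2, 0, 2, 1, 2, 0, 2, 1, 3, 0, 3, 3, 1, 3, 0, 2], 80), (73, [2, 2, 1, 2, 0, 2, 1,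 3, 0, 2, 1, 2, 0, 3, 1, 3, 0, 1, 3, 0, 3], 155), (69, [3, 1, 2, 0, 2, 2], 29)], 110), ([(73, [1, 2, 0, 1, 2, 0, 1, 2, 0, 2, 1, 2, 0, 2, 1, 3, 0, 3, 3, 1, 3, 0, 2], 80), (74, [1, 2, 0, 2, 1, 3, 0, 3, 1, 2, 0, 2, 2, 2, 1, 3, 0, 3, 1, 3, 0], 158), (62, [2, 1, 3, 0, 1, 3, 0, 2, 1, 2, 0, 2], 126)], 156), ([(75, [3, 3, 1, 2, 0, 1, 2, 0, 3, 3, 1, 3, 0, 3, 1, 2, 0, 3, 1, 3, 0], 193), (66, [1, 2, 0, 1, 2, 0, 2, 2, 1, 2, 0, 1, 2, 0, 2, 2, 1, 2, 0, 3], 233), (93, [3, 1, 2, 0, 3, 3, 1, 3, 0, 2, 1, 2, 0, 3, 1, 3, 0, 3], 564)], 221), ([(74, [3, 3, 1, 2, 0, 1, 2, 0, 3, 3, 1, 3, 0, 3, 1, 2, 0, 3, 1, 3, 0], 193), (72, [1, 3, 0, 2, 2, 1, 3, 0, 2, 2, 1, 2, 0, 2, 1, 3, 0, 3], 14), (70, [1, 2, 0, 1, 2,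 0, 2, 2, 1, 2, 0, 1, 2, 0, 2, 1, 2, 0, 2, 1, 3, 0, 3, 1, 2, 0], 68)], 91), ([(55, [1, 3, 0, 1, 3, 0, 2, 2, 1, 2, 0, 1, 2, 0, 2, 1, 3, 0, 1, 3, 0], 77), (97, [2, 1, 3, 0, 1, 3, 0, 3, 3, 1, 3, 0, 1, 3, 0, 2, 2, 2], 492), (72, [3, 1, 2, 0, 1, 2, 0, 2, 1, 2, 0, 1, 2, 0, 3, 3, 1, 3, 0, 1, 3, 0, 2, 2], 11)], 40), ([(54, [1, 3, 0, 1, 3, 0, 2, 2, 1, 2, 0, 1, 2, 0, 2, 1, 3, 0, 1, 3, 0], 77), (89, [3, 3, 1, 2, 0, 3, 1, 3, 0, 1, 3, 0, 2, 1, 2, 0, 2, 1, 3, 0], 474), (73, [2, 1, 3, 0, 3, 1, 3, 0, 1, 3, 0, 2, 2, 1, 2, 0, 2, 1, 3, 0, 3], 129)], 209), ([(71, [1, 3, 0, 1, 3, 0, 2, 2, 1, 2, 0, 1, 2, 0, 2, 1, 3, 0, 1, 3, 0], 235), (97, [1, 2, 0, 3, 3, 1, 3, 0, 1, 3, 0, 3, 3, 1, 3, 0, 3], 339), (74,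 [2, 2, 1, 2, 0, 1, 2, 0, 2, 1, 2, 0, 3, 3, 1, 2, 0, 2, 2, 1, 2, 0], 185)], 159), ([(70, [1, 3, 0, 1, 3, 0, 2, 2, 1, 2, 0, 1, 2, 0, 2, 1, 3, 0, 1, 3, 0], 235), (73, [1, 2, 0, 1, 2, 0, 1, 2, 0, 3, 3, 1, 3, 0, 1, 3, 0, 2, 2, 1, 3, 0, 1, 3, 0, 3], 218), (75, [3, 3, 1, 3, 0, 2, 1, 2, 0, 2, 2, 2, 1, 2, 0, 2, 1, 3, 0], 118)], 68), ([(80, [1, 2, 0, 3, 3, 1, 2, 0, 2, 1, 3, 0, 3, 3, 1, 3, 0], 9), (17, [1, 2, 0, 1, 2, 0, 2, 1, 3, 0, 1, 3, 0, 3], 3321), (11, [3, 1, 2, 0, 2, 2], 125783)], 0), ([(81, [1, 2, 0, 3, 3, 1, 2, 0, 2, 1, 3, 0, 3, 3, 1, 3, 0], 205), (65, [1, 2, 0, 1, 2, 0, 2, 1, 3, 0, 2, 1, 2, 0, 3, 1, 3, 0, 1, 3, 0, 2, 1, 2, 0, 1, 2, 0], 76), (78, [3, 1, 2, 0, 3, 1, 3, 0, 3, 1, 2, 0],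 230)], 209), ([(87, [2, 1, 2, 0, 2, 2, 1, 2, 0, 3, 3, 1, 2, 0, 2, 1, 3, 0], 187), (42, [2, 2, 1, 3, 0, 1, 3, 0, 3, 1, 2, 0, 2, 2, 1, 3, 0, 2], 1412), (79, [1, 3, 0, 1, 3, 0, 3, 3], 452)], 49), ([(86, [2, 1, 2, 0, 2, 1, 2, 0, 1, 2, 0, 2, 2, 1, 2, 0], 50), (63, [2, 1, 2, 0, 2, 1, 2, 0, 1, 2, 0, 2, 2, 1, 2, 0], 50), (76, [2, 2, 1, 2, 0, 3, 1, 3, 0, 1, 3, 0, 3, 3], 298)], 202), ([(89, [1, 3, 0, 3, 1, 3, 0, 2, 2, 1, 2, 0, 3, 3, 1, 2, 0, 3], 19), (72, [3, 1, 3, 0, 3, 3, 1, 2, 0, 1, 2, 0, 3, 1, 3, 0, 1, 3, 0, 3, 1, 2, 0, 2], 125), (63, [3, 1, 2, 0, 2, 2], 49)], 462), ([(88, [2, 2, 1, 2, 0, 1, 2, 0, 2, 2, 1, 2, 0, 2, 1, 2, 0], 46), (80, [3, 3, 1, 2, 0, 1, 2, 0, 1, 2, 0, 3, 1, 3, 0, 3, 1,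 2, 0, 2, 1, 2, 0, 3], 248), (24, [3, 1, 2, 0, 2, 2], 3374)], 300), ([(88, [1, 2, 0, 1, 2, 0, 1, 2, 0, 2, 1, 3, 0, 1, 3, 0, 3, 1, 3, 0, 2, 2, 1, 2, 0, 3], 245), (88, [1, 3, 0, 2, 1, 2, 0, 2, 2, 1, 2, 0, 1, 2, 0, 3, 3, 1, 2, 0, 1, 2, 0], 428), (83, [1, 2, 0, 1, 2, 0, 1, 2, 0, 2, 1, 2, 0, 2, 1, 3, 0, 3, 1, 2, 0, 1, 2, 0, 2], 304)], 411), ([(89, [3, 1, 3, 0, 3, 1, 2, 0, 3, 1, 3, 0, 2, 1, 2, 0, 2, 1, 3, 0, 3, 1, 3, 0], 263), (67, [1, 2, 0, 1, 2, 0, 1, 2, 0, 2, 1, 2, 0, 3, 1, 3, 0, 3, 1, 2, 0, 1, 2, 0, 2], 122), (40, [3, 1, 2, 0, 2, 2], 376)], 0), ([(85, [2, 1, 3, 0, 2, 2, 1, 2, 0, 3, 1, 3, 0, 2, 1, 2, 0, 1, 2, 0, 3], 265), (88, [2, 2, 2, 1, 3, 0, 1, 3, 0, 2, 2, 1, 2, 0, 1, 2, 0, 3], 28),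 (85, [2, 1, 3, 0, 2, 2, 2, 1, 2, 0, 3, 3, 1, 2, 0, 3, 1, 3, 0, 2], 16)], 248), ([(84, [2, 1, 3, 0, 2, 2, 1, 2, 0, 3, 1, 3, 0, 2, 1, 2, 0, 1, 2, 0, 3], 265), (59, [2, 1, 2, 0, 2, 1, 3, 0, 3, 1, 2, 0, 2, 2, 2, 1, 3, 0, 1, 3, 0], 63), (57, [2, 1, 3, 0, 2, 1, 2, 0, 2, 2, 1, 3, 0, 3, 1, 3, 0, 2], 54)], 286), ([(91, [2, 2, 2, 1, 2, 0, 3, 1, 3, 0, 2, 1, 2, 0, 2, 1, 3, 0, 3, 1, 3, 0], 57), (94, [1, 2, 0, 1, 2, 0, 2, 1, 3, 0, 3, 3, 1, 2, 0, 2, 2, 1, 2, 0, 2], 223), (42, [3, 3, 1, 2, 0, 2, 2, 2], 392)], 432), ([(90, [1, 2, 0, 2, 2, 1, 3, 0, 1, 3, 0, 2, 1, 2, 0, 1, 2, 0, 3, 1, 3, 0, 1, 3, 0], 54), (74, [1, 2, 0, 3, 3, 1, 2, 0, 3, 3, 1, 3, 0, 3, 3, 1, 2, 0, 1, 2, 0, 2, 1, 2, 0], 63), (65, [2,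 1, 3, 0, 3, 1, 2, 0, 2, 1, 2, 0, 1, 2, 0, 3, 3, 1, 2, 0, 1, 2, 0], 143)], 145), ([(89, [1, 2, 0, 2, 1, 3, 0, 3, 1, 3, 0, 1, 3, 0, 3, 3, 1, 3, 0, 1, 3, 0, 3, 1, 2, 0], 288), (73, [2, 1, 3, 0, 3, 3, 1, 3, 0, 2, 2, 1, 2, 0, 3, 3, 1, 2, 0], 129), (54, [3, 1, 2, 0, 2, 2], 1)], 26), ([(88, [1, 2, 0, 2, 1, 3, 0, 3, 1, 3, 0, 1, 3, 0, 3, 3, 1, 3, 0, 1, 3, 0, 3, 1, 2, 0], 288), (83, [1, 3, 0, 1, 3, 0, 3, 1, 2, 0, 1, 2, 0], 441), (88, [2, 1, 2, 0, 3, 3, 1, 2, 0, 2, 1, 2, 0, 1, 2, 0, 2, 2, 1, 3, 0, 3], 341)], 194), ([(87, [1, 2, 0, 3, 3, 1, 2, 0, 3], 157), (45, [3, 1, 3, 0, 3, 1, 2, 0, 1, 2, 0, 2, 1, 3, 0], 963), (95, [1, 2, 0, 2, 1, 2, 0, 2, 2, 1, 2, 0, 2, 1, 3, 0, 2, 1, 2, 0], 195)], 185),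 ([(86, [1, 3, 0, 2, 2, 1, 3, 0, 2, 2, 2], 95), (74, [1, 3, 0, 3, 1, 3, 0, 2, 2, 1, 2, 0, 3, 3, 1, 2, 0, 2, 1, 3, 0], 95), (60, [3, 1, 2, 0, 2, 2], 158)], 0), ([(96, [1, 3, 0, 2, 2, 1, 3, 0, 1, 3, 0, 3, 1, 2, 0, 1, 2, 0, 2, 1, 3, 0, 3, 1, 3, 0], 65), (97, [1, 2, 0, 3, 1, 3, 0, 3, 3], 340), (55, [2, 1, 2, 0, 3, 3, 1, 2, 0, 2, 1, 2, 0, 1, 2, 0, 2, 2, 1, 3, 0, 3], 169)], 379), ([(98, [2, 2, 2, 1, 2, 0, 3, 1, 3, 0, 2, 2, 2], 145), (94, [1, 3, 0, 2, 1, 2, 0, 1, 2, 0, 2, 2, 2], 524), (45, [3, 1, 2, 0, 2, 2], 275)], 0), ([(98, [1, 2, 0, 1, 2, 0, 2, 1, 3, 0, 3, 3, 1, 2, 0, 2, 2, 1, 3, 0, 2], 171), (97, [1, 2, 0, 1, 2, 0, 2, 2, 2, 1, 3, 0, 2, 1, 2, 0, 2, 2, 1, 2, 0, 3], 317), (71, [1, 3, 0,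 2, 1, 2, 0, 3, 1, 3, 0, 2, 1, 2, 0, 2], 193)], 411), ([(92, [1, 3, 0, 1, 3, 0, 2, 2, 2, 1, 3, 0, 3, 1, 3, 0, 1, 3, 0], 25), (60, [2, 1, 3, 0, 3, 3, 1, 3, 0, 1, 3, 0, 2, 1, 2, 0, 2, 1, 3, 0], 229), (91, [1, 3, 0, 3, 1, 2, 0, 1, 2, 0, 2, 2], 374)], 379), ([(93, [2, 1, 3, 0, 1, 3, 0, 2, 1, 2, 0, 1, 2, 0, 3, 3, 1, 3, 0], 205), (73, [2, 1, 3, 0, 3, 3, 1, 3, 0, 3, 3, 1, 3, 0], 62), (66, [3, 1, 2, 0, 2, 2], 154)], 522), ([(94, [3, 1, 3, 0, 2, 2, 2, 1, 3, 0, 3, 1, 2, 0, 2, 1, 2, 0], 228), (45, [3, 1, 2, 0, 1, 2, 0, 2, 1, 2, 0, 1, 2, 0, 2, 1, 3, 0, 3, 1, 2, 0, 3], 188), (96, [1, 2, 0, 1, 2, 0, 2, 2, 1, 2, 0, 1, 2, 0, 2, 1, 2, 0, 2, 1, 3, 0, 3, 1, 2, 0], 298)], 569), ([(93, [2, 1, 2, 0, 2,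 1, 3, 0, 2, 2, 1, 3, 0, 2, 2, 2], 162), (66, [2, 2, 1, 2, 0, 1, 2, 0, 2, 2, 1, 3, 0, 2, 1, 2, 0, 2, 1, 2, 0, 1, 2, 0, 1, 2, 0], 78), (98, [1, 2, 0, 2, 2, 1, 2, 0, 1, 2, 0, 3, 1, 3, 0, 2, 1, 2, 0, 2], 373)], 50), ([(99, [2, 2, 2, 1, 3, 0, 3, 1, 3, 0], 4417), (75, [2, 2, 1, 2, 0, 1, 2, 0, 1, 2, 0, 2, 1, 2, 0, 2, 1, 3, 0, 3, 1, 2, 0, 1, 2, 0, 2], 173), (61, [3, 1, 2, 0, 2, 2], 135)], 2342), ([(99, [1, 3, 0, 1, 3, 0, 3, 1, 3, 0, 1, 3, 0, 3, 1, 2, 0, 1, 2, 0], 3939), (61, [1, 3, 0, 1, 3, 0, 3, 1, 3, 0, 1, 3, 0, 3, 1, 2, 0, 1, 2, 0], 228), (100, [3, 1, 2, 0, 2, 2], 14279)], 26170)],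
[([(0, [], 0), (5, [], 0), (2, [], 24400)], 0), ([(5, [], 11808), (2, [], 24400), (0, [], 0)], 62254), ([(6, [], 11808), (14, [], 2300), (3, [], 24400)], 62254), ([(7, [], 6502), (26, [], 9832), (4, [], 24400)], 3386), ([(8, [], 6502), (12, [], 2300), (1, [], 24400)], 3386), ([(9, [3, 1, 2, 0], 25440), (19, [1, 3, 0, 2], 2758), (12, [1, 2, 0], 2983)], 972), ([(9, [2, 2, 1, 2, 0, 2, 2, 1, 2, 0, 3, 1, 3, 0], 6803), (17, [3, 1, 2, 0], 4587), (5, [1, 2, 0], 4220)], 972), ([(10, [3, 1, 2, 0], 3062), (34, [2, 2, 1, 3, 0, 2, 1, 2, 0, 1, 2, 0, 2, 2, 1, 3, 0, 1, 3, 0], 850), (14, [1, 2, 0], 3655)], 16048), ([(10, [2, 2, 1, 2, 0, 2, 2, 1, 2, 0, 3, 1, 3, 0], 56982), (36, [1, 3, 0, 2], 568),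 (26, [1, 2, 0], 31284)], 16048), ([(5, [3, 3, 1, 3, 0, 3], 17204), (9, [2, 2, 1, 3, 0, 3, 3, 1, 3, 0, 1, 3, 0], 6099), (17, [2, 1, 2, 0, 2, 2], 3015)], 0), ([(7, [3, 3, 1, 3, 0, 3], 5705), (28, [2, 1, 2, 0, 2, 1, 2, 0], 41609), (31, [2, 1, 2, 0, 2, 2], 661)], 94616), ([(9, [1, 2, 0, 2], 68594), (24, [1, 2, 0, 1, 2, 0, 3, 3, 1, 2, 0, 1, 2, 0, 2, 1, 2, 0, 1, 2, 0, 2], 5011), (77, [2, 1, 2, 0, 2, 2], 366)], 0), ([(18, [2, 2, 1, 3, 0, 2, 1, 2, 0, 1, 2, 0, 2, 2, 1, 3, 0, 1, 3, 0], 3194), (50, [1, 3, 0, 2], 90), (27, [1, 2, 0], 31284)], 2565), ([(19, [2, 2, 1, 3, 0, 2, 1, 2, 0, 1, 2, 0, 2, 2, 1, 3, 0, 1, 3, 0], 3194), (17, [2, 2, 1, 2, 0, 2, 2, 1, 2, 0, 3, 1, 3, 0], 51), (6, [1, 2, 0],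 44960)], 2565), ([(20, [2, 2, 1, 3, 0, 2, 1, 2, 0, 1, 2, 0, 2, 2, 1, 3, 0, 1, 3, 0], 3082), (49, [2, 2, 1, 3, 0, 2, 1, 2, 0, 1, 2, 0, 2, 2, 1, 3, 0, 1, 3, 0], 14), (15, [1, 2, 0], 3655)], 2917), ([(21, [2, 2, 1, 3, 0, 2, 1, 2, 0, 1, 2, 0, 2, 2, 1, 3, 0, 1, 3, 0], 3082), (31, [2, 2, 1, 2, 0, 2, 2, 1, 2, 0, 3, 1, 3, 0], 844), (8, [1, 2, 0], 97291)], 2917), ([(19, [3, 3, 1, 3, 0, 3, 3, 1, 2, 0], 2679), (12, [3, 3, 1, 3, 0, 3], 3318), (9, [2, 1, 2, 0, 2, 2], 68741)], 2985), ([(16, [2, 2, 1, 3, 0, 3, 3, 1, 3, 0, 1, 3, 0], 4560), (39, [2, 1, 2, 0, 2, 1, 2, 0], 1310), (33, [2, 1, 2, 0, 2, 2], 569)], 4192), ([(21, [3, 3, 1, 3, 0, 3], 2246), (34, [2, 1, 2, 0, 2, 2], 110), (19, [3, 3, 1, 3,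 0, 3], 2401)], 2648), ([(20, [3, 3, 1, 3, 0, 3], 2246), (62, [2, 2, 1, 2, 0, 2, 1, 2, 0], 146), (47, [2, 1, 2, 0, 2, 2], 110)], 0), ([(19, [3, 3, 1, 3, 0, 3], 2401), (21, [3, 3, 1, 3, 0, 3], 2300), (34, [2, 1, 2, 0, 2, 2], 110)], 0), ([(18, [3, 3, 1, 3, 0, 3], 2401), (68, [3, 1, 3, 0, 3], 146), (49, [2, 1, 2, 0, 2, 2], 62)], 0), ([(21, [2, 1, 2, 0, 2, 2, 2, 1, 2, 0, 2, 2], 2785), (30, [], 459), (23, [2, 2, 1, 3, 0, 3, 1, 2, 0, 2, 1, 3, 0, 1, 3, 0], 2281)], 2138), ([(20, [2, 1, 2, 0, 2, 2, 2, 1, 2, 0, 2, 2], 2785), (53, [], 62), (30, [2, 2, 2, 1, 3, 0, 2, 1, 2, 0, 3, 3], 786)], 4534), ([(24, [3, 1, 2, 0, 2, 2, 2, 1, 2, 0, 1, 2, 0, 2, 1, 3, 0, 1, 3, 0, 2, 1, 2, 0], 1096), (88, [2, 1,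 2, 0, 1, 2, 0, 2, 1, 2, 0, 3, 1, 3, 0, 3, 1, 2, 0], 278), (80, [2, 2, 2, 1, 3, 0, 2, 2, 1, 3, 0, 1, 3, 0, 3, 1, 2, 0, 1, 2, 0, 2], 4)], 1115), ([(20, [3, 1, 2, 0, 2, 1, 2, 0, 2, 1, 3, 0], 4670), (59, [1, 2, 0, 1, 2, 0, 3, 3, 1, 2, 0, 1, 2, 0, 1, 2, 0, 2, 1, 3, 0, 3], 147), (58, [2, 1, 2, 0, 2, 2], 130)], 4816), ([(28, [1, 3, 0, 2], 27810), (31, [3, 1, 2, 0], 752), (7, [1, 2, 0], 93538)], 40531), ([(29, [1, 3, 0, 2], 16403), (47, [2, 2, 1, 3, 0, 2, 1, 2, 0, 1, 2, 0, 2, 2, 1, 3, 0, 1, 3, 0], 102), (13, [1, 2, 0], 3811)], 41954), ([(28, [2, 1, 2, 0, 2, 2], 77348), (39, [2, 1, 2, 0, 2, 2], 1234), (36, [2, 1, 2, 0, 2, 2], 1216)], 0), ([(29, [2, 1, 2, 0, 2, 2], 53615), (69, [2, 2, 1, 2,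 0, 2, 1, 2, 0], 191), (50, [2, 1, 2, 0, 2, 2], 14)], 0), ([(34, [2, 1, 2, 0, 2, 1, 2, 0], 729), (14, [3, 3, 1, 3, 0, 3], 2569), (10, [2, 1, 2, 0, 2, 2], 31341)], 0), ([(35, [2, 1, 2, 0, 2, 1, 2, 0], 854), (49, [3, 3, 1, 3, 0, 3, 3, 1, 2, 0], 230), (22, [2, 1, 3, 0, 2, 1, 2, 0, 2, 1, 3, 0], 2661)], 981), ([(37, [2, 1, 2, 0, 2, 1, 2, 0], 754), (47, [3, 3, 1, 3, 0, 3, 3, 1, 2, 0], 14), (16, [2, 1, 2, 0, 2, 2], 3318)], 1337), ([(38, [2, 1, 2, 0, 2, 1, 2, 0], 800), (46, [2, 1, 2, 0, 2, 1, 2, 0], 146), (32, [2, 1, 2, 0, 2, 2], 840)], 752), ([(34, [2, 1, 2, 0, 2, 2], 1194), (19, [3, 3, 1, 3, 0, 3], 2401), (21, [3, 3, 1, 3, 0, 3], 2300)], 459), ([(39, [2, 1, 2, 0, 2, 2], 157), (36, [2, 1,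 2, 0, 2, 2], 1216), (28, [2, 1, 2, 0, 2, 2], 77348)], 569), ([(38, [2, 1, 2, 0, 2, 2], 157), (68, [2, 2, 1, 2, 0, 2, 1, 2, 0], 191), (53, [2, 1, 2, 0, 2, 2], 228)], 0), ([(37, [3, 3, 1, 3, 0, 3], 178), (69, [1, 2, 0, 3, 3, 1, 3, 0, 3], 110), (46, [2, 1, 2, 0, 2, 2], 146)], 0), ([(36, [2, 1, 2, 0, 2, 2], 157), (28, [2, 1, 2, 0, 2, 2], 77348), (39, [2, 1, 2, 0, 2, 2], 1234)], 668), ([(35, [2, 1, 2, 0, 2, 2], 157), (62, [3, 1, 3, 0, 3], 74), (51, [2, 1, 2, 0, 2, 2], 191)], 0), ([(44, [2, 1, 2, 0, 2, 1, 2, 0, 3, 3, 1, 3, 0, 3, 3, 1, 2, 0], 742), (73, [1, 3, 0, 2, 1, 2, 0, 2, 2, 1, 2, 0, 2, 2, 1, 3, 0, 1, 3, 0, 2], 214), (56, [2, 1, 2, 0, 2, 2], 170)], 1341), ([(44, [1, 2, 0, 1, 2, 0,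 2, 1, 2, 0, 1, 2, 0, 2, 1, 3, 0, 3, 1, 3, 0, 1, 3, 0, 2], 717), (54, [1, 2, 0, 2, 2, 1, 3, 0, 2, 2, 1, 2, 0, 1, 2, 0, 2, 1, 3, 0, 2, 1, 2, 0], 169), (82, [2, 1, 2, 0, 2, 2], 180)], 0), ([(45, [2, 1, 2, 0, 2, 1, 2, 0, 3, 3, 1, 3, 0, 3, 3, 1, 2, 0], 948), (94, [2, 2, 1, 3, 0, 3, 1, 2, 0, 2, 2, 1, 2, 0, 2, 1, 2, 0, 1, 2, 0, 2], 98), (43, [1, 2, 0, 2, 1, 2, 0, 3, 1, 3, 0, 2, 2, 2, 1, 3, 0], 1061)], 304), ([(45, [1, 2, 0, 1, 2, 0, 2, 1, 2, 0, 1, 2, 0, 2, 1, 3, 0, 3, 1, 3, 0, 1, 3, 0, 2], 710), (95, [3, 3, 1, 3, 0, 2, 2, 1, 2, 0, 1, 2, 0, 2, 1, 2, 0, 1, 2, 0], 157), (87, [3, 1, 2, 0, 2, 1, 3, 0, 2, 2, 1, 3, 0, 3, 1, 3, 0, 2, 1, 2, 0], 54)], 770), ([(40, [1, 2, 0, 1, 2, 0, 3, 1, 3, 0, 1,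 3, 0, 3, 3, 1, 3, 0], 1024), (89, [1, 2, 0, 3, 3, 1, 2, 0, 2, 2, 1, 2, 0, 2, 2, 2, 1, 2, 0, 2, 1, 2, 0], 276), (67, [2, 1, 3, 0, 3, 1, 2, 0, 2, 1, 3, 0, 2, 1, 2, 0, 2, 2], 177)], 537), ([(42, [1, 2, 0, 1, 2, 0, 3, 1, 3, 0, 1, 3, 0, 3, 3, 1, 3, 0], 827), (91, [2, 2, 1, 2, 0, 1, 2, 0, 2, 1, 3, 0, 3, 3, 1, 2, 0, 3, 1, 3, 0, 1, 3, 0], 481), (94, [2, 1, 2, 0, 2, 2], 116)], 0), ([(68, [1, 2, 0, 3, 3, 1, 3, 0, 3], 110), (49, [3, 3, 1, 3, 0, 3], 146), (18, [2, 1, 2, 0, 2, 2], 701)], 0), ([(69, [1, 2, 0, 3, 3, 1, 3, 0, 3], 110), (46, [2, 1, 2, 0, 2, 2], 146), (37, [3, 3, 1, 3, 0, 3], 178)], 146), ([(62, [1, 2, 0, 3, 3, 1, 3, 0, 3], 62), (47, [3, 3, 1, 3, 0, 3], 146), (20, [2, 1, 2, 0, 2, 2],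 1788)], 0), ([(61, [1, 2, 0, 3, 3, 1, 3, 0, 3], 62), (99, [2, 2, 1, 2, 0, 2, 1, 2, 0], 13573), (48, [3, 3, 1, 3, 0, 3], 146)], 132), ([(68, [2, 2, 1, 2, 0, 2, 1, 2, 0], 191), (53, [2, 1, 2, 0, 2, 2], 228), (38, [2, 1, 2, 0, 2, 2], 157)], 0), ([(69, [2, 2, 1, 2, 0, 2, 1, 2, 0], 191), (50, [2, 1, 2, 0, 2, 2], 14), (29, [2, 1, 2, 0, 2, 2], 53615)], 0), ([(62, [3, 1, 3, 0, 3], 228), (51, [2, 1, 2, 0, 2, 2], 191), (35, [2, 1, 2, 0, 2, 2], 157)], 48), ([(61, [3, 1, 3, 0, 3], 228), (99, [3, 1, 3, 0, 3], 9678), (52, [2, 1, 2, 0, 2, 2], 228)], 0), ([(66, [1, 3, 0, 1, 3, 0, 2, 1, 2, 0, 1, 2, 0, 2, 2], 75), (96, [2, 2, 1, 3, 0, 3, 1, 2, 0, 2, 1, 2, 0, 1, 2, 0, 2, 1, 3, 0, 2], 323), (92, [2,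 1, 2, 0, 2, 2], 108)], 0), ([(67, [1, 3, 0, 1, 3, 0, 2, 1, 2, 0, 1, 2, 0, 2, 2], 75), (40, [2, 1, 3, 0, 1, 3, 0, 2, 1, 2, 0, 1, 2, 0, 3, 3, 1, 3, 0], 771), (89, [2, 1, 2, 0, 2, 2], 496)], 0), ([(73, [3, 3, 1, 2, 0, 2, 2, 1, 2, 0, 3, 3, 1, 2, 0, 1, 2, 0, 1, 2, 0, 2], 24), (67, [3, 1, 3, 0, 1, 3, 0, 2, 1, 2, 0, 3, 1, 3, 0, 3, 3, 1, 2, 0, 1, 2, 0, 1, 2, 0, 2], 159), (41, [1, 2, 0, 2, 1, 2, 0, 3, 1, 3, 0, 2, 2, 2, 1, 3, 0], 1036)], 31), ([(67, [1, 2, 0, 3, 3, 1, 2, 0, 3, 1, 3, 0, 2, 2, 2, 1, 3, 0, 3], 182), (34, [3, 1, 2, 0, 2, 1, 2, 0, 2, 1, 3, 0], 413), (25, [2, 1, 2, 0, 2, 2], 4498)], 184), ([(60, [2, 1, 2, 0, 1, 2, 0, 1, 2, 0, 3, 3, 1, 2, 0], 185), (85, [1, 2, 0, 1, 2, 0, 2, 1, 2,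 0, 3, 3, 1, 2, 0, 3], 28), (84, [2, 1, 3, 0, 3, 1, 2, 0, 3, 3, 1, 3, 0, 3, 1, 2, 0, 3], 447)], 5), ([(60, [2, 1, 2, 0, 2, 1, 2, 0, 3, 3, 1, 3, 0, 3, 3, 1, 2, 0], 10), (88, [2, 1, 2, 0, 2, 1, 3, 0, 3, 1, 2, 0, 1, 2, 0, 1, 2, 0, 2, 2, 1, 2, 0], 262), (90, [2, 1, 2, 0, 2, 2], 451)], 146), ([(59, [2, 1, 2, 0, 2, 1, 2, 0, 3, 3, 1, 3, 0, 3, 3, 1, 2, 0], 10), (59, [2, 1, 2, 0, 2, 2, 1, 3, 0, 3, 1, 2, 0, 1, 2, 0, 1, 2, 0, 2, 1, 2, 0], 102), (59, [2, 2, 1, 2, 0, 2, 1, 3, 0, 2, 1, 2, 0, 2, 2, 2], 102)], 208), ([(74, [2, 2, 1, 2, 0, 3, 1, 3, 0, 2, 1, 2, 0, 2, 1, 3, 0, 2, 2], 155), (73, [3, 3, 1, 2, 0, 2, 1, 3, 0, 3, 3, 1, 2, 0, 2, 2, 1, 2, 0, 1, 2, 0, 3], 10), (68, [2, 1, 3, 0, 1, 3, 0, 3, 3],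 221)], 165), ([(75, [2, 2, 1, 2, 0, 3, 1, 3, 0, 2, 1, 2, 0, 2, 1, 3, 0, 2, 2], 155), (61, [3, 1, 3, 0, 2, 2, 1, 2, 0, 2, 1, 3, 0, 1, 3, 0, 3, 1, 3, 0], 164), (99, [1, 3, 0, 3, 3], 15900)], 165), ([(73, [2, 1, 3, 0, 1, 3, 0, 2, 2, 1, 3, 0, 2, 1, 2, 0, 2, 1, 3, 0, 3], 156), (73, [3, 1, 2, 0, 1, 2, 0, 1, 2, 0, 2, 2, 1, 2, 0, 3, 1, 3, 0, 2, 1, 2, 0, 2, 2], 64), (64, [2, 1, 2, 0, 2, 1, 3, 0, 1, 3, 0, 3, 1, 2, 0, 2, 1, 3, 0, 3], 95)], 211), ([(73, [2, 2, 2, 1, 2, 0, 3, 3, 1, 2, 0, 2, 1, 3, 0, 3, 3], 56), (54, [1, 2, 0, 2, 2, 2, 1, 2, 0, 3, 3, 1, 2, 0, 2, 2, 1, 3, 0, 1, 3, 0], 234), (81, [2, 1, 2, 0, 2, 2], 29)], 0), ([(71, [3, 1, 2, 0, 2, 1, 2, 0, 1, 2, 0, 1, 2, 0, 3], 102), (95, [1, 2,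 0, 1, 2, 0, 1, 2, 0, 2, 2, 1, 2, 0, 2, 1, 3, 0, 3, 1, 2, 0, 2, 1, 2, 0], 161), (86, [2, 2, 1, 2, 0, 2, 1, 3, 0, 3, 1, 2, 0, 1, 2, 0, 2, 1, 3, 0, 2], 37)], 104), ([(54, [2, 1, 2, 0, 2, 1, 2, 0, 3, 3, 1, 3, 0, 3, 3, 1, 2, 0], 122), (82, [1, 3, 0, 2, 2, 2, 1, 2, 0, 2], 44), (44, [1, 2, 0, 1, 2, 0, 3, 1, 3, 0, 1, 3, 0, 3, 1, 2, 0, 2, 1, 2, 0, 2], 458)], 177), ([(55, [2, 1, 2, 0, 2, 1, 2, 0, 3, 3, 1, 3, 0, 3, 3, 1, 2, 0], 122), (96, [3, 3, 1, 3, 0, 1, 3, 0, 2, 1, 2, 0, 1, 2, 0, 3], 518), (97, [2, 1, 2, 0, 2, 2], 269)], 0), ([(73, [1, 3, 0, 2, 1, 2, 0, 1, 2, 0, 2, 1, 3, 0, 3, 1, 2, 0, 2, 2, 1, 3, 0], 81), (72, [2, 1, 3, 0, 3, 1, 3, 0, 1, 3, 0, 3, 1, 2, 0, 2, 1, 3, 0], 98), (69, [1, 3, 0,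 3, 3], 187)], 94), ([(72, [1, 3, 0, 2, 1, 2, 0, 1, 2, 0, 2, 1, 3, 0, 3, 1, 2, 0, 2, 2, 1, 3, 0], 81), (75, [1, 3, 0, 1, 3, 0, 2, 2, 1, 2, 0, 3, 3, 1, 2, 0, 1, 2, 0, 1, 2, 0], 129), (62, [1, 2, 0, 1, 2, 0, 2, 2], 109)], 146), ([(60, [1, 3, 0, 1, 3, 0, 2, 1, 2, 0, 1, 2, 0, 2, 2], 94), (91, [2, 1, 3, 0, 3, 1, 2, 0, 1, 2, 0, 2, 2, 1, 3, 0, 2, 2], 348), (93, [1, 2, 0, 1, 2, 0, 3, 1, 3, 0, 1, 3, 0, 3, 1, 2, 0, 2, 1, 2, 0, 2], 360)], 56), ([(59, [1, 3, 0, 1, 3, 0, 2, 1, 2, 0, 1, 2, 0, 2, 2], 94), (74, [2, 1, 2, 0, 2, 2, 2, 1, 2, 0, 2, 1, 3, 0, 2, 2, 1, 2, 0], 30), (70, [1, 2, 0, 1, 2, 0, 2, 1, 2, 0, 1, 2, 0, 3, 1, 3, 0, 1, 3, 0, 3, 1, 2, 0, 1, 2, 0, 1, 2, 0, 2], 208)], 146), ([(54, [1, 2,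 0, 3, 1, 3, 0, 2, 1, 2, 0, 1, 2, 0, 2, 1, 3, 0], 173), (90, [3, 1, 3, 0, 1, 3, 0, 2, 2, 1, 2, 0, 3, 1, 3, 0, 1, 3, 0, 2, 2, 1, 2, 0], 468), (72, [2, 1, 2, 0, 1, 2, 0, 1, 2, 0, 3, 1, 3, 0, 1, 3, 0, 3, 3], 99)], 40), ([(55, [1, 2, 0, 3, 1, 3, 0, 2, 1, 2, 0, 1, 2, 0, 2, 1, 3, 0], 173), (92, [2, 1, 2, 0, 3, 3, 1, 2, 0, 1, 2, 0, 1, 2, 0, 2, 1, 3, 0, 3, 1, 3, 0], 633), (73, [2, 1, 2, 0, 3, 3, 1, 2, 0, 2, 2, 1, 3, 0, 1, 3, 0, 2, 1, 2, 0], 108)], 34), ([(59, [1, 2, 0, 3, 1, 3, 0, 2, 1, 2, 0, 1, 2, 0, 2, 1, 3, 0], 126), (75, [2, 1, 3, 0, 2, 2, 2, 1, 2, 0, 1, 2, 0, 2, 2], 231), (74, [1, 2, 0, 2, 1, 2, 0, 3, 1, 3, 0, 3, 1, 2, 0, 2, 2, 1, 3, 0, 3], 18)], 68), ([(60, [1, 2, 0, 3, 1, 3, 0, 2, 1,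 2, 0, 1, 2, 0, 2, 1, 3, 0], 126), (84, [2, 1, 3, 0, 1, 3, 0, 2, 1, 2, 0, 1, 2, 0, 3, 3, 1, 3, 0, 1, 3, 0], 138), (75, [2, 1, 2, 0, 1, 2, 0, 3, 3, 1, 2, 0, 3, 1, 3, 0, 2, 1, 2, 0, 1, 2, 0, 2, 1, 3, 0], 12)], 159), ([(80, [1, 2, 0, 1, 2, 0, 3, 3, 1, 2, 0, 1, 2, 0, 2, 1, 2, 0, 1, 2, 0, 2], 93), (17, [1, 2, 0, 2], 4109), (11, [2, 1, 2, 0, 2, 2], 13022)], 0), ([(81, [1, 2, 0, 1, 2, 0, 3, 3, 1, 2, 0, 1, 2, 0, 2, 1, 2, 0, 1, 2, 0, 2], 133), (65, [1, 3, 0, 3, 1, 3, 0, 2, 1, 2, 0, 2, 2, 1, 2, 0, 3, 1, 3, 0, 3, 1, 2, 0], 63), (78, [2, 1, 3, 0, 3, 1, 2, 0, 2, 2], 75)], 49), ([(84, [3, 1, 2, 0, 3, 3, 1, 3, 0, 1, 3, 0, 3], 24), (57, [2, 2, 2, 1, 3, 0, 3, 1, 2, 0, 3, 3, 1, 3, 0, 2, 1, 2, 0], 226),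 (79, [1, 2, 0, 1, 2, 0, 3], 444)], 144), ([(85, [3, 1, 2, 0, 3, 3, 1, 3, 0, 1, 3, 0, 3], 24), (83, [2, 2, 1, 3, 0, 2, 1, 2, 0, 3, 1, 3, 0], 198), (76, [1, 2, 0, 2, 1, 3, 0, 2, 2], 266)], 109), ([(89, [1, 3, 0, 2, 2, 1, 2, 0, 3, 3, 1, 2, 0, 1, 2, 0, 2, 1, 2, 0, 2, 2, 1, 3, 0], 13), (73, [1, 2, 0, 2, 2, 1, 3, 0, 2, 2, 1, 3, 0, 3, 3, 1, 3, 0, 2, 2, 2], 110), (63, [2, 1, 2, 0, 2, 2], 217)], 462), ([(88, [1, 2, 0, 2, 2, 2, 1, 2, 0, 3, 3, 1, 2, 0, 2, 2, 1, 3, 0, 1, 3, 0], 249), (80, [2, 1, 2, 0, 2, 1, 3, 0, 2, 2, 1, 3, 0, 3, 3, 1, 3, 0], 19), (24, [2, 1, 2, 0, 2, 2], 4838)], 300), ([(88, [1, 2, 0, 2, 2, 1, 3, 0, 2, 2, 1, 2, 0, 1, 2, 0, 2, 1, 3, 0, 2, 1, 2, 0], 121), (88, [1, 2, 0, 3, 3,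 1, 3, 0, 2, 1, 2, 0, 1, 2, 0], 345), (83, [1, 3, 0, 1, 3, 0, 3, 1, 2, 0, 2, 1, 2, 0, 1, 2, 0, 1, 2, 0, 3, 3], 333)], 411), ([(89, [1, 2, 0, 3, 3, 1, 2, 0, 1, 2, 0, 2, 1, 2, 0, 2, 2], 428), (67, [2, 2, 1, 3, 0, 3, 1, 2, 0, 2, 1, 3, 0, 1, 3, 0, 3, 1, 3, 0], 104), (40, [2, 1, 2, 0, 2, 2], 936)], 0), ([(91, [2, 2, 2, 1, 2, 0, 2, 1, 2, 0, 1, 2, 0, 2, 1, 3, 0, 1, 3, 0, 3, 1, 2, 0, 2], 191), (95, [1, 2, 0, 2, 1, 2, 0, 2, 1, 3, 0, 2, 2, 1, 3, 0, 2, 2, 1, 2, 0], 536), (85, [1, 2, 0, 2, 1, 3, 0, 2, 2, 1, 2, 0, 2, 2, 1, 2, 0, 1, 2, 0, 1, 2, 0, 2], 207)], 79), ([(90, [2, 2, 2, 1, 2, 0, 2, 1, 2, 0, 1, 2, 0, 2, 1, 3, 0, 1, 3, 0, 3, 1, 2, 0, 2], 191), (74, [2, 1, 3, 0, 3, 3, 1, 2, 0, 3, 1, 3, 0,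 3, 1, 2, 0, 2, 2], 82), (57, [2, 1, 3, 0, 3, 3, 1, 3, 0, 3], 35)], 286), ([(91, [1, 2, 0, 1, 2, 0, 1, 2, 0, 2, 2, 1, 3, 0, 1, 3, 0, 2, 2, 1, 2, 0, 2, 2], 93), (94, [2, 1, 2, 0, 1, 2, 0, 3, 1, 3, 0, 1, 3, 0, 2, 2, 1, 2, 0, 1, 2, 0], 360), (42, [2, 1, 3, 0, 2, 2, 1, 3, 0, 2, 1, 2, 0, 2, 1, 3, 0, 2], 1039)], 402), ([(90, [1, 2, 0, 1, 2, 0, 2, 2, 1, 2, 0, 1, 2, 0, 2, 1, 3, 0, 2, 2, 1, 2, 0], 107), (75, [2, 1, 2, 0, 1, 2, 0, 2, 1, 2, 0, 1, 2, 0, 2, 2, 1, 2, 0, 2, 1, 3, 0, 2], 81), (65, [2, 2, 2, 1, 3, 0, 1, 3, 0, 3, 1, 2, 0, 2, 2, 1, 3, 0], 112)], 170), ([(82, [2, 1, 2, 0, 3, 3, 1, 2, 0, 2, 1, 2, 0, 1, 2, 0, 2, 2], 222), (44, [3, 1, 2, 0, 1, 2, 0, 2, 2, 1, 3, 0, 2, 1, 2, 0, 2, 1, 2, 0,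 1, 2, 0], 535), (54, [2, 1, 2, 0, 2, 2], 130)], 26), ([(83, [2, 1, 3, 0, 1, 3, 0, 2, 1, 2, 0, 1, 2, 0, 3, 3, 1, 3, 0], 326), (88, [2, 2, 1, 3, 0, 1, 3, 0, 3, 3, 1, 2, 0, 1, 2, 0, 2, 1, 2, 0, 2, 2], 305), (88, [2, 2, 1, 3, 0, 2, 2, 1, 2, 0, 1, 2, 0, 2, 1, 2, 0, 3], 358)], 194), ([(89, [2, 1, 2, 0, 1, 2, 0, 3, 3, 1, 2, 0, 3, 1, 3, 0, 2, 1, 2, 0], 262), (55, [2, 1, 2, 0, 1, 2, 0, 3, 1, 3, 0, 2, 1, 2, 0, 2, 1, 2, 0], 18), (95, [1, 2, 0, 2, 1, 2, 0, 1, 2, 0, 1, 2, 0, 2, 1, 2, 0, 2, 1, 3, 0, 2, 2], 638)], 49), ([(88, [2, 1, 2, 0, 1, 2, 0, 3, 3, 1, 2, 0, 3, 1, 3, 0, 2, 1, 2, 0], 262), (90, [2, 1, 2, 0, 2, 1, 2, 0, 3, 3, 1, 3, 0, 3, 3, 1, 2, 0], 451), (60, [2, 1, 2, 0, 2, 2], 10)], 0), ([(97,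 [3, 3, 1, 3, 0, 3, 1, 2, 0, 3, 1, 3, 0, 1, 3, 0, 2, 2], 583), (72, [3, 3, 1, 2, 0, 2, 1, 2, 0, 1, 2, 0, 2, 1, 3, 0, 3, 3, 1, 2, 0, 3], 11), (55, [2, 2, 1, 3, 0, 2, 2, 1, 2, 0, 1, 2, 0, 2, 1, 2, 0, 3], 191)], 379), ([(94, [2, 1, 3, 0, 2, 1, 2, 0, 2, 1, 3, 0, 3, 1, 3, 0, 1, 3, 0], 67), (43, [2, 1, 3, 0, 3, 1, 2, 0, 2, 2, 1, 2, 0, 2, 1, 3, 0, 3, 1, 2, 0, 3], 435), (45, [2, 1, 2, 0, 2, 2], 75)], 0), ([(95, [1, 3, 0, 2, 2, 1, 3, 0, 2, 1, 2, 0, 3, 1, 3, 0, 3, 3, 1, 2, 0], 381), (90, [3, 1, 2, 0, 3, 3, 1, 3, 0, 2, 2, 1, 3, 0, 2, 1, 2, 0, 2, 2], 469), (71, [2, 1, 3, 0, 3, 1, 2, 0, 2, 1, 3, 0, 2, 1, 2, 0, 2, 2], 75)], 411), ([(93, [1, 2, 0, 2, 1, 2, 0, 1, 2, 0, 3, 3, 1, 3, 0, 3, 3, 1, 3, 0],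 250), (60, [1, 2, 0, 3, 3, 1, 2, 0, 1, 2, 0, 2, 1, 2, 0, 2, 2, 2, 1, 2, 0, 3], 27), (91, [3, 1, 3, 0, 1, 3, 0, 3, 1, 3, 0, 2], 452)], 297), ([(96, [3, 1, 2, 0, 2, 1, 3, 0, 3, 1, 2, 0, 2, 1, 2, 0, 3, 1, 3, 0, 1, 3, 0, 2], 72), (92, [2, 1, 2, 0, 2, 1, 2, 0, 3, 3, 1, 3, 0, 3, 3, 1, 2, 0], 213), (66, [2, 1, 2, 0, 2, 2], 122)], 522), ([(97, [3, 1, 2, 0, 2, 1, 3, 0, 3, 1, 2, 0, 2, 1, 2, 0, 3, 1, 3, 0, 1, 3, 0, 2], 72), (55, [1, 2, 0, 3, 3, 1, 3, 0, 2, 1, 2, 0, 1, 2, 0, 2, 1, 2, 0, 2, 2], 97), (96, [1, 2, 0, 1, 2, 0, 2, 1, 2, 0, 1, 2, 0, 3, 1, 3, 0, 1, 3, 0, 3, 1, 2, 0, 1, 2, 0, 1, 2, 0, 2], 46)], 517), ([(92, [2, 1, 3, 0, 1, 3, 0, 3, 1, 3, 0, 1, 3, 0, 3, 1, 2, 0, 2, 1, 2, 0, 1, 2, 0, 2],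 434), (55, [1, 2, 0, 2, 1, 3, 0, 2, 1, 2, 0, 3, 1, 3, 0, 1, 3, 0, 2, 2, 1, 3, 0, 2], 36), (98, [1, 2, 0, 2, 2, 1, 2, 0, 2, 1, 2, 0, 3, 3, 1, 3, 0, 1, 3, 0, 3], 565)], 535), ([(99, [3, 1, 3, 0, 2, 2, 1, 2, 0, 2, 1, 3, 0, 1, 3, 0, 3, 1, 3, 0], 30145), (74, [1, 3, 0, 2, 2, 1, 3, 0, 3, 3, 1, 2, 0, 3, 1, 3, 0, 2], 121), (61, [1, 3, 0, 3, 3], 112)], 2611), ([(100, [2, 1, 2, 0, 2, 2], 23286), (100, [2, 1, 2, 0, 2, 2], 18271), (100, [2, 1, 2, 0, 2, 2], 18271)], 26170)],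
[([(0, [], 0), (5, [], 0), (2, [], 24400)], 0), ([(5, [], 970), (2, [], 24400), (0, [], 0)], 12854), ([(6, [], 970), (14, [], 2300), (3, [], 24400)], 12854), ([(7, [], 9811), (26, [], 9832), (4, [], 24400)], 44266), ([(8, [], 9811), (12, [], 2300), (1, [], 24400)], 44266), ([(9, [2, 2, 1, 2, 0, 1, 2, 0, 2, 1, 2, 0, 1, 2, 0, 3], 35655), (19, [1, 2, 0, 1, 2, 0, 2, 2, 1, 2, 0, 2, 2, 1, 3, 0], 2702), (12, [1, 2, 0, 1, 2, 0, 1, 2, 0], 3941)], 994), ([(9, [1, 2, 0, 1, 2, 0, 2, 1, 3, 0, 3], 89400), (17, [2, 2, 1, 2, 0, 1, 2, 0, 2, 1, 2, 0, 1, 2, 0, 3], 4920), (5, [1, 2, 0, 1, 2, 0, 1, 2, 0], 34689)], 994), ([(10, [2, 2, 1, 2, 0, 1, 2, 0, 2, 1, 2, 0, 1, 2, 0, 3], 35712), (34, [2, 2, 1, 2,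 0, 1, 2, 0, 2, 1, 2, 0, 1, 2, 0, 2, 2], 807), (14, [1, 2, 0, 1, 2, 0, 1, 2, 0], 3310)], 994), ([(10, [1, 2, 0, 1, 2, 0, 2, 1, 3, 0, 3], 66606), (36, [1, 2, 0, 1, 2, 0, 2, 2, 1, 2, 0, 2, 2, 1, 3, 0], 625), (26, [1, 2, 0, 1, 2, 0, 1, 2, 0], 30712)], 994), ([(11, [1, 3, 0, 3, 1, 2, 0, 1, 2, 0, 1, 2, 0, 3], 118852), (80, [2, 1, 3, 0, 2, 1, 2, 0, 2, 1, 2, 0, 1, 2, 0, 3], 139), (17, [1, 3, 0, 2, 1, 2, 0, 1, 2, 0], 4307)], 0), ([(11, [2, 1, 2, 0, 1, 2, 0, 2, 1, 3, 0, 2, 2, 1, 3, 0], 58115), (82, [2, 1, 3, 0, 2, 1, 2, 0, 2, 1, 2, 0, 1, 2, 0, 3], 193), (31, [1, 3, 0, 2, 1, 2, 0, 1, 2, 0], 1075)], 94616), ([(10, [2, 2, 1, 3, 0, 1, 3, 0, 2, 2, 1, 2, 0], 102155), (40, [2, 1, 2, 0, 2, 2, 1, 3,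 0, 2, 1, 2, 0, 2, 2, 1, 3, 0], 1036), (77, [1, 3, 0, 2, 1, 2, 0, 1, 2, 0], 278)], 0), ([(18, [2, 2, 1, 2, 0, 1, 2, 0, 2, 1, 2, 0, 1, 2, 0, 2, 2], 3059), (50, [1, 2, 0, 1, 2, 0, 2, 2, 1, 2, 0, 2, 2, 1, 3, 0], 91), (27, [1, 2, 0, 1, 2, 0, 1, 2, 0], 30712)], 2569), ([(19, [2, 2, 1, 2, 0, 1, 2, 0, 2, 1, 2, 0, 1, 2, 0, 2, 2], 3059), (17, [1, 2, 0, 1, 2, 0, 2, 1, 3, 0, 3], 1009), (6, [1, 2, 0, 1, 2, 0, 1, 2, 0], 77304)], 2569), ([(20, [2, 2, 1, 2, 0, 1, 2, 0, 2, 1, 2, 0, 1, 2, 0, 2, 2], 4200), (49, [2, 2, 1, 2, 0, 1, 2, 0, 2, 1, 2, 0, 1, 2, 0, 2, 2], 14), (15, [1, 2, 0, 1, 2, 0, 1, 2, 0], 3310)], 2569), ([(21, [2, 2, 1, 2, 0, 1, 2, 0, 2, 1, 2, 0, 1, 2, 0, 2, 2], 4200), (31, [1, 2, 0, 1,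 2, 0, 2, 1, 3, 0, 3], 1042), (8, [1, 2, 0, 1, 2, 0, 1, 2, 0], 24397)], 2569), ([(24, [2, 1, 3, 0, 2, 1, 2, 0, 2, 1, 2, 0, 1, 2, 0, 3], 3503), (77, [1, 3, 0, 3, 1, 2, 0, 1, 2, 0, 1, 2, 0, 3], 318), (9, [1, 3, 0, 2, 1, 2, 0, 1, 2, 0], 87868)], 2985), ([(24, [3, 3, 1, 2, 0, 3, 3, 1, 2, 0, 2], 1861), (87, [2, 1, 3, 0, 3, 1, 3, 0, 2, 1, 2, 0, 2, 2, 1, 3, 0, 1, 3, 0, 3], 137), (33, [1, 3, 0, 2, 1, 2, 0, 1, 2, 0], 1010)], 4192), ([(24, [2, 1, 2, 0, 3, 1, 3, 0, 3, 3, 1, 3, 0, 1, 3, 0], 1064), (80, [2, 1, 3, 0, 1, 3, 0, 2, 2, 1, 2, 0, 1, 2, 0, 2, 1, 2, 0, 3, 1, 3, 0], 105), (19, [2, 2, 1, 3, 0, 2, 1, 2, 0, 1, 2, 0, 2, 2], 4868)], 3746), ([(24, [2, 2, 1, 2, 0, 3, 3, 1, 2, 0, 3, 3, 1, 3, 0,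 2, 1, 2, 0], 993), (89, [1, 3, 0, 3, 3, 1, 3, 0, 2, 1, 2, 0, 2, 2, 2, 1, 3, 0, 3], 324), (47, [1, 3, 0, 2, 1, 2, 0, 1, 2, 0], 135)], 0), ([(25, [1, 3, 0, 3, 3, 1, 3, 0, 2, 1, 2, 0, 2, 2, 2, 1, 3, 0, 3], 4376), (67, [2, 2, 2, 1, 3, 0, 1, 3, 0, 3, 1, 2, 0, 1, 2, 0, 2, 1, 3, 0, 3, 1, 3, 0], 146), (34, [1, 3, 0, 2, 1, 2, 0, 1, 2, 0], 525)], 0), ([(25, [1, 2, 0, 1, 2, 0, 2, 2, 1, 2, 0, 2, 1, 2, 0, 3, 1, 3, 0], 3341), (59, [3, 1, 2, 0, 2, 2, 1, 3, 0, 3, 1, 2, 0, 2, 2, 1, 3, 0, 3], 54), (49, [1, 3, 0, 2, 1, 2, 0, 1, 2, 0], 197)], 0), ([(25, [1, 3, 0, 3, 3, 1, 2, 0, 1, 2, 0, 3, 3], 1214), (58, [1, 2, 0, 1, 2, 0, 3, 1, 3, 0, 2, 1, 2, 0, 1, 2, 0, 2, 1, 2, 0, 1, 2, 0], 27), (23, [2, 2, 1, 3,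 0, 3, 1, 2, 0, 2], 119)], 888), ([(25, [2, 1, 2, 0, 1, 2, 0, 1, 2, 0, 2, 1, 2, 0, 2, 1, 3, 0], 1405), (56, [1, 2, 0, 3, 3, 1, 3, 0, 3, 1, 2, 0, 2, 2, 2, 1, 3, 0], 151), (30, [2, 2, 2, 1, 2, 0, 3, 3, 1, 2, 0, 2], 1298)], 4983), ([(18, [2, 2, 1, 2, 0, 2, 1, 3, 0, 3, 1, 2, 0, 2, 1, 3, 0], 2212), (54, [2, 1, 2, 0, 2, 2, 1, 3, 0, 2, 1, 2, 0, 2, 2, 1, 3, 0], 142), (80, [2, 2, 1, 3, 0, 2, 2, 2, 1, 2, 0, 2, 2], 152)], 1073), ([(25, [2, 2, 1, 2, 0, 2, 1, 2, 0, 1, 2, 0, 1, 2, 0, 3, 1, 3, 0], 2227), (74, [3, 1, 2, 0, 2, 1, 2, 0, 1, 2, 0, 3, 1, 3, 0, 1, 3, 0, 2, 1, 2, 0, 3, 1, 3, 0, 1, 3, 0], 171), (58, [1, 3, 0, 2, 1, 2, 0, 1, 2, 0], 155)], 4816), ([(28, [1, 2, 0, 1, 2, 0, 2, 2, 1, 2, 0, 2,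 2, 1, 3, 0], 48239), (31, [2, 2, 1, 2, 0, 1, 2, 0, 2, 1, 2, 0, 1, 2, 0, 3], 928), (7, [1, 2, 0, 1, 2, 0, 1, 2, 0], 26344)], 40539), ([(29, [1, 2, 0, 1, 2, 0, 2, 2, 1, 2, 0, 2, 2, 1, 3, 0], 48239), (47, [2, 2, 1, 2, 0, 1, 2, 0, 2, 1, 2, 0, 1, 2, 0, 2, 2], 91), (13, [1, 2, 0, 1, 2, 0, 1, 2, 0], 2669)], 40539), ([(29, [2, 2, 1, 2, 0, 2, 1, 3, 0, 3, 3, 1, 2, 0], 59633), (67, [2, 2, 1, 3, 0, 3, 1, 2, 0, 2, 2, 1, 3, 0, 3], 119), (36, [1, 3, 0, 2, 1, 2, 0, 1, 2, 0], 392)], 0), ([(28, [2, 2, 1, 2, 0, 2, 1, 3, 0, 3, 3, 1, 2, 0], 77702), (44, [1, 3, 0, 1, 3, 0, 3, 3, 1, 2, 0, 1, 2, 0, 3, 3], 861), (50, [1, 3, 0, 2, 1, 2, 0, 1, 2, 0], 116)], 0), ([(40, [2, 1, 3, 0, 2, 1, 2, 0, 2, 1, 2, 0, 1,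 2, 0, 3], 892), (77, [2, 1, 2, 0, 1, 2, 0, 2, 1, 3, 0, 2, 2, 1, 3, 0], 323), (10, [1, 3, 0, 2, 1, 2, 0, 1, 2, 0], 46503)], 0), ([(41, [2, 1, 3, 0, 2, 1, 2, 0, 2, 1, 2, 0, 1, 2, 0, 3], 1062), (58, [1, 2, 0, 3, 3, 1, 2, 0, 1, 2, 0, 1, 2, 0, 2, 1, 3, 0, 1, 3, 0, 2], 57), (22, [3, 1, 2, 0, 1, 2, 0, 1, 2, 0], 2479)], 721), ([(42, [2, 1, 3, 0, 2, 1, 2, 0, 2, 1, 2, 0, 1, 2, 0, 3], 892), (80, [2, 1, 3, 0, 1, 3, 0, 3, 3, 1, 2, 0, 3, 1, 3, 0, 3, 1, 2, 0], 195), (16, [1, 3, 0, 2, 1, 2, 0, 1, 2, 0], 747)], 1337), ([(43, [2, 1, 3, 0, 2, 1, 2, 0, 2, 1, 2, 0, 1, 2, 0, 3], 984), (43, [2, 1, 2, 0, 1, 2, 0, 3, 3, 1, 3, 0, 2, 2, 1, 3, 0, 3, 3], 670), (32, [1, 3, 0, 2, 1, 2, 0, 1, 2, 0], 32)], 752),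 ([(44, [1, 3, 0, 3, 3, 1, 3, 0, 2, 1, 2, 0, 2, 2, 2, 1, 3, 0, 3], 999), (58, [3, 1, 2, 0, 1, 2, 0, 1, 2, 0, 2, 2, 1, 3, 0, 2, 1, 2, 0, 2, 1, 3, 0], 79), (21, [2, 2, 1, 3, 0, 2, 1, 2, 0, 1, 2, 0, 2, 2], 2565)], 375), ([(44, [1, 3, 0, 2, 2, 1, 2, 0, 3, 1, 3, 0, 1, 3, 0, 3], 982), (50, [2, 2, 1, 2, 0, 2, 1, 3, 0, 3, 3, 1, 2, 0], 169), (28, [1, 3, 0, 2, 1, 2, 0, 1, 2, 0], 58718)], 569), ([(44, [2, 1, 2, 0, 2, 1, 2, 0, 3, 3, 1, 3, 0, 1, 3, 0, 2], 671), (70, [1, 2, 0, 2, 2, 1, 3, 0, 1, 3, 0, 3, 3, 1, 3, 0, 1, 3, 0, 2, 1, 2, 0], 56), (53, [1, 3, 0, 2, 1, 2, 0, 1, 2, 0], 112)], 0), ([(45, [1, 3, 0, 3, 3, 1, 3, 0, 2, 1, 2, 0, 2, 2, 2, 1, 3, 0, 3], 821), (92, [1, 3, 0, 3, 3, 1, 3, 0, 2, 1,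 2, 0, 2, 2, 2, 1, 3, 0, 3], 291), (46, [1, 3, 0, 2, 1, 2, 0, 1, 2, 0], 135)], 0), ([(45, [1, 3, 0, 2, 2, 1, 2, 0, 3, 1, 3, 0, 1, 3, 0, 3], 1005), (94, [2, 1, 2, 0, 2, 1, 2, 0, 3, 3, 1, 3, 0, 1, 3, 0, 2], 580), (39, [1, 3, 0, 2, 1, 2, 0, 1, 2, 0], 651)], 668), ([(45, [2, 1, 2, 0, 2, 1, 2, 0, 3, 3, 1, 3, 0, 1, 3, 0, 2], 673), (97, [1, 2, 0, 2, 2, 1, 3, 0, 2, 1, 2, 0, 3, 1, 3, 0, 1, 3, 0, 2, 1, 2, 0], 187), (51, [1, 3, 0, 2, 1, 2, 0, 1, 2, 0], 87)], 0), ([(42, [2, 1, 3, 0, 2, 2, 1, 3, 0, 2, 2, 2, 1, 2, 0, 1, 2, 0], 1267), (90, [1, 3, 0, 1, 3, 0, 3, 1, 3, 0, 2, 1, 2, 0, 1, 2, 0, 2], 391), (56, [1, 3, 0, 2, 1, 2, 0, 1, 2, 0], 115)], 1341), ([(41, [2, 1, 3, 0, 2, 2, 1, 3, 0, 2, 2, 2, 1,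 2, 0, 1, 2, 0], 229), (65, [2, 2, 1, 2, 0, 3, 1, 3, 0, 3, 3, 1, 3, 0, 3, 1, 2, 0, 3], 31), (82, [1, 3, 0, 2, 1, 2, 0, 1, 2, 0], 257)], 0), ([(40, [2, 1, 3, 0, 2, 2, 1, 3, 0, 2, 2, 2, 1, 2, 0, 1, 2, 0], 1349), (87, [1, 2, 0, 3, 3, 1, 2, 0, 3, 3, 1, 2, 0, 2, 2, 1, 2, 0], 11), (43, [2, 2, 1, 2, 0, 2, 1, 3, 0, 3, 1, 2, 0, 1, 2, 0, 1, 2, 0, 2, 1, 3, 0, 3], 19)], 344), ([(42, [3, 1, 2, 0, 2, 1, 2, 0, 2, 2, 1, 3, 0, 3, 1, 2, 0, 3], 187), (83, [2, 1, 2, 0, 3, 3, 1, 3, 0, 1, 3, 0], 464), (87, [2, 2, 2, 1, 2, 0, 2, 1, 2, 0, 1, 2, 0, 3, 3], 34)], 807), ([(45, [2, 1, 2, 0, 1, 2, 0, 2, 1, 3, 0, 3, 1, 2, 0, 1, 2, 0, 1, 2, 0], 1405), (92, [2, 2, 1, 3, 0, 3, 1, 2, 0, 2, 1, 3, 0, 1, 3, 0, 3, 1, 2,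 0, 2, 1, 3, 0, 1, 3, 0], 288), (67, [1, 2, 0, 3, 1, 3, 0, 2, 2, 1, 3, 0, 2, 1, 2, 0], 100)], 537), ([(44, [2, 1, 2, 0, 1, 2, 0, 2, 1, 3, 0, 3, 1, 2, 0, 1, 2, 0, 1, 2, 0], 1261), (55, [2, 2, 2, 1, 3, 0, 2, 1, 2, 0, 2, 2, 1, 3, 0, 3, 3], 152), (94, [1, 3, 0, 2, 1, 2, 0, 1, 2, 0], 320)], 0), ([(54, [1, 3, 0, 3, 3, 1, 3, 0, 2, 1, 2, 0, 2, 2, 2, 1, 3, 0, 3], 159), (80, [1, 3, 0, 2, 1, 2, 0, 1, 2, 0, 2, 1, 2, 0, 2, 1, 3, 0, 2, 2, 1, 2, 0, 3], 20), (18, [1, 3, 0, 2, 1, 2, 0, 1, 2, 0], 2638)], 0), ([(55, [1, 3, 0, 3, 3, 1, 3, 0, 2, 1, 2, 0, 2, 2, 2, 1, 3, 0, 3], 159), (94, [1, 2, 0, 3, 1, 3, 0, 2, 1, 2, 0, 2, 1, 2, 0, 1, 2, 0, 3, 3], 295), (37, [2, 2, 1, 3, 0, 2, 1, 2, 0, 1, 2, 0, 2, 2],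 603)], 165), ([(59, [1, 3, 0, 3, 3, 1, 3, 0, 2, 1, 2, 0, 2, 2, 2, 1, 3, 0, 3], 135), (58, [1, 3, 0, 3, 3, 1, 3, 0, 2, 1, 2, 0, 2, 2, 2, 1, 3, 0, 3], 146), (20, [1, 3, 0, 2, 1, 2, 0, 1, 2, 0], 3564)], 0), ([(60, [1, 3, 0, 3, 3, 1, 3, 0, 2, 1, 2, 0, 2, 2, 2, 1, 3, 0, 3], 135), (90, [1, 2, 0, 2, 2, 1, 3, 0, 2, 1, 2, 0, 3, 1, 3, 0, 1, 3, 0, 2, 1, 2, 0], 491), (48, [2, 2, 1, 3, 0, 2, 1, 2, 0, 1, 2, 0, 2, 2], 144)], 141), ([(66, [1, 2, 0, 2, 2, 1, 3, 0, 2, 1, 2, 0, 3, 1, 3, 0, 1, 3, 0, 2, 1, 2, 0], 81), (94, [1, 3, 0, 2, 2, 1, 2, 0, 3, 1, 3, 0, 1, 3, 0, 3], 606), (38, [1, 3, 0, 2, 1, 2, 0, 1, 2, 0], 1032)], 0), ([(67, [1, 2, 0, 2, 2, 1, 3, 0, 2, 1, 2, 0, 3, 1, 3, 0, 1, 3, 0, 2, 1, 2, 0],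 81), (36, [2, 2, 1, 2, 0, 2, 1, 3, 0, 3, 3, 1, 2, 0], 389), (29, [1, 3, 0, 2, 1, 2, 0, 1, 2, 0], 55898)], 0), ([(70, [1, 2, 0, 2, 2, 1, 3, 0, 2, 1, 2, 0, 3, 1, 3, 0, 1, 3, 0, 2, 1, 2, 0], 64), (67, [1, 2, 0, 3, 1, 3, 0, 2, 1, 2, 0, 1, 2, 0, 3, 1, 3, 0, 1, 3, 0, 3], 14), (35, [1, 3, 0, 2, 1, 2, 0, 1, 2, 0], 531)], 48), ([(71, [1, 2, 0, 2, 2, 1, 3, 0, 2, 1, 2, 0, 3, 1, 3, 0, 1, 3, 0, 2, 1, 2, 0], 64), (93, [1, 3, 0, 1, 3, 0, 3, 3, 1, 2, 0, 1, 2, 0, 3, 3], 541), (52, [1, 3, 0, 2, 1, 2, 0, 1, 2, 0], 183)], 0), ([(60, [2, 1, 2, 0, 1, 2, 0, 2, 2, 1, 2, 0, 2, 1, 2, 0, 3, 3, 1, 3, 0, 1, 3, 0], 229), (91, [1, 3, 0, 1, 3, 0, 2, 1, 2, 0, 1, 2, 0, 3, 1, 3, 0, 3, 3], 374), (92, [1, 3, 0, 2, 1,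 2, 0, 1, 2, 0], 475)], 0), ([(59, [2, 1, 2, 0, 1, 2, 0, 2, 2, 1, 2, 0, 2, 1, 2, 0, 3, 3, 1, 3, 0, 1, 3, 0], 229), (54, [2, 1, 2, 0, 2, 1, 3, 0, 1, 3, 0, 3, 1, 3, 0, 2, 1, 2, 0, 3], 133), (89, [1, 3, 0, 2, 1, 2, 0, 1, 2, 0], 402)], 0), ([(59, [1, 3, 0, 1, 3, 0, 3, 1, 3, 0, 2, 1, 2, 0, 1, 2, 0, 2], 107), (56, [1, 2, 0, 1, 2, 0, 2, 2, 1, 2, 0, 1, 2, 0, 3, 3, 1, 2, 0, 1, 2, 0], 202), (41, [2, 2, 1, 2, 0, 2, 1, 3, 0, 3, 1, 2, 0, 1, 2, 0, 1, 2, 0, 2, 1, 3, 0, 3], 664)], 29), ([(74, [2, 1, 3, 0, 3, 1, 2, 0, 2, 2, 1, 2, 0, 3, 3, 1, 3, 0, 3], 225), (58, [2, 2, 1, 2, 0, 2, 1, 2, 0, 1, 2, 0, 1, 2, 0, 3, 1, 3, 0], 152), (25, [1, 3, 0, 2, 1, 2, 0, 1, 2, 0], 1217)], 184), ([(74, [1, 3, 0, 2, 1,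 2, 0, 3, 3, 1, 3, 0, 2, 2, 1, 2, 0, 2, 2, 1, 2, 0], 132), (60, [2, 1, 3, 0, 3, 1, 3, 0, 1, 3, 0, 3, 1, 2, 0, 1, 2, 0, 2, 1, 3, 0, 1, 3, 0, 2], 110), (84, [3, 1, 2, 0, 1, 2, 0, 3, 1, 3, 0, 1, 3, 0, 2, 2, 1, 2, 0, 2, 2], 134)], 21), ([(55, [2, 1, 2, 0, 1, 2, 0, 2, 2, 1, 2, 0, 2, 1, 2, 0, 3, 3, 1, 3, 0, 1, 3, 0], 196), (95, [1, 2, 0, 1, 2, 0, 2, 1, 2, 0, 3, 3, 1, 2, 0, 3, 3, 1, 3, 0, 2, 2], 485), (90, [1, 3, 0, 2, 1, 2, 0, 1, 2, 0], 372)], 146), ([(54, [2, 1, 2, 0, 1, 2, 0, 2, 2, 1, 2, 0, 2, 1, 2, 0, 3, 3, 1, 3, 0, 1, 3, 0], 196), (89, [2, 1, 2, 0, 3, 1, 3, 0, 1, 3, 0, 3, 1, 2, 0, 2, 1, 2, 0, 1, 2, 0, 3, 3], 452), (59, [1, 2, 0, 2, 1, 3, 0, 3, 3, 1, 2, 0, 3, 3], 196)], 204), ([(74, [2,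 1, 3, 0, 3, 1, 2, 0, 3, 1, 3, 0, 1, 3, 0, 3, 1, 2, 0, 2, 1, 3, 0, 2], 98), (73, [1, 2, 0, 3, 1, 3, 0, 2, 2, 2, 1, 3, 0, 2, 1, 2, 0, 3, 1, 3, 0], 193), (68, [2, 1, 3, 0, 1, 3, 0, 2, 1, 2, 0, 1, 2, 0], 239)], 146), ([(75, [2, 1, 3, 0, 3, 1, 2, 0, 3, 1, 3, 0, 1, 3, 0, 3, 1, 2, 0, 2, 1, 3, 0, 2], 98), (61, [1, 3, 0, 1, 3, 0, 3, 1, 2, 0, 2, 1, 2, 0, 1, 2, 0], 123), (99, [1, 3, 0, 2, 1, 2, 0, 1, 2, 0], 13739)], 0), ([(57, [1, 2, 0, 2, 1, 2, 0, 2, 2, 1, 3, 0, 1, 3, 0, 3, 1, 2, 0, 2, 1, 2, 0], 141), (89, [1, 2, 0, 2, 2, 2, 1, 3, 0, 3, 3, 1, 2, 0, 2, 1, 2, 0, 1, 2, 0], 385), (64, [1, 2, 0, 1, 2, 0, 2, 1, 3, 0, 3, 3, 1, 3, 0, 2, 2, 1, 2, 0, 2], 69)], 211), ([(70, [1, 3, 0, 1, 3, 0, 3, 3, 1,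 3, 0, 1, 3, 0, 2, 2], 229), (63, [3, 3, 1, 2, 0, 2, 2, 2, 1, 3, 0, 1, 3, 0, 2, 2], 147), (81, [1, 3, 0, 2, 1, 2, 0, 1, 2, 0], 121)], 0), ([(55, [2, 2, 1, 3, 0, 1, 3, 0, 3, 1, 2, 0, 1, 2, 0, 1, 2, 0, 2, 1, 3, 0, 1, 3, 0], 182), (95, [1, 2, 0, 1, 2, 0, 2, 1, 2, 0, 3, 1, 3, 0, 1, 3, 0, 2, 1, 2, 0, 1, 2, 0, 2, 1, 2, 0, 2], 539), (86, [1, 2, 0, 2, 1, 3, 0, 1, 3, 0, 3, 1, 2, 0, 2], 193)], 76), ([(71, [2, 1, 2, 0, 1, 2, 0, 1, 2, 0, 2, 1, 2, 0, 2, 2, 1, 3, 0, 3, 1, 2, 0], 8), (94, [2, 1, 3, 0, 3, 1, 2, 0, 2, 1, 3, 0, 2, 2, 1, 2, 0, 1, 2, 0, 1, 2, 0], 106), (44, [3, 1, 2, 0, 2, 2, 2, 1, 2, 0, 2, 1, 3, 0, 3, 1, 3, 0], 1237)], 104), ([(70, [2, 1, 2, 0, 1, 2, 0, 1, 2, 0, 2, 1, 2, 0, 2, 2, 1,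 3, 0, 3, 1, 2, 0], 8), (66, [1, 2, 0, 1, 2, 0, 2, 2, 1, 3, 0, 3, 3, 1, 3, 0, 2, 2, 1, 3, 0, 1, 3, 0], 239), (97, [1, 3, 0, 2, 1, 2, 0, 1, 2, 0], 248)], 0), ([(73, [2, 1, 3, 0, 3, 1, 2, 0, 3, 1, 3, 0, 1, 3, 0, 3, 1, 2, 0, 2, 1, 3, 0, 2], 63), (72, [2, 1, 2, 0, 1, 2, 0, 2, 1, 2, 0, 1, 2, 0, 2, 1, 3, 0, 3, 1, 2, 0], 98), (69, [1, 3, 0, 2, 1, 2, 0, 1, 2, 0], 195)], 110), ([(72, [2, 1, 3, 0, 3, 1, 2, 0, 3, 1, 3, 0, 1, 3, 0, 3, 1, 2, 0, 2, 1, 3, 0, 2], 63), (75, [2, 2, 1, 2, 0, 1, 2, 0, 2, 1, 3, 0, 2, 2, 1, 3, 0, 3, 3], 89), (62, [3, 1, 2, 0, 2, 1, 2, 0], 129)], 156), ([(67, [2, 1, 2, 0, 1, 2, 0, 1, 2, 0, 2, 1, 2, 0, 2, 2, 1, 3, 0, 3, 1, 2, 0], 32), (45, [1, 2, 0, 1, 2, 0, 2, 1, 3, 0, 3,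 1, 2, 0, 2, 2, 2, 1, 2, 0, 2, 1, 2, 0], 1173), (93, [3, 1, 2, 0, 2, 2, 2, 1, 2, 0, 2, 1, 3, 0, 3, 1, 3, 0], 574)], 221), ([(66, [2, 1, 2, 0, 1, 2, 0, 1, 2, 0, 2, 1, 2, 0, 2, 2, 1, 3, 0, 3, 1, 2, 0], 32), (97, [2, 2, 1, 2, 0, 2, 1, 3, 0, 3, 1, 3, 0, 1, 3, 0, 2, 1, 2, 0, 2, 2, 1, 3, 0], 125), (70, [1, 3, 0, 2, 1, 2, 0, 1, 2, 0, 2, 1, 2, 0, 3, 1, 3, 0, 3, 1, 2, 0, 2], 0)], 91), ([(74, [1, 2, 0, 1, 2, 0, 2, 2, 1, 2, 0, 3, 1, 3, 0, 2, 1, 2, 0, 2, 1, 3, 0, 2, 2], 44), (70, [1, 2, 0, 1, 2, 0, 2, 1, 3, 0, 2, 1, 2, 0, 2, 1, 2, 0, 3, 1, 3, 0, 2], 37), (72, [2, 1, 3, 0, 3, 1, 2, 0, 1, 2, 0, 2, 2, 1, 3, 0, 1, 3, 0, 2, 2, 1, 3, 0], 180)], 40), ([(75, [1, 2, 0, 1, 2, 0, 2, 2, 1, 2, 0, 3, 1, 3,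 0, 2, 1, 2, 0, 2, 1, 3, 0, 2, 2], 44), (70, [1, 2, 0, 1, 2, 0, 1, 2, 0, 3, 1, 3, 0, 2, 1, 2, 0, 2, 1, 3, 0, 1, 3, 0, 3], 34), (73, [1, 3, 0, 3, 3, 1, 3, 0, 2, 1, 2, 0, 2, 2, 1, 3, 0, 3], 53)], 34), ([(72, [3, 1, 3, 0, 3, 3, 1, 2, 0, 2, 1, 3, 0, 3, 1, 3, 0, 1, 3, 0, 2], 11), (75, [1, 2, 0, 1, 2, 0, 2, 1, 3, 0, 2, 2, 2, 1, 3, 0, 2, 1, 2, 0, 2, 2], 162), (74, [1, 3, 0, 1, 3, 0, 3, 3, 1, 2, 0, 1, 2, 0, 2, 1, 2, 0, 3, 1, 3, 0, 2, 2, 2], 239)], 159), ([(73, [3, 1, 3, 0, 3, 3, 1, 2, 0, 2, 1, 3, 0, 3, 1, 3, 0, 1, 3, 0, 2], 11), (74, [2, 2, 1, 3, 0, 2, 2, 1, 2, 0, 3, 1, 3, 0, 3, 3, 1, 2, 0, 1, 2, 0, 3], 106), (75, [1, 3, 0, 2, 2, 2, 1, 3, 0, 1, 3, 0, 3, 1, 2, 0, 2, 1, 3, 0, 3], 16)], 159),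 ([(82, [2, 1, 2, 0, 2, 2, 1, 3, 0, 2, 1, 2, 0, 2, 2, 1, 3, 0], 216), (31, [2, 2, 1, 3, 0, 1, 3, 0, 2, 2, 1, 2, 0], 828), (11, [1, 3, 0, 2, 1, 2, 0, 1, 2, 0], 99297)], 0), ([(83, [2, 1, 2, 0, 2, 2, 1, 3, 0, 2, 1, 2, 0, 2, 2, 1, 3, 0], 300), (85, [1, 2, 0, 1, 2, 0, 2, 1, 3, 0, 1, 3, 0, 2, 1, 2, 0, 1, 2, 0], 60), (78, [2, 1, 2, 0, 2, 2, 1, 3, 0, 3, 1, 2, 0, 3], 212)], 96), ([(84, [2, 1, 3, 0, 1, 3, 0, 2, 1, 2, 0, 3, 1, 3, 0, 1, 3, 0, 3], 9), (57, [3, 3, 1, 2, 0, 2, 2, 1, 2, 0, 3, 1, 3, 0], 214), (79, [1, 3, 0, 3, 1, 2, 0, 3, 1, 3, 0, 1, 3, 0], 325)], 49), ([(85, [2, 1, 3, 0, 1, 3, 0, 2, 1, 2, 0, 3, 1, 3, 0, 1, 3, 0, 3], 9), (83, [1, 2, 0, 2, 1, 3, 0, 2, 2, 1, 3, 0, 3], 76), (76, [3,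 1, 2, 0, 3, 3, 1, 3, 0, 2], 370)], 161), ([(80, [2, 2, 1, 2, 0, 1, 2, 0, 3, 1, 3, 0, 1, 3, 0, 3, 3, 1, 3, 0, 1, 3, 0], 370), (25, [1, 2, 0, 2, 1, 2, 0, 2, 2, 1, 3, 0, 1, 3, 0, 3, 1, 2, 0, 2, 1, 2, 0], 1514), (63, [1, 3, 0, 2, 1, 2, 0, 1, 2, 0], 199)], 462), ([(80, [3, 3, 1, 2, 0, 2, 2, 2, 1, 3, 0, 1, 3, 0, 2, 2], 320), (19, [1, 2, 0, 3, 1, 3, 0, 3, 1, 2, 0, 2, 1, 2, 0, 1, 2, 0], 3017), (24, [1, 3, 0, 2, 1, 2, 0, 1, 2, 0], 2102)], 300), ([(87, [2, 2, 1, 2, 0, 1, 2, 0, 3, 1, 3, 0, 1, 3, 0, 3, 3, 1, 3, 0, 1, 3, 0], 483), (42, [2, 1, 2, 0, 3, 3, 1, 3, 0, 1, 3, 0], 113), (83, [2, 1, 3, 0, 3, 1, 2, 0, 3, 3, 1, 2, 0, 1, 2, 0, 3], 468)], 304), ([(87, [3, 3, 1, 2, 0, 2, 2, 2, 1, 3, 0, 1, 3,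 0, 2, 2], 43), (43, [1, 2, 0, 1, 2, 0, 3, 1, 3, 0, 3, 1, 2, 0, 2, 1, 2, 0, 2], 5), (40, [1, 3, 0, 2, 1, 2, 0, 1, 2, 0], 363)], 0), ([(91, [1, 3, 0, 2, 1, 2, 0, 2, 1, 3, 0, 2, 2, 1, 2, 0, 2, 1, 3, 0, 3], 6), (95, [1, 3, 0, 2, 1, 2, 0, 1, 2, 0, 2, 1, 2, 0, 3, 3, 1, 3, 0, 3, 3], 536), (85, [2, 2, 1, 2, 0, 3, 1, 3, 0, 3, 3, 1, 2, 0, 1, 2, 0, 3, 3], 225)], 185), ([(90, [1, 3, 0, 2, 1, 2, 0, 2, 1, 3, 0, 2, 2, 1, 2, 0, 2, 1, 3, 0, 3], 6), (74, [2, 2, 1, 2, 0, 1, 2, 0, 3, 1, 3, 0, 2, 1, 2, 0, 2], 82), (57, [1, 2, 0, 2, 1, 2, 0, 1, 2, 0, 2, 2, 2, 1, 3, 0, 3, 1, 2, 0], 4)], 433), ([(82, [3, 3, 1, 2, 0, 2, 2, 2, 1, 3, 0, 1, 3, 0, 2, 2], 476), (43, [1, 2, 0, 3, 3, 1, 2, 0, 3, 3, 1, 2, 0, 2, 2,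 1, 2, 0], 1198), (42, [3, 3, 1, 3, 0, 1, 3, 0], 887)], 432), ([(82, [2, 2, 1, 2, 0, 1, 2, 0, 3, 1, 3, 0, 1, 3, 0, 3, 3, 1, 3, 0, 1, 3, 0], 443), (41, [1, 2, 0, 1, 2, 0, 2, 2, 1, 3, 0, 2, 1, 2, 0, 2, 1, 3, 0, 2], 300), (65, [2, 2, 1, 2, 0, 1, 2, 0, 3, 1, 3, 0, 2, 1, 2, 0, 2, 1, 3, 0, 3, 3], 46)], 7), ([(89, [2, 1, 2, 0, 2, 1, 3, 0, 1, 3, 0, 3, 1, 3, 0, 2, 1, 2, 0, 3], 362), (59, [2, 1, 3, 0, 2, 1, 2, 0, 2, 1, 3, 0, 3, 1, 3, 0, 1, 3, 0, 2, 2, 1, 3, 0], 187), (54, [1, 3, 0, 2, 1, 2, 0, 1, 2, 0], 173)], 26), ([(88, [2, 1, 2, 0, 2, 1, 3, 0, 1, 3, 0, 3, 1, 3, 0, 2, 1, 2, 0, 3], 362), (88, [1, 3, 0, 1, 3, 0, 3, 3, 1, 2, 0, 2, 2, 1, 2, 0, 3, 1, 3, 0, 2], 329), (88, [2, 1, 3, 0, 2, 1, 2, 0,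 2, 1, 2, 0, 1, 2, 0, 1, 2, 0, 2, 1, 2, 0, 2], 403)], 194), ([(90, [2, 1, 2, 0, 3, 3, 1, 2, 0, 1, 2, 0, 1, 2, 0, 3, 1, 3, 0, 3, 3, 1, 3, 0, 1, 3, 0], 459), (55, [3, 3, 1, 3, 0, 2, 1, 2, 0, 2, 2], 191), (95, [2, 1, 2, 0, 1, 2, 0, 2, 1, 2, 0, 2, 2, 2, 1, 3, 0, 3], 485)], 49), ([(91, [2, 1, 2, 0, 3, 3, 1, 2, 0, 1, 2, 0, 1, 2, 0, 3, 1, 3, 0, 3, 3, 1, 3, 0, 1, 3, 0], 459), (92, [2, 1, 2, 0, 1, 2, 0, 2, 2, 1, 2, 0, 2, 1, 2, 0, 3, 3, 1, 3, 0, 1, 3, 0], 472), (60, [1, 3, 0, 2, 1, 2, 0, 1, 2, 0], 231)], 0), ([(95, [3, 3, 1, 2, 0, 1, 2, 0, 1, 2, 0, 3, 1, 3, 0, 3, 3], 25), (90, [1, 3, 0, 3, 3, 1, 3, 0, 2, 2, 1, 3, 0, 2], 268), (55, [2, 1, 3, 0, 2, 1, 2, 0, 2, 1, 2, 0, 1, 2, 0, 1, 2, 0, 2, 1,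 2, 0, 2], 229)], 379), ([(92, [2, 2, 1, 2, 0, 2, 1, 3, 0, 2, 2, 1, 2, 0, 3, 1, 3, 0, 3, 1, 2, 0, 2], 420), (67, [1, 2, 0, 2, 1, 2, 0, 1, 2, 0, 2, 1, 3, 0, 3, 1, 2, 0, 2], 166), (45, [1, 3, 0, 2, 1, 2, 0, 1, 2, 0], 277)], 0), ([(92, [2, 2, 2, 1, 3, 0, 3, 1, 3, 0, 1, 3, 0, 3, 1, 2, 0, 2, 1, 3, 0, 1, 3, 0, 3], 187), (59, [1, 3, 0, 1, 3, 0, 3, 3, 1, 3, 0, 2, 1, 2, 0, 2, 2, 1, 2, 0, 1, 2, 0, 1, 2, 0], 193), (71, [1, 2, 0, 3, 1, 3, 0, 2, 2, 1, 3, 0, 2, 1, 2, 0], 199)], 411), ([(94, [1, 2, 0, 1, 2, 0, 1, 2, 0, 2, 1, 2, 0, 2, 1, 3, 0, 2, 2, 2], 399), (42, [1, 2, 0, 1, 2, 0, 1, 2, 0, 2, 1, 2, 0, 1, 2, 0, 1, 2, 0], 796), (91, [3, 1, 3, 0, 2, 2, 1, 2, 0, 1, 2, 0], 401)], 297), ([(97, [1, 2,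 0, 1, 2, 0, 2, 2, 1, 3, 0, 3, 3, 1, 3, 0, 2, 2, 1, 3, 0, 1, 3, 0], 507), (70, [2, 1, 3, 0, 3, 3, 1, 3, 0, 3, 1, 2, 0, 2, 1, 3, 0, 1, 3, 0, 3, 1, 2, 0], 23), (66, [1, 3, 0, 2, 1, 2, 0, 1, 2, 0], 187)], 522), ([(96, [1, 2, 0, 1, 2, 0, 2, 2, 1, 3, 0, 3, 3, 1, 3, 0, 2, 2, 1, 3, 0, 1, 3, 0], 507), (96, [2, 1, 2, 0, 3, 1, 3, 0, 3, 3, 1, 2, 0, 2, 1, 2, 0, 1, 2, 0, 3, 3], 257), (96, [1, 3, 0, 2, 1, 2, 0, 1, 2, 0, 2, 1, 2, 0, 3, 1, 3, 0, 3, 1, 2, 0, 2], 400)], 569), ([(97, [1, 2, 0, 2, 1, 2, 0, 2, 1, 3, 0, 1, 3, 0, 3, 1, 2, 0, 2, 1, 2, 0, 1, 2, 0, 2], 515), (71, [1, 2, 0, 2, 1, 2, 0, 3, 1, 3, 0, 2], 38), (98, [2, 2, 1, 3, 0, 2, 1, 2, 0, 1, 2, 0, 2, 1, 2, 0, 2, 1, 3, 0], 132)], 20), ([(99,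 [1, 3, 0, 1, 3, 0, 3, 1, 2, 0, 2, 1, 2, 0, 1, 2, 0], 4024), (74, [1, 3, 0, 3, 3, 1, 3, 0, 2, 1, 2, 0, 2, 2, 1, 2, 0, 1, 2, 0], 102), (61, [1, 3, 0, 2, 1, 2, 0, 1, 2, 0], 89)], 2342), ([(100, [1, 3, 0, 2, 1, 2, 0, 1, 2, 0], 1537), (100, [1, 3, 0, 2, 1, 2, 0, 1, 2, 0], 15666), (100, [1, 3, 0, 2, 1, 2, 0, 1, 2, 0], 15666)], 26170)]]

end CfsgLib.InvChar.SporHN
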