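import Cfsg.Agent.Lib.InvChar.SporHNTrace

/-! The saturation. -/

set_option autoImplicit false
set_option maxRecDepth 100000

namespace CfsgLib.InvChar.SporHN

open CfsgLib.InvChar.Coset

/-- hints -/
def relC6 : List (List (List (ℕ × List ℕ × ℕ) × ℕ)) := [
[([(0, [], 0), (5, [], 0), (2, [], 24400)], 0), ([(5, [], 6502), (2, [], 24400), (0, [], 0)], 3386), ([(6, [], 6502), (14, [], 2300), (3, [], 24400)], 3386), ([(7, [], 11808), (26, [], 9832), (4, [], 24400)], 62254), ([(8, [], 11808), (12, [], 2300), (1, [], 24400)], 62254), ([(9, [], 65893), (19, [2, 1, 2, 0, 2, 2, 2, 1, 2, 0, 2, 2], 2983), (12, [2], 2648)], 16048), ([(9, [2, 2, 2, 1, 3, 0, 2, 1, 2, 0, 3, 3], 85806), (17, [], 4086),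 (5, [2], 24400)], 16048), ([(10, [], 6441), (34, [], 0), (14, [2], 2983)], 972), ([(10, [2, 2, 2, 1, 3, 0, 2, 1, 2, 0, 3, 3], 85901), (36, [], 786), (26, [2], 42686)], 972), ([(5, [1, 2, 0], 33661), (9, [2, 2, 1, 2, 0, 2, 2, 1, 2, 0, 3, 1, 3, 0], 15571), (17, [3, 1, 2, 0], 4587)], 43414), ([(7, [1, 2, 0], 25452), (28, [1, 3, 0, 2], 31284), (31, [3, 1, 2, 0], 752)], 94415), ([(9, [2, 1, 2, 0, 2, 1, 3, 0, 2], 106348), (24, [3, 1, 2, 0, 3, 1, 3, 0, 3, 3, 1, 3, 0], 3257), (77, [1, 2, 0, 2, 1, 2, 0, 1, 2, 0], 463)], 0), ([(18, [], 3663), (50, [], 0), (27, [2], 42686)], 2917), ([(19, [], 3663), (17, [2, 2, 2, 1, 3, 0, 2, 1, 2, 0, 3, 3], 1936), (6, [2], 94337)], 2917), ([(20, [], 2697), (49,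 [], 14), (15, [2], 2983)], 2565), ([(21, [], 2697), (31, [2, 2, 2, 1, 3, 0, 2, 1, 2, 0, 3, 3], 843), (8, [2], 117107)], 2565), ([(19, [1, 3, 0, 2], 3663), (12, [1, 2, 0], 2983), (9, [3, 1, 2, 0], 208)], 2672), ([(16, [2, 2, 1, 2, 0, 2, 2, 1, 2, 0, 3, 1, 3, 0], 2741), (39, [1, 3, 0, 2], 160), (33, [3, 1, 2, 0], 752)], 3894), ([(21, [2, 1, 2, 0, 2, 2, 2, 1, 2, 0, 2, 1, 2, 0], 1176), (34, [3, 1, 2, 0], 4), (19, [2, 1, 2, 0, 2, 2, 2, 1, 2, 0, 2, 1, 2, 0], 701)], 3501), ([(20, [2, 1, 2, 0, 2, 2, 2, 1, 2, 0, 2, 1, 2, 0], 1176), (62, [2, 1, 3, 0, 2], 62), (47, [3, 1, 2, 0], 146)], 3338), ([(19, [2, 1, 2, 0, 2, 2, 2, 1, 2, 0, 2, 1, 2, 0], 1176), (21, [2, 1, 2, 0, 2, 2, 2, 1, 2, 0, 2, 1, 2, 0],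 2246), (34, [3, 1, 2, 0], 4)], 2664), ([(18, [2, 1, 2, 0, 2, 2, 2, 1, 2, 0, 2, 1, 2, 0], 1176), (68, [2, 1, 3, 0, 2], 110), (49, [3, 1, 2, 0], 146)], 2664), ([(21, [1, 3, 0, 1, 3, 0, 3, 1, 3, 0], 2999), (30, [2, 1, 3, 0, 2, 2, 1, 2, 0, 3], 579), (23, [1, 2, 0, 1, 2, 0, 3, 1, 3, 0, 1, 3, 0, 3, 3], 971)], 661), ([(20, [1, 3, 0, 1, 3, 0, 3, 1, 3, 0], 2999), (53, [1, 3, 0, 1, 3, 0, 3, 1, 3, 0], 146), (30, [2, 2, 1, 2, 0, 2, 2, 1, 2, 0, 1, 2, 0, 2], 415)], 3037), ([(24, [1, 2, 0, 3, 3, 1, 3, 0, 3, 3, 1, 2, 0, 1, 2, 0, 2], 184), (88, [2, 1, 3, 0, 1, 3, 0, 3, 3, 1, 3, 0, 3, 1, 2, 0, 2, 1, 3, 0, 3, 3], 350), (80, [2, 2, 1, 2, 0, 2, 2, 1, 2, 0, 1, 2, 0, 3, 1, 3, 0, 3], 232)], 1555), ([(20, [2,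 1, 2, 0, 1, 2, 0, 2, 1, 2, 0], 3552), (59, [3, 1, 2, 0, 1, 2, 0, 2, 1, 2, 0, 2, 1, 3, 0, 1, 3, 0, 3, 1, 3, 0], 159), (58, [1, 2, 0, 2, 1, 2, 0, 1, 2, 0], 122)], 4816), ([(28, [], 45727), (31, [], 569), (7, [2], 94616)], 41954), ([(29, [], 41034), (47, [], 146), (13, [2], 2983)], 40531), ([(28, [3, 1, 2, 0], 74459), (39, [3, 1, 2, 0], 1422), (36, [3, 1, 2, 0], 1132)], 44236), ([(29, [3, 1, 2, 0], 64283), (69, [2], 14), (50, [3, 1, 2, 0], 191)], 40968), ([(34, [2, 2, 1, 3, 0, 2, 1, 2, 0, 1, 2, 0, 2, 2, 1, 3, 0, 1, 3, 0], 891), (14, [1, 2, 0], 3655), (10, [3, 1, 2, 0], 4220)], 742), ([(35, [1, 3, 0, 2], 569), (49, [1, 3, 0, 2], 48), (22, [], 2569)], 804), ([(37, [2, 2, 1, 3, 0, 2, 1, 2,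 0, 1, 2, 0, 2, 2, 1, 3, 0, 1, 3, 0], 1037), (47, [1, 3, 0, 2], 35), (16, [3, 1, 2, 0], 2569)], 1119), ([(38, [1, 3, 0, 2], 535), (46, [2, 2, 1, 3, 0, 2, 1, 2, 0, 1, 2, 0, 2, 2, 1, 3, 0, 1, 3, 0], 102), (32, [3, 1, 2, 0], 732)], 814), ([(34, [3, 1, 2, 0], 1284), (19, [2, 1, 2, 0, 2, 2, 2, 1, 2, 0, 2, 1, 2, 0], 701), (21, [2, 1, 2, 0, 2, 2, 2, 1, 2, 0, 2, 1, 2, 0], 2246)], 385), ([(39, [3, 1, 2, 0], 85), (36, [3, 1, 2, 0], 1132), (28, [3, 1, 2, 0], 71842)], 675), ([(38, [3, 1, 2, 0], 85), (68, [2], 14), (53, [3, 1, 2, 0], 14)], 752), ([(37, [2, 1, 2, 0, 2, 2, 2, 1, 2, 0, 2, 1, 2, 0], 278), (69, [1, 2, 0], 146), (46, [3, 1, 2, 0], 110)], 948), ([(36, [3, 1, 2, 0], 230), (28, [3, 1, 2, 0],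 71842), (39, [3, 1, 2, 0], 1422)], 507), ([(35, [3, 1, 2, 0], 230), (62, [1, 2, 0], 154), (51, [3, 1, 2, 0], 14)], 793), ([(44, [2, 2, 1, 3, 0, 1, 3, 0, 2, 2, 2, 1, 2, 0, 3, 1, 3, 0, 1, 3, 0, 2], 770), (72, [1, 3, 0, 2, 2, 1, 3, 0, 3, 3, 1, 2, 0, 2, 1, 3, 0, 2], 45), (56, [1, 2, 0, 2, 1, 2, 0, 1, 2, 0], 69)], 1341), ([(44, [1, 2, 0, 2, 1, 2, 0, 1, 2, 0, 1, 2, 0, 2, 1, 3, 0, 3, 1, 3, 0, 1, 3, 0, 3], 557), (54, [1, 2, 0, 2, 1, 2, 0, 2, 1, 3, 0, 1, 3, 0, 3, 1, 3, 0, 1, 3, 0, 2], 127), (82, [1, 2, 0, 2, 1, 2, 0, 1, 2, 0], 172)], 0), ([(45, [2, 2, 1, 3, 0, 1, 3, 0, 2, 2, 2, 1, 2, 0, 3, 1, 3, 0, 1, 3, 0, 2], 752), (94, [2, 1, 2, 0, 3, 3, 1, 2, 0, 3, 3, 1, 2, 0, 3], 531), (43, [1, 3, 0, 3, 3,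 1, 2, 0, 2, 2, 1, 2, 0, 2, 2, 1, 3, 0, 1, 3, 0], 536)], 294), ([(45, [1, 2, 0, 2, 1, 2, 0, 1, 2, 0, 1, 2, 0, 2, 1, 3, 0, 3, 1, 3, 0, 1, 3, 0, 3], 596), (95, [3, 1, 2, 0, 1, 2, 0, 1, 2, 0, 3, 1, 3, 0, 3, 3, 1, 3, 0, 3, 3], 233), (87, [1, 2, 0, 2, 1, 2, 0, 3, 1, 3, 0, 2, 1, 2, 0, 1, 2, 0, 2], 223)], 1015), ([(40, [1, 2, 0, 2, 2, 2], 949), (89, [1, 2, 0, 2, 1, 2, 0, 2, 1, 3, 0, 2, 2, 1, 2, 0, 2, 1, 3, 0, 3, 1, 3, 0], 493), (67, [2, 1, 3, 0, 3, 1, 2, 0, 2, 2, 1, 2, 0, 1, 2, 0], 169)], 537), ([(42, [1, 2, 0, 2, 2, 2], 840), (91, [1, 3, 0, 3, 1, 2, 0, 3, 1, 3, 0, 3, 3, 1, 2, 0, 2, 2], 324), (94, [1, 2, 0, 2, 1, 2, 0, 1, 2, 0], 360)], 0), ([(68, [1, 2, 0], 122), (49, [2, 1, 2, 0, 2, 2, 2, 1,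 2, 0, 2, 1, 2, 0], 62), (18, [3, 1, 2, 0], 2401)], 122), ([(69, [1, 2, 0], 122), (46, [3, 1, 2, 0], 110), (37, [2, 1, 2, 0, 2, 2, 2, 1, 2, 0, 2, 1, 2, 0], 257)], 122), ([(62, [2], 149), (47, [2, 1, 2, 0, 2, 2, 2, 1, 2, 0, 2, 1, 2, 0], 110), (20, [3, 1, 2, 0], 2246)], 149), ([(61, [2], 149), (99, [2, 1, 3, 0, 2], 12661), (48, [2, 1, 2, 0, 2, 2, 2, 1, 2, 0, 2, 1, 2, 0], 62)], 162), ([(68, [2], 27), (53, [3, 1, 2, 0], 14), (38, [3, 1, 2, 0], 109)], 122), ([(69, [2], 27), (50, [3, 1, 2, 0], 191), (29, [3, 1, 2, 0], 57557)], 122), ([(62, [1, 2, 0], 10), (51, [3, 1, 2, 0], 14), (35, [3, 1, 2, 0], 52)], 24), ([(61, [1, 2, 0], 10), (99, [1, 2, 0], 9678), (52, [3, 1, 2, 0], 14)], 149), ([(66,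 [2, 1, 2, 0, 1, 2, 0, 1, 2, 0, 3, 3, 1, 2, 0, 1, 2, 0, 2, 2], 102), (96, [1, 2, 0, 1, 2, 0, 2, 1, 3, 0, 3, 1, 3, 0, 1, 3, 0, 2, 2, 1, 2, 0, 1, 2, 0, 3], 183), (92, [1, 2, 0, 2, 1, 2, 0, 1, 2, 0], 113)], 0), ([(67, [2, 1, 2, 0, 1, 2, 0, 1, 2, 0, 3, 3, 1, 2, 0, 1, 2, 0, 2, 2], 102), (40, [2, 1, 2, 0, 2, 1, 2, 0, 1, 2, 0, 1, 2, 0, 2, 1, 2, 0, 3, 1, 3, 0, 2], 1016), (89, [1, 2, 0, 2, 1, 2, 0, 1, 2, 0], 260)], 0), ([(72, [1, 2, 0, 2, 1, 2, 0, 1, 2, 0, 1, 2, 0, 2, 2, 1, 2, 0, 3, 3, 1, 2, 0, 3, 1, 3, 0], 16), (67, [3, 1, 3, 0, 1, 3, 0, 2, 1, 2, 0, 1, 2, 0, 2, 1, 2, 0, 2, 1, 3, 0, 1, 3, 0], 86), (41, [1, 3, 0, 3, 3, 1, 2, 0, 2, 2, 1, 2, 0, 2, 2, 1, 3, 0, 1, 3, 0], 472)], 28), ([(67, [2, 2, 1,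 3, 0, 1, 3, 0, 2, 2, 1, 2, 0, 1, 2, 0, 2, 1, 2, 0, 3], 38), (34, [2, 1, 2, 0, 1, 2, 0, 2, 1, 2, 0], 943), (25, [1, 2, 0, 2, 1, 2, 0, 1, 2, 0], 2897)], 184), ([(60, [1, 3, 0, 1, 3, 0, 2, 2, 2, 1, 2, 0, 2, 1, 3, 0, 2], 195), (85, [1, 3, 0, 2, 2, 1, 2, 0, 1, 2, 0, 2, 1, 2, 0, 3, 1, 3, 0], 22), (84, [1, 2, 0, 3, 3, 1, 2, 0, 3, 1, 3, 0, 2, 1, 2, 0, 2], 283)], 16), ([(60, [2, 2, 1, 3, 0, 1, 3, 0, 2, 2, 2, 1, 2, 0, 3, 1, 3, 0, 1, 3, 0, 2], 16), (88, [3, 1, 2, 0, 2, 2, 1, 2, 0, 2, 1, 3, 0, 3, 3, 1, 2, 0, 3, 3], 250), (90, [1, 2, 0, 2, 1, 2, 0, 1, 2, 0], 464)], 146), ([(59, [2, 2, 1, 3, 0, 1, 3, 0, 2, 2, 2, 1, 2, 0, 3, 1, 3, 0, 1, 3, 0, 2], 16), (59, [1, 2, 0, 2, 1, 2, 0, 1, 2, 0, 1, 2, 0, 2,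 1, 2, 0, 2], 119), (59, [2, 2, 1, 2, 0, 3, 1, 3, 0, 1, 3, 0, 3, 3, 1, 3, 0, 1, 3, 0], 119)], 204), ([(75, [1, 3, 0, 3, 1, 2, 0, 2, 2, 1, 3, 0, 2, 1, 2, 0, 1, 2, 0, 3, 1, 3, 0], 168), (72, [3, 3, 1, 3, 0, 2, 1, 2, 0, 3, 1, 3, 0, 1, 3, 0, 2, 2, 2], 31), (68, [2, 2, 1, 2, 0, 1, 2, 0], 12)], 146), ([(74, [1, 3, 0, 3, 1, 2, 0, 2, 2, 1, 3, 0, 2, 1, 2, 0, 1, 2, 0, 3, 1, 3, 0], 168), (61, [1, 3, 0, 1, 3, 0, 2, 1, 2, 0, 2, 2], 99), (99, [3, 1, 3, 0, 1, 3, 0], 12382)], 124), ([(72, [1, 2, 0, 3, 3, 1, 2, 0, 2, 1, 3, 0, 3, 1, 3, 0, 1, 3, 0, 2, 1, 2, 0], 98), (72, [2, 2, 2, 1, 2, 0, 1, 2, 0, 2, 2, 1, 2, 0, 2, 1, 3, 0, 2, 2], 167), (64, [1, 3, 0, 1, 3, 0, 2, 1, 2, 0, 1, 2, 0, 3, 1, 3, 0, 1, 3, 0, 3,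 1, 3, 0], 60)], 207), ([(72, [2, 1, 3, 0, 2, 1, 2, 0, 2, 1, 3, 0, 3, 3, 1, 2, 0, 2, 1, 3, 0], 17), (54, [1, 2, 0, 1, 2, 0, 2, 1, 2, 0, 1, 2, 0, 2, 1, 3, 0, 3, 1, 2, 0, 3, 3, 1, 2, 0, 2], 220), (81, [1, 2, 0, 2, 1, 2, 0, 1, 2, 0], 143)], 0), ([(71, [3, 1, 3, 0, 2, 2], 122), (95, [2, 1, 3, 0, 2, 2, 1, 2, 0, 2, 2, 1, 3, 0, 1, 3, 0, 3, 1, 2, 0, 1, 2, 0, 2], 421), (86, [2, 1, 2, 0, 2, 2, 2, 1, 2, 0, 2, 1, 3, 0, 3, 3], 28)], 118), ([(54, [2, 2, 1, 3, 0, 1, 3, 0, 2, 2, 2, 1, 2, 0, 3, 1, 3, 0, 1, 3, 0, 2], 130), (82, [1, 3, 0, 1, 3, 0, 2, 2, 2, 1, 2, 0, 1, 2, 0], 172), (44, [2, 1, 3, 0, 2, 2, 1, 2, 0, 3, 1, 3, 0, 2, 1, 2, 0, 1, 2, 0, 2, 1, 2, 0], 557)], 177), ([(55, [2, 2, 1, 3, 0, 1, 3, 0, 2,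 2, 2, 1, 2, 0, 3, 1, 3, 0, 1, 3, 0, 2], 130), (96, [2, 1, 3, 0, 2, 2, 2, 1, 3, 0, 2, 2, 1, 3, 0], 37), (97, [1, 2, 0, 2, 1, 2, 0, 1, 2, 0], 367)], 0), ([(72, [3, 1, 2, 0, 3, 3, 1, 2, 0, 2, 1, 2, 0, 1, 2, 0, 3, 1, 3, 0, 2, 1, 2, 0], 119), (73, [2, 2, 1, 2, 0, 2, 1, 2, 0, 1, 2, 0, 3, 1, 3, 0, 1, 3, 0, 3, 3, 1, 3, 0], 60), (69, [3, 1, 3, 0, 1, 3, 0], 223)], 90), ([(73, [3, 1, 2, 0, 3, 3, 1, 2, 0, 2, 1, 2, 0, 1, 2, 0, 3, 1, 3, 0, 2, 1, 2, 0], 119), (74, [2, 2, 1, 2, 0, 2, 1, 3, 0, 3, 3, 1, 2, 0, 1, 2, 0, 2, 1, 2, 0, 3, 3], 158), (62, [1, 2, 0, 3, 3, 1, 3, 0, 1, 3, 0], 155)], 165), ([(60, [2, 1, 2, 0, 1, 2, 0, 1, 2, 0, 3, 3, 1, 2, 0, 1, 2, 0, 2, 2], 99), (91, [2, 1, 2, 0, 1, 2, 0, 3, 1, 3,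 0, 1, 3, 0, 3, 1, 2, 0, 1, 2, 0, 1, 2, 0, 2, 1, 2, 0], 481), (93, [2, 1, 3, 0, 2, 2, 1, 2, 0, 3, 1, 3, 0, 2, 1, 2, 0, 1, 2, 0, 2, 1, 2, 0], 244)], 56), ([(59, [2, 1, 2, 0, 1, 2, 0, 1, 2, 0, 3, 3, 1, 2, 0, 1, 2, 0, 2, 2], 99), (75, [2, 1, 2, 0, 2, 2, 1, 3, 0, 2, 1, 2, 0, 3, 1, 3, 0, 1, 3, 0, 3, 1, 2, 0], 183), (70, [1, 2, 0, 2, 2, 1, 3, 0, 1, 3, 0, 3, 1, 3, 0, 1, 3, 0, 2, 1, 2, 0], 188)], 143), ([(68, [1, 3, 0, 3, 3, 1, 2, 0, 3, 3, 1, 3, 0], 122), (75, [1, 2, 0, 2, 2, 1, 3, 0, 2, 1, 2, 0, 1, 2, 0, 2, 1, 2, 0], 79), (72, [2, 1, 2, 0, 2, 2, 2, 1, 2, 0, 3, 3, 1, 2, 0, 2, 2], 31)], 220), ([(69, [1, 3, 0, 3, 3, 1, 2, 0, 3, 3, 1, 3, 0], 122), (72, [1, 2, 0, 2, 1, 2, 0, 1, 2, 0], 61), (73, [1,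 2, 0, 1, 2, 0, 2, 1, 2, 0, 1, 2, 0, 1, 2, 0, 3, 1, 3, 0, 1, 3, 0, 3, 1, 2, 0, 1, 2, 0], 60)], 34), ([(62, [3, 1, 3, 0, 2, 2, 2, 1, 2, 0, 2, 1, 2, 0], 110), (73, [1, 2, 0, 2, 2, 1, 3, 0, 2, 1, 2, 0, 1, 2, 0, 2, 1, 2, 0], 131), (74, [1, 3, 0, 2, 1, 2, 0, 2, 1, 3, 0, 3, 3, 1, 3, 0, 2, 2, 1, 3, 0, 3], 158)], 159), ([(61, [3, 1, 3, 0, 2, 2, 2, 1, 2, 0, 2, 1, 2, 0], 110), (99, [1, 3, 0, 3, 1, 2, 0, 1, 2, 0, 2, 1, 3, 0, 1, 3, 0, 2, 1, 2, 0], 8004), (75, [3, 3, 1, 3, 0, 2, 2, 1, 2, 0, 1, 2, 0, 2, 1, 2, 0], 173)], 159), ([(80, [3, 1, 2, 0, 3, 1, 3, 0, 3, 3, 1, 3, 0], 24), (17, [2, 1, 2, 0, 2, 1, 3, 0, 2], 4675), (11, [1, 2, 0, 2, 1, 2, 0, 1, 2, 0], 14031)], 0), ([(81, [3, 1, 2, 0, 3, 1, 3, 0,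 3, 3, 1, 3, 0], 80), (65, [2, 1, 3, 0, 1, 3, 0, 3, 1, 3, 0, 1, 3, 0, 3, 1, 2, 0, 1, 2, 0, 2, 1, 3, 0], 68), (78, [2, 2, 1, 3, 0, 2, 1, 2, 0], 45)], 122), ([(84, [2, 2, 1, 3, 0, 1, 3, 0, 2, 2, 2, 1, 2, 0, 3, 1, 3, 0], 52), (57, [1, 2, 0, 1, 2, 0, 1, 2, 0, 2, 1, 2, 0, 3, 1, 3, 0, 2], 226), (79, [1, 2, 0, 2, 1, 3, 0, 1, 3, 0, 3, 3, 1, 2, 0, 3], 327)], 35), ([(85, [2, 2, 1, 3, 0, 1, 3, 0, 2, 2, 2, 1, 2, 0, 3, 1, 3, 0], 52), (83, [2, 2, 1, 3, 0, 2, 1, 2, 0, 2, 2, 1, 2, 0, 3, 3, 1, 2, 0, 1, 2, 0], 211), (76, [1, 2, 0, 3, 1, 3, 0, 2, 1, 2, 0, 1, 2, 0], 413)], 49), ([(89, [2, 2, 2, 1, 2, 0, 2, 2, 1, 3, 0, 2, 1, 2, 0, 2, 1, 3, 0, 1, 3, 0], 56), (72, [2, 1, 2, 0, 2, 1, 2, 0, 3, 1, 3, 0, 1, 3, 0,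 3, 1, 3, 0, 2, 2, 1, 2, 0], 125), (63, [1, 2, 0, 2, 1, 2, 0, 1, 2, 0], 48)], 462), ([(88, [1, 2, 0, 1, 2, 0, 2, 1, 2, 0, 1, 2, 0, 2, 1, 3, 0, 3, 1, 2, 0, 3, 3, 1, 2, 0, 2], 1), (80, [2, 1, 2, 0, 2, 1, 3, 0, 3, 1, 3, 0, 2, 1, 2, 0], 244), (24, [1, 2, 0, 2, 1, 2, 0, 1, 2, 0], 4727)], 300), ([(88, [1, 2, 0, 2, 1, 2, 0, 2, 1, 3, 0, 1, 3, 0, 3, 1, 3, 0, 1, 3, 0, 2], 104), (88, [3, 1, 3, 0, 3, 3, 1, 2, 0, 2, 1, 2, 0, 1, 2, 0, 3], 428), (83, [2, 1, 2, 0, 2, 1, 3, 0, 2, 2, 1, 2, 0, 3, 1, 3, 0, 2], 388)], 304), ([(89, [2, 1, 2, 0, 2, 1, 3, 0, 2, 2, 1, 3, 0, 1, 3, 0, 3, 1, 2, 0, 1, 2, 0, 3], 394), (67, [2, 2, 1, 3, 0, 1, 3, 0, 2, 2, 1, 3, 0, 1, 3, 0, 3, 1, 3, 0, 2, 1, 2, 0], 75), (40, [1, 2, 0,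 2, 1, 2, 0, 1, 2, 0], 836)], 0), ([(91, [2, 2, 1, 3, 0, 2, 1, 2, 0, 3, 1, 3, 0, 3, 3, 1, 2, 0, 2, 1, 3, 0, 3], 13), (95, [1, 2, 0, 2, 1, 3, 0, 1, 3, 0, 3, 3, 1, 3, 0, 1, 3, 0, 3, 1, 2, 0, 2, 1, 2, 0], 66), (85, [2, 1, 3, 0, 1, 3, 0, 3, 1, 3, 0, 2, 2, 1, 2, 0, 3], 23)], 212), ([(90, [2, 2, 1, 3, 0, 2, 1, 2, 0, 3, 1, 3, 0, 3, 3, 1, 2, 0, 2, 1, 3, 0, 3], 13), (75, [1, 3, 0, 1, 3, 0, 3, 3, 1, 2, 0, 2, 2, 1, 3, 0, 1, 3, 0, 3, 1, 2, 0, 2], 151), (57, [1, 2, 0, 2, 2, 1, 2, 0, 3, 3, 1, 3, 0, 2, 1, 2, 0, 1, 2, 0], 52)], 433), ([(91, [1, 3, 0, 3, 3, 1, 2, 0, 2, 1, 3, 0, 3, 3, 1, 3, 0, 3, 1, 2, 0], 105), (94, [1, 2, 0, 1, 2, 0, 2, 1, 2, 0, 2, 1, 3, 0, 2, 2, 2, 1, 2, 0, 2], 116), (42, [1, 2, 0, 2,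 2, 1, 2, 0, 1, 2, 0, 1, 2, 0], 928)], 295), ([(90, [1, 2, 0, 2, 2, 1, 2, 0, 1, 2, 0, 2, 1, 3, 0, 3, 3], 89), (74, [1, 3, 0, 3, 1, 2, 0, 3, 1, 3, 0, 2, 1, 2, 0, 1, 2, 0, 3, 1, 3, 0, 3, 1, 2, 0, 2], 157), (65, [1, 2, 0, 1, 2, 0, 2, 2, 1, 3, 0, 3, 1, 2, 0, 2, 2, 1, 3, 0, 3], 87)], 229), ([(82, [2, 2, 1, 3, 0, 2, 2, 1, 2, 0, 1, 2, 0, 3, 3], 102), (44, [1, 2, 0, 2, 2, 1, 2, 0, 1, 2, 0, 3, 1, 3, 0, 2, 1, 2, 0, 2, 2, 1, 3, 0], 734), (54, [1, 2, 0, 2, 1, 2, 0, 1, 2, 0], 68)], 26), ([(83, [2, 1, 2, 0, 2, 1, 2, 0, 1, 2, 0, 1, 2, 0, 2, 1, 2, 0, 3, 1, 3, 0, 2], 486), (88, [1, 2, 0, 1, 2, 0, 3, 3, 1, 3, 0, 3, 1, 2, 0, 2, 2, 2, 1, 2, 0, 2], 339), (88, [2, 1, 2, 0, 2, 1, 3, 0, 1, 3, 0, 3, 1, 3, 0, 1,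 3, 0, 2], 476)], 194), ([(89, [3, 1, 2, 0, 2, 1, 3, 0, 2, 2, 1, 3, 0, 2, 2, 2, 1, 2, 0, 1, 2, 0], 250), (55, [3, 1, 3, 0, 3, 1, 2, 0, 2, 1, 3, 0, 3, 3, 1, 2, 0, 3, 3], 15), (95, [1, 3, 0, 2, 2, 1, 2, 0, 2, 1, 3, 0, 1, 3, 0, 3, 1, 3, 0, 1, 3, 0, 2], 456)], 49), ([(88, [3, 1, 2, 0, 2, 1, 3, 0, 2, 2, 1, 3, 0, 2, 2, 2, 1, 2, 0, 1, 2, 0], 250), (90, [2, 2, 1, 3, 0, 1, 3, 0, 2, 2, 2, 1, 2, 0, 3, 1, 3, 0, 1, 3, 0, 2], 464), (60, [1, 2, 0, 2, 1, 2, 0, 1, 2, 0], 16)], 0), ([(97, [1, 3, 0, 3, 1, 2, 0, 3, 1, 3, 0, 2, 2, 2], 37), (73, [1, 2, 0, 2, 2, 1, 3, 0, 2, 2, 1, 2, 0, 1, 2, 0, 3, 1, 3, 0, 3, 1, 2, 0], 25), (55, [2, 1, 2, 0, 2, 1, 3, 0, 1, 3, 0, 3, 1, 3, 0, 1, 3, 0, 2], 229)], 379), ([(94, [2,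 2, 2, 1, 3, 0, 2, 1, 2, 0, 2, 2, 1, 2, 0, 2], 444), (43, [2, 1, 3, 0, 1, 3, 0, 2, 1, 2, 0, 1, 2, 0, 2, 1, 3, 0, 3, 3, 1, 2, 0, 2], 961), (45, [1, 2, 0, 2, 1, 2, 0, 1, 2, 0], 62)], 0), ([(95, [3, 3, 1, 3, 0, 3, 3, 1, 2, 0, 2, 2], 157), (90, [1, 3, 0, 2, 2, 1, 2, 0, 2, 1, 3, 0, 2, 2, 1, 2, 0, 2, 2], 288), (71, [2, 1, 3, 0, 3, 1, 2, 0, 2, 2, 1, 2, 0, 1, 2, 0], 65)], 411), ([(93, [1, 2, 0, 3, 1, 3, 0, 3, 3, 1, 2, 0], 392), (60, [2, 1, 3, 0, 1, 3, 0, 3, 3, 1, 3, 0, 1, 3, 0, 3, 3, 1, 3, 0, 2, 1, 2, 0], 34), (91, [1, 3, 0, 3, 3, 1, 3, 0, 3, 1, 2, 0], 348)], 379), ([(96, [2, 1, 2, 0, 1, 2, 0, 3, 1, 3, 0, 1, 3, 0, 3, 1, 2, 0, 1, 2, 0, 3], 537), (92, [2, 2, 1, 3, 0, 1, 3, 0, 2, 2, 2, 1, 2, 0, 3,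 1, 3, 0, 1, 3, 0, 2], 393), (66, [1, 2, 0, 2, 1, 2, 0, 1, 2, 0], 130)], 522), ([(97, [2, 1, 2, 0, 1, 2, 0, 3, 1, 3, 0, 1, 3, 0, 3, 1, 2, 0, 1, 2, 0, 3], 537), (55, [1, 2, 0, 1, 2, 0, 2, 1, 3, 0, 2, 2, 1, 3, 0, 1, 3, 0, 3, 3], 92), (96, [1, 2, 0, 2, 2, 1, 3, 0, 1, 3, 0, 3, 1, 3, 0, 1, 3, 0, 2, 1, 2, 0], 562)], 498), ([(98, [2, 2, 1, 3, 0, 2, 2, 1, 3, 0, 2, 2, 2, 1, 2, 0, 1, 2, 0], 605), (98, [2, 1, 3, 0, 2, 2, 2, 1, 2, 0, 1, 2, 0, 2, 1, 3, 0, 3, 1, 2, 0], 166), (98, [1, 2, 0, 2, 2, 2, 1, 3, 0, 3, 1, 3, 0, 2], 195)], 518), ([(99, [1, 3, 0, 1, 3, 0, 2, 1, 2, 0, 2, 2], 26094), (75, [2, 2, 1, 3, 0, 3, 1, 3, 0, 1, 3, 0, 2, 2, 1, 3, 0, 2, 1, 2, 0, 1, 2, 0], 155), (61, [3, 1, 3, 0, 1, 3, 0],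 164)], 2593), ([(99, [2, 1, 2, 0, 1, 2, 0, 1, 2, 0, 2, 2, 1, 2, 0, 2, 2], 24574), (61, [2, 1, 2, 0, 1, 2, 0, 1, 2, 0, 2, 2, 1, 2, 0, 2, 2], 228), (100, [1, 2, 0, 2, 1, 2, 0, 1, 2, 0], 14122)], 26170)],
[([(0, [], 0), (5, [], 0), (2, [], 24400)], 0), ([(5, [], 14692), (2, [], 24400), (0, [], 0)], 61772), ([(6, [], 14692), (14, [], 2300), (3, [], 24400)], 61772), ([(7, [], 19017), (26, [], 9832), (4, [], 24400)], 13286), ([(8, [], 19017), (12, [], 2300), (1, [], 24400)], 13286), ([(10, [2, 2, 2, 1, 2, 0, 2, 1, 3, 0, 3, 3], 89256), (33, [2, 2, 2, 1, 2, 0, 2, 1, 3, 0, 3, 1, 2, 0], 1350), (12, [2, 1, 2, 0], 2983)], 24476), ([(10, [2, 2, 2, 1, 2, 0, 2, 1, 3, 0, 3, 1, 2, 0], 73496), (31, [2,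 2, 2, 1, 2, 0, 2, 1, 3, 0, 3, 3], 278), (5, [2, 1, 2, 0], 55398)], 24476), ([(9, [2, 2, 2, 1, 2, 0, 2, 1, 3, 0, 3, 1, 2, 0], 53792), (23, [2, 2, 1, 2, 0, 1, 2, 0, 2, 1, 2, 0, 1, 2, 0, 3], 1249), (14, [2, 1, 2, 0], 4132)], 37935), ([(9, [2, 2, 2, 1, 2, 0, 2, 1, 3, 0, 3, 3], 105207), (13, [2, 1, 2, 0], 1321), (26, [2, 1, 2, 0], 64047)], 37935), ([(11, [2, 1, 2, 0, 2, 2], 13817), (80, [1, 2, 0, 1, 2, 0, 3, 3, 1, 2, 0, 1, 2, 0, 2, 1, 2, 0, 1, 2, 0, 2], 93), (17, [1, 2, 0, 2], 4109)], 43256), ([(11, [2, 2, 1, 2, 0, 3, 1, 3, 0, 3], 38524), (82, [1, 2, 0, 1, 2, 0, 3, 3, 1, 2, 0, 1, 2, 0, 2, 1, 2, 0, 1, 2, 0, 2], 221), (31, [1, 2, 0, 2], 741)], 73126), ([(10, [1, 2, 0, 2, 1, 3, 0, 3, 3], 119776),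 (40, [2, 1, 2, 0, 2, 2, 2, 1, 2, 0, 2], 774), (77, [2, 2, 1, 2, 0], 373)], 5872), ([(17, [2, 2, 2, 1, 2, 0, 2, 1, 3, 0, 3, 1, 2, 0], 4157), (7, [2, 1, 2, 0], 43151), (27, [2, 1, 2, 0], 64047)], 2999), ([(16, [2, 2, 2, 1, 2, 0, 2, 1, 3, 0, 3, 3], 1244), (31, [2, 2, 2, 1, 2, 0, 2, 1, 3, 0, 3, 1, 2, 0], 1019), (6, [2, 1, 2, 0], 59371)], 2999), ([(22, [2, 2, 1, 2, 0, 1, 2, 0, 2, 1, 2, 0, 1, 2, 0, 1, 2, 0], 753), (30, [2, 2, 2, 1, 2, 0, 2, 1, 3, 0, 3, 1, 2, 0], 93), (15, [2, 1, 2, 0], 2129)], 3083), ([(23, [2, 2, 1, 2, 0, 1, 2, 0, 2, 1, 2, 0, 1, 2, 0, 1, 2, 0], 753), (17, [2, 2, 2, 1, 2, 0, 2, 1, 3, 0, 3, 3], 450), (8, [2, 1, 2, 0], 68717)], 3083), ([(24, [1, 2, 0, 1, 2, 0, 3, 3, 1, 2, 0,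 1, 2, 0, 2, 1, 2, 0, 1, 2, 0, 2], 4406), (77, [2, 1, 2, 0, 2, 2], 366), (9, [1, 2, 0, 2], 68594)], 2760), ([(24, [3, 1, 3, 0, 3, 1, 2, 0, 2, 1, 3, 0, 3, 1, 2, 0], 614), (87, [1, 3, 0, 1, 3, 0, 2, 1, 2, 0, 2, 1, 3, 0, 3, 1, 2, 0, 2, 2], 22), (33, [1, 2, 0, 2], 858)], 4826), ([(25, [2, 2, 1, 2, 0, 1, 2, 0, 2, 1, 2, 0, 3, 3, 1, 2, 0, 2, 2, 1, 2, 0, 1, 2, 0], 2676), (49, [2, 2, 1, 3, 0, 2, 1, 2, 0, 2, 2, 1, 3, 0, 2, 1, 2, 0], 136), (19, [2, 1, 2, 0, 2, 2, 2, 1, 2, 0, 2, 1, 3, 0], 76)], 4602), ([(25, [1, 2, 0, 2, 1, 3, 0, 2, 1, 2, 0, 3, 1, 3, 0, 1, 3, 0, 2, 1, 2, 0], 2608), (64, [2, 2, 1, 3, 0, 3, 1, 2, 0, 3, 1, 3, 0, 3, 1, 2, 0, 2], 82), (47, [1, 2, 0, 2], 205)], 3308), ([(24, [2, 2, 1, 2,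 0, 3, 3, 1, 2, 0, 2, 1, 3, 0, 3, 1, 3, 0, 1, 3, 0, 3], 1019), (82, [3, 1, 3, 0, 3, 1, 2, 0, 2, 1, 3, 0, 3, 1, 2, 0], 180), (34, [1, 2, 0, 2], 1352)], 3142), ([(24, [2, 1, 2, 0, 1, 2, 0, 2, 1, 2, 0, 1, 2, 0, 1, 2, 0, 3, 1, 3, 0, 2, 1, 2, 0], 1463), (86, [1, 3, 0, 1, 3, 0, 2, 1, 2, 0, 2, 1, 3, 0, 3, 1, 2, 0, 2, 2], 221), (49, [1, 2, 0, 2], 149)], 3142), ([(25, [1, 3, 0, 2, 1, 2, 0, 1, 2, 0, 2, 1, 3, 0, 3, 1, 3, 0, 1, 3, 0, 2], 1397), (58, [1, 2, 0, 1, 2, 0, 3, 3, 1, 3, 0, 2, 2, 1, 2, 0, 1, 2, 0], 57), (23, [2, 1, 2, 0, 3, 3, 1, 2, 0, 2, 2, 1, 2, 0], 99)], 160), ([(25, [1, 2, 0, 2, 2, 2, 1, 2, 0, 1, 2, 0, 1, 2, 0], 1618), (56, [2, 1, 2, 0, 2, 2, 1, 3, 0, 1, 3, 0, 3, 1, 2, 0, 1, 2, 0, 3],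 120), (30, [2, 2, 1, 2, 0, 2, 2, 1, 2, 0], 1153)], 4085), ([(25, [3, 1, 3, 0, 1, 3, 0, 2, 2, 1, 2, 0, 3, 3, 1, 2, 0, 2, 1, 3, 0], 4436), (63, [1, 3, 0, 3, 1, 2, 0, 1, 2, 0, 2, 2], 230), (80, [2, 1, 3, 0, 3, 1, 2, 0, 1, 2, 0, 2, 1, 2, 0, 1, 2, 0, 1, 2, 0, 3], 178)], 2230), ([(25, [1, 2, 0, 2, 1, 3, 0, 2, 1, 2, 0, 2, 1, 2, 0], 1889), (75, [1, 2, 0, 1, 2, 0, 2, 1, 2, 0, 2, 2, 1, 3, 0, 3, 3, 1, 2, 0], 131), (58, [3, 1, 3, 0, 2, 2, 2], 81)], 4816), ([(27, [2, 1, 2, 0], 64026), (17, [2, 2, 2, 1, 2, 0, 2, 1, 3, 0, 3, 1, 2, 0], 4192), (7, [2, 1, 2, 0], 43151)], 42718), ([(26, [2, 1, 2, 0], 58928), (9, [2, 2, 2, 1, 2, 0, 2, 1, 3, 0, 3, 3], 75854), (13, [2, 1, 2, 0], 1321)], 43606), ([(28, [2,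 2, 1, 2, 0, 3, 1, 3, 0, 3, 3, 1, 3, 0, 1, 3, 0, 2], 56510), (43, [3, 1, 2, 0, 1, 2, 0, 2, 2, 1, 3, 0, 1, 3, 0, 2, 2, 2], 1318), (36, [1, 2, 0, 2], 732)], 44177), ([(29, [2, 2, 1, 2, 0, 3, 1, 3, 0, 3, 3, 1, 3, 0, 1, 3, 0, 2], 72634), (64, [2, 1, 3, 0, 3, 1, 2, 0, 2, 1, 3, 0, 3, 3], 125), (50, [1, 2, 0, 2], 147)], 43725), ([(40, [1, 2, 0, 1, 2, 0, 3, 3, 1, 2, 0, 1, 2, 0, 2, 1, 2, 0, 1, 2, 0, 2], 1045), (77, [2, 2, 1, 2, 0, 3, 1, 3, 0, 3], 428), (10, [1, 2, 0, 2], 38569)], 774), ([(41, [1, 2, 0, 1, 2, 0, 3, 3, 1, 2, 0, 1, 2, 0, 2, 1, 2, 0, 1, 2, 0, 2], 769), (58, [2, 1, 2, 0, 1, 2, 0, 1, 2, 0, 2, 1, 2, 0, 1, 2, 0, 2, 1, 3, 0, 1, 3, 0, 2], 20), (22, [1, 3, 0, 1, 3, 0], 556)], 751), ([(42,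 [1, 2, 0, 1, 2, 0, 3, 3, 1, 2, 0, 1, 2, 0, 2, 1, 2, 0, 1, 2, 0, 2], 1033), (80, [3, 1, 2, 0, 1, 2, 0, 2, 2, 1, 3, 0, 1, 3, 0, 2, 2, 2], 242), (16, [1, 2, 0, 2], 1384)], 1387), ([(43, [1, 2, 0, 1, 2, 0, 3, 3, 1, 2, 0, 1, 2, 0, 2, 1, 2, 0, 1, 2, 0, 2], 733), (43, [2, 1, 3, 0, 3, 1, 2, 0, 2, 1, 3, 0, 3, 3], 612), (32, [1, 2, 0, 2], 330)], 934), ([(41, [3, 1, 3, 0, 3, 1, 2, 0, 2, 1, 3, 0, 3, 1, 2, 0], 1198), (47, [2, 2, 1, 3, 0, 2, 1, 2, 0, 2, 2, 1, 3, 0, 2, 1, 2, 0], 166), (21, [2, 1, 2, 0, 2, 2, 2, 1, 2, 0, 2, 1, 3, 0], 1974)], 378), ([(43, [2, 1, 2, 0, 1, 2, 0, 2, 1, 2, 0, 1, 2, 0, 1, 2, 0, 3, 1, 3, 0, 2, 1, 2, 0], 47), (36, [2, 2, 1, 2, 0, 3, 1, 3, 0, 3, 3, 1, 3, 0, 1, 3, 0, 2], 794),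 (28, [1, 2, 0, 2], 75072)], 419), ([(42, [3, 1, 3, 0, 3, 1, 2, 0, 2, 1, 3, 0, 3, 1, 2, 0], 88), (84, [1, 3, 0, 3], 236), (53, [1, 2, 0, 2], 66)], 723), ([(42, [2, 1, 2, 0, 1, 2, 0, 2, 1, 2, 0, 1, 2, 0, 1, 2, 0, 3, 1, 3, 0, 2, 1, 2, 0], 1237), (81, [3, 1, 2, 0, 1, 2, 0, 2, 2, 1, 3, 0, 1, 3, 0, 2, 2, 2], 47), (46, [1, 2, 0, 2], 224)], 776), ([(41, [2, 1, 2, 0, 1, 2, 0, 2, 1, 2, 0, 1, 2, 0, 1, 2, 0, 3, 1, 3, 0, 2, 1, 2, 0], 20), (56, [3, 1, 3, 0, 3, 1, 2, 0, 2, 1, 3, 0, 3, 1, 2, 0], 76), (39, [1, 2, 0, 2], 657)], 608), ([(40, [3, 1, 3, 0, 3, 1, 2, 0, 2, 1, 3, 0, 3, 1, 2, 0], 81), (81, [1, 3, 0, 1, 3, 0, 2, 1, 2, 0, 2, 1, 3, 0, 3, 1, 2, 0, 2, 2], 215), (51, [1, 2, 0, 2], 164)], 799), ([(45,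 [3, 1, 3, 0, 1, 3, 0, 3, 3, 1, 3, 0, 2, 2, 1, 2, 0, 3, 1, 3, 0, 3], 1022), (97, [3, 1, 2, 0, 1, 2, 0, 1, 2, 0, 3, 1, 3, 0, 2, 1, 2, 0, 1, 2, 0, 3, 1, 3, 0], 410), (56, [3, 1, 3, 0, 2, 2, 2], 31)], 1341), ([(45, [1, 2, 0, 1, 2, 0, 2, 1, 3, 0, 3, 1, 2, 0, 1, 2, 0, 1, 2, 0, 2, 1, 2, 0, 1, 2, 0, 2], 896), (95, [2, 2, 1, 2, 0, 3, 1, 3, 0, 2, 2, 1, 2, 0, 1, 2, 0, 2, 2, 1, 3, 0], 163), (82, [3, 1, 3, 0, 2, 2, 2], 43)], 786), ([(44, [3, 1, 3, 0, 1, 3, 0, 2, 2, 1, 2, 0, 3, 3, 1, 2, 0, 2, 1, 3, 0], 504), (56, [1, 2, 0, 3, 1, 3, 0, 3, 1, 2, 0, 2, 2, 1, 2, 0, 2, 1, 3, 0], 225), (43, [2, 1, 3, 0, 3, 3, 1, 2, 0, 3, 1, 3, 0, 2, 2, 1, 2, 0, 1, 2, 0], 781)], 304), ([(44, [1, 3, 0, 2, 1, 2, 0, 1, 2, 0,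 3, 1, 3, 0, 2, 1, 2, 0, 1, 2, 0, 3, 1, 3, 0], 968), (60, [1, 2, 0, 1, 2, 0, 3, 1, 3, 0, 3, 1, 2, 0, 2, 1, 3, 0, 3, 1, 3, 0, 2], 63), (87, [2, 1, 2, 0, 1, 2, 0, 3, 1, 3, 0, 2, 1, 2, 0, 2, 2, 1, 2, 0, 1, 2, 0], 18)], 786), ([(45, [3, 1, 2, 0, 2, 2, 1, 2, 0, 1, 2, 0, 3, 1, 3, 0, 3, 3, 1, 3, 0], 67), (92, [2, 1, 3, 0, 3, 1, 3, 0, 2, 2, 1, 3, 0, 2, 1, 2, 0, 1, 2, 0, 3, 3, 1, 3, 0], 154), (67, [2, 1, 3, 0, 3, 1, 2, 0, 2, 2, 1, 2, 0, 2, 1, 2, 0, 3, 3], 138)], 537), ([(44, [3, 1, 2, 0, 2, 2, 1, 2, 0, 1, 2, 0, 3, 1, 3, 0, 3, 3, 1, 3, 0], 198), (55, [3, 1, 3, 0, 2, 1, 2, 0, 2, 2, 1, 3, 0, 2, 2, 1, 3, 0, 3, 3, 1, 2, 0], 133), (94, [3, 1, 3, 0, 2, 2, 2], 141)], 786), ([(64, [3, 1, 2, 0, 1, 2, 0,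 2, 2, 1, 3, 0, 1, 3, 0, 2, 2, 2], 204), (58, [2, 2, 1, 2, 0, 1, 2, 0, 2, 1, 2, 0, 3, 3, 1, 2, 0, 2, 2, 1, 2, 0, 1, 2, 0], 177), (18, [1, 2, 0, 2], 3950)], 134), ([(63, [3, 1, 2, 0, 1, 2, 0, 2, 2, 1, 2, 0, 3, 3, 1, 2, 0], 145), (87, [2, 2, 1, 3, 0, 3, 1, 2, 0, 3, 1, 3, 0, 3, 1, 2, 0, 2], 113), (37, [2, 1, 2, 0, 2, 2, 2, 1, 2, 0, 2, 1, 3, 0], 143)], 145), ([(65, [3, 3, 1, 2, 0, 1, 2, 0, 3, 3], 149), (80, [3, 1, 3, 0, 3, 1, 2, 0, 2, 1, 3, 0, 3, 1, 2, 0], 250), (20, [1, 2, 0, 2], 3159)], 136), ([(65, [2, 2, 1, 3, 0, 2, 1, 2, 0, 2, 2, 1, 3, 0, 2, 1, 2, 0], 69), (84, [2, 1, 3, 0, 3, 1, 3, 0, 1, 3, 0, 2, 2, 1, 3, 0, 1, 3, 0, 3, 1, 2, 0], 378), (48, [2, 1, 2, 0, 2, 2, 2, 1, 2, 0, 2, 1, 3, 0],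 227)], 143), ([(63, [2, 2, 1, 2, 0, 3, 3, 1, 2, 0, 2, 1, 3, 0, 3, 1, 3, 0, 1, 3, 0, 3], 206), (82, [2, 1, 2, 0, 1, 2, 0, 2, 1, 2, 0, 1, 2, 0, 1, 2, 0, 3, 1, 3, 0, 2, 1, 2, 0], 117), (38, [1, 2, 0, 2], 215)], 134), ([(64, [1, 3, 0, 1, 3, 0, 2, 1, 2, 0, 2, 1, 3, 0, 3, 1, 2, 0, 2, 2], 160), (50, [2, 2, 1, 2, 0, 3, 1, 3, 0, 3, 3, 1, 3, 0, 1, 3, 0, 2], 149), (29, [1, 2, 0, 2], 68544)], 134), ([(57, [2, 1, 3, 0, 3, 3, 1, 3, 0, 3, 3, 1, 2, 0, 2, 1, 2, 0], 64), (87, [3, 1, 2, 0, 1, 2, 0, 2, 2, 1, 3, 0, 1, 3, 0, 2, 2, 2], 246), (35, [1, 2, 0, 2], 167)], 51), ([(58, [1, 2, 0, 1, 2, 0, 2, 1, 2, 0, 3, 1, 3, 0, 3, 1, 2, 0, 2, 1, 3, 0, 2], 224), (25, [2, 1, 3, 0, 3, 3, 1, 3, 0, 3, 3, 1, 2, 0, 2, 1,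 2, 0], 836), (52, [1, 2, 0, 2], 3)], 136), ([(75, [1, 2, 0, 2, 1, 3, 0, 3, 1, 2, 0, 2, 2, 1, 3, 0, 2, 1, 2, 0, 1, 2, 0, 2], 79), (55, [1, 3, 0, 2, 1, 2, 0, 2, 1, 3, 0, 3, 1, 2, 0, 2, 2, 1, 2, 0, 2], 139), (92, [3, 1, 3, 0, 2, 2, 2], 5)], 146), ([(74, [1, 2, 0, 2, 1, 3, 0, 3, 1, 2, 0, 2, 2, 1, 3, 0, 2, 1, 2, 0, 1, 2, 0, 2], 79), (60, [1, 3, 0, 2, 2, 1, 2, 0, 3, 3, 1, 2, 0, 3, 3, 1, 3, 0, 2], 81), (89, [3, 1, 3, 0, 2, 2, 2], 346)], 146), ([(67, [3, 1, 2, 0, 1, 2, 0, 1, 2, 0, 3, 1, 3, 0, 2, 1, 2, 0, 1, 2, 0, 3, 1, 3, 0], 31), (43, [3, 1, 2, 0, 3, 3, 1, 3, 0, 2, 1, 2, 0, 2, 1, 2, 0], 430), (41, [2, 1, 3, 0, 3, 3, 1, 2, 0, 3, 1, 3, 0, 2, 2, 1, 2, 0, 1, 2, 0], 650)], 31), ([(75, [2, 2, 1, 2,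 0, 1, 2, 0, 2, 2, 1, 3, 0, 2, 1, 2, 0, 1, 2, 0, 2, 1, 3, 0], 26), (58, [1, 2, 0, 2, 1, 3, 0, 2, 1, 2, 0, 2, 1, 2, 0], 149), (25, [3, 1, 3, 0, 2, 2, 2], 318)], 184), ([(75, [3, 1, 3, 0, 1, 3, 0, 3, 1, 2, 0, 1, 2, 0, 2, 1, 3, 0, 1, 3, 0, 2, 1, 2, 0, 1, 2, 0], 91), (60, [1, 3, 0, 3, 1, 3, 0, 1, 3, 0, 2, 1, 2, 0, 3, 1, 3, 0, 1, 3, 0, 3, 1, 2, 0], 60), (84, [3, 1, 2, 0, 1, 2, 0, 3, 1, 3, 0, 1, 3, 0, 3, 1, 2, 0, 1, 2, 0], 42)], 53), ([(72, [1, 2, 0, 2, 1, 2, 0, 3, 1, 3, 0, 3, 3, 1, 3, 0, 1, 3, 0, 2, 2], 99), (54, [3, 1, 2, 0, 2, 1, 3, 0, 3, 3, 1, 3, 0, 3, 1, 2, 0], 25), (90, [3, 1, 3, 0, 2, 2, 2], 468)], 146), ([(73, [1, 2, 0, 2, 1, 2, 0, 3, 1, 3, 0, 3, 3, 1, 3, 0, 1, 3, 0, 2, 2], 99), (74,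 [1, 2, 0, 2, 2, 2, 1, 2, 0, 2, 1, 3, 0, 3, 1, 3, 0, 2], 122), (59, [1, 2, 0, 2, 1, 2, 0, 2, 1, 3, 0, 2, 1, 2, 0, 2, 1, 2, 0, 1, 2, 0, 3, 1, 3, 0], 159)], 204), ([(60, [2, 2, 1, 3, 0, 1, 3, 0, 3, 1, 2, 0, 2, 2, 1, 3, 0, 2, 1, 2, 0, 2], 51), (89, [3, 1, 2, 0, 1, 2, 0, 1, 2, 0, 2, 1, 2, 0, 3, 1, 3, 0, 1, 3, 0, 2, 1, 2, 0, 1, 2, 0, 2], 424), (68, [2, 2, 1, 2, 0, 2, 1, 2, 0, 3, 3], 224)], 146), ([(59, [2, 2, 1, 3, 0, 1, 3, 0, 3, 1, 2, 0, 2, 2, 1, 3, 0, 2, 1, 2, 0, 2], 51), (61, [3, 3, 1, 3, 0, 3, 1, 2, 0, 2, 2, 1, 3, 0, 3, 3, 1, 3, 0], 146), (99, [3, 1, 3, 0, 2, 2, 2], 13860)], 146), ([(54, [1, 2, 0, 1, 2, 0, 1, 2, 0, 3, 3, 1, 3, 0, 2, 2, 1, 2, 0, 3, 1, 3, 0, 3], 7), (84, [2, 1, 2, 0, 2, 2,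 1, 2, 0, 3, 3, 1, 2, 0, 3], 34), (64, [3, 1, 3, 0, 2, 2, 1, 2, 0, 1, 2, 0, 2, 2, 1, 3, 0, 1, 3, 0], 232)], 228), ([(55, [3, 1, 2, 0, 1, 2, 0, 1, 2, 0, 3, 1, 3, 0, 2, 1, 2, 0, 1, 2, 0, 3, 1, 3, 0], 88), (95, [1, 3, 0, 2, 1, 2, 0, 1, 2, 0, 3, 1, 3, 0, 2, 1, 2, 0, 1, 2, 0, 3, 1, 3, 0], 606), (81, [3, 1, 3, 0, 2, 2, 2], 25)], 146), ([(54, [1, 2, 0, 2, 1, 2, 0, 2, 1, 3, 0, 2, 1, 2, 0, 1, 2, 0, 2, 1, 3, 0, 3, 3, 1, 2, 0], 37), (83, [2, 2, 1, 2, 0, 1, 2, 0, 3, 3, 1, 3, 0, 3, 3, 1, 3, 0, 1, 3, 0], 322), (86, [2, 2, 1, 2, 0, 2, 1, 2, 0, 3, 3, 1, 3, 0, 1, 3, 0, 3, 1, 2, 0], 13)], 118), ([(75, [1, 2, 0, 2, 1, 3, 0, 2, 1, 2, 0, 2, 1, 2, 0], 10), (67, [2, 1, 3, 0, 1, 3, 0, 2, 1, 2, 0, 3, 1, 3, 0,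 3, 1, 2, 0, 3], 213), (44, [3, 1, 3, 0, 2, 1, 2, 0, 1, 2, 0, 3, 1, 3, 0, 2, 1, 2, 0], 358)], 63), ([(74, [1, 2, 0, 2, 1, 3, 0, 2, 1, 2, 0, 2, 1, 2, 0], 10), (71, [2, 1, 3, 0, 3, 1, 2, 0, 1, 2, 0, 2, 1, 2, 0, 2, 2, 1, 3, 0, 1, 3, 0], 20), (97, [3, 1, 3, 0, 2, 2, 2], 409)], 146), ([(55, [2, 2, 1, 3, 0, 1, 3, 0, 3, 1, 2, 0, 2, 2, 1, 3, 0, 2, 1, 2, 0, 2], 59), (92, [2, 2, 1, 3, 0, 1, 3, 0, 3, 1, 2, 0, 2, 2, 1, 3, 0, 2, 1, 2, 0, 2], 484), (69, [3, 1, 3, 0, 2, 2, 2], 25)], 110), ([(54, [2, 2, 1, 3, 0, 1, 3, 0, 3, 1, 2, 0, 2, 2, 1, 3, 0, 2, 1, 2, 0, 2], 59), (90, [3, 1, 2, 0, 1, 2, 0, 1, 2, 0, 2, 1, 2, 0, 3, 1, 3, 0, 1, 3, 0, 2, 1, 2, 0, 1, 2, 0, 2], 387), (62, [1, 2, 0, 3, 3, 1, 3, 0, 2, 2,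 2], 181)], 146), ([(72, [1, 2, 0, 2, 2, 1, 2, 0, 3, 3, 1, 2, 0, 2, 1, 2, 0, 1, 2, 0, 2, 2], 54), (66, [1, 2, 0, 3, 3, 1, 3, 0, 2, 1, 2, 0, 2, 2, 1, 2, 0, 1, 2, 0, 2, 2], 85), (93, [3, 1, 3, 0, 2, 1, 2, 0, 1, 2, 0, 3, 1, 3, 0, 2, 1, 2, 0], 470)], 182), ([(73, [1, 2, 0, 2, 2, 1, 2, 0, 3, 3, 1, 2, 0, 2, 1, 2, 0, 1, 2, 0, 2, 2], 54), (75, [1, 3, 0, 2, 2, 1, 2, 0, 3, 1, 3, 0, 3, 3, 1, 3, 0, 1, 3, 0, 2, 1, 2, 0], 118), (70, [3, 3, 1, 3, 0, 2, 1, 2, 0, 3, 1, 3, 0, 3, 3], 236)], 146), ([(75, [2, 2, 1, 2, 0, 2, 1, 3, 0, 3, 3, 1, 3, 0, 2, 2, 1, 3, 0, 2, 2, 1, 3, 0], 216), (74, [3, 1, 2, 0, 2, 1, 2, 0, 2, 1, 3, 0, 2, 2, 1, 2, 0, 3, 1, 3, 0], 53), (72, [3, 1, 2, 0, 1, 2, 0, 2, 2, 1, 2, 0, 3, 3, 1,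 2, 0, 2, 1, 3, 0, 3, 3], 7)], 40), ([(74, [2, 2, 1, 2, 0, 2, 1, 3, 0, 3, 3, 1, 3, 0, 2, 2, 1, 3, 0, 2, 2, 1, 3, 0], 216), (73, [2, 1, 2, 0, 3, 3, 1, 2, 0, 3, 3, 1, 3, 0, 3, 1, 2, 0, 1, 2, 0, 2], 49), (73, [3, 1, 2, 0, 2, 1, 2, 0, 2, 1, 3, 0, 2, 2, 1, 2, 0, 3, 3, 1, 2, 0], 74)], 209), ([(73, [2, 2, 1, 2, 0, 1, 2, 0, 2, 2, 1, 2, 0, 3, 3, 1, 2, 0, 1, 2, 0, 2], 0), (74, [1, 3, 0, 3, 3, 1, 2, 0, 3, 1, 3, 0, 1, 3, 0, 3, 1, 2, 0, 2, 1, 3, 0], 144), (74, [1, 2, 0, 3, 1, 3, 0, 2, 1, 2, 0, 2, 1, 3, 0, 3, 3, 1, 2, 0], 189)], 68), ([(72, [2, 2, 1, 2, 0, 1, 2, 0, 2, 2, 1, 2, 0, 3, 3, 1, 2, 0, 1, 2, 0, 2], 0), (68, [1, 3, 0, 1, 3, 0, 2, 2, 1, 2, 0, 3, 1, 3, 0, 2, 1, 2, 0], 197), (75, [3, 1, 3, 0, 2,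 1, 2, 0, 1, 2, 0, 3, 3, 1, 3, 0, 2, 2, 1, 2, 0], 79)], 159), ([(82, [2, 1, 2, 0, 2, 2, 2, 1, 2, 0, 2], 135), (31, [1, 2, 0, 2, 1, 3, 0, 3, 3], 837), (11, [2, 2, 1, 2, 0], 11850)], 54), ([(83, [2, 1, 2, 0, 2, 2, 2, 1, 2, 0, 2], 361), (85, [1, 2, 0, 1, 2, 0, 2, 2, 1, 2, 0, 2, 1, 3, 0, 2, 2, 1, 2, 0, 3], 188), (78, [2], 43)], 23), ([(87, [2, 1, 2, 0, 1, 2, 0, 2, 2, 1, 3, 0, 2], 239), (42, [1, 3, 0, 3, 3, 1, 2, 0, 3], 1293), (79, [3, 3, 1, 2, 0, 1, 2, 0, 2], 387)], 185), ([(86, [1, 3, 0, 2, 2, 1, 3, 0, 3, 3, 1, 2, 0, 1, 2, 0, 3, 1, 3, 0], 140), (63, [1, 3, 0, 2, 2, 1, 3, 0, 3, 3, 1, 2, 0, 1, 2, 0, 3, 1, 3, 0], 50), (76, [3, 1, 2, 0, 2], 328)], 51), ([(91, [1, 2, 0, 2, 1, 3, 0, 2, 1, 2, 0,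 1, 2, 0, 3, 1, 3, 0, 3, 3, 1, 2, 0, 1, 2, 0, 3], 218), (92, [1, 2, 0, 1, 2, 0, 1, 2, 0, 3, 3, 1, 3, 0, 2, 2, 1, 2, 0, 3, 1, 3, 0, 3], 606), (63, [3, 1, 3, 0, 2, 2, 2], 41)], 462), ([(90, [2, 1, 3, 0, 2, 1, 2, 0, 3, 1, 3, 0, 3, 3, 1, 2, 0, 1, 2, 0, 1, 2, 0], 228), (58, [3, 1, 3, 0, 1, 3, 0, 2, 2, 1, 2, 0, 3, 3, 1, 2, 0, 2, 1, 3, 0], 219), (24, [3, 1, 3, 0, 2, 2, 2], 2620)], 300), ([(90, [1, 3, 0, 2, 2, 1, 2, 0, 3, 1, 3, 0, 2, 2, 1, 2, 0, 3, 3, 1, 2, 0, 3], 156), (54, [1, 2, 0, 3, 3, 1, 2, 0, 3, 1, 3, 0, 1, 3, 0, 3, 1, 2, 0, 2, 1, 3, 0, 2], 208), (83, [1, 2, 0, 3, 1, 3, 0, 1, 3, 0, 2, 1, 2, 0, 1, 2, 0, 2, 1, 3, 0], 415)], 304), ([(91, [1, 3, 0, 2, 2, 1, 2, 0, 1, 2, 0, 2, 1, 3, 0, 1, 3,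 0, 2, 1, 2, 0, 2], 447), (94, [3, 1, 3, 0, 1, 3, 0, 3, 3, 1, 3, 0, 2, 2, 1, 2, 0, 3, 1, 3, 0, 3], 246), (40, [3, 1, 3, 0, 2, 2, 2], 874)], 49), ([(88, [1, 2, 0, 3, 3, 1, 3, 0, 1, 3, 0, 3, 1, 3, 0, 2, 1, 2, 0, 1, 2, 0, 3, 1, 3, 0], 161), (85, [3, 1, 2, 0, 2, 2, 2, 1, 2, 0], 13), (85, [1, 2, 0, 3, 1, 3, 0, 1, 3, 0, 3, 1, 3, 0, 2, 1, 2, 0, 3, 3, 1, 3, 0, 2], 399)], 49), ([(89, [1, 2, 0, 3, 3, 1, 3, 0, 1, 3, 0, 3, 1, 3, 0, 2, 1, 2, 0, 1, 2, 0, 3, 1, 3, 0], 161), (64, [2, 1, 3, 0, 2, 1, 2, 0, 2], 109), (57, [1, 2, 0, 2, 2, 1, 3, 0, 1, 3, 0, 2, 2, 1, 2, 0, 2, 2], 193)], 286), ([(88, [2, 2, 2, 1, 3, 0, 1, 3, 0, 3, 1, 2, 0, 2, 2, 1, 3, 0, 2, 1, 2, 0, 2], 88), (82, [1, 3, 0, 3, 1, 3, 0, 2, 1,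 2, 0, 3, 3, 1, 3, 0, 2, 2, 1, 3, 0, 3], 57), (42, [1, 3, 0, 1, 3, 0, 2, 1, 2, 0, 2], 1273)], 432), ([(89, [1, 2, 0, 2, 1, 2, 0, 1, 2, 0, 2, 2, 1, 3, 0, 3, 1, 2, 0, 2, 1, 2, 0, 3], 103), (70, [2, 2, 2, 1, 3, 0, 1, 3, 0, 3, 1, 2, 0, 2, 2, 1, 3, 0, 2, 1, 2, 0, 2], 91), (65, [1, 3, 0, 3, 1, 3, 0, 2, 2, 1, 2, 0, 3, 3, 1, 2, 0, 2, 1, 3, 0], 143)], 88), ([(90, [1, 3, 0, 2, 2, 1, 2, 0, 3, 3, 1, 2, 0, 3, 3, 1, 3, 0, 2], 346), (75, [3, 3, 1, 3, 0, 2, 1, 2, 0, 3, 1, 3, 0, 2, 1, 2, 0, 2, 1, 2, 0], 165), (54, [3, 1, 3, 0, 2, 2, 2], 95)], 26), ([(91, [1, 3, 0, 2, 2, 1, 2, 0, 3, 3, 1, 2, 0, 3, 3, 1, 3, 0, 2], 346), (95, [1, 2, 0, 1, 2, 0, 2, 2, 1, 3, 0, 2, 2, 1, 3, 0, 3, 3, 1, 3, 0, 2, 2], 608), (88,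 [1, 2, 0, 2, 2, 1, 2, 0, 1, 2, 0, 2, 1, 3, 0, 3, 3, 1, 3, 0, 1, 3, 0], 496)], 194), ([(88, [3, 1, 2, 0, 2, 1, 3, 0, 3, 3, 1, 3, 0, 3, 1, 2, 0], 282), (91, [1, 2, 0, 1, 2, 0, 3, 3, 1, 2, 0, 3, 1, 3, 0, 3, 3, 1, 2, 0, 2], 385), (95, [1, 2, 0, 2, 2, 2, 1, 2, 0, 2, 1, 2, 0, 3, 3, 1, 3, 0], 562)], 185), ([(89, [3, 1, 2, 0, 2, 1, 3, 0, 3, 3, 1, 3, 0, 3, 1, 2, 0], 282), (73, [1, 3, 0, 2, 1, 2, 0, 1, 2, 0, 2, 1, 2, 0, 2, 1, 3, 0, 3, 3, 1, 2, 0], 173), (60, [3, 1, 3, 0, 2, 2, 2], 185)], 49), ([(92, [1, 3, 0, 3, 3, 1, 3, 0, 2, 1, 2, 0, 3, 1, 3, 0, 1, 3, 0], 467), (73, [2, 2, 1, 2, 0, 1, 2, 0, 2, 2, 2, 1, 3, 0, 3, 1, 2, 0, 1, 2, 0], 109), (55, [1, 2, 0, 2, 2, 1, 2, 0, 1, 2, 0, 2, 1, 3, 0, 3, 3,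 1, 3, 0, 1, 3, 0], 25)], 379), ([(92, [1, 2, 0, 2, 2, 1, 2, 0, 1, 2, 0, 3, 3, 1, 3, 0, 2, 2, 1, 3, 0, 1, 3, 0], 370), (67, [1, 2, 0, 1, 2, 0, 3, 1, 3, 0, 3, 1, 2, 0, 3, 1, 3, 0, 2], 74), (45, [3, 1, 3, 0, 2, 2, 2], 229)], 291), ([(92, [3, 1, 2, 0, 2, 2, 1, 2, 0, 3, 1, 3, 0, 2, 2, 1, 2, 0, 2, 1, 3, 0, 1, 3, 0], 260), (59, [1, 2, 0, 3, 1, 3, 0, 3, 1, 2, 0, 2, 1, 3, 0, 3, 3, 1, 3, 0, 1, 3, 0], 232), (71, [2, 1, 3, 0, 3, 1, 2, 0, 2, 2, 1, 2, 0, 2, 1, 2, 0, 3, 3], 29)], 411), ([(95, [3, 1, 2, 0, 2, 1, 2, 0, 3, 3, 1, 2, 0, 3, 1, 3, 0, 1, 3, 0, 2], 576), (88, [1, 3, 0, 3, 3, 1, 2, 0, 1, 2, 0, 3, 3, 1, 3, 0, 1, 3, 0, 3, 3], 322), (91, [1, 3, 0, 2, 2], 302)], 379), ([(93, [2, 1, 3, 0, 1, 3, 0,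 2, 1, 2, 0, 1, 2, 0, 3], 255), (75, [2, 1, 2, 0, 3, 3, 1, 3, 0, 2, 2, 1, 2, 0, 2, 1, 3, 0, 2, 2], 123), (66, [3, 1, 3, 0, 2, 2, 2], 233)], 522), ([(94, [2, 1, 3, 0, 2, 2, 1, 2, 0, 2, 2, 1, 3, 0, 1, 3, 0], 231), (45, [3, 1, 2, 0, 2, 2, 2, 1, 3, 0, 1, 3, 0, 3, 3, 1, 2, 0, 1, 2, 0], 1364), (96, [3, 3, 1, 3, 0, 2, 1, 2, 0, 3, 1, 3, 0, 3, 3], 317)], 517), ([(92, [2, 1, 2, 0, 3, 1, 3, 0, 1, 3, 0, 2, 2, 1, 2, 0, 3, 1, 3, 0, 2, 1, 2, 0], 8), (55, [2, 1, 3, 0, 3, 3, 1, 3, 0, 2, 1, 2, 0, 1, 2, 0, 3, 1, 3, 0, 1, 3, 0, 3], 1), (98, [2, 1, 3, 0, 3, 1, 3, 0, 2, 1, 2, 0, 2, 1, 3, 0, 1, 3, 0, 3], 36)], 535), ([(99, [3, 3, 1, 3, 0, 3, 1, 2, 0, 2, 2, 1, 3, 0, 3, 3, 1, 3, 0], 23254), (59, [2, 2, 1, 2, 0,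 2, 1, 3, 0, 3, 1, 2, 0, 3, 1, 3, 0, 2, 1, 2, 0, 1, 2, 0, 2], 204), (61, [3, 1, 3, 0, 2, 2, 2], 101)], 2342), ([(99, [1, 3, 0, 3, 3, 1, 3, 0, 3, 1, 2, 0, 2, 2, 1, 3, 0], 23989), (61, [1, 3, 0, 3, 3, 1, 3, 0, 3, 1, 2, 0, 2, 2, 1, 3, 0], 228), (100, [2, 2, 1, 2, 0], 7886)], 26453)],
[([(0, [], 0), (5, [], 0), (2, [], 24400)], 0), ([(5, [], 4232), (2, [], 24400), (0, [], 0)], 26586), ([(6, [], 4232), (14, [], 2300), (3, [], 24400)], 26586), ([(7, [], 5242), (26, [], 9832), (4, [], 24400)], 31563), ([(8, [], 5242), (12, [], 2300), (1, [], 24400)], 31563), ([(9, [3, 3, 1, 2, 0, 2], 64361), (19, [1, 3, 0, 1, 3, 0, 2, 1, 2, 0], 4677), (12, [2, 2], 2745)], 9979), ([(9, [2, 1, 2, 0, 3, 1, 3, 0,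 2, 1, 2, 0, 3], 15674), (17, [3, 3, 1, 2, 0, 2], 3166), (5, [2, 2], 5625)], 9979), ([(10, [3, 3, 1, 2, 0, 2], 62928), (34, [2, 1, 2, 0, 2, 1, 3, 0, 2, 1, 2, 0, 3, 3], 732), (14, [2, 2], 2947)], 9979), ([(10, [2, 1, 2, 0, 3, 1, 3, 0, 2, 1, 2, 0, 3], 951), (36, [1, 3, 0, 1, 3, 0, 2, 1, 2, 0], 570), (26, [2, 2], 31747)], 9979), ([(5, [1, 2, 0, 1, 2, 0, 2, 2], 80511), (9, [2, 2, 1, 2, 0, 2, 2, 1, 2, 0, 2, 1, 2, 0], 88177), (17, [2, 1, 3, 0, 2, 2, 2], 2951)], 24400), ([(7, [1, 2, 0, 1, 2, 0, 2, 2], 92286), (28, [1, 3, 0, 1, 3, 0, 3, 3, 1, 2, 0], 32170), (31, [2, 1, 3, 0, 2, 2, 2], 1011)], 94616), ([(9, [2, 2, 1, 3, 0, 2, 2, 2, 1, 3, 0], 96914), (24, [1, 3, 0, 2, 2, 1, 2, 0, 2, 1, 3, 0, 2,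 2, 2, 1, 2, 0], 3177), (77, [2, 1, 3, 0], 472)], 71283), ([(18, [2, 1, 2, 0, 2, 1, 3, 0, 2, 1, 2, 0, 3, 3], 4717), (50, [1, 3, 0, 1, 3, 0, 2, 1, 2, 0], 88), (27, [2, 2], 31747)], 2744), ([(19, [2, 1, 2, 0, 2, 1, 3, 0, 2, 1, 2, 0, 3, 3], 4717), (17, [2, 1, 2, 0, 3, 1, 3, 0, 2, 1, 2, 0, 3], 1258), (6, [2, 2], 110486)], 2744), ([(20, [2, 1, 2, 0, 2, 1, 3, 0, 2, 1, 2, 0, 3, 3], 4058), (49, [2, 1, 2, 0, 2, 1, 3, 0, 2, 1, 2, 0, 3, 3], 14), (15, [2, 2], 2947)], 2744), ([(21, [2, 1, 2, 0, 2, 1, 3, 0, 2, 1, 2, 0, 3, 3], 4058), (31, [2, 1, 2, 0, 3, 1, 3, 0, 2, 1, 2, 0, 3], 806), (8, [2, 2], 6272)], 2744), ([(19, [1, 3, 0, 1, 3, 0, 3, 3, 1, 2, 0], 3084), (12, [1, 2, 0, 1, 2, 0, 2, 2], 4058), (9,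 [2, 1, 3, 0, 2, 2, 2], 48676)], 2985), ([(16, [2, 2, 1, 2, 0, 2, 2, 1, 2, 0, 2, 1, 2, 0], 2995), (39, [1, 3, 0, 1, 3, 0, 3, 3, 1, 2, 0], 263), (33, [2, 1, 3, 0, 2, 2, 2], 847)], 4192), ([(21, [2, 1, 2, 0, 2, 1, 3, 0, 3, 3, 1, 3, 0], 2237), (34, [2, 1, 3, 0, 2, 2, 2], 74), (19, [2, 1, 2, 0, 2, 1, 3, 0, 3, 3, 1, 3, 0], 2504)], 3240), ([(20, [2, 1, 2, 0, 2, 1, 3, 0, 3, 3, 1, 3, 0], 2237), (62, [1, 3, 0, 2, 1, 2, 0, 2, 1, 2, 0, 1, 2, 0, 1, 2, 0, 3], 162), (47, [2, 1, 3, 0, 2, 2, 2], 70)], 2983), ([(19, [2, 1, 2, 0, 2, 1, 3, 0, 3, 3, 1, 3, 0], 2504), (21, [2, 1, 2, 0, 2, 1, 3, 0, 3, 3, 1, 3, 0], 2300), (34, [2, 1, 3, 0, 2, 2, 2], 74)], 2983), ([(18, [2, 1, 2, 0, 2, 1, 3, 0, 3, 3, 1, 3, 0],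 2504), (68, [2, 2, 1, 2, 0, 2, 1, 3, 0, 3, 3, 1, 3, 0], 146), (49, [2, 1, 3, 0, 2, 2, 2], 86)], 2983), ([(21, [2, 1, 2, 0, 2, 1, 3, 0, 2, 1, 2, 0, 2, 2], 3643), (30, [1, 2, 0, 3, 1, 3, 0, 3, 3], 434), (23, [1, 2, 0, 2, 1, 3, 0, 3, 1, 3, 0, 1, 3, 0, 3, 1, 2, 0], 435)], 1424), ([(20, [2, 1, 2, 0, 2, 1, 3, 0, 2, 1, 2, 0, 2, 2], 3643), (53, [3, 1, 2, 0, 1, 2, 0, 3, 1, 3, 0], 110), (30, [2, 1, 2, 0, 3, 1, 3, 0, 2, 1, 2, 0, 2], 870)], 2983), ([(24, [2, 1, 2, 0, 3, 1, 3, 0, 1, 3, 0, 2, 1, 2, 0, 2, 1, 3, 0], 802), (88, [2, 1, 3, 0, 1, 3, 0, 3, 1, 2, 0, 1, 2, 0, 2, 2, 1, 2, 0], 360), (80, [3, 1, 2, 0, 2, 1, 3, 0, 2, 2, 1, 2, 0, 2, 1, 3, 0, 2, 1, 2, 0, 1, 2, 0], 122)], 2230), ([(20, [2, 2, 1, 3,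 0, 2, 2, 2, 1, 3, 0], 4521), (59, [1, 2, 0, 2, 1, 2, 0, 3, 1, 3, 0, 1, 3, 0, 3, 1, 3, 0, 1, 3, 0, 3, 3], 123), (58, [2, 1, 3, 0, 2, 2, 2], 167)], 4816), ([(28, [1, 3, 0, 1, 3, 0, 2, 1, 2, 0], 17593), (31, [3, 3, 1, 2, 0, 2], 1018), (7, [2, 2], 99160)], 41609), ([(29, [1, 3, 0, 1, 3, 0, 2, 1, 2, 0], 17593), (47, [2, 1, 2, 0, 2, 1, 3, 0, 2, 1, 2, 0, 3, 3], 82), (13, [2, 2], 3779)], 41609), ([(28, [2, 1, 3, 0, 2, 2, 2], 65634), (39, [2, 1, 3, 0, 2, 2, 2], 1255), (36, [2, 1, 3, 0, 2, 2, 2], 1088)], 42686), ([(29, [2, 1, 3, 0, 2, 2, 2], 54428), (69, [3, 1, 3, 0, 3, 1, 2, 0, 3, 1, 3, 0, 3, 3], 15), (50, [2, 1, 3, 0, 2, 2, 2], 235)], 42686), ([(34, [3, 1, 2, 0, 1, 2, 0, 2, 2, 1, 3, 0], 768),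 (14, [1, 2, 0, 1, 2, 0, 2, 2], 3284), (10, [2, 1, 3, 0, 2, 2, 2], 72335)], 786), ([(35, [1, 3, 0, 1, 3, 0, 3, 3, 1, 2, 0], 523), (49, [1, 3, 0, 1, 3, 0, 3, 3, 1, 2, 0], 48), (22, [1, 2, 0, 2, 2, 1, 2, 0], 3210)], 833), ([(37, [3, 1, 2, 0, 1, 2, 0, 2, 2, 1, 3, 0], 853), (47, [1, 3, 0, 1, 3, 0, 3, 3, 1, 2, 0], 22), (16, [2, 1, 3, 0, 2, 2, 2], 3063)], 1337), ([(38, [1, 3, 0, 1, 3, 0, 3, 3, 1, 2, 0], 645), (46, [3, 1, 2, 0, 1, 2, 0, 2, 2, 1, 3, 0], 64), (32, [2, 1, 3, 0, 2, 2, 2], 853)], 752), ([(34, [2, 1, 3, 0, 2, 2, 2], 1226), (19, [2, 1, 2, 0, 2, 1, 3, 0, 3, 3, 1, 3, 0], 2504), (21, [2, 1, 2, 0, 2, 1, 3, 0, 3, 3, 1, 3, 0], 2300)], 456), ([(39, [2, 1, 3, 0, 2, 2, 2], 26), (36, [2, 1, 3,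 0, 2, 2, 2], 1088), (28, [2, 1, 3, 0, 2, 2, 2], 65634)], 569), ([(38, [2, 1, 3, 0, 2, 2, 2], 26), (68, [3, 1, 3, 0, 3, 1, 2, 0, 3, 1, 3, 0, 3, 3], 15), (53, [2, 1, 3, 0, 2, 2, 2], 33)], 786), ([(37, [2, 1, 2, 0, 2, 1, 3, 0, 3, 3, 1, 3, 0], 266), (69, [1, 3, 0, 3, 1, 2, 0, 1, 2, 0, 1, 2, 0, 2, 1, 2, 0], 86), (46, [2, 1, 3, 0, 2, 2, 2], 143)], 786), ([(36, [2, 1, 3, 0, 2, 2, 2], 48), (28, [2, 1, 3, 0, 2, 2, 2], 65634), (39, [2, 1, 3, 0, 2, 2, 2], 1255)], 668), ([(35, [2, 1, 3, 0, 2, 2, 2], 48), (62, [2, 2, 1, 2, 0, 2, 1, 3, 0, 3, 3, 1, 3, 0], 104), (51, [2, 1, 3, 0, 2, 2, 2], 198)], 786), ([(44, [2, 1, 2, 0, 2, 2, 1, 2, 0, 1, 2, 0, 2, 1, 3, 0, 3, 1, 2, 0, 3], 618), (72, [2, 1, 3, 0, 1,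 3, 0, 3, 1, 2, 0, 2, 1, 2, 0, 3, 1, 3, 0, 3, 3, 1, 3, 0], 239), (56, [2, 1, 3, 0, 2, 2, 2], 77)], 1341), ([(44, [2, 2, 2, 1, 2, 0, 1, 2, 0, 2, 2, 1, 3, 0, 3, 1, 2, 0, 2], 715), (54, [1, 2, 0, 2, 1, 2, 0, 3, 1, 3, 0, 3, 1, 2, 0, 2, 2, 1, 2, 0], 143), (82, [2, 1, 3, 0, 2, 2, 2], 82)], 786), ([(45, [2, 1, 2, 0, 2, 2, 1, 2, 0, 1, 2, 0, 2, 1, 3, 0, 3, 1, 2, 0, 3], 666), (94, [1, 3, 0, 2, 2, 2, 1, 2, 0, 2, 1, 3, 0, 3, 1, 3, 0], 430), (43, [1, 3, 0, 2, 1, 2, 0, 2, 2, 1, 3, 0, 1, 3, 0, 3], 600)], 94), ([(45, [2, 2, 2, 1, 2, 0, 1, 2, 0, 2, 2, 1, 3, 0, 3, 1, 2, 0, 2], 696), (95, [1, 3, 0, 2, 1, 2, 0, 2, 1, 3, 0, 2, 2, 1, 2, 0, 2, 1, 3, 0, 2, 2, 1, 3, 0], 315), (87, [2, 2, 1, 2, 0, 3, 3, 1, 3, 0,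 2, 2, 1, 3, 0, 2, 2, 1, 3, 0], 236)], 770), ([(40, [2, 2, 1, 3, 0, 3, 1, 2, 0, 3, 3, 1, 2, 0, 2, 2, 1, 3, 0], 943), (89, [1, 2, 0, 2, 1, 2, 0, 2, 2, 1, 2, 0, 2, 1, 3, 0, 2, 1, 2, 0], 493), (67, [2, 1, 3, 0, 3, 1, 2, 0, 1, 2, 0, 2, 2], 122)], 537), ([(42, [2, 2, 1, 3, 0, 3, 1, 2, 0, 3, 3, 1, 2, 0, 2, 2, 1, 3, 0], 848), (91, [2, 2, 1, 3, 0, 1, 3, 0, 2, 2, 1, 2, 0, 1, 2, 0, 2, 2, 2, 1, 3, 0], 324), (94, [2, 1, 3, 0, 2, 2, 2], 352)], 786), ([(68, [1, 3, 0, 3, 1, 2, 0, 1, 2, 0, 1, 2, 0, 2, 1, 2, 0], 117), (49, [2, 1, 2, 0, 2, 1, 3, 0, 3, 3, 1, 3, 0], 175), (18, [2, 1, 3, 0, 2, 2, 2], 710)], 146), ([(69, [1, 3, 0, 3, 1, 2, 0, 1, 2, 0, 1, 2, 0, 2, 1, 2, 0], 117), (46, [2, 1, 3, 0, 2, 2, 2],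 143), (37, [2, 1, 2, 0, 2, 1, 3, 0, 3, 3, 1, 3, 0], 266)], 133), ([(62, [1, 3, 0, 3, 1, 2, 0, 1, 2, 0, 1, 2, 0, 2, 1, 2, 0], 68), (47, [2, 1, 2, 0, 2, 1, 3, 0, 3, 3, 1, 3, 0], 172), (20, [2, 1, 3, 0, 2, 2, 2], 1135)], 146), ([(61, [1, 3, 0, 3, 1, 2, 0, 1, 2, 0, 1, 2, 0, 2, 1, 2, 0], 68), (99, [1, 3, 0, 2, 1, 2, 0, 2, 1, 2, 0, 1, 2, 0, 1, 2, 0, 3], 13573), (48, [2, 1, 2, 0, 2, 1, 3, 0, 3, 3, 1, 3, 0], 175)], 134), ([(68, [3, 1, 3, 0, 3, 1, 2, 0, 3, 1, 3, 0, 3, 3], 15), (53, [2, 1, 3, 0, 2, 2, 2], 33), (38, [2, 1, 3, 0, 2, 2, 2], 26)], 146), ([(69, [3, 1, 3, 0, 3, 1, 2, 0, 3, 1, 3, 0, 3, 3], 15), (50, [2, 1, 3, 0, 2, 2, 2], 235), (29, [2, 1, 3, 0, 2, 2, 2], 54428)], 146), ([(62, [2, 2,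 1, 2, 0, 2, 1, 3, 0, 3, 3, 1, 3, 0], 216), (51, [2, 1, 3, 0, 2, 2, 2], 198), (35, [2, 1, 3, 0, 2, 2, 2], 48)], 48), ([(61, [2, 2, 1, 2, 0, 2, 1, 3, 0, 3, 3, 1, 3, 0], 216), (99, [2, 2, 1, 2, 0, 2, 1, 3, 0, 3, 3, 1, 3, 0], 9678), (52, [2, 1, 3, 0, 2, 2, 2], 211)], 146), ([(66, [2, 2, 1, 3, 0, 2, 2, 2, 1, 3, 0], 104), (96, [2, 2, 1, 2, 0, 3, 3, 1, 3, 0, 3], 140), (92, [2, 1, 3, 0, 2, 2, 2], 363)], 146), ([(67, [2, 2, 1, 3, 0, 2, 2, 2, 1, 3, 0], 104), (40, [1, 3, 0, 1, 3, 0, 2, 1, 2, 0, 2, 2], 936), (89, [2, 1, 3, 0, 2, 2, 2], 428)], 146), ([(72, [1, 2, 0, 3, 1, 3, 0, 3, 1, 2, 0, 2, 2, 2, 1, 3, 0, 3, 1, 3, 0], 199), (67, [1, 2, 0, 1, 2, 0, 1, 2, 0, 2, 1, 2, 0, 1, 2, 0, 2, 1, 2, 0], 64),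 (41, [1, 3, 0, 2, 1, 2, 0, 2, 2, 1, 3, 0, 1, 3, 0, 3], 858)], 32), ([(67, [1, 3, 0, 3, 1, 3, 0, 1, 3, 0, 3, 1, 2, 0, 1, 2, 0, 2, 2], 213), (34, [2, 2, 1, 3, 0, 2, 2, 2, 1, 3, 0], 678), (25, [2, 1, 3, 0, 2, 2, 2], 3996)], 184), ([(60, [2, 1, 3, 0, 3, 3, 1, 2, 0, 1, 2, 0, 1, 2, 0, 2], 236), (85, [1, 2, 0, 3, 1, 3, 0, 3, 1, 2, 0, 2, 2, 2, 1, 3, 0], 130), (84, [2, 2, 2, 1, 2, 0, 2, 1, 2, 0, 1, 2, 0, 2, 1, 3, 0, 2, 2], 385)], 35), ([(60, [1, 2, 0, 2, 1, 2, 0, 2, 2, 1, 2, 0, 2, 1, 3, 0, 3, 3, 1, 3, 0], 12), (88, [2, 1, 2, 0, 2, 2, 2, 1, 3, 0, 1, 3, 0, 3, 3, 1, 2, 0, 3, 1, 3, 0], 250), (90, [2, 1, 3, 0, 2, 2, 2], 447)], 146), ([(59, [1, 2, 0, 2, 1, 2, 0, 2, 2, 1, 2, 0, 2, 1, 3, 0, 3, 3, 1, 3,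 0], 12), (59, [1, 2, 0, 3, 1, 3, 0, 1, 3, 0, 2, 2, 1, 2, 0, 2, 2, 1, 3, 0, 3], 119), (59, [1, 3, 0, 1, 3, 0, 3, 1, 2, 0, 2, 1, 2, 0, 3, 3, 1, 3, 0, 2], 75)], 204), ([(74, [2, 2, 1, 3, 0, 3, 3, 1, 2, 0, 1, 2, 0, 1, 2, 0, 2, 1, 2, 0, 3, 1, 3, 0], 96), (73, [3, 1, 2, 0, 2, 2, 1, 2, 0, 2, 1, 3, 0, 3, 1, 2, 0, 1, 2, 0, 1, 2, 0], 10), (68, [1, 2, 0, 2, 2], 32)], 146), ([(75, [2, 2, 1, 3, 0, 3, 3, 1, 2, 0, 1, 2, 0, 1, 2, 0, 2, 1, 2, 0, 3, 1, 3, 0], 96), (61, [2, 1, 2, 0, 2, 1, 3, 0, 3, 1, 3, 0, 1, 3, 0], 87), (99, [2, 1, 3, 0, 2, 2, 2], 19268)], 146), ([(72, [1, 3, 0, 1, 3, 0, 2, 1, 2, 0, 3, 1, 3, 0, 1, 3, 0, 3, 1, 2, 0, 1, 2, 0, 3], 163), (72, [2, 2, 1, 3, 0, 1, 3, 0, 2, 2, 2], 98), (64, [2,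 1, 2, 0, 2, 1, 2, 0, 3, 3, 1, 3, 0, 3, 1, 2, 0], 85)], 215), ([(72, [1, 2, 0, 3, 3, 1, 2, 0, 2, 2, 1, 2, 0, 2], 223), (54, [2, 2, 2, 1, 2, 0, 2, 1, 3, 0, 3, 1, 2, 0, 2, 1, 2, 0, 2, 2], 40), (81, [2, 1, 3, 0, 2, 2, 2], 155)], 146), ([(71, [2, 1, 2, 0, 2, 1, 3, 0, 3, 3, 1, 3, 0], 111), (95, [2, 1, 3, 0, 2, 1, 2, 0, 2, 2, 1, 3, 0, 2, 1, 2, 0, 2, 1, 3, 0], 143), (86, [3, 1, 2, 0, 2, 1, 3, 0, 3, 1, 3, 0, 1, 3, 0, 2, 2, 1, 3, 0], 28)], 89), ([(54, [1, 2, 0, 2, 1, 2, 0, 2, 2, 1, 2, 0, 2, 1, 3, 0, 3, 3, 1, 3, 0], 132), (82, [1, 2, 0, 3, 1, 3, 0, 3, 3, 1, 3, 0, 2, 2, 2, 1, 3, 0], 172), (44, [2, 2, 2, 1, 2, 0, 1, 2, 0, 2, 1, 2, 0, 2, 1, 3, 0, 3], 557)], 132), ([(55, [1, 2, 0, 2, 1, 2, 0, 2, 2,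 1, 2, 0, 2, 1, 3, 0, 3, 3, 1, 3, 0], 132), (96, [1, 2, 0, 3, 3, 1, 3, 0, 3, 1, 2, 0, 3, 3, 1, 2, 0, 1, 2, 0], 536), (97, [2, 1, 3, 0, 2, 2, 2], 364)], 146), ([(73, [2, 2, 1, 3, 0, 3, 3, 1, 2, 0, 1, 2, 0, 1, 2, 0, 2, 1, 2, 0, 3, 1, 3, 0], 65), (72, [1, 2, 0, 2, 2, 1, 2, 0, 2, 1, 3, 0, 1, 3, 0, 3, 1, 2, 0, 1, 2, 0, 1, 2, 0], 98), (69, [2, 1, 3, 0, 2, 2, 2], 238)], 110), ([(72, [2, 2, 1, 3, 0, 3, 3, 1, 2, 0, 1, 2, 0, 1, 2, 0, 2, 1, 2, 0, 3, 1, 3, 0], 65), (75, [1, 2, 0, 2, 2, 1, 3, 0, 1, 3, 0, 2, 2, 1, 2, 0, 3, 3], 89), (62, [2, 2, 2], 122)], 146), ([(60, [2, 2, 1, 3, 0, 2, 2, 2, 1, 3, 0], 92), (91, [2, 2, 1, 3, 0, 1, 3, 0, 2, 2, 1, 2, 0, 1, 2, 0, 2, 1, 2, 0, 3, 3], 481), (93, [2, 2, 2,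 1, 2, 0, 1, 2, 0, 2, 1, 2, 0, 2, 1, 3, 0, 3], 244)], 9), ([(59, [2, 2, 1, 3, 0, 2, 2, 2, 1, 3, 0], 92), (75, [1, 2, 0, 2, 2, 1, 2, 0, 2, 1, 3, 0, 1, 3, 0, 3, 1, 2, 0, 1, 2, 0, 2, 1, 2, 0], 19), (70, [2, 1, 2, 0, 1, 2, 0, 3, 1, 3, 0, 1, 3, 0, 3, 1, 2, 0, 2, 1, 3, 0, 3, 1, 2, 0], 183)], 91), ([(54, [2, 1, 2, 0, 1, 2, 0, 1, 2, 0, 2, 1, 3, 0, 3, 1, 3, 0, 1, 3, 0, 2, 2, 1, 3, 0, 1, 3, 0], 158), (89, [3, 1, 2, 0, 2, 2, 1, 3, 0, 2, 2, 1, 3, 0, 3, 3, 1, 2, 0, 3], 302), (72, [1, 3, 0, 1, 3, 0, 3, 1, 2, 0, 1, 2, 0, 2, 1, 3, 0, 3, 1, 3, 0, 1, 3, 0, 3, 1, 2, 0], 149)], 40), ([(55, [2, 1, 2, 0, 1, 2, 0, 1, 2, 0, 2, 1, 3, 0, 3, 1, 3, 0, 1, 3, 0, 2, 2, 1, 3, 0, 1, 3, 0], 158), (97, [2, 1, 3, 0, 3, 1,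 2, 0, 3, 1, 3, 0, 2, 1, 2, 0, 3, 1, 3, 0], 636), (73, [1, 3, 0, 3, 1, 3, 0, 2, 2, 1, 2, 0, 2, 1, 3, 0, 1, 3, 0, 3, 1, 2, 0], 234)], 34), ([(59, [2, 1, 2, 0, 1, 2, 0, 1, 2, 0, 2, 1, 3, 0, 3, 1, 3, 0, 1, 3, 0, 2, 2, 1, 3, 0, 1, 3, 0], 161), (70, [2, 1, 3, 0, 2, 2, 1, 3, 0, 3, 3, 1, 3, 0, 1, 3, 0, 2, 2, 1, 2, 0, 2], 203), (74, [1, 2, 0, 2, 1, 3, 0, 2, 2, 2, 1, 3, 0, 3, 3, 1, 3, 0, 2, 1, 2, 0, 2], 21)], 68), ([(60, [2, 1, 2, 0, 1, 2, 0, 1, 2, 0, 2, 1, 3, 0, 3, 1, 3, 0, 1, 3, 0, 2, 2, 1, 3, 0, 1, 3, 0], 161), (86, [2, 2, 1, 2, 0, 2, 1, 2, 0, 1, 2, 0, 3, 3, 1, 3, 0, 3, 3, 1, 3, 0], 14), (75, [3, 1, 2, 0, 3, 3, 1, 2, 0, 2, 1, 3, 0, 3, 3, 1, 3, 0, 3], 146)], 159), ([(80, [1, 3, 0, 2, 2, 1, 2,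 0, 2, 1, 3, 0, 2, 2, 2, 1, 2, 0], 217), (17, [2, 2, 1, 3, 0, 2, 2, 2, 1, 3, 0], 4646), (11, [2, 1, 3, 0], 73740)], 48), ([(81, [1, 3, 0, 2, 2, 1, 2, 0, 2, 1, 3, 0, 2, 2, 2, 1, 2, 0], 93), (65, [2, 1, 2, 0, 3, 3, 1, 3, 0, 3, 1, 2, 0, 2, 1, 2, 0, 1, 2, 0, 1, 2, 0, 2], 63), (78, [2, 1, 3, 0, 3, 1, 3, 0], 47)], 44), ([(84, [2, 1, 3, 0, 3, 1, 2, 0, 1, 2, 0, 3, 1, 3, 0, 1, 3, 0, 2, 1, 2, 0], 222), (57, [1, 2, 0, 2, 2, 1, 3, 0, 1, 3, 0, 2, 2, 1, 2, 0, 2, 1, 3, 0], 214), (79, [1, 2, 0, 1, 2, 0, 2, 1, 3, 0, 3], 330)], 116), ([(85, [2, 1, 3, 0, 3, 1, 2, 0, 1, 2, 0, 3, 1, 3, 0, 1, 3, 0, 2, 1, 2, 0], 222), (83, [1, 2, 0, 1, 2, 0, 3, 3, 1, 2, 0, 1, 2, 0, 2, 2, 1, 3, 0], 201), (76, [3, 1, 2, 0, 3,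 1, 3, 0, 2], 499)], 84), ([(89, [3, 1, 2, 0, 3, 3, 1, 3, 0, 2, 1, 2, 0, 3, 1, 3, 0, 3], 40), (72, [1, 2, 0, 1, 2, 0, 2, 2, 2, 1, 2, 0, 3, 3, 1, 2, 0, 2, 2, 1, 3, 0, 3], 125), (63, [2, 1, 3, 0, 2, 2, 2], 37)], 462), ([(88, [2, 2, 2, 1, 2, 0, 2, 1, 3, 0, 3, 1, 2, 0, 2, 1, 2, 0, 2, 2], 192), (80, [3, 1, 3, 0, 2, 2, 1, 2, 0, 1, 2, 0, 1, 2, 0, 2, 1, 2, 0, 2, 2], 180), (24, [2, 1, 3, 0, 2, 2, 2], 4617)], 300), ([(88, [1, 2, 0, 2, 1, 2, 0, 3, 1, 3, 0, 3, 1, 2, 0, 2, 2, 1, 2, 0], 93), (88, [2, 1, 3, 0, 3, 1, 3, 0, 1, 3, 0, 3, 1, 2, 0, 2, 1, 3, 0, 2, 1, 2, 0, 3, 1, 3, 0], 428), (83, [2, 2, 1, 2, 0, 3, 3, 1, 2, 0, 3, 3, 1, 3, 0, 2, 2], 300)], 259), ([(89, [3, 3, 1, 2, 0, 2, 2, 2], 269), (67, [3,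 1, 2, 0, 3, 1, 3, 0, 1, 3, 0, 2, 1, 2, 0, 2, 2], 111), (40, [2, 1, 3, 0, 2, 2, 2], 807)], 49), ([(91, [1, 2, 0, 3, 1, 3, 0, 3, 1, 2, 0, 3, 3, 1, 3, 0, 3, 1, 2, 0, 2, 2], 163), (95, [1, 3, 0, 3, 1, 2, 0, 3, 1, 3, 0, 2, 2, 1, 2, 0, 3, 3, 1, 2, 0, 3, 1, 3, 0], 83), (85, [3, 1, 2, 0, 2, 1, 2, 0, 2, 1, 3, 0, 2, 2, 1, 3, 0], 42)], 185), ([(90, [1, 2, 0, 3, 1, 3, 0, 3, 1, 2, 0, 3, 3, 1, 3, 0, 3, 1, 2, 0, 2, 2], 163), (75, [1, 3, 0, 1, 3, 0, 2, 2, 1, 3, 0, 1, 3, 0, 3], 159), (57, [2, 1, 2, 0, 1, 2, 0, 3, 1, 3, 0, 1, 3, 0, 2, 1, 2, 0], 54)], 427), ([(91, [3, 1, 3, 0, 3, 3], 120), (94, [1, 2, 0, 2, 2, 1, 2, 0, 2, 1, 2, 0, 1, 2, 0, 3, 1, 3, 0], 245), (42, [2, 1, 2, 0, 2, 1, 2, 0, 3, 1, 3, 0, 3,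 1, 2, 0, 2], 948)], 273), ([(90, [3, 1, 2, 0, 2, 2, 1, 2, 0, 2, 1, 3, 0, 3, 1, 3, 0, 2, 1, 2, 0], 137), (74, [2, 1, 3, 0, 3, 1, 2, 0, 2, 1, 2, 0, 3, 1, 3, 0, 3, 1, 2, 0, 3], 63), (65, [2, 2, 1, 3, 0, 2, 2, 1, 2, 0, 1, 2, 0, 1, 2, 0, 3, 3], 176)], 229), ([(82, [1, 2, 0, 2, 1, 2, 0, 3, 1, 3, 0, 3, 1, 2, 0, 2, 2, 1, 2, 0], 239), (44, [3, 1, 2, 0, 3, 3, 1, 3, 0, 2, 1, 2, 0, 2, 2], 576), (54, [2, 1, 3, 0, 2, 2, 2], 146)], 26), ([(83, [1, 3, 0, 1, 3, 0, 2, 1, 2, 0, 2, 2], 406), (88, [1, 3, 0, 1, 3, 0, 3, 3, 1, 3, 0, 3, 1, 2, 0, 1, 2, 0, 2], 268), (88, [2, 1, 2, 0, 3, 1, 3, 0, 3, 1, 2, 0, 2, 2, 1, 2, 0], 476)], 238), ([(89, [1, 2, 0, 3, 3, 1, 3, 0, 1, 3, 0, 3, 1, 2, 0, 1, 2, 0, 3, 1, 3, 0],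 441), (55, [3, 3, 1, 2, 0, 2, 2, 2, 1, 3, 0, 1, 3, 0, 3, 1, 2, 0], 17), (95, [1, 2, 0, 2, 2, 2, 1, 3, 0, 2, 2, 1, 3, 0, 1, 3, 0], 452)], 49), ([(88, [1, 2, 0, 3, 3, 1, 3, 0, 1, 3, 0, 3, 1, 2, 0, 1, 2, 0, 3, 1, 3, 0], 441), (90, [1, 2, 0, 2, 1, 2, 0, 2, 2, 1, 2, 0, 2, 1, 3, 0, 3, 3, 1, 3, 0], 464), (60, [2, 1, 3, 0, 2, 2, 2], 13)], 49), ([(97, [2, 2, 1, 2, 0, 1, 2, 0, 2, 1, 3, 0, 3, 1, 3, 0, 1, 3, 0, 3, 1, 2, 0, 1, 2, 0], 46), (73, [2, 1, 2, 0, 2, 1, 2, 0, 1, 2, 0, 2, 2, 2, 1, 3, 0, 2, 2, 1, 3, 0, 1, 3, 0], 25), (55, [2, 1, 2, 0, 3, 1, 3, 0, 3, 1, 2, 0, 2, 2, 1, 2, 0], 229)], 297), ([(94, [1, 3, 0, 2, 2, 2, 1, 2, 0, 3, 1, 3, 0, 1, 3, 0], 570), (43, [1, 2, 0, 2, 1, 2, 0, 1, 2, 0, 2, 1,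 3, 0, 1, 3, 0, 3, 1, 3, 0], 1048), (45, [2, 1, 3, 0, 2, 2, 2], 40)], 291), ([(95, [1, 2, 0, 3, 1, 3, 0, 2, 2, 2, 1, 2, 0, 1, 2, 0], 239), (90, [2, 2], 414), (71, [2, 1, 3, 0, 3, 1, 2, 0, 1, 2, 0, 2, 2], 104)], 411), ([(93, [1, 2, 0, 1, 2, 0, 3, 1, 3, 0, 2, 1, 2, 0], 312), (60, [1, 2, 0, 2, 1, 2, 0, 1, 2, 0, 1, 2, 0, 2, 1, 2, 0, 1, 2, 0, 3, 3, 1, 3, 0], 229), (91, [3, 1, 3, 0, 2, 1, 2, 0, 2, 1, 3, 0, 2, 2, 2], 468)], 297), ([(96, [2, 1, 3, 0, 3, 1, 2, 0, 2, 1, 2, 0, 1, 2, 0, 1, 2, 0, 3, 1, 3, 0, 1, 3, 0], 430), (92, [1, 2, 0, 2, 1, 2, 0, 2, 2, 1, 2, 0, 2, 1, 3, 0, 3, 3, 1, 3, 0], 367), (66, [2, 1, 3, 0, 2, 2, 2], 176)], 522), ([(97, [2, 1, 3, 0, 3, 1, 2, 0, 2, 1, 2, 0, 1, 2, 0, 1, 2, 0,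 3, 1, 3, 0, 1, 3, 0], 430), (55, [2, 1, 2, 0, 2, 1, 3, 0, 3, 1, 3, 0, 1, 3, 0, 2, 2, 1, 2, 0, 2], 127), (96, [2, 1, 2, 0, 1, 2, 0, 3, 1, 3, 0, 1, 3, 0, 3, 1, 2, 0, 2, 1, 3, 0, 3, 1, 2, 0], 518)], 569), ([(95, [2, 1, 2, 0, 1, 2, 0, 2, 1, 3, 0, 3, 1, 2, 0, 2, 1, 2, 0], 442), (91, [1, 3, 0, 3, 1, 2, 0, 1, 2, 0, 2, 1, 2, 0, 2, 1, 3, 0, 2, 2, 2], 386), (98, [1, 2, 0, 2, 1, 3, 0, 3, 1, 2, 0], 513)], 535), ([(99, [2, 1, 2, 0, 2, 1, 3, 0, 3, 1, 3, 0, 1, 3, 0], 24223), (74, [1, 2, 0, 2, 1, 3, 0, 2, 2, 2, 1, 2, 0, 1, 2, 0, 3, 3, 1, 3, 0], 90), (61, [2, 1, 3, 0, 2, 2, 2], 153)], 2342), ([(99, [3, 1, 2, 0, 2, 1, 2, 0, 1, 2, 0, 2, 1, 3, 0, 3, 1, 3, 0], 28311), (61, [3, 1, 2, 0, 2, 1, 2, 0, 1, 2, 0,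 2, 1, 3, 0, 3, 1, 3, 0], 228), (100, [2, 1, 3, 0, 2, 2, 2], 5595)], 26170)],
[([(0, [], 0), (5, [], 0), (2, [], 24400)], 0), ([(5, [], 17065), (2, [], 24400), (0, [], 0)], 61822), ([(6, [], 17065), (14, [], 2300), (3, [], 24400)], 61822), ([(7, [], 2446), (26, [], 9832), (4, [], 24400)], 13226), ([(8, [], 2446), (12, [], 2300), (1, [], 24400)], 13226), ([(9, [1, 2, 0, 3, 1, 3, 0, 3, 3], 63306), (19, [2, 1, 2, 0, 2, 1, 3, 0, 2, 1, 2, 0, 2, 2], 3805), (12, [3, 3], 2719)], 994), ([(9, [2, 1, 2, 0, 3, 1, 3, 0, 2, 1, 2, 0, 2], 6340), (17, [1, 2, 0, 3, 1, 3, 0, 3, 3], 3154), (5, [3, 3], 13320)], 994), ([(10, [1, 2, 0, 3, 1, 3, 0, 3, 3], 22468), (34, [3, 1, 2, 0, 1, 2, 0, 3, 1, 3, 0], 1018),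 (14, [3, 3], 4209)], 994), ([(10, [2, 1, 2, 0, 3, 1, 3, 0, 2, 1, 2, 0, 2], 77956), (36, [3, 1, 2, 0, 1, 2, 0, 3, 1, 3, 0], 1047), (26, [3, 3], 48139)], 994), ([(11, [1, 2, 0, 3, 1, 3, 0, 3, 3], 78008), (80, [3, 1, 2, 0, 1, 2, 0, 2, 1, 2, 0], 120), (17, [1, 2, 0, 1, 2, 0, 2, 1, 2, 0], 2679)], 1441), ([(11, [2, 1, 2, 0, 1, 2, 0, 1, 2, 0, 2], 43669), (82, [3, 1, 2, 0, 1, 2, 0, 2, 1, 2, 0], 88), (31, [1, 2, 0, 1, 2, 0, 2, 1, 2, 0], 786)], 106744), ([(10, [2, 2, 2, 1, 3, 0, 1, 3, 0, 3, 1, 3, 0], 32817), (40, [1, 2, 0, 2, 1, 2, 0, 1, 2, 0, 2, 1, 3, 0, 3, 1, 2, 0, 2, 1, 3, 0], 1010), (77, [3, 1, 2, 0, 2, 2, 2], 267)], 24400), ([(18, [3, 1, 2, 0, 1, 2, 0, 3, 1, 3, 0], 2789), (50, [3, 1, 2, 0,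 1, 2, 0, 3, 1, 3, 0], 146), (27, [3, 3], 48139)], 2569), ([(19, [3, 1, 2, 0, 1, 2, 0, 3, 1, 3, 0], 2789), (17, [2, 1, 2, 0, 3, 1, 3, 0, 2, 1, 2, 0, 2], 225), (6, [3, 3], 64257)], 2569), ([(20, [3, 1, 2, 0, 1, 2, 0, 3, 1, 3, 0], 2789), (49, [3, 1, 2, 0, 1, 2, 0, 3, 1, 3, 0], 14), (15, [3, 3], 4209)], 2569), ([(21, [3, 1, 2, 0, 1, 2, 0, 3, 1, 3, 0], 2789), (31, [2, 1, 2, 0, 3, 1, 3, 0, 2, 1, 2, 0, 2], 819), (8, [3, 3], 59415)], 2569), ([(24, [3, 1, 2, 0, 1, 2, 0, 2, 1, 2, 0], 2711), (77, [1, 2, 0, 3, 1, 3, 0, 3, 3], 349), (9, [1, 2, 0, 1, 2, 0, 2, 1, 2, 0], 70409)], 3364), ([(24, [3, 1, 2, 0, 2, 2, 2, 1, 2, 0, 1, 2, 0, 1, 2, 0, 3, 1, 3, 0], 381), (87, [1, 2, 0, 1, 2, 0, 3, 1, 3, 0, 3, 1,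 2, 0, 2, 1, 3, 0, 3, 3], 137), (33, [1, 2, 0, 1, 2, 0, 2, 1, 2, 0], 786)], 4498), ([(24, [3, 1, 3, 0, 2, 2, 1, 2, 0, 2, 1, 3, 0, 2, 1, 2, 0], 695), (80, [2, 1, 3, 0, 3, 3, 1, 3, 0, 3, 1, 2, 0, 1, 2, 0, 2, 1, 3, 0], 223), (19, [2, 2, 1, 3, 0, 3, 1, 2, 0, 3, 1, 3, 0, 3, 1, 2, 0], 2855)], 3203), ([(24, [1, 3, 0, 1, 3, 0, 3, 1, 2, 0, 2, 2, 1, 3, 0, 3, 1, 2, 0, 2, 1, 2, 0], 1293), (89, [2, 1, 2, 0, 1, 2, 0, 1, 2, 0, 3, 3, 1, 3, 0, 2, 1, 2, 0], 498), (47, [3, 1, 2, 0, 2, 2, 2], 167)], 2983), ([(25, [1, 2, 0, 3, 1, 3, 0, 3, 3], 3150), (67, [3, 1, 2, 0, 2, 1, 2, 0, 2, 2, 1, 2, 0, 3, 1, 3, 0], 132), (34, [3, 1, 2, 0, 2, 2, 2], 556)], 2983), ([(25, [1, 3, 0, 3, 1, 2, 0, 1, 2, 0, 1, 2, 0, 3, 3,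 1, 2, 0, 3, 1, 3, 0, 2], 3047), (59, [1, 2, 0, 2, 2, 1, 2, 0, 1, 2, 0, 2, 2, 1, 2, 0, 1, 2, 0, 2, 1, 3, 0, 2], 7), (49, [3, 1, 2, 0, 2, 2, 2], 222)], 2983), ([(25, [1, 2, 0, 3, 1, 3, 0, 2, 2, 1, 2, 0, 3, 3, 1, 2, 0, 2], 1119), (58, [3, 3, 1, 2, 0, 1, 2, 0, 2, 1, 2, 0, 3, 1, 3, 0], 33), (23, [2, 2, 1, 3, 0, 1, 3, 0, 2, 1, 2, 0, 1, 2, 0], 1144)], 1695), ([(25, [1, 3, 0, 2, 2, 2, 1, 2, 0, 3, 3, 1, 2, 0, 2, 1, 3, 0], 2135), (56, [2, 2, 1, 3, 0, 3, 1, 2, 0, 3, 3, 1, 3, 0], 159), (30, [1, 2, 0, 1, 2, 0, 3, 3, 1, 3, 0, 3, 1, 2, 0], 1431)], 3619), ([(25, [2, 2, 2, 1, 2, 0, 1, 2, 0, 3, 1, 3, 0, 1, 3, 0, 3, 1, 2, 0], 3323), (60, [2, 2, 2, 1, 3, 0, 2, 2, 1, 2, 0, 3, 1, 3, 0, 3, 3, 1, 3, 0, 1, 3,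 0], 9), (80, [2, 1, 3, 0, 2, 1, 2, 0, 2, 1, 3, 0, 3, 1, 2, 0, 2], 5)], 1873), ([(25, [1, 2, 0, 1, 2, 0, 2, 1, 2, 0, 1, 2, 0, 3, 3, 1, 3, 0, 1, 3, 0], 1283), (74, [1, 2, 0, 2, 1, 2, 0, 1, 2, 0, 3, 3, 1, 3, 0, 2, 1, 2, 0, 3, 1, 3, 0, 3, 1, 2, 0], 156), (58, [3, 1, 2, 0, 2, 2, 2], 154)], 4816), ([(28, [3, 1, 2, 0, 1, 2, 0, 3, 1, 3, 0], 41699), (31, [1, 2, 0, 3, 1, 3, 0, 3, 3], 695), (7, [3, 3], 63369)], 40539), ([(29, [3, 1, 2, 0, 1, 2, 0, 3, 1, 3, 0], 41699), (47, [3, 1, 2, 0, 1, 2, 0, 3, 1, 3, 0], 146), (13, [3, 3], 4209)], 40539), ([(29, [1, 2, 0, 2, 1, 3, 0, 1, 3, 0, 3, 1, 2, 0, 1, 2, 0], 71337), (67, [3, 1, 2, 0, 1, 2, 0, 2, 2, 1, 2, 0, 3, 1, 3, 0, 2, 2], 67), (36, [3, 1, 2, 0, 2, 2,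 2], 928)], 42686), ([(28, [1, 2, 0, 2, 1, 3, 0, 1, 3, 0, 3, 1, 2, 0, 1, 2, 0], 50743), (44, [2, 2, 1, 3, 0, 2, 2, 1, 2, 0, 1, 2, 0, 1, 2, 0, 2, 1, 2, 0, 2], 633), (50, [3, 1, 2, 0, 2, 2, 2], 74)], 42686), ([(40, [3, 1, 2, 0, 1, 2, 0, 2, 1, 2, 0], 797), (77, [2, 1, 2, 0, 1, 2, 0, 1, 2, 0, 2], 471), (10, [1, 2, 0, 1, 2, 0, 2, 1, 2, 0], 56375)], 972), ([(41, [3, 1, 2, 0, 1, 2, 0, 2, 1, 2, 0], 945), (58, [1, 3, 0, 3, 1, 3, 0, 2, 2, 1, 3, 0], 9), (22, [2, 2, 2], 1466)], 721), ([(42, [3, 1, 2, 0, 1, 2, 0, 2, 1, 2, 0], 877), (80, [2, 1, 3, 0, 3, 1, 2, 0, 2, 1, 2, 0, 1, 2, 0, 2, 2, 1, 3, 0], 194), (16, [1, 2, 0, 1, 2, 0, 2, 1, 2, 0], 513)], 1345), ([(43, [3, 1, 2, 0, 1, 2, 0, 2, 1, 2, 0], 1057),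 (43, [1, 2, 0, 3, 3, 1, 2, 0, 3, 1, 3, 0, 2, 1, 2, 0, 2, 1, 3, 0], 533), (32, [1, 2, 0, 1, 2, 0, 2, 1, 2, 0], 82)], 901), ([(44, [2, 1, 2, 0, 1, 2, 0, 1, 2, 0, 3, 3, 1, 3, 0, 2, 1, 2, 0], 1067), (58, [2, 1, 3, 0, 2, 1, 2, 0, 2, 2, 1, 3, 0, 2, 1, 2, 0, 3, 1, 3, 0], 105), (21, [2, 2, 1, 3, 0, 3, 1, 2, 0, 3, 1, 3, 0, 3, 1, 2, 0], 4848)], 380), ([(44, [2, 1, 2, 0, 3, 1, 3, 0, 2, 1, 2, 0, 2, 2, 1, 3, 0, 2, 2], 366), (50, [1, 2, 0, 2, 1, 3, 0, 1, 3, 0, 3, 1, 2, 0, 1, 2, 0], 155), (28, [3, 1, 2, 0, 2, 2, 2], 54714)], 569), ([(44, [3, 3, 1, 3, 0, 1, 3, 0, 3, 1, 2, 0, 2, 1, 3, 0, 3, 1, 2, 0], 505), (70, [2, 1, 3, 0, 3, 1, 2, 0, 1, 2, 0, 2, 1, 3, 0, 3, 1, 3, 0, 1, 3, 0, 2, 1, 2, 0, 1, 2, 0], 221),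 (53, [3, 1, 2, 0, 2, 2, 2], 141)], 786), ([(45, [2, 1, 2, 0, 1, 2, 0, 1, 2, 0, 3, 3, 1, 3, 0, 2, 1, 2, 0], 929), (92, [2, 1, 2, 0, 1, 2, 0, 1, 2, 0, 3, 3, 1, 3, 0, 2, 1, 2, 0], 291), (46, [3, 1, 2, 0, 2, 2, 2], 167)], 786), ([(45, [2, 1, 2, 0, 3, 1, 3, 0, 2, 1, 2, 0, 2, 2, 1, 3, 0, 2, 2], 642), (94, [3, 3, 1, 3, 0, 1, 3, 0, 3, 1, 2, 0, 2, 1, 3, 0, 3, 1, 2, 0], 97), (39, [3, 1, 2, 0, 2, 2, 2], 493)], 668), ([(45, [3, 3, 1, 3, 0, 1, 3, 0, 3, 1, 2, 0, 2, 1, 3, 0, 3, 1, 2, 0], 659), (97, [2, 1, 2, 0, 1, 2, 0, 1, 2, 0, 3, 3, 1, 3, 0, 2, 1, 2, 0], 286), (51, [3, 1, 2, 0, 2, 2, 2], 167)], 786), ([(40, [2, 1, 3, 0, 3, 1, 2, 0, 2, 1, 2, 0, 3, 1, 3, 0, 1, 3, 0, 2, 2], 63), (86, [3, 1, 3, 0, 2,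 2, 1, 2, 0], 26), (56, [3, 1, 2, 0, 2, 2, 2], 108)], 1341), ([(43, [2, 1, 3, 0, 3, 1, 2, 0, 2, 1, 2, 0, 3, 1, 3, 0, 1, 3, 0, 2, 2], 1358), (42, [2, 1, 2, 0, 1, 2, 0, 1, 2, 0, 2, 2, 1, 2, 0, 3, 1, 3, 0, 3, 1, 2, 0, 3], 797), (82, [3, 1, 2, 0, 2, 2, 2], 205)], 786), ([(43, [1, 2, 0, 1, 2, 0, 2, 1, 3, 0, 3, 1, 2, 0, 2, 1, 2, 0, 3, 1, 3, 0], 200), (43, [1, 3, 0, 3, 3, 1, 3, 0, 1, 3, 0, 2, 1, 2, 0], 1029), (43, [2, 1, 3, 0, 3, 3, 1, 2, 0, 1, 2, 0, 2, 1, 2, 0, 2, 1, 3, 0], 871)], 304), ([(41, [2, 1, 3, 0, 3, 1, 2, 0, 2, 1, 2, 0, 3, 1, 3, 0, 1, 3, 0, 2, 2], 1430), (60, [3, 3, 1, 3, 0, 1, 3, 0, 3, 3, 1, 2, 0, 1, 2, 0, 1, 2, 0, 2], 30), (87, [1, 3, 0, 2, 1, 2, 0, 1, 2, 0, 3, 1, 3, 0, 1, 3, 0,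 3, 1, 2, 0], 5)], 893), ([(40, [3, 3, 1, 3, 0, 1, 3, 0, 3, 1, 2, 0, 2, 1, 2, 0, 2, 2], 535), (89, [1, 3, 0, 2, 1, 2, 0, 1, 2, 0, 3, 1, 3, 0, 2, 1, 2, 0, 2, 2], 263), (67, [1, 2, 0, 3, 1, 3, 0, 2, 1, 2, 0, 3, 1, 3, 0, 3, 3], 119)], 537), ([(42, [3, 3, 1, 3, 0, 1, 3, 0, 3, 1, 2, 0, 2, 1, 2, 0, 2, 2], 569), (91, [1, 3, 0, 2, 2, 1, 2, 0, 3, 3, 1, 3, 0, 2, 2, 2], 274), (94, [3, 1, 2, 0, 2, 2, 2], 367)], 786), ([(54, [2, 1, 2, 0, 1, 2, 0, 1, 2, 0, 3, 3, 1, 3, 0, 2, 1, 2, 0], 167), (80, [2, 1, 2, 0, 1, 2, 0, 1, 2, 0, 2], 174), (18, [3, 1, 2, 0, 2, 2, 2], 3194)], 146), ([(55, [2, 1, 2, 0, 1, 2, 0, 1, 2, 0, 3, 3, 1, 3, 0, 2, 1, 2, 0], 167), (94, [2, 1, 2, 0, 1, 2, 0, 2, 2, 1, 3, 0, 1, 3, 0, 3,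 3, 1, 2, 0], 379), (37, [2, 2, 1, 3, 0, 3, 1, 2, 0, 3, 1, 3, 0, 3, 1, 2, 0], 971)], 137), ([(59, [2, 1, 2, 0, 1, 2, 0, 1, 2, 0, 3, 3, 1, 3, 0, 2, 1, 2, 0], 141), (58, [1, 2, 0, 3, 1, 3, 0, 3, 3], 132), (20, [3, 1, 2, 0, 2, 2, 2], 4051)], 146), ([(60, [2, 1, 2, 0, 1, 2, 0, 1, 2, 0, 3, 3, 1, 3, 0, 2, 1, 2, 0], 141), (90, [2, 1, 2, 0, 1, 2, 0, 2, 2, 1, 3, 0, 1, 3, 0, 3, 3, 1, 2, 0], 491), (48, [2, 2, 1, 3, 0, 3, 1, 2, 0, 3, 1, 3, 0, 3, 1, 2, 0], 152)], 168), ([(66, [2, 1, 2, 0, 1, 2, 0, 1, 2, 0, 3, 3, 1, 3, 0, 2, 1, 2, 0], 167), (94, [2, 1, 2, 0, 3, 1, 3, 0, 2, 1, 2, 0, 2, 2, 1, 3, 0, 2, 2], 604), (38, [3, 1, 2, 0, 2, 2, 2], 435)], 146), ([(67, [2, 1, 2, 0, 1, 2, 0, 1, 2, 0, 3, 3, 1, 3,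 0, 2, 1, 2, 0], 167), (36, [1, 2, 0, 2, 1, 3, 0, 1, 3, 0, 3, 1, 2, 0, 1, 2, 0], 556), (29, [3, 1, 2, 0, 2, 2, 2], 53416)], 146), ([(70, [2, 1, 2, 0, 1, 2, 0, 1, 2, 0, 3, 3, 1, 3, 0, 2, 1, 2, 0], 141), (67, [1, 2, 0, 1, 2, 0, 2, 2, 1, 2, 0, 2, 1, 2, 0, 1, 2, 0, 3, 3, 1, 3, 0, 2], 14), (35, [3, 1, 2, 0, 2, 2, 2], 1011)], 48), ([(71, [2, 1, 2, 0, 1, 2, 0, 1, 2, 0, 3, 3, 1, 3, 0, 2, 1, 2, 0], 141), (93, [2, 2, 1, 3, 0, 2, 2, 1, 2, 0, 1, 2, 0, 1, 2, 0, 2, 1, 2, 0, 2], 624), (52, [3, 1, 2, 0, 2, 2, 2], 208)], 146), ([(55, [2, 1, 3, 0, 3, 3, 1, 3, 0, 2, 1, 2, 0, 3, 1, 3, 0, 1, 3, 0, 2], 1), (98, [1, 2, 0, 1, 2, 0, 2, 1, 2, 0, 3, 3, 1, 3, 0, 3, 1, 2, 0, 2, 1, 2, 0], 596), (92, [3, 1, 2, 0, 2,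 2, 2], 311)], 146), ([(54, [2, 1, 3, 0, 3, 3, 1, 3, 0, 2, 1, 2, 0, 3, 1, 3, 0, 1, 3, 0, 2], 1), (88, [1, 2, 0, 2, 2, 1, 2, 0, 3, 1, 3, 0, 2, 2, 1, 3, 0, 2, 1, 2, 0, 1, 2, 0], 263), (89, [3, 1, 2, 0, 2, 2, 2], 336)], 146), ([(65, [1, 2, 0, 1, 2, 0, 1, 2, 0, 3, 1, 3, 0, 1, 3, 0, 2, 2], 167), (82, [2, 1, 3, 0, 3, 1, 3, 0, 2, 1, 2, 0, 2, 2, 1, 3, 0, 3, 1, 2, 0], 401), (41, [2, 1, 3, 0, 3, 3, 1, 2, 0, 1, 2, 0, 2, 1, 2, 0, 2, 1, 3, 0], 259)], 31), ([(74, [1, 2, 0, 1, 2, 0, 2, 2, 2, 1, 2, 0, 2, 2, 1, 2, 0, 2, 1, 2, 0, 3], 30), (58, [1, 2, 0, 1, 2, 0, 2, 1, 2, 0, 1, 2, 0, 3, 3, 1, 3, 0, 1, 3, 0], 104), (25, [3, 1, 2, 0, 2, 2, 2], 100)], 184), ([(74, [1, 2, 0, 3, 1, 3, 0, 1, 3, 0, 2, 2, 1, 2,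 0, 2, 1, 3, 0, 2], 78), (60, [2, 1, 3, 0, 2, 1, 2, 0, 2, 1, 2, 0, 3, 3, 1, 3, 0, 1, 3, 0, 3], 143), (84, [3, 1, 2, 0, 1, 2, 0, 3, 1, 3, 0, 1, 3, 0, 2, 2, 1, 3, 0, 1, 3, 0], 237)], 53), ([(70, [2, 1, 3, 0, 3, 3, 1, 3, 0, 2, 1, 2, 0, 3, 1, 3, 0, 1, 3, 0, 2], 120), (60, [1, 3, 0, 2, 2, 1, 3, 0, 2, 1, 2, 0, 1, 2, 0, 2, 1, 3, 0, 1, 3, 0], 179), (90, [3, 1, 2, 0, 2, 2, 2], 410)], 146), ([(71, [2, 1, 3, 0, 3, 3, 1, 3, 0, 2, 1, 2, 0, 3, 1, 3, 0, 1, 3, 0, 2], 120), (92, [1, 3, 0, 1, 3, 0, 3, 1, 2, 0, 1, 2, 0, 3, 1, 3, 0, 1, 3, 0], 223), (59, [1, 3, 0, 2, 2, 2, 1, 3, 0, 3, 1, 2, 0, 3, 1, 3, 0, 3, 1, 2, 0], 193)], 204), ([(62, [3, 1, 2, 0, 2, 2, 2], 239), (69, [1, 3, 0, 2, 1, 2, 0, 2, 2], 225),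 (68, [1, 3, 0, 2, 1, 2, 0, 2, 2], 14)], 156), ([(61, [3, 1, 2, 0, 2, 2, 2], 239), (100, [1, 2, 0, 3, 1, 3, 0, 1, 3, 0, 2], 8477), (99, [3, 1, 2, 0, 2, 2, 2], 19140)], 146), ([(71, [2, 1, 2, 0, 2, 1, 3, 0, 1, 3, 0, 3, 1, 2, 0, 2, 1, 2, 0, 1, 2, 0, 3, 3, 1, 2, 0], 125), (92, [1, 3, 0, 2, 1, 2, 0, 2, 1, 3, 0, 2, 2, 1, 3, 0, 3, 3, 1, 2, 0, 3], 187), (64, [1, 3, 0, 2, 1, 2, 0, 2, 2, 2, 1, 2, 0, 2, 1, 3, 0], 110)], 215), ([(58, [3, 3, 1, 2, 0, 2, 2, 1, 3, 0, 3, 1, 2, 0, 2], 62), (24, [2, 1, 3, 0, 3, 3, 1, 3, 0, 3, 1, 2, 0, 2, 2, 1, 2, 0, 1, 2, 0], 2777), (81, [3, 1, 2, 0, 2, 2, 2], 210)], 146), ([(75, [1, 2, 0, 2, 1, 3, 0, 3, 3, 1, 2, 0, 3, 1, 3, 0, 3, 1, 2, 0, 2, 1, 3, 0], 150), (60, [3, 1,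 3, 0, 2, 2, 1, 2, 0, 2, 2, 1, 2, 0, 1, 2, 0], 77), (86, [2, 1, 2, 0, 2, 2, 2, 1, 2, 0, 2, 1, 3, 0, 2], 6)], 68), ([(55, [2, 1, 2, 0, 3, 1, 3, 0, 2, 2, 1, 2, 0, 3, 1, 3, 0, 3, 3, 1, 2, 0], 100), (94, [1, 3, 0, 1, 3, 0, 2, 2, 1, 2, 0, 3, 1, 3, 0, 1, 3, 0, 3, 3], 200), (44, [3, 1, 2, 0, 3, 3, 1, 3, 0, 2, 1, 2, 0, 3, 1, 3, 0], 198)], 104), ([(54, [2, 1, 2, 0, 3, 1, 3, 0, 2, 2, 1, 2, 0, 3, 1, 3, 0, 3, 3, 1, 2, 0], 100), (91, [2, 2, 1, 3, 0, 3, 3, 1, 2, 0, 3, 1, 3, 0, 1, 3, 0, 3], 319), (97, [3, 1, 2, 0, 2, 2, 2], 491)], 146), ([(68, [3, 1, 2, 0, 2, 2, 2], 184), (62, [1, 2, 0, 1, 2, 0, 3, 1, 3, 0, 3, 3], 210), (69, [3, 1, 2, 0, 2, 2, 2], 223)], 110), ([(69, [3, 1, 2, 0, 2, 2, 2], 184), (68,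 [3, 1, 2, 0, 2, 2, 2], 41), (62, [1, 2, 0, 1, 2, 0, 3, 1, 3, 0, 3, 3], 210)], 134), ([(59, [2, 1, 3, 0, 3, 3, 1, 3, 0, 2, 1, 2, 0, 3, 1, 3, 0, 1, 3, 0, 2], 120), (55, [1, 3, 0, 1, 3, 0, 3, 3, 1, 2, 0, 2, 2, 1, 2, 0, 3, 3, 1, 2, 0], 124), (93, [3, 1, 2, 0, 3, 3, 1, 3, 0, 2, 1, 2, 0, 3, 1, 3, 0], 384)], 221), ([(60, [2, 1, 3, 0, 3, 3, 1, 3, 0, 2, 1, 2, 0, 3, 1, 3, 0, 1, 3, 0, 2], 120), (90, [1, 2, 0, 1, 2, 0, 2, 1, 3, 0, 2, 2, 1, 3, 0, 2, 2, 1, 2, 0, 1, 2, 0], 456), (70, [3, 1, 2, 0, 2, 1, 2, 0, 3, 1, 3, 0, 2, 2, 2, 1, 3, 0, 3, 1, 2, 0], 107)], 93), ([(66, [2, 2, 1, 3, 0, 2, 2, 1, 3, 0, 2], 7), (92, [2, 1, 2, 0, 2, 1, 3, 0, 3, 1, 2, 0, 2, 2, 2, 1, 2, 0, 3, 1, 3, 0, 3], 272), (72, [3, 3,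 1, 3, 0, 1, 3, 0, 3, 1, 3, 0, 1, 3, 0, 2, 2, 1, 2, 0, 1, 2, 0], 129)], 40), ([(67, [2, 2, 1, 3, 0, 2, 2, 1, 3, 0, 2], 7), (41, [1, 3, 0, 3, 3, 1, 3, 0, 3, 1, 2, 0, 2, 2], 553), (73, [2, 1, 3, 0, 3, 1, 3, 0, 1, 3, 0, 2, 2, 1, 2, 0, 2, 1, 3, 0], 141)], 209), ([(59, [3, 1, 3, 0, 3, 3, 1, 2, 0, 1, 2, 0, 3, 1, 3, 0, 1, 3, 0, 3, 1, 2, 0], 88), (75, [3, 3, 1, 3, 0, 2, 2, 1, 2, 0, 2, 2, 1, 3, 0, 1, 3, 0], 54), (74, [2, 1, 3, 0, 3, 3, 1, 2, 0, 2, 2, 1, 2, 0, 3, 1, 3, 0, 3], 41)], 68), ([(60, [3, 1, 3, 0, 3, 3, 1, 2, 0, 1, 2, 0, 3, 1, 3, 0, 1, 3, 0, 3, 1, 2, 0], 88), (84, [2, 2, 2, 1, 3, 0, 2, 1, 2, 0, 2, 2, 1, 3, 0, 2, 2, 2], 98), (75, [2, 2, 2, 1, 2, 0, 2, 2, 1, 3, 0, 1, 3, 0, 2, 2, 1, 2, 0],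 41)], 68), ([(82, [1, 2, 0, 2, 1, 2, 0, 1, 2, 0, 2, 1, 3, 0, 3, 1, 2, 0, 2, 1, 3, 0], 199), (31, [2, 2, 2, 1, 3, 0, 1, 3, 0, 3, 1, 3, 0], 1019), (11, [3, 1, 2, 0, 2, 2, 2], 85315)], 49), ([(83, [1, 2, 0, 2, 1, 2, 0, 1, 2, 0, 2, 1, 3, 0, 3, 1, 2, 0, 2, 1, 3, 0], 422), (85, [1, 2, 0, 2, 2, 1, 2, 0, 3, 3, 1, 3, 0, 1, 3, 0, 3, 1, 3, 0], 57), (78, [3, 1, 2, 0, 3, 1, 3, 0, 3, 1, 2, 0, 2], 185)], 209), ([(84, [2, 1, 3, 0, 1, 3, 0, 3, 3, 1, 2, 0], 101), (57, [2, 2, 1, 2, 0, 3, 1, 3, 0, 1, 3, 0, 3], 234), (79, [1, 3, 0, 1, 3, 0, 3], 322)], 49), ([(85, [2, 1, 3, 0, 1, 3, 0, 3, 3, 1, 2, 0], 101), (83, [1, 2, 0, 1, 2, 0, 2, 1, 3, 0, 1, 3, 0, 2, 1, 2, 0, 1, 2, 0, 3, 1, 3, 0], 59), (76, [2, 2, 1, 2,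 0, 3, 1, 3, 0, 1, 3, 0, 3], 415)], 202), ([(81, [1, 3, 0, 2, 2, 1, 2, 0, 3, 3, 1, 3, 0, 3, 3, 1, 3, 0], 431), (70, [2, 1, 2, 0, 1, 2, 0, 1, 2, 0, 2, 2, 2], 229), (63, [3, 1, 2, 0, 2, 2, 2], 172)], 462), ([(81, [2, 1, 3, 0, 3, 3, 1, 3, 0, 3, 1, 2, 0, 2, 2, 1, 2, 0, 1, 2, 0], 452), (58, [2, 2, 2, 1, 2, 0, 1, 2, 0, 3, 1, 3, 0, 1, 3, 0, 3, 1, 2, 0], 98), (24, [3, 1, 2, 0, 2, 2, 2], 3846)], 300), ([(86, [1, 3, 0, 2, 2, 1, 2, 0, 3, 3, 1, 3, 0, 3, 3, 1, 3, 0], 336), (54, [2, 1, 2, 0, 1, 2, 0, 1, 2, 0, 2, 2, 2], 189), (83, [2, 1, 3, 0, 3, 3, 1, 2, 0, 1, 2, 0, 3, 3, 1, 3, 0, 1, 3, 0, 3, 3], 440)], 304), ([(86, [2, 1, 3, 0, 3, 3, 1, 3, 0, 3, 1, 2, 0, 2, 2, 1, 2, 0, 1, 2, 0], 153), (56, [2, 1, 3,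 0, 3, 1, 2, 0, 2, 1, 2, 0, 3, 1, 3, 0, 1, 3, 0, 2, 2], 73), (40, [3, 1, 2, 0, 2, 2, 2], 646)], 49), ([(91, [2, 1, 2, 0, 2, 2, 2, 1, 2, 0, 1, 2, 0, 2, 1, 3, 0, 3, 1, 3, 0], 136), (95, [1, 3, 0, 2, 1, 2, 0, 2, 1, 2, 0, 1, 2, 0, 1, 2, 0, 2, 2, 1, 2, 0, 3], 590), (85, [2, 1, 3, 0, 3, 1, 2, 0, 1, 2, 0, 2, 1, 3, 0, 3, 1, 2, 0, 3, 3, 1, 3, 0], 225)], 129), ([(90, [2, 1, 2, 0, 2, 2, 2, 1, 2, 0, 1, 2, 0, 2, 1, 3, 0, 3, 1, 3, 0], 136), (74, [1, 2, 0, 1, 2, 0, 2, 2, 1, 2, 0, 2, 1, 2, 0, 3, 1, 3, 0, 2], 80), (57, [1, 2, 0, 3, 1, 3, 0, 3, 3, 1, 2, 0, 2, 1, 3, 0, 2, 1, 2, 0], 25)], 286), ([(83, [2, 1, 3, 0, 3, 3, 1, 3, 0, 3, 1, 2, 0, 2, 2, 1, 2, 0, 1, 2, 0], 110), (87, [1, 3, 0, 3, 3, 1, 3, 0, 1, 3,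 0, 2, 1, 2, 0], 215), (42, [3, 3, 1, 2, 0, 3, 3], 201)], 432), ([(83, [1, 3, 0, 2, 2, 1, 2, 0, 3, 3, 1, 3, 0, 3, 3, 1, 3, 0], 191), (89, [2, 1, 2, 0, 2, 1, 3, 0, 1, 3, 0, 3, 1, 2, 0, 2, 1, 2, 0, 1, 2, 0, 3, 3, 1, 2, 0], 494), (65, [1, 2, 0, 1, 2, 0, 1, 2, 0, 2, 2, 1, 2, 0, 2, 1, 3, 0, 3, 1, 3, 0, 1, 3, 0], 200)], 7), ([(88, [1, 3, 0, 1, 3, 0, 2, 1, 2, 0, 1, 2, 0, 2, 2, 1, 2, 0, 1, 2, 0, 2, 2, 1, 3, 0], 434), (89, [2, 1, 3, 0, 3, 3, 1, 3, 0, 2, 1, 2, 0, 3, 1, 3, 0, 1, 3, 0, 2], 295), (54, [3, 1, 2, 0, 2, 2, 2], 36)], 26), ([(89, [1, 3, 0, 1, 3, 0, 2, 1, 2, 0, 1, 2, 0, 2, 2, 1, 2, 0, 1, 2, 0, 2, 2, 1, 3, 0], 434), (54, [3, 1, 3, 0, 2, 2, 2, 1, 2, 0, 3, 1, 3, 0, 2, 1, 2, 0, 1, 2, 0, 3],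 36), (88, [2, 1, 2, 0, 3, 3, 1, 2, 0, 2, 1, 2, 0, 1, 2, 0, 2, 2, 1, 3, 0], 357)], 194), ([(91, [1, 3, 0, 2, 2, 1, 3, 0, 2, 1, 2, 0, 1, 2, 0, 2, 1, 3, 0, 1, 3, 0], 410), (96, [3, 1, 2, 0, 1, 2, 0, 1, 2, 0, 3, 3, 1, 2, 0, 3, 1, 3, 0, 3, 3, 1, 2, 0], 611), (95, [2, 1, 2, 0, 2, 1, 3, 0, 2, 1, 2, 0, 2, 1, 2, 0, 1, 2, 0, 1, 2, 0], 263)], 185), ([(90, [1, 3, 0, 2, 2, 1, 3, 0, 2, 1, 2, 0, 1, 2, 0, 2, 1, 3, 0, 1, 3, 0], 410), (70, [1, 3, 0, 3, 3, 1, 2, 0, 2, 1, 2, 0, 1, 2, 0, 2, 1, 3, 0], 163), (60, [3, 1, 2, 0, 2, 2, 2], 178)], 49), ([(98, [2, 2, 1, 2, 0, 2, 2, 1, 3, 0, 1, 3, 0, 3, 1, 2, 0, 2, 1, 2, 0, 1, 2, 0], 572), (92, [1, 2, 0, 2, 1, 3, 0, 3, 1, 2, 0, 1, 2, 0, 2, 1, 3, 0, 3, 3, 1, 3, 0,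 2, 2], 371), (55, [2, 1, 2, 0, 3, 3, 1, 2, 0, 2, 1, 2, 0, 1, 2, 0, 2, 2, 1, 3, 0], 5)], 379), ([(94, [1, 3, 0, 2, 2, 1, 3, 0, 2, 2, 1, 2, 0, 2, 2], 430), (43, [2, 1, 2, 0, 1, 2, 0, 2, 2, 2, 1, 2, 0], 610), (45, [3, 1, 2, 0, 2, 2, 2], 1124)], 291), ([(95, [1, 2, 0, 3, 3, 1, 2, 0, 2, 1, 2, 0, 1, 2, 0, 2, 2, 2, 1, 2, 0], 250), (90, [1, 3, 0, 1, 3, 0, 3, 1, 2, 0, 2, 1, 2, 0, 3, 1, 3, 0, 3, 3, 1, 2, 0], 288), (71, [1, 2, 0, 3, 1, 3, 0, 2, 1, 2, 0, 3, 1, 3, 0, 3, 3], 130)], 411), ([(95, [1, 2, 0, 2, 1, 2, 0, 2, 2, 2, 1, 3, 0, 2, 1, 2, 0, 1, 2, 0, 3], 633), (88, [1, 2, 0, 2, 2, 1, 3, 0, 1, 3, 0, 3, 1, 3, 0, 2, 1, 2, 0, 1, 2, 0, 2, 2], 382), (91, [3, 3, 1, 2, 0, 1, 2, 0, 3, 1, 3, 0, 3], 385)],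 379), ([(95, [3, 1, 2, 0, 1, 2, 0, 2, 1, 3, 0, 3, 1, 2, 0, 3, 1, 3, 0, 2], 488), (89, [2, 1, 2, 0, 3, 1, 3, 0, 2, 2, 1, 2, 0, 3, 1, 3, 0, 3, 3, 1, 2, 0], 497), (66, [3, 1, 2, 0, 2, 2, 2], 78)], 522), ([(95, [1, 3, 0, 3, 3, 1, 2, 0, 3, 1, 3, 0, 3, 3, 1, 2, 0, 1, 2, 0, 1, 2, 0, 2], 605), (91, [1, 3, 0, 2, 1, 2, 0, 2, 1, 2, 0, 3, 1, 3, 0, 2, 2, 1, 2, 0], 444), (96, [3, 1, 2, 0, 2, 1, 2, 0, 3, 1, 3, 0, 2, 2, 2, 1, 3, 0, 3, 1, 2, 0], 486)], 622), ([(95, [2, 2, 1, 3, 0, 3, 1, 2, 0, 2, 1, 2, 0, 1, 2, 0, 1, 2, 0, 3, 3], 428), (91, [1, 2, 0, 1, 2, 0, 3, 3, 1, 3, 0, 3, 3, 1, 2, 0, 1, 2, 0, 1, 2, 0], 431), (98, [2, 2, 1, 3, 0, 2, 1, 2, 0, 3, 1, 3, 0, 3, 1, 2, 0, 3, 3], 449)], 20), ([(100, [1, 2,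 0, 3, 1, 3, 0, 1, 3, 0, 2], 23394), (99, [3, 1, 2, 0, 2, 2, 2], 19140), (61, [3, 1, 2, 0, 2, 2, 2], 239)], 2342), ([(99, [1, 3, 0, 3, 3, 1, 3, 0, 1, 3, 0, 2, 1, 2, 0, 1, 2, 0, 3], 23727), (61, [1, 3, 0, 3, 3, 1, 3, 0, 1, 3, 0, 2, 1, 2, 0, 1, 2, 0, 3], 184), (100, [3, 1, 2, 0, 2, 2, 2], 11349)], 26170)],
[([(0, [], 0), (5, [], 0), (2, [], 24400)], 0), ([(5, [], 14734), (2, [], 24400), (0, [], 0)], 26560), ([(6, [], 14734), (14, [], 2300), (3, [], 24400)], 26560), ([(7, [], 12282), (26, [], 9832), (4, [], 24400)], 31568), ([(8, [], 12282), (12, [], 2300), (1, [], 24400)], 31568), ([(10, [2, 2, 2, 1, 2, 0, 2, 1, 3, 0, 3, 3], 89098), (33, [2, 2, 2, 1, 2, 0, 2, 1, 3, 0, 3, 1, 2, 0], 1350),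 (12, [2, 1, 2, 0], 2983)], 24362), ([(10, [2, 2, 2, 1, 2, 0, 2, 1, 3, 0, 3, 1, 2, 0], 73511), (31, [2, 2, 2, 1, 2, 0, 2, 1, 3, 0, 3, 3], 278), (5, [2, 1, 2, 0], 55398)], 24362), ([(9, [2, 2, 2, 1, 2, 0, 2, 1, 3, 0, 3, 1, 2, 0], 61978), (23, [2, 2, 1, 2, 0, 1, 2, 0, 2, 1, 2, 0, 1, 2, 0, 3], 1249), (14, [2, 1, 2, 0], 4132)], 66471), ([(9, [2, 2, 2, 1, 2, 0, 2, 1, 3, 0, 3, 3], 55158), (13, [2, 1, 2, 0], 1321), (26, [2, 1, 2, 0], 64047)], 66471), ([(11, [1, 2, 0, 2, 1, 2, 0, 2], 13945), (80, [1, 2, 0, 2, 1, 2, 0, 2], 49), (17, [1, 3, 0, 3, 1, 3, 0], 2679)], 53493), ([(11, [3, 3, 1, 2, 0, 1, 2, 0, 2, 1, 2, 0, 1, 2, 0], 17122), (82, [1, 2, 0, 2, 1, 2, 0, 2], 123), (31, [1, 3, 0, 3, 1, 3, 0],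 786)], 44984), ([(10, [2, 1, 2, 0, 3, 1, 3, 0, 2, 1, 2, 0, 2, 2], 31381), (40, [2, 1, 3, 0, 1, 3, 0, 2, 2, 1, 3, 0, 1, 3, 0, 3, 1, 2, 0, 2], 924), (77, [2, 1, 2, 0, 2, 2, 2], 498)], 24400), ([(17, [2, 2, 2, 1, 2, 0, 2, 1, 3, 0, 3, 1, 2, 0], 4140), (7, [2, 1, 2, 0], 43151), (27, [2, 1, 2, 0], 64047)], 2974), ([(16, [2, 2, 2, 1, 2, 0, 2, 1, 3, 0, 3, 3], 1223), (31, [2, 2, 2, 1, 2, 0, 2, 1, 3, 0, 3, 1, 2, 0], 1019), (6, [2, 1, 2, 0], 59371)], 2974), ([(22, [2, 2, 1, 2, 0, 1, 2, 0, 2, 1, 2, 0, 1, 2, 0, 1, 2, 0], 912), (30, [2, 2, 2, 1, 2, 0, 2, 1, 3, 0, 3, 1, 2, 0], 93), (15, [2, 1, 2, 0], 2129)], 3759), ([(23, [2, 2, 1, 2, 0, 1, 2, 0, 2, 1, 2, 0, 1, 2, 0, 1, 2, 0], 912), (17, [2, 2, 2, 1,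 2, 0, 2, 1, 3, 0, 3, 3], 450), (8, [2, 1, 2, 0], 68717)], 3759), ([(24, [1, 2, 0, 2, 1, 2, 0, 2], 2578), (77, [1, 2, 0, 2, 1, 2, 0, 2], 300), (9, [1, 3, 0, 3, 1, 3, 0], 24400)], 3318), ([(24, [2, 1, 3, 0, 1, 3, 0, 2, 1, 2, 0, 2, 1, 3, 0, 3, 1, 3, 0, 2, 1, 2, 0, 3], 893), (87, [1, 2, 0, 2, 1, 2, 0, 1, 2, 0, 3, 1, 3, 0, 1, 3, 0, 3, 1, 2, 0, 2, 2], 118), (33, [1, 3, 0, 3, 1, 3, 0], 770)], 4836), ([(25, [1, 2, 0, 1, 2, 0, 2, 2, 1, 2, 0, 2, 2, 1, 3, 0, 1, 3, 0, 3], 3068), (49, [2, 1, 2, 0, 1, 2, 0, 3, 3, 1, 3, 0, 3, 1, 2, 0, 3, 3], 164), (19, [3, 3, 1, 3, 0], 67)], 2648), ([(25, [2, 1, 3, 0, 1, 3, 0, 3, 3, 1, 3, 0, 3, 1, 2, 0, 2, 1, 3, 0], 2614), (64, [1, 2, 0, 2, 2, 1, 2, 0, 1, 2, 0, 2],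 94), (47, [2, 1, 2, 0, 2, 2, 2], 233)], 2983), ([(24, [2, 1, 2, 0, 3, 1, 3, 0, 2, 2, 2, 1, 3, 0, 3], 1725), (82, [2, 1, 3, 0, 1, 3, 0, 2, 1, 2, 0, 2, 1, 3, 0, 3, 1, 3, 0, 2, 1, 2, 0, 3], 94), (34, [2, 1, 2, 0, 2, 2, 2], 1232)], 2983), ([(24, [2, 2, 1, 3, 0, 2, 1, 2, 0, 2, 1, 2, 0, 1, 2, 0, 3, 3], 1305), (86, [1, 2, 0, 2, 1, 2, 0, 1, 2, 0, 3, 1, 3, 0, 1, 3, 0, 3, 1, 2, 0, 2, 2], 130), (49, [2, 1, 2, 0, 2, 2, 2], 175)], 2983), ([(25, [2, 2, 1, 2, 0, 3, 1, 3, 0, 2, 2, 2, 1, 3, 0, 3], 2008), (58, [3, 1, 3, 0, 2, 1, 2, 0, 2, 1, 3, 0, 3, 1, 2, 0, 2, 1, 3, 0], 4), (23, [2, 1, 2, 0, 3, 1, 3, 0, 2, 1, 2, 0, 3], 2212)], 2138), ([(25, [3, 1, 2, 0, 3, 3, 1, 3, 0, 1, 3, 0, 2, 2, 1, 3, 0, 1, 3, 0],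 1975), (56, [1, 2, 0, 3, 3, 1, 2, 0, 2, 2, 1, 2, 0, 3, 3, 1, 2, 0], 148), (30, [2, 2, 2, 1, 3, 0, 2, 1, 2, 0, 3], 1431)], 4534), ([(25, [2, 1, 3, 0, 3, 1, 2, 0, 1, 2, 0, 3], 4634), (63, [2, 2, 1, 2, 0, 1, 2, 0, 2, 1, 3, 0, 3, 1, 3, 0, 1, 3, 0, 2, 1, 2, 0], 216), (80, [1, 3, 0, 2, 1, 2, 0, 3, 1, 3, 0, 3, 3, 1, 3, 0, 2, 2, 1, 3, 0], 7)], 1469), ([(25, [1, 3, 0, 2, 2, 1, 2, 0, 1, 2, 0], 1746), (75, [2, 1, 3, 0, 2, 1, 2, 0, 3, 1, 3, 0, 3, 3, 1, 2, 0, 1, 2, 0, 3, 1, 3, 0], 133), (58, [2, 1, 2, 0, 2, 2, 2], 83)], 4816), ([(27, [2, 1, 2, 0], 63978), (17, [2, 2, 2, 1, 2, 0, 2, 1, 3, 0, 3, 1, 2, 0], 4192), (7, [2, 1, 2, 0], 43151)], 42669), ([(26, [2, 1, 2, 0], 73242), (9, [2, 2, 2, 1, 2, 0, 2,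 1, 3, 0, 3, 3], 75854), (13, [2, 1, 2, 0], 1321)], 45919), ([(28, [2, 2, 1, 3, 0, 1, 3, 0, 3, 1, 2, 0, 1, 2, 0, 3], 79204), (43, [2, 2, 1, 2, 0, 2, 1, 3, 0, 1, 3, 0, 3, 1, 2, 0, 1, 2, 0], 1173), (36, [3, 3, 1, 3, 0], 658)], 32218), ([(29, [2, 2, 1, 3, 0, 1, 3, 0, 3, 1, 2, 0, 1, 2, 0, 3], 55142), (64, [3, 1, 3, 0, 3, 3, 1, 3, 0, 2, 2, 1, 3, 0, 3, 3], 163), (50, [3, 3, 1, 3, 0], 71)], 20738), ([(40, [1, 2, 0, 2, 1, 2, 0, 2], 729), (77, [3, 3, 1, 2, 0, 1, 2, 0, 2, 1, 2, 0, 1, 2, 0], 252), (10, [1, 3, 0, 3, 1, 3, 0], 51606)], 949), ([(41, [1, 2, 0, 2, 1, 2, 0, 2], 854), (58, [3, 1, 2, 0, 1, 2, 0, 2, 1, 3, 0, 3, 3, 1, 3, 0, 2, 2, 1, 3, 0], 14), (22, [3, 1, 2, 0, 3, 3, 1, 3, 0], 2318)], 752),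 ([(42, [1, 2, 0, 2, 1, 2, 0, 2], 754), (80, [2, 2, 1, 2, 0, 2, 1, 3, 0, 1, 3, 0, 3, 1, 2, 0, 1, 2, 0], 196), (16, [1, 3, 0, 3, 1, 3, 0], 2230)], 1132), ([(43, [1, 2, 0, 2, 1, 2, 0, 2], 800), (43, [3, 1, 3, 0, 3, 3, 1, 3, 0, 2, 2, 1, 3, 0, 3, 3], 670), (32, [1, 3, 0, 3, 1, 3, 0], 4)], 726), ([(41, [2, 1, 3, 0, 1, 3, 0, 2, 1, 2, 0, 2, 1, 3, 0, 3, 1, 3, 0, 2, 1, 2, 0, 3], 1088), (47, [2, 1, 2, 0, 1, 2, 0, 3, 3, 1, 3, 0, 3, 1, 2, 0, 3, 3], 126), (21, [3, 3, 1, 3, 0], 1196)], 459), ([(43, [2, 2, 1, 3, 0, 2, 1, 2, 0, 2, 1, 2, 0, 1, 2, 0, 3, 3], 144), (36, [2, 2, 1, 3, 0, 1, 3, 0, 3, 1, 2, 0, 1, 2, 0, 3], 773), (28, [3, 3, 1, 3, 0], 56468)], 911), ([(42, [2, 1, 3, 0, 1, 3, 0, 2, 1, 2, 0, 2,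 1, 3, 0, 3, 1, 3, 0, 2, 1, 2, 0, 3], 17), (84, [2, 1, 3, 0, 2, 2, 1, 2, 0, 1, 2, 0, 2, 1, 2, 0, 3, 3], 225), (53, [3, 3, 1, 3, 0], 151)], 497), ([(42, [2, 2, 1, 3, 0, 2, 1, 2, 0, 2, 1, 2, 0, 1, 2, 0, 3, 3], 1382), (81, [2, 2, 1, 2, 0, 2, 1, 3, 0, 1, 3, 0, 3, 1, 2, 0, 1, 2, 0], 54), (46, [2, 1, 2, 0, 2, 2, 2], 192)], 786), ([(41, [2, 2, 1, 3, 0, 2, 1, 2, 0, 2, 1, 2, 0, 1, 2, 0, 3, 3], 36), (56, [2, 1, 3, 0, 1, 3, 0, 2, 1, 2, 0, 2, 1, 3, 0, 3, 1, 3, 0, 2, 1, 2, 0, 3], 109), (39, [3, 3, 1, 3, 0], 905)], 726), ([(40, [2, 1, 3, 0, 1, 3, 0, 2, 1, 2, 0, 2, 1, 3, 0, 3, 1, 3, 0, 2, 1, 2, 0, 3], 128), (81, [1, 2, 0, 2, 1, 2, 0, 1, 2, 0, 3, 1, 3, 0, 1, 3, 0, 3, 1, 2, 0, 2, 2], 218), (51, [3, 3,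 1, 3, 0], 74)], 658), ([(45, [2, 2, 1, 3, 0, 3, 1, 2, 0, 1, 2, 0, 2, 1, 3, 0, 3, 1, 2, 0, 1, 2, 0, 2], 829), (97, [2, 1, 3, 0, 1, 3, 0, 3, 1, 3, 0, 1, 3, 0, 3, 1, 2, 0, 1, 2, 0, 2, 2], 209), (56, [2, 1, 2, 0, 2, 2, 2], 3)], 1341), ([(45, [1, 2, 0, 1, 2, 0, 2, 2, 1, 3, 0, 1, 3, 0, 2, 2, 2], 838), (95, [2, 1, 3, 0, 1, 3, 0, 3, 3, 1, 3, 0, 3, 1, 2, 0, 2, 2, 2, 1, 2, 0, 2, 1, 2, 0], 115), (82, [2, 1, 2, 0, 2, 2, 2], 158)], 786), ([(44, [3, 1, 2, 0, 2, 1, 2, 0, 1, 2, 0, 2, 1, 3, 0, 1, 3, 0, 2], 502), (56, [2, 1, 2, 0, 1, 2, 0, 3, 3, 1, 3, 0, 3, 1, 2, 0, 2], 218), (43, [1, 2, 0, 2, 1, 2, 0, 3, 1, 3, 0, 2, 2, 2, 1, 3, 0, 2], 929)], 304), ([(44, [3, 1, 2, 0, 2, 1, 2, 0, 1, 2, 0, 3, 3, 1, 2, 0,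 1, 2, 0, 1, 2, 0], 692), (60, [2, 1, 2, 0, 2, 2, 1, 3, 0, 2, 1, 2, 0, 2, 2, 1, 2, 0, 3], 177), (87, [2, 1, 3, 0, 3, 1, 2, 0, 1, 2, 0, 2, 1, 2, 0, 2, 2, 1, 2, 0, 1, 2, 0, 3], 177)], 786), ([(45, [3, 1, 2, 0, 1, 2, 0, 2, 1, 2, 0, 2, 1, 3, 0, 3, 3], 1272), (92, [3, 1, 2, 0, 2, 1, 3, 0, 2, 2, 1, 3, 0, 3, 3, 1, 3, 0, 2, 2, 1, 3, 0], 306), (67, [1, 2, 0, 3, 3, 1, 3, 0, 2, 2, 1, 2, 0, 1, 2, 0, 1, 2, 0, 3], 178)], 537), ([(44, [3, 1, 2, 0, 1, 2, 0, 2, 1, 2, 0, 2, 1, 3, 0, 3, 3], 1120), (55, [1, 3, 0, 3, 3, 1, 2, 0, 2, 2, 1, 3, 0, 1, 3, 0, 3, 1, 2, 0, 2, 2], 109), (94, [2, 1, 2, 0, 2, 2, 2], 180)], 786), ([(64, [2, 2, 1, 2, 0, 2, 1, 3, 0, 1, 3, 0, 3, 1, 2, 0, 1, 2, 0], 209), (58, [1, 2, 0, 1,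 2, 0, 2, 2, 1, 2, 0, 2, 2, 1, 3, 0, 1, 3, 0, 3], 130), (18, [2, 1, 2, 0, 2, 2, 2], 4519)], 146), ([(63, [2, 2, 1, 2, 0, 1, 2, 0, 3, 1, 3, 0, 1, 3, 0, 2, 2, 1, 3, 0], 174), (87, [1, 2, 0, 2, 2, 1, 2, 0, 1, 2, 0, 2], 59), (37, [3, 3, 1, 3, 0], 204)], 146), ([(65, [2, 2, 1, 3, 0, 3, 1, 2, 0, 3, 1, 3, 0, 3], 133), (80, [2, 1, 3, 0, 1, 3, 0, 2, 1, 2, 0, 2, 1, 3, 0, 3, 1, 3, 0, 2, 1, 2, 0, 3], 368), (20, [2, 1, 2, 0, 2, 2, 2], 3515)], 146), ([(65, [2, 1, 2, 0, 1, 2, 0, 3, 3, 1, 3, 0, 3, 1, 2, 0, 3, 3], 66), (84, [1, 2, 0, 3, 1, 3, 0, 3, 3, 1, 3, 0, 2, 2, 1, 2, 0, 3], 429), (48, [3, 3, 1, 3, 0], 203)], 132), ([(63, [2, 1, 2, 0, 3, 1, 3, 0, 2, 2, 2, 1, 3, 0, 3], 203), (82, [2, 2, 1, 3, 0, 2,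 1, 2, 0, 2, 1, 2, 0, 1, 2, 0, 3, 3], 159), (38, [3, 3, 1, 3, 0], 1083)], 110), ([(64, [1, 2, 0, 2, 1, 2, 0, 1, 2, 0, 3, 1, 3, 0, 1, 3, 0, 3, 1, 2, 0, 2, 2], 122), (50, [2, 2, 1, 3, 0, 1, 3, 0, 3, 1, 2, 0, 1, 2, 0, 3], 147), (29, [3, 3, 1, 3, 0], 55368)], 110), ([(57, [1, 2, 0, 3, 3, 1, 2, 0, 2, 2, 1, 2, 0, 1, 2, 0, 1, 2, 0], 68), (87, [2, 2, 1, 2, 0, 2, 1, 3, 0, 1, 3, 0, 3, 1, 2, 0, 1, 2, 0], 92), (35, [3, 3, 1, 3, 0], 1193)], 230), ([(58, [3, 3, 1, 3, 0, 2, 1, 2, 0, 3, 3, 1, 3, 0, 2, 1, 2, 0, 3], 236), (25, [1, 2, 0, 3, 3, 1, 2, 0, 2, 2, 1, 2, 0, 1, 2, 0, 1, 2, 0], 203), (52, [3, 3, 1, 3, 0], 204)], 62), ([(75, [1, 2, 0, 3, 1, 3, 0, 3, 3, 1, 2, 0, 2, 1, 3, 0, 3, 3, 1, 3, 0, 1, 3, 0],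 71), (55, [2, 1, 2, 0, 2, 1, 3, 0, 3, 1, 2, 0, 2, 1, 2, 0, 1, 2, 0, 3, 3, 1, 3, 0], 178), (92, [2, 1, 2, 0, 2, 2, 2], 523)], 146), ([(74, [1, 2, 0, 3, 1, 3, 0, 3, 3, 1, 2, 0, 2, 1, 3, 0, 3, 3, 1, 3, 0, 1, 3, 0], 71), (60, [1, 2, 0, 1, 2, 0, 2, 1, 2, 0, 3, 1, 3, 0, 3, 1, 2, 0, 1, 2, 0, 2, 1, 3, 0], 83), (89, [2, 1, 2, 0, 2, 2, 2], 308)], 146), ([(67, [2, 1, 3, 0, 1, 3, 0, 3, 1, 3, 0, 1, 3, 0, 3, 1, 2, 0, 1, 2, 0, 2, 2], 35), (43, [3, 1, 2, 0, 3, 1, 3, 0, 3], 570), (41, [1, 2, 0, 2, 1, 2, 0, 3, 1, 3, 0, 2, 2, 2, 1, 3, 0, 2], 368)], 31), ([(75, [2, 1, 3, 0, 2, 1, 2, 0, 3, 1, 3, 0, 3, 3, 1, 2, 0, 1, 2, 0, 2, 2, 1, 3, 0], 180), (58, [1, 3, 0, 2, 2, 1, 2, 0, 1, 2, 0], 77), (25, [2, 1, 2, 0,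 2, 2, 2], 2119)], 184), ([(75, [2, 1, 2, 0, 2, 2, 1, 3, 0, 2, 2, 1, 3, 0, 2, 1, 2, 0, 1, 2, 0, 2], 162), (60, [1, 2, 0, 3, 3, 1, 2, 0, 3, 1, 3, 0, 2, 1, 2, 0, 2], 134), (84, [2, 1, 3, 0, 3, 1, 2, 0, 3, 3, 1, 3, 0, 3, 1, 2, 0], 98)], 5), ([(72, [1, 2, 0, 2, 1, 2, 0, 1, 2, 0, 1, 2, 0, 2, 1, 2, 0, 3, 3], 92), (54, [3, 1, 3, 0, 3, 1, 2, 0, 2, 2, 1, 3, 0, 3, 1, 3, 0, 2, 2], 25), (90, [2, 1, 2, 0, 2, 2, 2], 469)], 146), ([(73, [1, 2, 0, 2, 1, 2, 0, 1, 2, 0, 1, 2, 0, 2, 1, 2, 0, 3, 3], 92), (74, [1, 3, 0, 1, 3, 0, 3, 3, 1, 3, 0, 2, 1, 2, 0, 2, 2, 1, 2, 0, 1, 2, 0, 2], 88), (59, [2, 2, 1, 2, 0, 2, 1, 3, 0, 2, 1, 2, 0, 3, 3], 68)], 208), ([(60, [1, 2, 0, 1, 2, 0, 1, 2, 0, 2, 1, 2, 0, 3, 1, 3,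 0, 3, 3, 1, 2, 0, 2, 1, 2, 0], 59), (89, [1, 2, 0, 1, 2, 0, 1, 2, 0, 2, 1, 2, 0, 1, 2, 0, 2, 1, 3, 0, 1, 3, 0, 2, 1, 2, 0, 2], 424), (68, [2, 1, 3, 0, 1, 3, 0, 3], 219)], 165), ([(59, [1, 2, 0, 1, 2, 0, 1, 2, 0, 2, 1, 2, 0, 3, 1, 3, 0, 3, 3, 1, 2, 0, 2, 1, 2, 0], 59), (61, [1, 3, 0, 3, 1, 2, 0, 2, 1, 3, 0, 3, 3], 134), (99, [1, 3, 0, 3], 8350)], 165), ([(54, [2, 2, 1, 2, 0, 1, 2, 0, 2, 1, 2, 0, 1, 2, 0, 3, 1, 3, 0, 3, 1, 2, 0, 2], 1), (84, [2, 1, 3, 0, 3, 1, 2, 0, 2, 1, 2, 0, 1, 2, 0, 1, 2, 0, 3], 95), (64, [2, 1, 2, 0, 2, 1, 3, 0, 1, 3, 0, 3, 1, 2, 0, 2, 1, 3, 0], 209)], 211), ([(55, [2, 1, 3, 0, 1, 3, 0, 3, 1, 3, 0, 1, 3, 0, 3, 1, 2, 0, 1, 2, 0, 2, 2], 74), (95, [1, 2, 0, 1, 2, 0, 1,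 2, 0, 3, 3, 1, 3, 0, 2, 2, 1, 2, 0, 3, 1, 3, 0, 2, 2], 606), (81, [2, 1, 2, 0, 2, 2, 2], 103)], 146), ([(54, [1, 2, 0, 2, 2, 1, 3, 0, 2, 2, 1, 3, 0, 3, 3, 1, 3, 0, 1, 3, 0, 3, 3], 24), (83, [2, 2, 1, 2, 0, 1, 2, 0, 1, 2, 0, 2, 1, 2, 0, 2], 261), (86, [2, 1, 3, 0, 3, 1, 2, 0, 2, 1, 3, 0, 2, 1, 2, 0, 3, 1, 3, 0], 99)], 76), ([(75, [1, 2, 0, 2, 1, 2, 0, 1, 2, 0, 1, 2, 0, 2, 1, 2, 0, 3, 3], 182), (67, [2, 2, 1, 2, 0, 2, 2, 1, 3, 0, 2, 1, 2, 0, 3, 3, 1, 3, 0, 3, 1, 2, 0], 46), (44, [1, 2, 0, 1, 2, 0, 3, 1, 3, 0, 1, 3, 0, 3, 1, 2, 0, 2, 1, 2, 0, 2, 2], 1106)], 177), ([(74, [1, 2, 0, 2, 1, 2, 0, 1, 2, 0, 1, 2, 0, 2, 1, 2, 0, 3, 3], 182), (71, [2, 2, 2, 1, 3, 0, 1, 3, 0, 2, 2, 1, 2, 0, 2, 1,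 3, 0, 1, 3, 0, 3], 20), (97, [2, 1, 2, 0, 2, 2, 2], 278)], 146), ([(55, [1, 2, 0, 1, 2, 0, 1, 2, 0, 2, 1, 2, 0, 3, 1, 3, 0, 3, 3, 1, 2, 0, 2, 1, 2, 0], 51), (92, [1, 2, 0, 1, 2, 0, 1, 2, 0, 2, 1, 2, 0, 3, 1, 3, 0, 3, 3, 1, 2, 0, 2, 1, 2, 0], 484), (69, [1, 3, 0, 3], 48)], 94), ([(54, [1, 2, 0, 1, 2, 0, 1, 2, 0, 2, 1, 2, 0, 3, 1, 3, 0, 3, 3, 1, 2, 0, 2, 1, 2, 0], 51), (90, [1, 2, 0, 1, 2, 0, 1, 2, 0, 2, 1, 2, 0, 1, 2, 0, 2, 1, 3, 0, 1, 3, 0, 2, 1, 2, 0, 2], 387), (62, [1, 2, 0, 3, 1, 3, 0, 3], 212)], 124), ([(72, [1, 2, 0, 2, 1, 3, 0, 2, 2, 1, 2, 0, 1, 2, 0, 3, 1, 3, 0, 1, 3, 0, 3, 1, 3, 0], 53), (66, [2, 2, 1, 2, 0, 3, 1, 3, 0, 3, 1, 2, 0, 2, 1, 3, 0, 3, 3, 1, 2, 0, 2], 154), (93, [1,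 2, 0, 1, 2, 0, 3, 1, 3, 0, 1, 3, 0, 3, 1, 2, 0, 2, 1, 2, 0, 2, 2], 486)], 56), ([(73, [1, 2, 0, 2, 1, 3, 0, 2, 2, 1, 2, 0, 1, 2, 0, 3, 1, 3, 0, 1, 3, 0, 3, 1, 3, 0], 53), (75, [2, 1, 3, 0, 3, 1, 2, 0, 1, 2, 0, 2, 1, 3, 0, 3, 1, 3, 0, 1, 3, 0, 2, 1, 2, 0, 1, 2, 0], 118), (70, [2, 1, 2, 0, 3, 3, 1, 3, 0, 1, 3, 0, 3, 1, 2, 0, 2, 1, 3, 0, 2, 1, 2, 0, 1, 2, 0], 20)], 91), ([(64, [2, 1, 2, 0, 2, 1, 3, 0, 2, 2, 1, 2, 0, 2, 2], 35), (72, [1, 3, 0, 2, 1, 2, 0, 2, 2, 1, 2, 0, 1, 2, 0, 1, 2, 0, 3, 1, 3, 0, 1, 3, 0], 6), (72, [2, 1, 2, 0, 1, 2, 0, 1, 2, 0, 3, 1, 3, 0, 1, 3, 0, 3], 96)], 40), ([(63, [3, 1, 3, 0, 1, 3, 0, 2, 2, 1, 3, 0, 1, 3, 0, 3, 1, 3, 0, 1, 3, 0], 103), (89, [2, 1, 2, 0, 2, 1, 2,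 0, 1, 2, 0, 3, 3, 1, 3, 0, 2, 2, 1, 3, 0], 296), (73, [1, 2, 0, 2, 1, 2, 0, 1, 2, 0, 3, 3, 1, 3, 0, 2, 2, 1, 3, 0], 146)], 209), ([(57, [1, 2, 0, 1, 2, 0, 2, 1, 2, 0, 3, 1, 3, 0, 2, 2, 1, 2, 0, 3], 20), (90, [2, 2, 1, 3, 0, 2, 2, 2], 435), (74, [1, 2, 0, 2, 1, 2, 0, 3, 1, 3, 0, 3, 1, 2, 0, 2, 2, 1, 3, 0], 126)], 68), ([(58, [1, 2, 0, 2, 1, 3, 0, 2, 2, 1, 3, 0, 1, 3, 0, 3, 3, 1, 3, 0, 1, 3, 0], 136), (25, [1, 2, 0, 2, 2, 1, 3, 0, 1, 3, 0, 2, 2, 1, 2, 0, 3, 1, 3, 0], 1706), (75, [3, 3, 1, 3, 0, 1, 3, 0, 2, 1, 2, 0, 2, 1, 3, 0, 3, 1, 3, 0, 1, 3, 0, 3, 1, 2, 0], 114)], 159), ([(82, [2, 1, 3, 0, 1, 3, 0, 2, 2, 1, 3, 0, 1, 3, 0, 3, 1, 2, 0, 2], 173), (31, [2, 1, 2, 0, 3, 1, 3, 0, 2, 1, 2, 0,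 2, 2], 779), (11, [2, 1, 2, 0, 2, 2, 2], 89659)], 49), ([(83, [2, 1, 3, 0, 1, 3, 0, 2, 2, 1, 3, 0, 1, 3, 0, 3, 1, 2, 0, 2], 271), (85, [3, 3, 1, 3, 0, 2, 1, 2, 0, 3, 1, 3, 0, 2, 1, 2, 0, 1, 2, 0, 3], 179), (78, [2, 1, 3, 0, 3, 1, 2, 0, 2, 2, 2], 29)], 49), ([(87, [2, 1, 2, 0, 3, 3, 1, 2, 0, 1, 2, 0, 2, 1, 2, 0, 2], 143), (42, [1, 2, 0, 1, 2, 0, 3, 1, 3, 0, 3, 1, 2, 0, 2], 1348), (79, [1, 2, 0, 1, 2, 0], 267)], 144), ([(86, [2, 1, 3, 0, 1, 3, 0, 2, 2, 1, 3, 0, 2, 1, 2, 0, 1, 2, 0, 2], 203), (63, [2, 1, 3, 0, 1, 3, 0, 2, 2, 1, 3, 0, 2, 1, 2, 0, 1, 2, 0, 2], 50), (76, [2, 2, 2, 1, 3, 0, 2, 1, 2, 0], 326)], 196), ([(91, [1, 3, 0, 2, 2, 1, 2, 0, 1, 2, 0, 2, 1, 3, 0, 1, 3, 0, 2], 161), (92,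 [2, 2, 1, 2, 0, 1, 2, 0, 2, 1, 2, 0, 1, 2, 0, 3, 1, 3, 0, 3, 1, 2, 0, 2], 606), (63, [2, 1, 2, 0, 2, 2, 2], 36)], 462), ([(90, [3, 3, 1, 3, 0, 2, 1, 2, 0, 3, 3, 1, 3, 0, 2, 2, 1, 3, 0, 2, 2], 39), (58, [2, 1, 3, 0, 3, 1, 2, 0, 1, 2, 0, 3], 234), (24, [2, 1, 2, 0, 2, 2, 2], 3736)], 300), ([(90, [2, 1, 3, 0, 2, 1, 2, 0, 2, 1, 3, 0, 2, 2, 1, 2, 0, 1, 2, 0, 3, 1, 3, 0, 2, 1, 2, 0], 141), (54, [2, 2, 2, 1, 2, 0, 3, 1, 3, 0, 2, 2, 1, 3, 0, 2, 2], 204), (83, [1, 3, 0, 1, 3, 0, 3, 1, 2, 0, 2, 1, 2, 0, 1, 2, 0, 1, 2, 0, 3], 411)], 411), ([(91, [2, 2, 2, 1, 2, 0, 3, 1, 3, 0, 3, 1, 2, 0, 2, 2, 1, 2, 0, 1, 2, 0], 385), (94, [2, 2, 1, 3, 0, 3, 1, 2, 0, 1, 2, 0, 2, 1, 3, 0, 3, 1, 2, 0, 1, 2, 0, 2],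 126), (40, [2, 1, 2, 0, 2, 2, 2], 895)], 49), ([(88, [1, 3, 0, 3, 1, 3, 0, 2, 1, 2, 0, 1, 2, 0, 2, 1, 2, 0, 1, 2, 0, 3], 28), (85, [2, 2, 2, 1, 3, 0, 2, 1, 2, 0, 2, 1, 2, 0, 3, 3], 12), (85, [1, 2, 0, 3, 3, 1, 2, 0, 3, 1, 3, 0, 1, 3, 0, 3, 1, 2, 0, 2, 1, 2, 0], 337)], 212), ([(89, [1, 3, 0, 3, 1, 3, 0, 2, 1, 2, 0, 1, 2, 0, 2, 1, 2, 0, 1, 2, 0, 3], 28), (64, [1, 2, 0, 2, 2, 1, 2, 0, 1, 2, 0, 3, 3], 109), (57, [2, 1, 3, 0, 3, 3, 1, 3, 0], 198)], 286), ([(88, [1, 2, 0, 1, 2, 0, 1, 2, 0, 3, 3, 1, 2, 0, 1, 2, 0, 2, 2, 1, 2, 0, 3], 11), (82, [1, 2, 0, 1, 2, 0, 3, 1, 3, 0, 3, 1, 2, 0, 2, 1, 3, 0, 3, 1, 2, 0], 123), (42, [1, 2, 0, 1, 2, 0, 3, 1, 3, 0, 3, 3, 1, 3, 0, 1, 3, 0, 3], 1375)], 427),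 ([(89, [1, 2, 0, 2, 2, 2, 1, 2, 0, 3, 1, 3, 0, 2, 1, 2, 0, 3, 1, 3, 0, 1, 3, 0, 2], 138), (70, [1, 2, 0, 1, 2, 0, 1, 2, 0, 3, 3, 1, 2, 0, 1, 2, 0, 2, 2, 1, 2, 0, 3], 93), (65, [2, 2, 1, 3, 0, 3, 1, 2, 0, 2, 2, 1, 2, 0, 3, 3], 122)], 7), ([(90, [1, 2, 0, 1, 2, 0, 2, 1, 2, 0, 3, 1, 3, 0, 3, 1, 2, 0, 1, 2, 0, 2, 1, 3, 0], 308), (75, [2, 1, 3, 0, 3, 1, 3, 0, 1, 3, 0, 3, 3, 1, 2, 0, 1, 2, 0, 1, 2, 0, 2], 162), (54, [2, 1, 2, 0, 2, 2, 2], 97)], 26), ([(91, [1, 2, 0, 1, 2, 0, 2, 1, 2, 0, 3, 1, 3, 0, 3, 1, 2, 0, 1, 2, 0, 2, 1, 3, 0], 308), (95, [2, 2, 1, 2, 0, 3, 1, 3, 0, 3, 1, 2, 0, 2, 2, 1, 2, 0, 3], 562), (88, [2, 2, 1, 3, 0, 2, 2, 1, 2, 0, 1, 2, 0, 2, 1, 2, 0], 382)], 194), ([(88, [3, 1,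 3, 0, 3, 1, 2, 0, 2, 2, 1, 3, 0, 3, 1, 3, 0, 2, 2], 382), (91, [1, 2, 0, 2, 2, 1, 3, 0, 2, 1, 2, 0, 2, 1, 3, 0, 3, 3, 1, 2, 0, 2], 385), (95, [1, 3, 0, 1, 3, 0, 2, 1, 2, 0, 1, 2, 0, 2, 2, 1, 3, 0, 3, 1, 3, 0], 628)], 185), ([(89, [3, 1, 3, 0, 3, 1, 2, 0, 2, 2, 1, 3, 0, 3, 1, 3, 0, 2, 2], 382), (73, [1, 2, 0, 2, 2, 1, 2, 0, 2, 1, 3, 0, 2, 1, 2, 0], 173), (60, [2, 1, 2, 0, 2, 2, 2], 222)], 49), ([(92, [2, 1, 3, 0, 3, 1, 3, 0, 1, 3, 0, 2, 2, 1, 2, 0], 628), (73, [2, 1, 2, 0, 2, 1, 3, 0, 3, 1, 2, 0, 2, 2, 1, 2, 0, 2, 1, 3, 0], 135), (55, [2, 2, 1, 3, 0, 2, 2, 1, 2, 0, 1, 2, 0, 2, 1, 2, 0], 188)], 379), ([(92, [2, 2, 1, 3, 0, 3, 3, 1, 2, 0, 3, 1, 3, 0, 3, 1, 2, 0, 2, 2], 387), (67, [1, 2,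 0, 2, 1, 2, 0, 1, 2, 0, 3, 3, 1, 3, 0, 2, 2], 74), (45, [2, 1, 2, 0, 2, 2, 2], 260)], 291), ([(92, [2, 1, 3, 0, 3, 3, 1, 2, 0, 3, 1, 3, 0, 3, 1, 2, 0, 2, 1, 2, 0, 1, 2, 0, 1, 2, 0], 220), (59, [2, 1, 3, 0, 1, 3, 0, 3, 3, 1, 2, 0, 1, 2, 0, 2, 1, 3, 0, 1, 3, 0, 2, 1, 2, 0, 1, 2, 0], 193), (71, [1, 2, 0, 3, 3, 1, 3, 0, 2, 2, 1, 2, 0, 1, 2, 0, 1, 2, 0, 3], 36)], 411), ([(95, [2, 2, 1, 2, 0, 3, 1, 3, 0, 1, 3, 0, 3, 1, 3, 0, 1, 3, 0, 2, 2, 2, 1, 3, 0], 618), (88, [3, 3, 1, 2, 0, 3, 3, 1, 2, 0, 2, 1, 3, 0, 3, 1, 3, 0], 421), (91, [3, 1, 3, 0, 1, 3, 0, 3, 1, 3, 0, 2, 2], 441)], 297), ([(93, [2, 1, 3, 0, 3, 1, 2, 0, 2, 2, 2, 1, 2, 0, 1, 2, 0, 3, 1, 3, 0], 329), (75, [2, 2, 1, 3, 0, 3, 1, 2, 0,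 2, 1, 2, 0], 87), (66, [2, 1, 2, 0, 2, 2, 2], 199)], 522), ([(94, [2, 2, 1, 3, 0, 2, 2, 2, 1, 3, 0, 1, 3, 0, 2, 1, 2, 0, 1, 2, 0], 347), (45, [1, 2, 0, 1, 2, 0, 3, 3, 1, 3, 0, 1, 3, 0, 3, 3, 1, 3, 0, 2], 1319), (96, [2, 1, 2, 0, 3, 3, 1, 3, 0, 1, 3, 0, 3, 1, 2, 0, 2, 1, 3, 0, 2, 1, 2, 0, 1, 2, 0], 287)], 569), ([(94, [2, 2, 1, 3, 0, 2, 2, 2, 1, 2, 0, 2, 1, 2, 0], 155), (45, [2, 2, 1, 2, 0, 2, 1, 2, 0, 1, 2, 0, 2, 1, 3, 0, 1, 3, 0, 3], 1412), (98, [1, 2, 0, 2, 2, 1, 2, 0, 2, 1, 2, 0, 3, 3, 1, 3, 0, 1, 3, 0], 363)], 535), ([(99, [1, 3, 0, 3, 1, 2, 0, 2, 1, 3, 0, 3, 3], 23483), (59, [2, 1, 3, 0, 1, 3, 0, 3, 1, 2, 0, 2, 2, 1, 2, 0, 2, 1, 2, 0, 1, 2, 0, 2, 1, 3, 0], 193), (61, [1, 3, 0, 3],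 85)], 2611), ([(99, [2, 1, 2, 0, 2, 1, 2, 0, 3, 1, 3, 0, 3], 28414), (61, [2, 1, 2, 0, 2, 1, 2, 0, 3, 1, 3, 0, 3], 191), (100, [2, 1, 2, 0, 2, 2, 2], 19465)], 26170)]]

end CfsgLib.InvChar.SporHN
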