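import Cfsg.Agent.Lib.InvChar.SporHNTrace

/-! The saturation. -/

set_option autoImplicit false
set_option maxRecDepth 100000

namespace CfsgLib.InvChar.SporHN

open CfsgLib.InvChar.Coset

/-- hints -/
def relC7 : List (List (List (ℕ × List ℕ × ℕ) × ℕ)) := [
[([(0, [], 0), (5, [], 0), (2, [], 24400)], 0), ([(5, [], 103624), (2, [], 24400), (0, [], 0)], 44100), ([(6, [], 103624), (14, [], 2300), (3, [], 24400)], 44100), ([(7, [], 40182), (26, [], 9832), (4, [], 24400)], 12805), ([(8, [], 40182), (12, [], 2300), (1, [], 24400)], 12805), ([(9, [1, 3, 0], 32602), (19, [3], 2758), (12, [3], 2569)], 6342), ([(9, [2, 2, 2, 1, 3, 0, 2, 1, 2, 0, 3, 3, 1, 3, 0], 18491), (17, [1, 3, 0], 3054),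 (5, [3], 628)], 6342), ([(10, [1, 3, 0], 3040), (34, [2, 1, 2, 0, 2, 2, 2, 1, 2, 0, 2], 949), (14, [3], 2629)], 51016), ([(10, [2, 2, 2, 1, 3, 0, 2, 1, 2, 0, 3, 3, 1, 3, 0], 101143), (36, [3], 658), (26, [3], 25175)], 51016), ([(11, [2, 1, 2, 0, 2, 2, 2, 1, 2, 0, 2], 43256), (80, [2, 1, 2, 0, 2, 2, 2, 1, 2, 0, 2], 49), (17, [1, 2, 0, 2, 1, 3, 0, 3, 3], 3143)], 0), ([(11, [2, 2, 1, 2, 0], 115657), (82, [2, 1, 2, 0, 2, 2, 2, 1, 2, 0, 2], 27), (31, [1, 2, 0, 2, 1, 3, 0, 3, 3], 837)], 94616), ([(9, [2, 2, 2, 1, 3, 0, 1, 3, 0], 31150), (24, [1, 2, 0, 2, 1, 2, 0, 1, 2, 0, 1, 2, 0, 3, 3, 1, 2, 0], 3474), (77, [1, 2, 0, 2, 2, 1, 2, 0, 3], 356)], 3650), ([(18, [2, 1, 2, 0, 2, 2, 2, 1, 2, 0,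 2], 2795), (50, [3], 110), (27, [3], 25175)], 2677), ([(19, [2, 1, 2, 0, 2, 2, 2, 1, 2, 0, 2], 2795), (17, [2, 2, 2, 1, 3, 0, 2, 1, 2, 0, 3, 3, 1, 3, 0], 1456), (6, [3], 110913)], 2677), ([(20, [2, 1, 2, 0, 2, 2, 2, 1, 2, 0, 2], 2801), (49, [2, 1, 2, 0, 2, 2, 2, 1, 2, 0, 2], 14), (15, [3], 2629)], 3403), ([(21, [2, 1, 2, 0, 2, 2, 2, 1, 2, 0, 2], 2801), (31, [2, 2, 2, 1, 3, 0, 2, 1, 2, 0, 3, 3, 1, 3, 0], 777), (8, [3], 115699)], 3403), ([(24, [2, 1, 2, 0, 2, 2, 2, 1, 2, 0, 2], 2795), (77, [2, 1, 2, 0, 2, 2, 2, 1, 2, 0, 2], 300), (9, [1, 2, 0, 2, 1, 3, 0, 3, 3], 15937)], 2985), ([(24, [2, 1, 2, 0, 2, 1, 3, 0, 1, 3, 0, 3, 1, 2, 0, 2, 2], 624), (87, [2, 1, 3, 0, 1, 3, 0, 2, 2, 1, 2, 0,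 2, 1, 3, 0, 3, 1, 2, 0, 2, 1, 2, 0], 22), (33, [1, 2, 0, 2, 1, 3, 0, 3, 3], 783)], 4192), ([(24, [1, 2, 0, 2, 2, 1, 3, 0], 1917), (80, [2, 2, 1, 2, 0, 1, 2, 0, 1, 2, 0, 3, 3, 1, 2, 0, 3, 1, 3, 0, 3], 3), (19, [1, 2, 0, 1, 2, 0, 2, 2, 1, 3, 0], 3912)], 3203), ([(24, [2, 2, 1, 2, 0, 3, 1, 3, 0, 1, 3, 0, 2, 2, 1, 3, 0, 2, 2], 914), (89, [2, 1, 2, 0, 2, 2, 2, 1, 2, 0, 2], 381), (47, [1, 2, 0, 2, 1, 3, 0, 3, 3], 124)], 0), ([(25, [2, 1, 2, 0, 2, 2, 2, 1, 2, 0, 2], 3142), (67, [2, 1, 2, 0, 2, 1, 2, 0, 3, 3, 1, 3, 0, 3, 1, 2, 0, 2, 1, 2, 0], 143), (34, [1, 2, 0, 2, 1, 3, 0, 3, 3], 428)], 0), ([(25, [3, 1, 2, 0, 2, 2, 1, 3, 0, 3, 1, 2, 0, 2, 1, 2, 0, 1, 2, 0, 1, 2, 0], 2997), (59, [3, 3,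 1, 2, 0, 1, 2, 0, 1, 2, 0, 2, 2, 1, 3, 0], 53), (49, [1, 2, 0, 2, 1, 3, 0, 3, 3], 181)], 0), ([(22, [1, 2, 0, 2, 1, 3, 0, 3, 3], 1803), (34, [3, 1, 2, 0, 2, 2, 1, 2, 0], 466), (23, [2, 1, 2, 0, 3, 3, 1, 2, 0], 2917)], 441), ([(23, [1, 2, 0, 2, 1, 3, 0, 3, 3], 1803), (21, [3, 1, 2, 0, 2, 2, 1, 2, 0], 1223), (30, [2, 2, 1, 2, 0], 368)], 2646), ([(24, [2, 2, 1, 2, 0, 3, 3, 1, 3, 0, 2], 855), (88, [1, 3, 0, 1, 3, 0, 3, 1, 2, 0, 1, 2, 0, 2, 2, 1, 2, 0, 2], 350), (80, [2, 2, 1, 2, 0, 2, 1, 3, 0, 3, 1, 2, 0, 3, 3, 1, 2, 0, 2, 1, 3, 0], 187)], 1469), ([(24, [3, 1, 2, 0, 1, 2, 0, 3, 3, 1, 3, 0, 1, 3, 0, 2, 1, 2, 0], 4214), (90, [1, 3, 0, 2, 1, 2, 0, 1, 2, 0, 2, 1, 3, 0, 3, 1, 2, 0, 3, 3, 1,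 3, 0], 433), (58, [1, 2, 0, 2, 1, 3, 0, 3, 3], 183)], 4816), ([(28, [3], 24759), (31, [1, 3, 0], 752), (7, [3], 48493)], 40994), ([(29, [3], 16437), (47, [2, 1, 2, 0, 2, 2, 2, 1, 2, 0, 2], 110), (13, [3], 2985)], 44486), ([(29, [2, 1, 2, 0, 2, 2, 1, 2, 0, 1, 2, 0, 1, 2, 0], 68154), (67, [2, 1, 2, 0, 2, 2, 2, 1, 3, 0, 1, 3, 0, 2], 111), (36, [1, 2, 0, 2, 1, 3, 0, 3, 3], 556)], 0), ([(28, [2, 1, 2, 0, 2, 2, 1, 2, 0, 1, 2, 0, 1, 2, 0], 56300), (44, [2, 2, 1, 3, 0, 3, 3, 1, 3, 0, 2, 1, 2, 0, 1, 2, 0, 3], 791), (50, [1, 2, 0, 2, 1, 3, 0, 3, 3], 72)], 0), ([(40, [2, 1, 2, 0, 2, 2, 2, 1, 2, 0, 2], 774), (77, [2, 2, 1, 2, 0], 373), (10, [1, 2, 0, 2, 1, 3, 0, 3, 3], 96778)], 0), ([(41, [2,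 1, 2, 0, 2, 2, 2, 1, 2, 0, 2], 723), (58, [2, 2, 1, 2, 0], 27), (22, [1, 2, 0, 1, 2, 0, 1, 2, 0, 3, 3], 2348)], 804), ([(42, [2, 1, 2, 0, 2, 2, 2, 1, 2, 0, 2], 776), (80, [1, 3, 0, 1, 3, 0, 3, 1, 3, 0, 2, 1, 2, 0, 2, 2, 1, 2, 0, 3], 197), (16, [1, 2, 0, 2, 1, 3, 0, 3, 3], 2518)], 1337), ([(43, [2, 1, 2, 0, 2, 2, 2, 1, 2, 0, 2], 799), (43, [1, 3, 0, 3, 1, 3, 0, 2, 1, 2, 0, 3, 1, 3, 0, 3, 1, 2, 0], 670), (32, [1, 2, 0, 2, 1, 3, 0, 3, 3], 45)], 752), ([(44, [2, 1, 2, 0, 2, 2, 2, 1, 2, 0, 2], 774), (58, [2, 2, 1, 3, 0, 2, 1, 2, 0, 2, 2, 1, 3, 0, 3, 1, 2, 0], 114), (21, [1, 2, 0, 1, 2, 0, 2, 2, 1, 3, 0], 2556)], 380), ([(44, [2, 2, 1, 2, 0, 1, 2, 0, 3, 3, 1, 3, 0, 2, 2, 1, 2, 0], 695),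 (50, [2, 1, 2, 0, 2, 2, 1, 2, 0, 1, 2, 0, 1, 2, 0], 88), (28, [1, 2, 0, 2, 1, 3, 0, 3, 3], 62852)], 569), ([(44, [2, 2, 1, 2, 0, 1, 2, 0, 1, 2, 0, 3, 3, 1, 2, 0, 3, 1, 3, 0, 3], 1067), (70, [3, 1, 3, 0, 3, 1, 2, 0, 2, 1, 3, 0, 2, 2, 1, 3, 0, 3, 3], 9), (53, [1, 2, 0, 2, 1, 3, 0, 3, 3], 165)], 0), ([(45, [2, 1, 2, 0, 2, 2, 2, 1, 2, 0, 2], 776), (92, [2, 1, 2, 0, 2, 2, 2, 1, 2, 0, 2], 291), (46, [1, 2, 0, 2, 1, 3, 0, 3, 3], 124)], 0), ([(45, [2, 2, 1, 2, 0, 1, 2, 0, 3, 3, 1, 3, 0, 2, 2, 1, 2, 0], 713), (94, [2, 2, 1, 2, 0, 1, 2, 0, 1, 2, 0, 3, 3, 1, 2, 0, 3, 1, 3, 0, 3], 510), (39, [1, 2, 0, 2, 1, 3, 0, 3, 3], 1025)], 668), ([(45, [2, 2, 1, 2, 0, 1, 2, 0, 1, 2, 0, 3, 3, 1, 2, 0, 3,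 1, 3, 0, 3], 839), (97, [3, 1, 2, 0, 1, 2, 0, 2, 2, 1, 3, 0], 286), (51, [1, 2, 0, 2, 1, 3, 0, 3, 3], 67)], 0), ([(44, [1, 2, 0, 2, 1, 2, 0, 2, 1, 3, 0], 755), (72, [2, 1, 2, 0, 1, 2, 0, 1, 2, 0, 3, 3, 1, 2, 0, 3, 3, 1, 3, 0, 2, 2], 45), (56, [1, 2, 0, 2, 2, 1, 2, 0, 3], 97)], 1186), ([(44, [1, 2, 0, 1, 2, 0, 2, 1, 2, 0, 3, 1, 3, 0, 2, 2, 1, 2, 0, 2], 664), (54, [1, 3, 0, 1, 3, 0, 2, 2, 2, 1, 2, 0, 2, 1, 3, 0], 143), (82, [1, 2, 0, 2, 2, 1, 2, 0, 3], 195)], 726), ([(45, [1, 2, 0, 2, 1, 2, 0, 2, 1, 3, 0], 755), (94, [2, 2, 2, 1, 3, 0, 2, 1, 2, 0, 2, 2, 1, 2, 0, 1, 2, 0, 3], 444), (43, [1, 3, 0, 2, 2, 1, 3, 0, 3, 3, 1, 3, 0, 2, 2], 1048)], 294), ([(45, [1, 2, 0, 1, 2, 0, 2, 1, 2, 0,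 3, 1, 3, 0, 2, 2, 1, 2, 0, 2], 613), (95, [2, 1, 3, 0, 1, 3, 0, 3, 1, 2, 0, 2, 1, 3, 0, 3, 1, 3, 0, 1, 3, 0], 381), (87, [3, 1, 2, 0, 2, 2, 1, 3, 0, 2, 1, 2, 0, 3, 1, 3, 0, 1, 3, 0, 2], 190)], 1015), ([(44, [1, 2, 0, 2, 2, 1, 2, 0, 2, 1, 2, 0, 1, 2, 0, 2, 1, 3, 0], 1384), (74, [1, 2, 0, 1, 2, 0, 2, 1, 2, 0, 1, 2, 0, 2, 1, 3, 0, 2, 1, 2, 0, 1, 2, 0, 2, 1, 2, 0], 213), (67, [2, 1, 3, 0, 3, 1, 2, 0, 2, 2, 1, 3, 0, 3, 3], 36)], 537), ([(45, [1, 3, 0, 2, 2, 2, 1, 2, 0, 1, 2, 0, 3], 29), (96, [3, 1, 2, 0, 1, 2, 0, 2, 1, 3, 0, 3, 1, 2, 0, 2, 1, 2, 0, 3], 344), (94, [1, 2, 0, 2, 1, 3, 0, 3, 3], 450)], 0), ([(54, [2, 1, 2, 0, 2, 2, 2, 1, 2, 0, 2], 134), (80, [1, 3, 0, 3, 1, 2, 0, 3, 1, 3,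 0, 3, 1, 2, 0, 2, 1, 2, 0], 140), (18, [1, 2, 0, 2, 1, 3, 0, 3, 3], 4974)], 0), ([(55, [2, 1, 2, 0, 2, 2, 2, 1, 2, 0, 2], 134), (94, [3, 1, 2, 0, 1, 2, 0, 2, 2, 1, 3, 0], 297), (37, [1, 2, 0, 1, 2, 0, 2, 2, 1, 3, 0], 786)], 137), ([(59, [2, 1, 2, 0, 2, 2, 2, 1, 2, 0, 2], 136), (58, [2, 1, 2, 0, 2, 2, 2, 1, 2, 0, 2], 146), (20, [1, 2, 0, 2, 1, 3, 0, 3, 3], 3647)], 0), ([(60, [2, 1, 2, 0, 2, 2, 2, 1, 2, 0, 2], 136), (90, [3, 1, 2, 0, 1, 2, 0, 2, 2, 1, 3, 0], 432), (48, [1, 2, 0, 1, 2, 0, 2, 2, 1, 3, 0], 146)], 168), ([(66, [3, 1, 2, 0, 1, 2, 0, 2, 2, 1, 3, 0], 67), (94, [2, 2, 1, 2, 0, 1, 2, 0, 3, 3, 1, 3, 0, 2, 2, 1, 2, 0], 487), (38, [1, 2, 0, 2, 1, 3, 0, 3, 3], 632)], 0), ([(67,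 [3, 1, 2, 0, 1, 2, 0, 2, 2, 1, 3, 0], 67), (36, [2, 1, 2, 0, 2, 2, 1, 2, 0, 1, 2, 0, 1, 2, 0], 595), (29, [1, 2, 0, 2, 1, 3, 0, 3, 3], 78872)], 0), ([(70, [3, 1, 2, 0, 1, 2, 0, 2, 2, 1, 3, 0], 101), (67, [2, 1, 2, 0, 3, 3, 1, 3, 0, 1, 3, 0, 3, 1, 2, 0, 2, 1, 3, 0, 2, 2], 14), (35, [1, 2, 0, 2, 1, 3, 0, 3, 3], 670)], 48), ([(71, [3, 1, 2, 0, 1, 2, 0, 2, 2, 1, 3, 0], 101), (93, [2, 2, 1, 3, 0, 3, 3, 1, 3, 0, 2, 1, 2, 0, 1, 2, 0, 3], 541), (52, [1, 2, 0, 2, 1, 3, 0, 3, 3], 233)], 0), ([(73, [3, 1, 2, 0, 1, 2, 0, 1, 2, 0, 2, 2, 1, 2, 0, 3, 3, 1, 2, 0, 1, 2, 0], 124), (55, [1, 2, 0, 1, 2, 0, 2, 1, 2, 0, 1, 2, 0, 1, 2, 0, 3, 3, 1, 2, 0, 1, 2, 0], 34), (92, [1, 2, 0, 2, 1, 3, 0, 3, 3], 93)],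 0), ([(72, [3, 1, 2, 0, 1, 2, 0, 1, 2, 0, 2, 2, 1, 2, 0, 3, 3, 1, 2, 0, 1, 2, 0], 124), (63, [1, 3, 0, 2, 2, 1, 2, 0, 3, 1, 3, 0, 2, 1, 2, 0, 1, 2, 0, 3], 11), (89, [1, 2, 0, 2, 1, 3, 0, 3, 3], 358)], 0), ([(72, [2, 1, 2, 0, 3, 3, 1, 2, 0, 2, 1, 3, 0, 3, 1, 3, 0, 2, 2], 207), (67, [2, 2, 1, 3, 0, 1, 3, 0, 3, 1, 2, 0, 2, 1, 2, 0, 1, 2, 0, 2, 1, 3, 0, 1, 3, 0], 64), (41, [1, 3, 0, 2, 2, 1, 3, 0, 3, 3, 1, 3, 0, 2, 2], 891)], 28), ([(63, [1, 2, 0, 2, 1, 3, 0, 2, 2, 1, 3, 0, 2, 2, 1, 2, 0], 120), (80, [1, 2, 0, 1, 2, 0, 3, 1, 3, 0, 3, 1, 2, 0, 3, 3, 1, 3, 0], 192), (25, [1, 2, 0, 2, 1, 3, 0, 3, 3], 2016)], 184), ([(59, [1, 3, 0, 2, 1, 2, 0, 1, 2, 0, 2, 1, 3, 0, 3, 1, 2, 0, 3, 3, 1, 3,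 0], 234), (57, [3, 1, 3, 0, 1, 3, 0, 2, 1, 2, 0, 2, 1, 3, 0], 54), (84, [2, 2, 1, 3, 0, 3, 3, 1, 2, 0, 3, 1, 3, 0, 3], 249)], 35), ([(75, [3, 1, 2, 0, 1, 2, 0, 1, 2, 0, 2, 2, 1, 2, 0, 3, 3, 1, 2, 0, 1, 2, 0], 165), (54, [3, 3, 1, 3, 0, 2, 1, 2, 0, 3, 3, 1, 3, 0], 97), (90, [1, 2, 0, 2, 1, 3, 0, 3, 3], 288)], 146), ([(74, [3, 1, 2, 0, 1, 2, 0, 1, 2, 0, 2, 2, 1, 2, 0, 3, 3, 1, 2, 0, 1, 2, 0], 165), (73, [1, 3, 0, 1, 3, 0, 2, 2, 2, 1, 3, 0, 2, 1, 2, 0, 1, 2, 0, 2, 1, 2, 0], 43), (59, [1, 3, 0, 2, 1, 2, 0, 1, 2, 0, 2, 2, 1, 3, 0], 215)], 204), ([(75, [1, 2, 0, 2, 1, 3, 0, 2, 2, 2, 1, 2, 0, 1, 2, 0, 1, 2, 0], 144), (72, [3, 1, 2, 0, 1, 2, 0, 2, 2, 1, 3, 0, 2, 1, 2, 0, 3, 1, 3, 0, 1, 3,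 0, 2], 31), (68, [2, 2, 1, 3, 0, 3, 3], 55)], 146), ([(74, [1, 2, 0, 2, 1, 3, 0, 2, 2, 2, 1, 2, 0, 1, 2, 0, 1, 2, 0], 144), (61, [1, 3, 0, 1, 3, 0, 2, 1, 2, 0, 1, 2, 0, 2, 2, 1, 3, 0], 129), (99, [3, 1, 2, 0, 3, 3], 12205)], 124), ([(72, [2, 1, 2, 0, 1, 2, 0, 2, 1, 2, 0, 3, 1, 3, 0, 2, 2, 1, 3, 0, 2, 2], 61), (72, [2, 1, 3, 0, 3, 3, 1, 2, 0, 1, 2, 0, 2, 1, 3, 0, 1, 3, 0, 2, 1, 2, 0], 96), (64, [1, 2, 0, 2, 1, 2, 0, 1, 2, 0, 3, 1, 3, 0, 1, 3, 0, 3, 1, 2, 0, 2, 1, 3, 0, 3], 169)], 211), ([(72, [1, 2, 0, 1, 2, 0, 3, 3, 1, 2, 0, 1, 2, 0, 2, 1, 3, 0, 3, 3, 1, 3, 0, 3], 54), (54, [3, 1, 3, 0, 2, 2, 1, 2, 0, 3, 1, 3, 0, 2, 1, 2, 0, 1, 2, 0, 2, 1, 3, 0], 186), (81, [1, 2, 0, 2, 2, 1, 2, 0,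 3], 97)], 126), ([(75, [1, 3, 0, 2, 1, 2, 0, 1, 2, 0, 2, 1, 3, 0, 3, 1, 2, 0, 2], 82), (60, [1, 2, 0, 2, 1, 2, 0, 3, 3, 1, 2, 0, 1, 2, 0, 2], 140), (86, [3, 1, 2, 0, 1, 2, 0, 2, 2, 1, 2, 0, 2, 2], 224)], 104), ([(73, [2, 1, 2, 0, 2, 2, 1, 2, 0, 1, 2, 0, 1, 2, 0, 3, 1, 3, 0, 1, 3, 0, 3, 1, 3, 0, 2], 32), (56, [1, 2, 0, 3, 1, 3, 0, 1, 3, 0, 3, 1, 2, 0, 2, 2], 179), (44, [3, 3, 1, 3, 0, 1, 3, 0, 2, 2, 1, 2, 0, 3, 3, 1, 3, 0, 1, 3, 0, 3], 1324)], 63), ([(72, [2, 1, 2, 0, 2, 2, 1, 2, 0, 1, 2, 0, 1, 2, 0, 3, 1, 3, 0, 1, 3, 0, 3, 1, 3, 0, 2], 32), (55, [1, 2, 0, 2, 1, 2, 0, 1, 2, 0, 2, 1, 2, 0, 1, 2, 0, 1, 2, 0, 3, 3, 1, 3, 0], 32), (97, [1, 2, 0, 2, 1, 3, 0, 3, 3], 95)], 0), ([(72, [2,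 2, 1, 3, 0, 1, 3, 0, 2, 1, 2, 0, 1, 2, 0, 2, 2, 1, 2, 0, 1, 2, 0], 163), (73, [1, 3, 0, 3, 1, 3, 0, 1, 3, 0, 3, 1, 2, 0, 2, 2, 1, 3, 0, 1, 3, 0, 3, 3], 155), (69, [3, 1, 2, 0, 3, 3], 211)], 90), ([(73, [2, 2, 1, 3, 0, 1, 3, 0, 2, 1, 2, 0, 1, 2, 0, 2, 2, 1, 2, 0, 1, 2, 0], 163), (74, [2, 2, 1, 2, 0, 1, 2, 0, 2, 1, 3, 0, 1, 3, 0, 3, 1, 3, 0, 2, 1, 2, 0, 2], 158), (62, [1, 2, 0, 1, 2, 0, 3, 1, 3, 0, 3], 64)], 143), ([(75, [2, 2, 1, 2, 0, 2, 1, 3, 0, 2, 1, 2, 0, 3, 1, 3, 0, 1, 3, 0, 3, 3, 1, 2, 0], 23), (71, [2, 1, 3, 0, 3, 1, 3, 0, 1, 3, 0, 2, 1, 2, 0, 2, 2, 1, 2, 0], 11), (93, [3, 3, 1, 3, 0, 1, 3, 0, 2, 2, 1, 2, 0, 3, 3, 1, 3, 0, 1, 3, 0, 3], 579)], 182), ([(74, [2, 2, 1, 2, 0, 2,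 1, 3, 0, 2, 1, 2, 0, 3, 1, 3, 0, 1, 3, 0, 3, 3, 1, 2, 0], 23), (59, [1, 3, 0, 3, 3, 1, 3, 0, 1, 3, 0, 3, 1, 3, 0, 2, 1, 2, 0, 1, 2, 0, 3], 116), (70, [2, 1, 3, 0, 2, 2, 1, 3, 0, 2, 1, 2, 0, 1, 2, 0, 3, 3, 1, 3, 0, 3], 13)], 91), ([(70, [3, 1, 2, 0, 1, 2, 0, 3, 3, 1, 3, 0, 1, 3, 0, 2, 1, 2, 0], 213), (74, [3, 3, 1, 3, 0, 2, 2, 1, 2, 0, 1, 2, 0, 2, 1, 3, 0, 1, 3, 0], 193), (72, [1, 3, 0, 3, 1, 2, 0, 1, 2, 0, 1, 2, 0, 2, 2, 1, 2, 0, 3, 1, 3, 0, 3], 191)], 40), ([(71, [3, 1, 2, 0, 1, 2, 0, 3, 3, 1, 3, 0, 1, 3, 0, 2, 1, 2, 0], 213), (97, [2, 2, 1, 3, 0, 2, 2, 2, 1, 2, 0, 2, 2, 1, 3, 0], 404), (73, [1, 2, 0, 2, 2, 1, 2, 0, 1, 2, 0, 3, 1, 3, 0, 1, 3, 0, 3, 1, 3, 0], 201)], 34), ([(55, [3,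 1, 2, 0, 1, 2, 0, 3, 3, 1, 3, 0, 1, 3, 0, 2, 1, 2, 0], 60), (92, [2, 1, 3, 0, 2, 1, 2, 0, 1, 2, 0, 2, 1, 3, 0, 3, 1, 3, 0, 1, 3, 0, 3, 3, 1, 2, 0, 1, 2, 0], 507), (74, [3, 3, 1, 2, 0, 2, 1, 3, 0, 3, 1, 3, 0, 2, 1, 2, 0, 2, 1, 2, 0], 113)], 159), ([(54, [3, 1, 2, 0, 1, 2, 0, 3, 3, 1, 3, 0, 1, 3, 0, 2, 1, 2, 0], 60), (90, [1, 2, 0, 2, 2, 1, 2, 0, 1, 2, 0, 2, 2, 2, 1, 3, 0, 3, 3, 1, 3, 0], 353), (75, [2, 2, 1, 3, 0, 3, 1, 2, 0, 2, 1, 2, 0, 1, 2, 0, 1, 2, 0, 3, 1, 3, 0], 162)], 159), ([(80, [1, 2, 0, 2, 1, 2, 0, 1, 2, 0, 1, 2, 0, 3, 3, 1, 2, 0], 178), (17, [2, 2, 2, 1, 3, 0, 1, 3, 0], 3876), (11, [1, 2, 0, 2, 2, 1, 2, 0, 3], 28340)], 180), ([(81, [1, 2, 0, 2, 1, 2, 0, 1, 2, 0, 1, 2, 0,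 3, 3, 1, 2, 0], 26), (65, [1, 3, 0, 3, 3, 1, 2, 0, 2, 1, 3, 0, 3, 1, 3, 0, 2], 88), (78, [1, 2, 0, 1, 2, 0, 2], 0)], 205), ([(84, [1, 2, 0, 3, 1, 3, 0, 3, 3, 1, 2, 0, 2, 2, 1, 2, 0, 3, 1, 3, 0, 3], 219), (57, [2, 1, 3, 0, 2, 1, 2, 0, 1, 2, 0, 2, 2, 1, 2, 0, 1, 2, 0, 2, 2], 222), (79, [1, 2, 0, 2, 2, 2, 1, 3, 0], 336)], 62), ([(85, [1, 2, 0, 3, 1, 3, 0, 3, 3, 1, 2, 0, 2, 2, 1, 2, 0, 3, 1, 3, 0, 3], 219), (83, [1, 2, 0, 2, 2, 1, 3, 0, 2, 2, 1, 2, 0, 1, 2, 0, 2], 209), (76, [2, 2, 2, 1, 3, 0, 3, 3, 1, 3, 0], 323)], 185), ([(89, [1, 2, 0, 1, 2, 0, 2, 1, 3, 0, 2, 1, 2, 0, 2, 2, 1, 3, 0, 3, 3, 1, 2, 0, 1, 2, 0], 199), (72, [1, 3, 0, 2, 1, 2, 0, 3, 1, 3, 0, 1, 3, 0, 2, 1, 2, 0], 124), (63,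 [1, 2, 0, 2, 2, 1, 2, 0, 3], 50)], 399), ([(88, [3, 1, 3, 0, 2, 2, 1, 2, 0, 3, 1, 3, 0, 2, 1, 2, 0, 1, 2, 0, 2, 1, 3, 0], 44), (80, [1, 2, 0, 1, 2, 0, 2, 1, 2, 0, 2, 1, 3, 0, 2, 2, 1, 2, 0, 3], 200), (24, [1, 2, 0, 2, 2, 1, 2, 0, 3], 2759)], 462), ([(88, [1, 3, 0, 1, 3, 0, 2, 2, 2, 1, 2, 0, 2, 1, 3, 0], 223), (88, [1, 2, 0, 2, 1, 3, 0, 3, 1, 3, 0, 1, 3, 0, 2, 2, 2, 1, 3, 0, 2, 1, 2, 0], 428), (83, [2, 2, 1, 3, 0, 2, 1, 2, 0, 2, 2, 1, 3, 0, 1, 3, 0, 3, 1, 2, 0], 388)], 312), ([(89, [2, 1, 2, 0, 2, 1, 3, 0, 3, 3, 1, 3, 0, 1, 3, 0, 2, 2, 1, 2, 0], 368), (67, [2, 1, 3, 0, 3, 1, 2, 0, 2, 2, 1, 2, 0, 2, 1, 3, 0], 167), (40, [1, 2, 0, 2, 2, 1, 2, 0, 3], 622)], 180), ([(91, [2, 1, 3, 0, 3,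 1, 2, 0, 2, 1, 2, 0, 1, 2, 0, 2, 1, 3, 0, 3], 176), (95, [1, 2, 0, 2, 1, 3, 0, 1, 3, 0, 3, 3, 1, 2, 0, 3, 1, 3, 0, 3, 3, 1, 3, 0, 3], 546), (85, [1, 2, 0, 2, 2, 1, 3, 0, 1, 3, 0, 2, 2], 246)], 230), ([(90, [2, 1, 3, 0, 3, 1, 2, 0, 2, 1, 2, 0, 1, 2, 0, 2, 1, 3, 0, 3], 176), (74, [1, 2, 0, 1, 2, 0, 1, 2, 0, 2, 1, 2, 0, 3, 1, 3, 0, 3, 1, 2, 0, 3, 1, 3, 0], 128), (57, [1, 2, 0, 3, 1, 3, 0, 2, 2, 2, 1, 3, 0], 236)], 433), ([(91, [3, 1, 3, 0, 3, 3, 1, 2, 0, 2, 2, 1, 2, 0, 1, 2, 0, 2, 1, 2, 0, 2], 115), (94, [2, 1, 2, 0, 2, 2, 1, 2, 0, 2, 1, 3, 0, 3, 1, 2, 0, 3], 109), (42, [1, 2, 0], 664)], 295), ([(90, [1, 2, 0, 1, 2, 0, 1, 2, 0, 3, 1, 3, 0, 1, 3, 0], 136), (74, [1, 2, 0, 3, 1, 3, 0, 1,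 3, 0, 3, 1, 3, 0, 2, 1, 2, 0, 3, 1, 3, 0], 63), (65, [1, 3, 0, 3, 1, 2, 0, 1, 2, 0, 2, 1, 3, 0, 3, 1, 2, 0, 2], 176)], 145), ([(81, [1, 2, 0, 1, 2, 0, 1, 2, 0, 2, 2, 1, 2, 0, 1, 2, 0, 2], 162), (73, [3, 3, 1, 2, 0, 2, 1, 2, 0, 1, 2, 0, 1, 2, 0, 2, 1, 2, 0, 3, 3], 205), (54, [1, 2, 0, 2, 1, 3, 0, 3, 3], 44)], 26), ([(80, [1, 3, 0, 2, 2, 1, 2, 0, 3, 1, 3, 0, 2, 1, 2, 0, 1, 2, 0, 3], 88), (24, [1, 2, 0, 1, 2, 0, 1, 2, 0, 2, 1, 3, 0, 3, 1, 2, 0, 1, 2, 0, 2], 3003), (88, [2, 1, 3, 0, 1, 3, 0, 2, 2, 2, 1, 2, 0, 3, 3, 1, 2, 0, 1, 2, 0], 360)], 194), ([(88, [3, 3, 1, 3, 0, 2, 1, 2, 0, 3, 3, 1, 3, 0], 306), (91, [1, 3, 0, 3, 1, 3, 0, 1, 3, 0, 3, 3, 1, 2, 0, 1, 2, 0, 3], 360), (95, [3, 1, 3,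 0, 2, 2, 1, 2, 0, 1, 2, 0, 2, 2, 1, 3, 0], 560)], 185), ([(89, [3, 3, 1, 3, 0, 2, 1, 2, 0, 3, 3, 1, 3, 0], 306), (74, [1, 2, 0, 2, 2, 2, 1, 3, 0, 3, 3, 1, 2, 0, 1, 2, 0, 3, 1, 3, 0], 178), (60, [1, 2, 0, 2, 1, 3, 0, 3, 3], 173)], 0), ([(92, [1, 3, 0, 2, 2, 2, 1, 2, 0, 1, 2, 0, 1, 2, 0, 3, 1, 3, 0], 536), (72, [2, 1, 2, 0, 1, 2, 0, 2, 1, 3, 0, 2, 2, 2, 1, 2, 0], 146), (55, [2, 1, 3, 0, 1, 3, 0, 2, 2, 2, 1, 2, 0, 3, 3, 1, 2, 0, 1, 2, 0], 4)], 379), ([(96, [2, 2, 1, 2, 0, 2, 1, 3, 0, 2, 2, 1, 2, 0, 2, 1, 3, 0], 298), (94, [1, 3, 0, 2, 2, 2, 1, 2, 0, 1, 2, 0, 3], 533), (45, [1, 2, 0, 2, 1, 3, 0, 3, 3], 188)], 0), ([(97, [2, 1, 3, 0, 3, 1, 2, 0, 2, 2, 1, 3, 0, 3, 3, 1, 3, 0, 2], 221),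 (73, [3, 3, 1, 2, 0, 1, 2, 0, 2, 1, 2, 0, 2, 1, 3, 0, 2, 2, 2], 33), (71, [2, 1, 3, 0, 3, 1, 2, 0, 2, 2, 1, 3, 0, 3, 3], 120)], 411), ([(96, [1, 2, 0, 2, 1, 3, 0, 2, 2, 2, 1, 3, 0, 2, 1, 2, 0, 3], 532), (95, [2, 1, 3, 0, 3, 3, 1, 2, 0, 2, 2, 1, 2, 0, 1, 2, 0, 2, 1, 2, 0], 260), (91, [2, 1, 2, 0, 2, 1, 3, 0, 2, 2, 1, 3, 0, 2, 1, 2, 0], 444)], 297), ([(92, [1, 2, 0, 2, 1, 2, 0, 1, 2, 0, 2, 1, 2, 0, 1, 2, 0, 1, 2, 0, 3, 3, 1, 3, 0], 35), (73, [3, 1, 2, 0, 2, 1, 2, 0, 1, 2, 0, 3, 3, 1, 2, 0, 3, 1, 3, 0, 2, 1, 2, 0], 118), (66, [1, 2, 0, 2, 1, 3, 0, 3, 3], 73)], 522), ([(92, [2, 2, 1, 3, 0, 2, 1, 2, 0, 1, 2, 0, 2, 1, 2, 0, 1, 2, 0, 3, 3], 5), (66, [1, 2, 0, 2, 1, 2, 0, 2, 1, 3, 0, 2, 1,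 2, 0, 2, 2, 1, 3, 0, 3, 1, 3, 0], 119), (96, [2, 1, 3, 0, 2, 2, 1, 3, 0, 2, 1, 2, 0, 1, 2, 0, 3, 3, 1, 3, 0, 3], 267)], 569), ([(95, [3, 1, 2, 0, 2, 2, 1, 3, 0, 2, 1, 2, 0, 3, 1, 3, 0, 3], 517), (91, [3, 1, 2, 0, 1, 2, 0, 3, 1, 3, 0, 1, 3, 0, 2, 2, 1, 3, 0, 1, 3, 0], 412), (98, [2, 2, 1, 2, 0, 1, 2, 0, 3, 3, 1, 2, 0, 1, 2, 0, 2], 35)], 50), ([(99, [1, 3, 0, 1, 3, 0, 2, 1, 2, 0, 1, 2, 0, 2, 2, 1, 3, 0], 27642), (75, [2, 2, 1, 3, 0, 3, 3, 1, 2, 0, 1, 2, 0, 3, 1, 3, 0, 3], 73), (61, [3, 1, 2, 0, 3, 3], 157)], 2593), ([(99, [3, 1, 2, 0, 2, 2, 1, 3, 0, 3, 1, 3, 0, 1, 3, 0, 3, 1, 2, 0, 2], 22275), (61, [3, 1, 2, 0, 2, 2, 1, 3, 0, 3, 1, 3, 0, 1, 3, 0, 3, 1, 2, 0, 2], 239), (100, [3, 3, 1,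 3, 0, 1, 3, 0], 8345)], 26249)],
[([(0, [], 0), (5, [], 0), (2, [], 24400)], 0), ([(5, [], 2446), (2, [], 24400), (0, [], 0)], 13226), ([(6, [], 2446), (14, [], 2300), (3, [], 24400)], 13226), ([(7, [], 17065), (26, [], 9832), (4, [], 24400)], 61822), ([(8, [], 17065), (12, [], 2300), (1, [], 24400)], 61822), ([(9, [2, 1, 3, 0, 3], 2645), (19, [1, 2, 0, 3, 1, 3, 0], 2702), (12, [1, 3, 0, 1, 3, 0], 3442)], 994), ([(9, [2, 2, 1, 2, 0, 2, 1, 3, 0, 3, 1, 3, 0, 2], 90576), (17, [2, 1, 3, 0, 3], 3225), (5, [1, 3, 0, 1, 3, 0], 19540)], 994), ([(10, [2, 1, 3, 0, 3], 70103), (34, [2, 1, 2, 0, 2, 2, 2, 1, 2, 0, 1, 2, 0, 3], 850), (14, [1, 3, 0, 1, 3, 0], 2685)], 994), ([(10, [2, 2, 1, 2, 0,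 2, 1, 3, 0, 3, 1, 3, 0, 2], 69678), (36, [1, 2, 0, 3, 1, 3, 0], 562), (26, [1, 3, 0, 1, 3, 0], 27216)], 994), ([(11, [2, 2, 1, 2, 0, 2, 1, 2, 0, 1, 2, 0, 2, 2], 65634), (80, [1, 3, 0, 3, 1, 3, 0, 1, 3, 0, 2, 2, 1, 2, 0, 2, 2, 1, 3, 0], 112), (17, [3, 1, 2, 0, 3, 1, 3, 0, 1, 3, 0], 3921)], 0), ([(11, [1, 2, 0, 1, 2, 0, 2, 1, 3, 0], 42007), (82, [1, 3, 0, 3, 1, 3, 0, 1, 3, 0, 2, 2, 1, 2, 0, 2, 2, 1, 3, 0], 184), (31, [3, 1, 2, 0, 3, 1, 3, 0, 1, 3, 0], 939)], 94616), ([(9, [2, 2, 1, 2, 0, 3], 25671), (24, [1, 2, 0, 3, 3, 1, 3, 0, 1, 3, 0, 2], 3770), (77, [3, 1, 2, 0, 3, 1, 3, 0, 1, 3, 0], 301)], 0), ([(18, [2, 1, 2, 0, 2, 2, 2, 1, 2, 0, 1, 2, 0, 3], 3277), (50, [1, 2, 0, 3, 1, 3, 0],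 94), (27, [1, 3, 0, 1, 3, 0], 27216)], 2569), ([(19, [2, 1, 2, 0, 2, 2, 2, 1, 2, 0, 1, 2, 0, 3], 3277), (17, [2, 2, 1, 2, 0, 2, 1, 3, 0, 3, 1, 3, 0, 2], 322), (6, [1, 3, 0, 1, 3, 0], 110726)], 2569), ([(20, [2, 1, 2, 0, 2, 2, 2, 1, 2, 0, 1, 2, 0, 3], 3313), (49, [2, 1, 2, 0, 2, 2, 2, 1, 2, 0, 1, 2, 0, 3], 14), (15, [1, 3, 0, 1, 3, 0], 2685)], 2569), ([(21, [2, 1, 2, 0, 2, 2, 2, 1, 2, 0, 1, 2, 0, 3], 3313), (31, [2, 2, 1, 2, 0, 2, 1, 3, 0, 3, 1, 3, 0, 2], 924), (8, [1, 3, 0, 1, 3, 0], 114539)], 2569), ([(24, [1, 3, 0, 3, 1, 3, 0, 1, 3, 0, 2, 2, 1, 2, 0, 2, 2, 1, 3, 0], 3932), (77, [2, 2, 1, 2, 0, 2, 1, 2, 0, 1, 2, 0, 2, 2], 436), (9, [3, 1, 2, 0, 3, 1, 3, 0, 1, 3, 0], 92985)], 2985),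 ([(24, [3, 1, 2, 0, 2, 1, 3, 0, 2, 1, 2, 0, 3, 1, 3, 0, 2], 2469), (87, [2, 1, 2, 0, 2, 1, 2, 0, 1, 2, 0, 2, 1, 2, 0, 1, 2, 0, 1, 2, 0], 118), (33, [3, 1, 2, 0, 3, 1, 3, 0, 1, 3, 0], 842)], 4192), ([(24, [1, 2, 0, 1, 2, 0, 2, 2, 1, 3, 0, 2, 1, 2, 0, 2, 1, 3, 0, 2], 2208), (80, [3, 1, 2, 0, 2, 1, 2, 0, 2, 2, 1, 3, 0, 3, 1, 2, 0, 3], 184), (19, [2, 2, 2, 1, 2, 0, 1, 2, 0, 2, 2, 1, 2, 0, 3], 3953)], 3655), ([(24, [3, 3, 1, 3, 0, 1, 3, 0, 3, 3, 1, 2, 0, 3, 1, 3, 0, 3, 1, 2, 0], 1661), (89, [3, 1, 2, 0, 2, 1, 2, 0, 1, 2, 0, 3, 3, 1, 2, 0, 1, 2, 0, 1, 2, 0, 2, 1, 3, 0, 1, 3, 0], 419), (47, [3, 1, 2, 0, 3, 1, 3, 0, 1, 3, 0], 176)], 0), ([(25, [2, 2, 1, 2, 0, 2, 1, 2, 0, 1, 2, 0, 3, 1, 3,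 0, 1, 3, 0, 2], 3530), (67, [1, 2, 0, 2, 1, 3, 0, 2, 1, 2, 0, 2, 1, 3, 0, 3, 3, 1, 2, 0], 75), (34, [3, 1, 2, 0, 3, 1, 3, 0, 1, 3, 0], 934)], 0), ([(25, [3, 1, 3, 0, 3, 3, 1, 2, 0, 2, 1, 3, 0, 3, 1, 3, 0, 1, 3, 0, 3, 1, 2, 0], 4005), (59, [3, 3, 1, 3, 0, 3, 3, 1, 2, 0, 1, 2, 0, 2, 2, 1, 3, 0], 6), (49, [3, 1, 2, 0, 3, 1, 3, 0, 1, 3, 0], 236)], 0), ([(25, [1, 2, 0, 3, 3, 1, 2, 0, 1, 2, 0, 1, 2, 0, 2, 1, 3, 0, 3], 743), (58, [2, 2, 1, 3, 0, 3, 3, 1, 2, 0, 1, 2, 0, 1, 2, 0, 3, 1, 3, 0, 3], 57), (23, [2, 2, 2, 1, 2, 0, 2, 1, 3, 0, 3], 22)], 940), ([(25, [1, 3, 0, 3, 1, 2, 0, 1, 2, 0, 2, 1, 2, 0, 2], 1), (56, [2, 1, 3, 0, 3, 1, 2, 0, 2, 1, 3, 0, 2, 1, 2, 0, 2], 145), (30, [2, 2, 1, 2,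 0, 3, 1, 3, 0, 3, 3], 1207)], 4937), ([(24, [3, 1, 2, 0, 1, 2, 0, 2, 2, 1, 3, 0, 3], 1061), (88, [2, 1, 2, 0, 1, 2, 0, 2, 1, 3, 0, 3, 1, 3, 0, 2, 1, 2, 0, 3, 1, 3, 0, 2, 1, 2, 0], 360), (80, [2, 2, 1, 3, 0, 2, 2, 2, 1, 2, 0, 2, 2, 1, 2, 0], 72)], 1073), ([(24, [2, 1, 3, 0, 3, 1, 2, 0, 2, 1, 2, 0, 2, 2, 1, 3, 0, 1, 3, 0, 3], 2594), (81, [3, 1, 2, 0, 2, 2, 1, 3, 0, 2, 1, 2, 0, 1, 2, 0, 2, 1, 2, 0, 2], 89), (58, [3, 1, 2, 0, 3, 1, 3, 0, 1, 3, 0], 109)], 4816), ([(28, [1, 2, 0, 3, 1, 3, 0], 35091), (31, [2, 1, 3, 0, 3], 928), (7, [1, 3, 0, 1, 3, 0], 67028)], 40539), ([(29, [1, 2, 0, 3, 1, 3, 0], 35091), (47, [2, 1, 2, 0, 2, 2, 2, 1, 2, 0, 1, 2, 0, 3], 104), (13, [1, 3, 0, 1, 3, 0], 3328)],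 40539), ([(29, [1, 2, 0, 3, 1, 3, 0, 3, 1, 2, 0, 2, 1, 2, 0, 1, 2, 0], 301), (67, [2, 1, 2, 0, 2, 2, 1, 3, 0, 2, 1, 2, 0, 2, 2, 1, 3, 0], 97), (36, [3, 1, 2, 0, 3, 1, 3, 0, 1, 3, 0], 439)], 0), ([(28, [1, 2, 0, 3, 1, 3, 0, 3, 1, 2, 0, 2, 1, 2, 0, 1, 2, 0], 1733), (44, [3, 3, 1, 2, 0, 3, 3, 1, 3, 0, 2, 1, 2, 0, 1, 2, 0, 2], 649), (50, [3, 1, 2, 0, 3, 1, 3, 0, 1, 3, 0], 146)], 0), ([(40, [1, 3, 0, 3, 1, 3, 0, 1, 3, 0, 2, 2, 1, 2, 0, 2, 2, 1, 3, 0], 987), (77, [1, 2, 0, 1, 2, 0, 2, 1, 3, 0], 336), (10, [3, 1, 2, 0, 3, 1, 3, 0, 1, 3, 0], 42106)], 0), ([(41, [1, 3, 0, 3, 1, 3, 0, 1, 3, 0, 2, 2, 1, 2, 0, 2, 2, 1, 3, 0], 828), (58, [1, 2, 0, 2, 2, 1, 2, 0, 2, 2, 1, 2, 0, 3, 1, 3, 0, 3],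 20), (22, [3, 1, 3, 0, 1, 3, 0], 889)], 721), ([(42, [1, 3, 0, 3, 1, 3, 0, 1, 3, 0, 2, 2, 1, 2, 0, 2, 2, 1, 3, 0], 987), (80, [2, 1, 2, 0, 1, 2, 0, 2, 1, 2, 0, 1, 2, 0, 3, 3, 1, 3, 0], 242), (16, [3, 1, 2, 0, 3, 1, 3, 0, 1, 3, 0], 2464)], 1337), ([(43, [1, 3, 0, 3, 1, 3, 0, 1, 3, 0, 2, 2, 1, 2, 0, 2, 2, 1, 3, 0], 1036), (43, [3, 1, 2, 0, 2, 1, 3, 0, 2, 2, 1, 3, 0, 3, 3], 533), (32, [3, 1, 2, 0, 3, 1, 3, 0, 1, 3, 0], 331)], 752), ([(44, [2, 1, 3, 0, 2, 2, 1, 2, 0, 2, 1, 3, 0, 1, 3, 0, 3, 1, 3, 0, 2], 441), (58, [1, 2, 0, 3, 3, 1, 2, 0, 1, 2, 0, 2, 2, 1, 2, 0, 1, 2, 0, 2], 179), (21, [2, 2, 2, 1, 2, 0, 1, 2, 0, 2, 2, 1, 2, 0, 3], 4968)], 454), ([(44, [3, 3, 1, 2, 0, 1, 2, 0, 2, 2, 1,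 3, 0, 1, 3, 0, 2, 2], 715), (50, [1, 2, 0, 3, 1, 3, 0, 3, 1, 2, 0, 2, 1, 2, 0, 1, 2, 0], 91), (28, [3, 1, 2, 0, 3, 1, 3, 0, 1, 3, 0], 52339)], 569), ([(44, [3, 1, 2, 0, 2, 1, 2, 0, 2, 2, 1, 3, 0, 3, 1, 2, 0, 3], 837), (70, [2, 1, 2, 0, 1, 2, 0, 2, 2, 1, 3, 0, 3, 1, 2, 0, 2, 1, 2, 0, 3], 182), (53, [3, 1, 2, 0, 3, 1, 3, 0, 1, 3, 0], 73)], 0), ([(45, [2, 1, 3, 0, 2, 2, 1, 2, 0, 2, 1, 3, 0, 1, 3, 0, 3, 1, 3, 0, 2], 708), (92, [3, 1, 2, 0, 2, 1, 2, 0, 1, 2, 0, 3, 3, 1, 2, 0, 1, 2, 0, 1, 2, 0, 2, 1, 3, 0, 1, 3, 0], 376), (46, [3, 1, 2, 0, 3, 1, 3, 0, 1, 3, 0], 176)], 0), ([(45, [3, 3, 1, 2, 0, 1, 2, 0, 2, 2, 1, 3, 0, 1, 3, 0, 2, 2], 696), (94, [3, 1, 2, 0, 2, 1, 2, 0, 2, 2, 1, 3, 0, 3,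 1, 2, 0, 3], 580), (39, [3, 1, 2, 0, 3, 1, 3, 0, 1, 3, 0], 776)], 668), ([(45, [3, 1, 2, 0, 2, 1, 2, 0, 2, 2, 1, 3, 0, 3, 1, 2, 0, 3], 1065), (97, [1, 2, 0, 1, 2, 0, 2, 2, 1, 3, 0, 1, 3, 0, 3, 3, 1, 3, 0, 1, 3, 0], 282), (51, [3, 1, 2, 0, 3, 1, 3, 0, 1, 3, 0], 97)], 0), ([(44, [1, 2, 0, 2, 1, 2, 0, 2, 1, 3, 0, 1, 3, 0, 3, 3, 1, 3, 0], 872), (72, [1, 3, 0, 2, 2, 2, 1, 2, 0, 2, 2, 1, 2, 0, 2, 1, 3, 0, 2], 45), (56, [3, 1, 2, 0, 3, 1, 3, 0, 1, 3, 0], 108)], 1341), ([(44, [2, 1, 2, 0, 1, 2, 0, 1, 2, 0, 2, 1, 3, 0, 3, 1, 2, 0, 3, 1, 3, 0, 1, 3, 0, 3], 484), (54, [1, 3, 0, 1, 3, 0, 3, 1, 3, 0, 1, 3, 0, 2, 1, 2, 0, 2, 2, 1, 3, 0], 143), (82, [3, 1, 2, 0, 3, 1, 3, 0, 1, 3, 0], 147)], 0),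 ([(45, [1, 2, 0, 2, 1, 2, 0, 2, 1, 3, 0, 1, 3, 0, 3, 3, 1, 3, 0], 759), (94, [1, 2, 0, 1, 2, 0, 3, 3, 1, 2, 0, 3, 3, 1, 2, 0, 2], 531), (43, [1, 2, 0, 1, 2, 0, 2, 1, 3, 0, 3, 1, 3, 0, 2, 1, 2, 0, 3, 1, 3, 0, 3], 679)], 61), ([(45, [2, 1, 2, 0, 1, 2, 0, 1, 2, 0, 2, 1, 3, 0, 3, 1, 2, 0, 3, 1, 3, 0, 1, 3, 0, 3], 476), (95, [1, 2, 0, 1, 2, 0, 1, 2, 0, 2, 1, 2, 0, 3, 1, 3, 0, 3, 1, 2, 0, 2, 1, 2, 0], 315), (87, [1, 2, 0, 1, 2, 0, 1, 2, 0, 3, 3, 1, 2, 0, 3, 1, 3, 0, 2], 33)], 841), ([(44, [2, 1, 3, 0, 2, 2, 1, 2, 0, 2, 1, 3, 0, 3, 3], 1092), (73, [2, 2, 2, 1, 2, 0, 1, 2, 0, 2, 2, 1, 2, 0, 2, 2, 1, 3, 0], 219), (67, [1, 2, 0, 3, 1, 3, 0, 2, 2, 1, 3, 0, 2, 1, 2, 0, 1, 2, 0], 93)], 537), ([(45,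 [2, 2, 1, 2, 0, 3, 1, 3, 0, 1, 3, 0, 2, 2, 1, 2, 0, 2, 1, 3, 0, 3], 220), (96, [2, 2, 1, 3, 0, 2, 2, 1, 3, 0, 3, 3, 1, 3, 0, 3, 1, 2, 0], 409), (94, [3, 1, 2, 0, 3, 1, 3, 0, 1, 3, 0], 525)], 0), ([(54, [3, 1, 2, 0, 2, 1, 2, 0, 1, 2, 0, 3, 3, 1, 2, 0, 1, 2, 0, 1, 2, 0, 2, 1, 3, 0, 1, 3, 0], 132), (80, [1, 2, 0, 2, 1, 3, 0, 2, 1, 2, 0, 1, 2, 0, 3], 140), (18, [3, 1, 2, 0, 3, 1, 3, 0, 1, 3, 0], 3484)], 0), ([(55, [3, 1, 2, 0, 2, 1, 2, 0, 1, 2, 0, 3, 3, 1, 2, 0, 1, 2, 0, 1, 2, 0, 2, 1, 3, 0, 1, 3, 0], 132), (94, [1, 2, 0, 1, 2, 0, 2, 2, 1, 3, 0, 1, 3, 0, 3, 3, 1, 3, 0, 1, 3, 0], 297), (37, [2, 2, 2, 1, 2, 0, 1, 2, 0, 2, 2, 1, 2, 0, 3], 979)], 139), ([(59, [3, 1, 2, 0, 2, 1, 2, 0, 1, 2,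 0, 3, 3, 1, 2, 0, 1, 2, 0, 1, 2, 0, 2, 1, 3, 0, 1, 3, 0], 148), (58, [2, 2, 1, 2, 0, 2, 1, 2, 0, 1, 2, 0, 3, 1, 3, 0, 1, 3, 0, 2], 169), (20, [3, 1, 2, 0, 3, 1, 3, 0, 1, 3, 0], 3226)], 0), ([(60, [3, 1, 2, 0, 2, 1, 2, 0, 1, 2, 0, 3, 3, 1, 2, 0, 1, 2, 0, 1, 2, 0, 2, 1, 3, 0, 1, 3, 0], 148), (90, [1, 2, 0, 1, 2, 0, 2, 2, 1, 3, 0, 1, 3, 0, 3, 3, 1, 3, 0, 1, 3, 0], 432), (48, [2, 2, 2, 1, 2, 0, 1, 2, 0, 2, 2, 1, 2, 0, 3], 157)], 136), ([(66, [1, 2, 0, 1, 2, 0, 2, 2, 1, 3, 0, 1, 3, 0, 3, 3, 1, 3, 0, 1, 3, 0], 63), (94, [3, 3, 1, 2, 0, 1, 2, 0, 2, 2, 1, 3, 0, 1, 3, 0, 2, 2], 487), (38, [3, 1, 2, 0, 3, 1, 3, 0, 1, 3, 0], 457)], 0), ([(67, [1, 2, 0, 1, 2, 0, 2, 2, 1, 3, 0, 1, 3, 0, 3, 3,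 1, 3, 0, 1, 3, 0], 63), (36, [1, 2, 0, 3, 1, 3, 0, 3, 1, 2, 0, 2, 1, 2, 0, 1, 2, 0], 672), (29, [3, 1, 2, 0, 3, 1, 3, 0, 1, 3, 0], 55563)], 0), ([(70, [1, 2, 0, 1, 2, 0, 2, 2, 1, 3, 0, 1, 3, 0, 3, 3, 1, 3, 0, 1, 3, 0], 98), (67, [1, 2, 0, 2, 1, 3, 0, 2, 2, 1, 3, 0, 1, 3, 0, 3, 3, 1, 3, 0, 1, 3, 0, 2], 208), (35, [3, 1, 2, 0, 3, 1, 3, 0, 1, 3, 0], 852)], 48), ([(71, [1, 2, 0, 1, 2, 0, 2, 2, 1, 3, 0, 1, 3, 0, 3, 3, 1, 3, 0, 1, 3, 0], 98), (93, [3, 3, 1, 2, 0, 3, 3, 1, 3, 0, 2, 1, 2, 0, 1, 2, 0, 2], 574), (52, [3, 1, 2, 0, 3, 1, 3, 0, 1, 3, 0], 39)], 0), ([(72, [1, 2, 0, 3, 3, 1, 2, 0, 1, 2, 0, 2, 1, 2, 0, 1, 2, 0, 3, 1, 3, 0, 1, 3, 0], 173), (55, [2, 1, 2, 0, 2, 1, 2, 0, 1, 2, 0, 2,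 1, 3, 0, 2, 2, 2, 1, 3, 0], 194), (92, [3, 1, 2, 0, 3, 1, 3, 0, 1, 3, 0], 534)], 0), ([(73, [1, 2, 0, 3, 3, 1, 2, 0, 1, 2, 0, 2, 1, 2, 0, 1, 2, 0, 3, 1, 3, 0, 1, 3, 0], 173), (60, [2, 1, 3, 0, 1, 3, 0, 2, 2, 1, 2, 0, 1, 2, 0, 2, 1, 2, 0], 222), (89, [3, 1, 2, 0, 3, 1, 3, 0, 1, 3, 0], 382)], 0), ([(72, [2, 1, 3, 0, 1, 3, 0, 2, 1, 2, 0, 1, 2, 0, 2, 1, 2, 0, 2, 1, 3, 0, 1, 3, 0], 53), (67, [3, 1, 3, 0, 3, 1, 2, 0, 3, 3, 1, 3, 0, 3, 1, 2, 0, 2, 1, 3, 0], 86), (41, [1, 2, 0, 1, 2, 0, 2, 1, 3, 0, 3, 1, 3, 0, 2, 1, 2, 0, 3, 1, 3, 0, 3], 470)], 12), ([(60, [1, 3, 0, 2, 1, 2, 0, 2, 2, 1, 3, 0, 1, 3, 0, 2, 2, 1, 3, 0], 88), (80, [1, 2, 0, 1, 2, 0, 2, 1, 3, 0, 3, 1, 2, 0, 3, 1, 3, 0], 165),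 (25, [3, 1, 2, 0, 3, 1, 3, 0, 1, 3, 0], 1920)], 184), ([(64, [3, 1, 2, 0, 2, 2, 1, 3, 0, 2, 1, 2, 0, 1, 2, 0, 2, 1, 2, 0, 2], 68), (54, [1, 3, 0, 1, 3, 0, 2, 2, 1, 2, 0, 2, 2, 1, 3, 0, 1, 3, 0, 2, 2, 1, 3, 0], 71), (84, [1, 3, 0, 2, 2, 1, 3, 0, 3, 3, 1, 2, 0, 3, 1, 3, 0, 3], 43)], 26), ([(74, [1, 2, 0, 3, 3, 1, 2, 0, 1, 2, 0, 2, 1, 2, 0, 1, 2, 0, 3, 1, 3, 0, 1, 3, 0], 126), (57, [1, 3, 0, 3, 3, 1, 3, 0, 2, 1, 2, 0, 3], 181), (90, [3, 1, 2, 0, 3, 1, 3, 0, 1, 3, 0], 447)], 146), ([(75, [1, 2, 0, 3, 3, 1, 2, 0, 1, 2, 0, 2, 1, 2, 0, 1, 2, 0, 3, 1, 3, 0, 1, 3, 0], 126), (74, [1, 3, 0, 3, 1, 2, 0, 3, 3, 1, 3, 0, 3, 1, 2, 0, 2, 1, 3, 0, 3], 184), (59, [1, 2, 0, 2, 1, 3, 0, 3, 3, 1, 2, 0,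 3, 3, 1, 2, 0], 134)], 204), ([(62, [3, 1, 2, 0, 3, 1, 3, 0, 1, 3, 0], 184), (69, [2, 2, 1, 3, 0, 3, 1, 3, 0, 1, 3, 0], 210), (68, [2, 2, 1, 3, 0, 3, 1, 3, 0, 1, 3, 0], 24)], 134), ([(61, [3, 1, 2, 0, 3, 1, 3, 0, 1, 3, 0], 184), (100, [1, 3, 0, 3, 1, 3, 0], 19269), (99, [3, 1, 2, 0, 3, 1, 3, 0, 1, 3, 0], 17129)], 0), ([(72, [2, 1, 3, 0, 2, 2, 1, 2, 0, 2, 2, 1, 3, 0, 1, 3, 0, 3, 1, 2, 0, 1, 2, 0], 129), (72, [1, 2, 0, 2, 1, 3, 0, 1, 3, 0, 3, 3, 1, 3, 0, 1, 3, 0, 3, 1, 2, 0], 169), (64, [2, 2, 2, 1, 3, 0, 3, 1, 2, 0, 2, 2, 1, 2, 0, 1, 2, 0, 2, 2], 144)], 228), ([(72, [1, 3, 0, 2, 2, 1, 2, 0, 1, 2, 0, 2, 2, 1, 3, 0, 3, 3, 1, 2, 0, 3], 59), (54, [2, 1, 3, 0, 2, 2, 1, 2, 0, 1, 2, 0, 3,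 3, 1, 2, 0, 1, 2, 0, 2, 1, 2, 0], 220), (81, [3, 1, 2, 0, 3, 1, 3, 0, 1, 3, 0], 233)], 0), ([(75, [2, 2, 1, 2, 0, 2, 2, 1, 2, 0, 2, 1, 2, 0, 3, 3, 1, 2, 0, 1, 2, 0], 166), (60, [1, 3, 0, 2, 2, 2, 1, 3, 0, 2, 1, 2, 0, 2, 2, 1, 2, 0, 1, 2, 0], 116), (86, [1, 2, 0, 2, 1, 3, 0, 1, 3, 0, 3, 1, 2, 0, 2, 1, 2, 0], 81)], 76), ([(72, [3, 1, 3, 0, 2, 2, 1, 3, 0, 2, 2, 1, 2, 0, 3], 26), (56, [2, 2, 1, 2, 0, 3, 1, 3, 0, 2, 1, 2, 0, 2, 1, 2, 0, 3], 94), (44, [3, 1, 2, 0, 2, 2, 2, 1, 2, 0, 2, 1, 3, 0, 3], 182)], 104), ([(73, [3, 1, 3, 0, 2, 2, 1, 3, 0, 2, 2, 1, 2, 0, 3], 26), (55, [1, 3, 0, 2, 2, 1, 2, 0, 3, 3, 1, 3, 0, 2, 2, 1, 3, 0, 2, 1, 2, 0], 184), (97, [3, 1, 2, 0, 3, 1, 3, 0, 1, 3, 0], 20)],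 0), ([(68, [3, 1, 2, 0, 3, 1, 3, 0, 1, 3, 0], 239), (62, [3, 1, 2, 0, 2, 1, 2, 0, 1, 2, 0], 225), (69, [3, 1, 2, 0, 3, 1, 3, 0, 1, 3, 0], 180)], 110), ([(69, [3, 1, 2, 0, 3, 1, 3, 0, 1, 3, 0], 239), (68, [3, 1, 2, 0, 3, 1, 3, 0, 1, 3, 0], 32), (62, [3, 1, 2, 0, 2, 1, 2, 0, 1, 2, 0], 225)], 156), ([(74, [1, 2, 0, 3, 1, 3, 0, 1, 3, 0, 3, 1, 2, 0, 1, 2, 0, 2, 2, 1, 2, 0, 3], 197), (71, [2, 1, 3, 0, 2, 1, 2, 0, 2, 2, 1, 2, 0, 3, 1, 3, 0, 2, 2, 1, 2, 0], 223), (93, [3, 1, 2, 0, 2, 2, 2, 1, 2, 0, 2, 1, 3, 0, 3], 542)], 221), ([(75, [1, 2, 0, 3, 1, 3, 0, 1, 3, 0, 3, 1, 2, 0, 1, 2, 0, 2, 2, 1, 2, 0, 3], 197), (59, [1, 2, 0, 3, 3, 1, 2, 0, 2, 2, 1, 3, 0, 1, 3, 0, 3, 1, 2, 0, 2, 1, 2, 0], 152),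 (70, [1, 3, 0, 2, 1, 2, 0, 1, 2, 0, 2, 1, 2, 0, 3, 1, 3, 0, 3, 1, 2, 0, 2, 1, 2, 0], 205)], 91), ([(54, [1, 2, 0, 2, 2, 1, 3, 0, 2, 1, 2, 0, 2, 1, 3, 0, 1, 3, 0, 3, 1, 2, 0, 2], 83), (90, [1, 2, 0, 1, 2, 0, 1, 2, 0, 2, 2, 1, 2, 0, 3, 3, 1, 3, 0, 1, 3, 0, 3, 1, 2, 0], 378), (72, [2, 1, 3, 0, 3, 1, 2, 0, 1, 2, 0, 2, 2, 1, 3, 0, 1, 3, 0, 2, 2], 166)], 40), ([(55, [1, 2, 0, 2, 2, 1, 3, 0, 2, 1, 2, 0, 2, 1, 3, 0, 1, 3, 0, 3, 1, 2, 0, 2], 83), (92, [3, 3, 1, 2, 0, 2, 2, 1, 2, 0, 1, 2, 0, 3, 1, 3, 0, 3], 69), (73, [3, 1, 2, 0, 1, 2, 0, 1, 2, 0, 2, 2, 1, 3, 0, 2, 1, 2, 0, 2, 1, 3, 0], 135)], 34), ([(70, [1, 2, 0, 3, 3, 1, 3, 0, 2, 2, 1, 3, 0, 2, 1, 2, 0, 3, 1, 3, 0], 53), (59, [2, 2, 1, 2,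 0, 2, 1, 2, 0, 1, 2, 0, 1, 2, 0, 2, 2, 1, 3, 0], 176), (74, [2, 1, 3, 0, 3, 3, 1, 2, 0, 2, 2, 1, 2, 0, 3, 3, 1, 2, 0, 3, 1, 3, 0], 203)], 68), ([(71, [1, 2, 0, 3, 3, 1, 3, 0, 2, 2, 1, 3, 0, 2, 1, 2, 0, 3, 1, 3, 0], 53), (93, [2, 1, 3, 0, 2, 1, 2, 0, 1, 2, 0, 2, 1, 2, 0, 1, 2, 0, 2], 579), (75, [1, 3, 0, 2, 2, 2, 1, 3, 0, 1, 3, 0, 3, 1, 2, 0, 2, 1, 3, 0, 3, 1, 2, 0], 83)], 159), ([(80, [1, 2, 0, 3, 3, 1, 3, 0, 1, 3, 0, 2], 101), (17, [2, 2, 1, 2, 0, 3], 4789), (11, [3, 1, 2, 0, 3, 1, 3, 0, 1, 3, 0], 6700)], 0), ([(81, [1, 2, 0, 3, 3, 1, 3, 0, 1, 3, 0, 2], 243), (65, [2, 2, 2, 1, 3, 0, 2, 1, 2, 0, 3, 3, 1, 3, 0, 2], 108), (78, [2, 1, 2, 0, 2, 2, 1, 3, 0, 1, 3, 0, 2], 84)], 96), ([(87,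 [2, 2, 1, 2, 0, 2, 2, 2, 1, 2, 0, 2, 1, 3, 0, 3, 1, 3, 0], 185), (42, [1, 2, 0, 3, 1, 3, 0, 3, 1, 2, 0, 2, 2, 1, 2, 0, 2, 1, 2, 0, 3], 1093), (79, [1, 3, 0, 3, 1, 2, 0, 3, 1, 3, 0], 296)], 49), ([(86, [3, 1, 2, 0, 3, 3, 1, 3, 0, 2, 1, 2, 0], 165), (63, [3, 1, 2, 0, 3, 3, 1, 3, 0, 2, 1, 2, 0], 50), (76, [3, 1, 2, 0, 3, 3, 1, 3, 0, 2, 1, 2, 0], 462)], 161), ([(89, [1, 2, 0, 2, 2, 1, 2, 0, 1, 2, 0, 3, 1, 3, 0, 3, 1, 2, 0, 2, 1, 2, 0], 94), (72, [1, 3, 0, 2, 1, 2, 0, 3, 1, 3, 0, 1, 3, 0, 3, 1, 3, 0], 124), (63, [3, 1, 2, 0, 3, 1, 3, 0, 1, 3, 0], 28)], 462), ([(88, [2, 1, 3, 0, 2, 2, 1, 2, 0, 1, 2, 0, 3, 3, 1, 2, 0, 1, 2, 0, 2, 1, 2, 0], 15), (80, [2, 1, 3, 0, 3, 1, 2, 0, 2, 1, 3, 0, 2,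 1, 2, 0, 3], 248), (24, [3, 1, 2, 0, 3, 1, 3, 0, 1, 3, 0], 3507)], 300), ([(88, [1, 3, 0, 1, 3, 0, 3, 1, 3, 0, 1, 3, 0, 2, 1, 2, 0, 2, 2, 1, 3, 0], 25), (88, [3, 3, 1, 3, 0, 2, 1, 2, 0, 3, 1, 3, 0, 3, 1, 2, 0, 2, 1, 2, 0], 321), (83, [2, 1, 3, 0, 3, 1, 2, 0, 3, 3, 1, 2, 0, 2, 1, 3, 0, 2], 293)], 304), ([(89, [2, 1, 2, 0, 2, 1, 3, 0, 3, 3, 1, 2, 0, 1, 2, 0, 1, 2, 0], 382), (67, [1, 2, 0, 1, 2, 0, 3, 3, 1, 3, 0, 3, 1, 2, 0, 1, 2, 0, 2, 1, 2, 0, 1, 2, 0, 2], 111), (40, [3, 1, 2, 0, 3, 1, 3, 0, 1, 3, 0], 801)], 0), ([(84, [1, 2, 0, 3, 1, 3, 0, 1, 3, 0, 3, 1, 3, 0, 2, 1, 2, 0, 1, 2, 0, 2, 2], 382), (60, [3, 3, 1, 3, 0, 3, 1, 2, 0, 3, 3, 1, 2, 0, 2, 2, 1, 3, 0, 2], 64), (85, [2, 1, 3, 0,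 3, 1, 2, 0, 1, 2, 0, 2, 2, 1, 3, 0, 2, 1, 2, 0, 3], 66)], 248), ([(85, [1, 2, 0, 3, 1, 3, 0, 1, 3, 0, 3, 1, 3, 0, 2, 1, 2, 0, 1, 2, 0, 2, 2], 382), (90, [3, 1, 2, 0, 2, 1, 2, 0, 3, 3, 1, 2, 0, 3, 1, 3, 0, 3, 3, 1, 2, 0], 59), (57, [2, 1, 2, 0, 1, 2, 0, 2, 1, 3, 0, 1, 3, 0, 3, 3, 1, 3, 0, 3], 115)], 286), ([(91, [2, 1, 3, 0, 1, 3, 0, 2, 1, 2, 0, 2, 2, 1, 3, 0, 3, 3, 1, 2, 0], 199), (94, [2, 1, 2, 0, 2, 1, 2, 0, 1, 2, 0, 1, 2, 0, 2], 116), (42, [3, 3, 1, 3, 0], 729)], 432), ([(90, [2, 1, 2, 0, 1, 2, 0, 1, 2, 0, 2, 1, 2, 0, 1, 2, 0, 1, 2, 0, 3, 1, 3, 0], 176), (74, [1, 2, 0, 3, 3, 1, 3, 0, 2, 2, 2, 1, 2, 0, 3, 1, 3, 0, 2, 1, 2, 0], 63), (65, [1, 2, 0, 3, 3, 1, 3, 0, 3, 1, 2, 0, 2, 1,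 3, 0, 1, 3, 0, 3, 1, 3, 0], 132)], 138), ([(90, [2, 1, 3, 0, 1, 3, 0, 2, 2, 1, 2, 0, 1, 2, 0, 2, 1, 2, 0], 392), (72, [1, 3, 0, 3, 1, 2, 0, 2, 1, 3, 0, 2, 1, 2, 0, 2], 163), (54, [3, 1, 2, 0, 3, 1, 3, 0, 1, 3, 0], 226)], 26), ([(91, [2, 1, 3, 0, 1, 3, 0, 2, 2, 1, 2, 0, 1, 2, 0, 2, 1, 2, 0], 392), (95, [2, 2, 1, 2, 0, 3, 1, 3, 0, 2, 2, 1, 3, 0, 2, 1, 2, 0, 2, 2], 584), (88, [2, 1, 3, 0, 2, 1, 2, 0, 2, 1, 2, 0, 1, 2, 0, 3, 1, 3, 0, 3], 306)], 194), ([(85, [1, 3, 0, 2, 2, 1, 3, 0, 2, 2, 1, 2, 0, 2, 1, 3, 0, 3], 35), (91, [3, 1, 3, 0, 2, 1, 2, 0, 2, 2, 1, 2, 0, 1, 2, 0, 1, 2, 0, 3, 1, 3, 0], 18), (95, [2, 2, 1, 3, 0, 2, 1, 2, 0, 1, 2, 0, 2, 2, 1, 3, 0, 1, 3, 0, 2], 83)], 49), ([(84, [1,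 3, 0, 2, 2, 1, 3, 0, 2, 2, 1, 2, 0, 2, 1, 3, 0, 3], 35), (75, [2, 1, 2, 0, 1, 2, 0, 2, 2, 2, 1, 2, 0, 3, 1, 3, 0, 1, 3, 0], 17), (60, [3, 1, 2, 0, 3, 1, 3, 0, 1, 3, 0], 134)], 0), ([(92, [2, 2, 1, 2, 0, 3, 1, 3, 0, 2, 1, 2, 0, 2, 2, 1, 3, 0, 1, 3, 0, 3], 563), (74, [2, 2, 1, 3, 0, 3, 1, 3, 0, 2, 1, 2, 0, 2, 2], 115), (55, [2, 1, 3, 0, 2, 1, 2, 0, 2, 1, 2, 0, 1, 2, 0, 3, 1, 3, 0, 3], 97)], 379), ([(96, [2, 1, 3, 0, 1, 3, 0, 3, 1, 3, 0, 2, 1, 2, 0, 2, 1, 3, 0, 3, 1, 3, 0], 327), (94, [2, 2, 1, 2, 0, 3, 1, 3, 0, 1, 3, 0, 2, 2, 1, 2, 0, 2, 1, 3, 0, 3], 48), (45, [3, 1, 2, 0, 3, 1, 3, 0, 1, 3, 0], 283)], 0), ([(97, [3, 1, 2, 0, 2, 2, 1, 3, 0, 3, 1, 2, 0, 2, 1, 3, 0, 3], 2), (75, [2, 1,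 2, 0, 1, 2, 0, 3, 1, 3, 0, 3, 3, 1, 2, 0, 2, 1, 2, 0], 209), (71, [1, 2, 0, 3, 1, 3, 0, 2, 2, 1, 3, 0, 2, 1, 2, 0, 1, 2, 0], 237)], 411), ([(98, [3, 1, 2, 0, 1, 2, 0, 1, 2, 0, 3, 3, 1, 3, 0, 2, 2, 1, 2, 0, 3], 471), (95, [3, 3, 1, 3, 0, 3, 1, 2, 0, 2, 1, 3, 0, 3, 3, 1, 2, 0, 1, 2, 0, 1, 2, 0], 207), (91, [3, 1, 3, 0, 2, 2, 1, 2, 0, 1, 2, 0, 1, 2, 0], 318)], 297), ([(92, [1, 3, 0, 2, 2, 1, 2, 0, 3, 3, 1, 3, 0, 2, 2, 1, 3, 0, 2, 1, 2, 0], 461), (72, [1, 2, 0, 1, 2, 0, 1, 2, 0, 3, 1, 3, 0, 3, 3, 1, 2, 0, 1, 2, 0, 2], 129), (66, [3, 1, 2, 0, 3, 1, 3, 0, 1, 3, 0], 97)], 522), ([(92, [2, 2, 2, 1, 2, 0, 2, 1, 3, 0, 2, 2, 2, 1, 2, 0, 2, 1, 3, 0], 459), (66, [1, 2, 0, 2, 1, 2, 0, 1, 2, 0,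 1, 2, 0, 2, 1, 3, 0, 3, 1, 2, 0, 2, 1, 2, 0, 2], 130), (96, [1, 3, 0, 2, 1, 2, 0, 1, 2, 0, 2, 1, 2, 0, 3, 1, 3, 0, 3, 1, 2, 0, 2, 1, 2, 0], 269)], 569), ([(95, [1, 2, 0, 2, 2, 1, 3, 0, 3, 3, 1, 3, 0, 3, 3, 1, 2, 0, 1, 2, 0], 65), (91, [2, 2, 2, 1, 2, 0, 1, 2, 0, 2, 2, 1, 2, 0, 2, 1, 3, 0, 1, 3, 0, 3, 1, 3, 0], 386), (98, [2, 2, 1, 3, 0, 2, 1, 2, 0, 1, 2, 0, 2, 1, 2, 0, 2], 97)], 20), ([(100, [1, 3, 0, 3, 1, 3, 0], 22709), (99, [3, 1, 2, 0, 3, 1, 3, 0, 1, 3, 0], 17129), (61, [3, 1, 2, 0, 3, 1, 3, 0, 1, 3, 0], 184)], 2342), ([(99, [1, 3, 0, 2, 1, 2, 0, 1, 2, 0, 3, 3, 1, 3, 0], 25000), (61, [1, 3, 0, 2, 1, 2, 0, 1, 2, 0, 3, 3, 1, 3, 0], 184), (100, [1, 3, 0, 2, 1, 2, 0, 2], 8243)], 514)],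
[([(0, [], 0), (5, [], 0), (2, [], 24400)], 0), ([(5, [], 40182), (2, [], 24400), (0, [], 0)], 12805), ([(6, [], 40182), (14, [], 2300), (3, [], 24400)], 12805), ([(7, [], 103624), (26, [], 9832), (4, [], 24400)], 44100), ([(8, [], 103624), (12, [], 2300), (1, [], 24400)], 44100), ([(9, [3, 1, 2, 0, 3], 66233), (19, [2, 1, 2, 0, 2, 2, 2, 1, 2, 0, 2, 1, 2, 0, 3], 2983), (12, [1, 3, 0], 3318)], 51016), ([(9, [2, 2, 1, 2, 0, 2, 2, 1, 2, 0, 3, 1, 3, 0, 3], 8879), (17, [3, 1, 2, 0, 3], 4916), (5, [1, 3, 0], 994)], 51016), ([(10, [3, 1, 2, 0, 3], 94768), (34, [3, 1, 2, 0, 3], 786), (14, [1, 3, 0], 2569)], 6342), ([(10, [2, 2, 1, 2, 0, 2, 2, 1, 2, 0, 3, 1, 3, 0, 3], 8341), (36, [3, 1, 2,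 0, 3], 754), (26, [1, 3, 0], 40539)], 6342), ([(6, [1, 2, 0, 1, 2, 0, 1, 2, 0, 2], 88010), (19, [1, 2, 0, 2, 1, 3, 0, 1, 3, 0, 2], 3338), (17, [2, 2, 1, 2, 0, 1, 2, 0, 3], 1936)], 10336), ([(8, [1, 2, 0, 1, 2, 0, 1, 2, 0, 2], 32855), (21, [1, 2, 0, 2, 1, 3, 0, 1, 3, 0, 2], 2664), (31, [2, 2, 1, 2, 0, 1, 2, 0, 3], 843)], 29867), ([(9, [2, 2, 1, 2, 0, 3, 1, 3, 0, 3], 46779), (24, [2, 1, 3, 0, 3, 1, 3, 0, 1, 3, 0, 2, 1, 2, 0, 1, 2, 0, 2, 1, 3, 0, 3, 1, 3, 0], 4634), (77, [2, 1, 2, 0, 3, 1, 3, 0, 1, 3, 0], 478)], 0), ([(18, [3, 1, 2, 0, 3], 3719), (50, [3, 1, 2, 0, 3], 146), (27, [1, 3, 0], 40539)], 3403), ([(19, [3, 1, 2, 0, 3], 3719), (17, [2, 2, 1, 2, 0, 2, 2, 1, 2, 0, 3, 1, 3, 0,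 3], 1167), (6, [1, 3, 0], 63591)], 3403), ([(20, [3, 1, 2, 0, 3], 4034), (49, [3, 1, 2, 0, 3], 14), (15, [1, 3, 0], 2569)], 2677), ([(21, [3, 1, 2, 0, 3], 4034), (31, [2, 2, 1, 2, 0, 2, 2, 1, 2, 0, 3, 1, 3, 0, 3], 834), (8, [1, 3, 0], 114258)], 2677), ([(17, [1, 2, 0, 2, 1, 3, 0, 1, 3, 0, 2], 4713), (5, [1, 2, 0, 1, 2, 0, 1, 2, 0, 2], 43414), (9, [2, 2, 1, 2, 0, 1, 2, 0, 3], 63453)], 3652), ([(18, [1, 2, 0, 1, 2, 0, 1, 2, 0, 2, 1, 3, 0, 3, 1, 2, 0, 1, 2, 0], 1751), (46, [1, 2, 0, 1, 2, 0, 1, 2, 0, 2, 1, 3, 0, 3, 1, 2, 0, 1, 2, 0], 14), (33, [2, 2, 1, 2, 0, 1, 2, 0, 3], 681)], 4314), ([(20, [1, 3, 0, 2, 1, 2, 0, 1, 2, 0, 2, 1, 3, 0, 3, 1, 2, 0, 1, 2, 0], 571), (58, [2, 1, 3, 0, 1,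 3, 0, 2, 2, 1, 2, 0, 3, 3, 1, 3, 0, 1, 3, 0, 2], 83), (19, [1, 2, 0, 2, 1, 3, 0, 2, 2, 1, 3, 0, 3], 3548)], 4060), ([(21, [1, 3, 0, 2, 1, 2, 0, 1, 2, 0, 2, 1, 3, 0, 3, 1, 2, 0, 1, 2, 0], 571), (41, [3, 1, 2, 0, 1, 2, 0, 2], 263), (47, [2, 1, 2, 0, 3, 1, 3, 0, 1, 3, 0], 162)], 0), ([(18, [1, 3, 0, 2, 1, 2, 0, 1, 2, 0, 2, 1, 3, 0, 3, 1, 2, 0, 1, 2, 0], 2510), (56, [1, 2, 0, 3, 1, 3, 0, 1, 3, 0, 3, 1, 2, 0, 1, 2, 0, 3, 1, 3, 0, 3], 222), (34, [2, 1, 2, 0, 3, 1, 3, 0, 1, 3, 0], 568)], 0), ([(19, [1, 3, 0, 2, 1, 2, 0, 1, 2, 0, 2, 1, 3, 0, 3, 1, 2, 0, 1, 2, 0], 2510), (25, [1, 3, 0, 3, 1, 2, 0, 1, 2, 0, 2, 1, 3, 0, 3, 1, 2, 0, 2, 2], 3250), (49, [2, 1, 2, 0, 3, 1, 3, 0, 1, 3, 0], 138)],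 0), ([(25, [3, 1, 2, 0, 1, 2, 0, 2, 1, 3, 0, 3, 3, 1, 2, 0, 3], 1314), (58, [2, 1, 3, 0, 1, 3, 0, 3, 1, 2, 0, 2, 2, 1, 3, 0, 1, 3, 0, 3, 1, 2, 0], 27), (23, [2, 2, 1, 3, 0, 2, 2, 1, 2, 0, 2], 95)], 2136), ([(25, [2, 1, 2, 0, 1, 2, 0, 1, 2, 0, 3, 1, 3, 0, 3, 3, 1, 3, 0, 1, 3, 0], 2168), (56, [1, 2, 0, 3, 3, 1, 3, 0, 3, 3, 1, 3, 0, 2, 2, 1, 3, 0], 134), (30, [2, 2, 1, 3, 0, 3, 1, 3, 0], 1298)], 2983), ([(24, [2, 1, 2, 0, 1, 2, 0, 3, 1, 3, 0, 2, 1, 2, 0], 2499), (88, [2, 1, 2, 0, 2, 1, 3, 0, 3, 3, 1, 3, 0, 1, 3, 0, 2, 1, 2, 0, 1, 2, 0, 3, 1, 3, 0], 452), (80, [3, 1, 2, 0, 2, 2, 2, 1, 2, 0, 1, 2, 0, 2, 1, 3, 0, 1, 3, 0, 2, 1, 2, 0], 72)], 1555), ([(21, [1, 2, 0, 1, 2, 0, 1, 2, 0, 2],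 3736), (44, [2, 1, 2, 0, 1, 2, 0, 2, 1, 2, 0, 2, 2, 2, 1, 3, 0], 371), (58, [2, 1, 2, 0, 3, 1, 3, 0, 1, 3, 0], 114)], 4816), ([(28, [3, 1, 2, 0, 3], 45839), (31, [3, 1, 2, 0, 3], 569), (7, [1, 3, 0], 48130)], 44486), ([(29, [3, 1, 2, 0, 3], 47428), (47, [3, 1, 2, 0, 3], 146), (13, [1, 3, 0], 2569)], 40994), ([(28, [1, 2, 0, 1, 2, 0, 1, 2, 0, 2, 2, 1, 3, 0, 2, 1, 2, 0, 1, 2, 0], 75304), (43, [2, 1, 3, 0, 1, 3, 0, 3, 1, 3, 0, 2, 1, 2, 0, 1, 2, 0, 2, 1, 3, 0], 1231), (36, [2, 1, 2, 0, 3, 1, 3, 0, 1, 3, 0], 604)], 0), ([(29, [1, 2, 0, 1, 2, 0, 1, 2, 0, 2, 2, 1, 3, 0, 2, 1, 2, 0, 1, 2, 0], 68760), (64, [2, 2, 1, 3, 0, 2, 1, 2, 0, 2, 2, 1, 2, 0, 3, 3, 1, 3, 0, 2], 124), (50, [2, 1, 2, 0,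 3, 1, 3, 0, 1, 3, 0], 113)], 0), ([(36, [1, 2, 0, 2, 1, 3, 0, 1, 3, 0, 2], 885), (26, [1, 2, 0, 1, 2, 0, 1, 2, 0, 2], 44236), (10, [2, 2, 1, 2, 0, 1, 2, 0, 3], 85852)], 885), ([(34, [1, 2, 0, 1, 2, 0, 1, 2, 0, 2, 1, 3, 0, 3, 1, 2, 0, 1, 2, 0], 632), (23, [1, 2, 0, 1, 2, 0, 2], 3066), (22, [1, 2, 0, 1, 2, 0, 3, 3, 1, 2, 0], 2946)], 819), ([(39, [1, 2, 0, 2, 1, 3, 0, 1, 3, 0, 2], 1003), (33, [1, 2, 0, 2, 1, 3, 0, 1, 3, 0, 2], 668), (16, [2, 2, 1, 2, 0, 1, 2, 0, 3], 4141)], 1140), ([(37, [1, 2, 0, 1, 2, 0, 1, 2, 0, 2, 1, 3, 0, 3, 1, 2, 0, 1, 2, 0], 586), (51, [1, 2, 0, 2, 1, 3, 0, 1, 3, 0, 2], 121), (32, [2, 2, 1, 2, 0, 1, 2, 0, 3], 850)], 840), ([(40, [1, 2, 0, 3, 1, 3, 0, 1, 3, 0,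 3, 1, 2, 0, 1, 2, 0, 3, 1, 3, 0, 3], 251), (80, [2, 2, 1, 3, 0, 2, 1, 2, 0, 2, 1, 3, 0, 2, 2, 1, 2, 0, 1, 2, 0, 1, 2, 0], 79), (21, [1, 2, 0, 2, 1, 3, 0, 2, 2, 1, 3, 0, 3], 2885)], 694), ([(43, [1, 2, 0, 3, 1, 3, 0, 1, 3, 0, 3, 1, 2, 0, 1, 2, 0, 3, 1, 3, 0, 3], 1158), (36, [1, 2, 0, 1, 2, 0, 1, 2, 0, 2, 2, 1, 3, 0, 2, 1, 2, 0, 1, 2, 0], 862), (28, [2, 1, 2, 0, 3, 1, 3, 0, 1, 3, 0], 51886)], 569), ([(42, [2, 2, 2, 1, 3, 0, 3, 1, 3, 0], 1081), (84, [1, 3, 0, 3, 1, 3, 0, 2, 2, 1, 3, 0, 3], 224), (53, [2, 1, 2, 0, 3, 1, 3, 0, 1, 3, 0], 150)], 0), ([(43, [2, 2, 2, 1, 3, 0, 3, 1, 3, 0], 119), (41, [2, 1, 3, 0, 3, 3, 1, 2, 0, 2, 2, 1, 2, 0, 3, 1, 3, 0, 3], 768), (46, [2, 1, 2, 0, 3, 1, 3,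 0, 1, 3, 0], 66)], 0), ([(41, [1, 2, 0, 3, 1, 3, 0, 1, 3, 0, 3, 1, 2, 0, 1, 2, 0, 3, 1, 3, 0, 3], 1437), (56, [2, 2, 2, 1, 3, 0, 3, 1, 3, 0], 109), (39, [2, 1, 2, 0, 3, 1, 3, 0, 1, 3, 0], 1006)], 668), ([(40, [2, 2, 2, 1, 3, 0, 3, 1, 3, 0], 1189), (81, [2, 2, 1, 3, 0, 2, 1, 2, 0, 2, 1, 3, 0, 2, 2, 1, 2, 0, 1, 2, 0, 1, 2, 0], 66), (51, [2, 1, 2, 0, 3, 1, 3, 0, 1, 3, 0], 78)], 0), ([(44, [3, 1, 2, 0, 2, 1, 3, 0, 3, 3, 1, 2, 0, 3, 1, 3, 0], 1045), (72, [2, 1, 3, 0, 1, 3, 0, 3, 3, 1, 2, 0, 1, 2, 0, 2, 1, 2, 0, 2, 2], 17), (56, [2, 1, 2, 0, 3, 1, 3, 0, 1, 3, 0], 109)], 1341), ([(44, [1, 2, 0, 2, 1, 2, 0, 1, 2, 0, 1, 2, 0, 3, 3, 1, 3, 0, 1, 3, 0, 3, 1, 2, 0], 415), (54, [1, 2, 0, 3, 1,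 3, 0, 2, 2, 2, 1, 3, 0, 2, 1, 2, 0, 3], 143), (82, [2, 1, 2, 0, 3, 1, 3, 0, 1, 3, 0], 9)], 0), ([(45, [3, 1, 2, 0, 2, 1, 3, 0, 3, 3, 1, 2, 0, 3, 1, 3, 0], 1033), (94, [3, 1, 2, 0, 1, 2, 0, 2, 1, 2, 0, 3, 3, 1, 3, 0, 3, 3, 1, 2, 0], 598), (43, [2, 1, 2, 0, 2, 1, 3, 0, 2, 2, 1, 3, 0, 3, 3, 1, 3, 0], 610)], 134), ([(45, [1, 2, 0, 2, 1, 2, 0, 1, 2, 0, 1, 2, 0, 3, 3, 1, 3, 0, 1, 3, 0, 3, 1, 2, 0], 591), (95, [2, 2, 2, 1, 3, 0, 2, 2, 1, 3, 0, 3, 3, 1, 2, 0, 2, 2, 1, 2, 0, 2], 381), (87, [3, 1, 2, 0, 2, 2, 1, 3, 0, 2, 1, 2, 0, 2, 2, 1, 3, 0, 2], 186)], 841), ([(41, [2, 2, 1, 3, 0, 2, 1, 2, 0, 2, 1, 3, 0, 2, 2, 2, 1, 3, 0], 1038), (72, [2, 1, 3, 0, 2, 1, 2, 0, 2, 1, 3, 0, 2, 2, 1, 2, 0, 1,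 2, 0, 3, 1, 3, 0, 1, 3, 0], 127), (67, [2, 1, 3, 0, 3, 1, 2, 0, 2, 1, 3, 0, 2, 1, 2, 0, 3, 1, 3, 0, 1, 3, 0], 86)], 537), ([(43, [2, 2, 1, 3, 0, 2, 1, 2, 0, 2, 1, 3, 0, 2, 2, 2, 1, 3, 0], 967), (45, [2, 1, 3, 0, 3, 3, 1, 2, 0, 1, 2, 0, 3, 1, 3, 0, 1, 3, 0, 2], 1379), (94, [2, 1, 2, 0, 3, 1, 3, 0, 1, 3, 0], 637)], 0), ([(56, [2, 1, 3, 0, 1, 3, 0, 3, 1, 3, 0, 2, 1, 2, 0, 1, 2, 0, 2, 1, 3, 0], 219), (34, [1, 3, 0, 2, 1, 2, 0, 1, 2, 0, 2, 1, 3, 0, 3, 1, 2, 0, 1, 2, 0], 625), (18, [2, 1, 2, 0, 3, 1, 3, 0, 1, 3, 0], 1711)], 0), ([(56, [2, 2, 1, 3, 0, 2, 1, 2, 0, 2, 1, 3, 0, 2, 2, 1, 2, 0, 1, 2, 0, 1, 2, 0], 20), (43, [3, 1, 2, 0, 2, 2, 2, 1, 2, 0, 1, 2, 0, 1, 2, 0, 3, 1, 3, 0, 1, 3, 0],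 623), (37, [1, 2, 0, 2, 1, 3, 0, 2, 2, 1, 3, 0, 3], 518)], 154), ([(58, [1, 2, 0, 3, 3, 1, 2, 0], 119), (19, [1, 2, 0, 1, 2, 0, 1, 2, 0, 2, 2, 1, 3, 0, 2, 1, 2, 0, 1, 2, 0], 3413), (20, [2, 1, 2, 0, 3, 1, 3, 0, 1, 3, 0], 882)], 0), ([(57, [1, 3, 0, 3, 1, 2, 0, 1, 2, 0, 2, 1, 3, 0, 3, 1, 2, 0, 2, 2], 219), (86, [2, 1, 3, 0, 1, 3, 0, 3, 1, 3, 0, 2, 1, 2, 0, 1, 2, 0, 2, 1, 3, 0], 140), (48, [1, 2, 0, 2, 1, 3, 0, 2, 2, 1, 3, 0, 3], 75)], 174), ([(63, [2, 1, 3, 0, 3, 3, 1, 2, 0, 2, 2, 1, 2, 0, 3, 1, 3, 0, 3], 22), (82, [1, 2, 0, 3, 1, 3, 0, 1, 3, 0, 3, 1, 2, 0, 1, 2, 0, 3, 1, 3, 0, 3], 191), (38, [2, 1, 2, 0, 3, 1, 3, 0, 1, 3, 0], 1228)], 0), ([(64, [2, 2, 1, 3, 0, 2, 1, 2, 0, 2, 1, 3,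 0, 2, 2, 1, 2, 0, 1, 2, 0, 1, 2, 0], 100), (50, [1, 2, 0, 1, 2, 0, 1, 2, 0, 2, 2, 1, 3, 0, 2, 1, 2, 0, 1, 2, 0], 131), (29, [2, 1, 2, 0, 3, 1, 3, 0, 1, 3, 0], 72959)], 0), ([(57, [1, 3, 0, 2, 1, 2, 0, 3, 3, 1, 3, 0, 3, 1, 2, 0, 2, 2], 157), (87, [2, 1, 3, 0, 1, 3, 0, 3, 1, 3, 0, 2, 1, 2, 0, 1, 2, 0, 2, 1, 3, 0], 97), (35, [2, 1, 2, 0, 3, 1, 3, 0, 1, 3, 0], 1219)], 48), ([(58, [1, 2, 0, 1, 2, 0, 3, 3, 1, 3, 0, 2, 2, 1, 3, 0, 2, 1, 2, 0], 36), (25, [1, 3, 0, 2, 1, 2, 0, 3, 3, 1, 3, 0, 3, 1, 2, 0, 2, 2], 151), (52, [2, 1, 2, 0, 3, 1, 3, 0, 1, 3, 0], 203)], 0), ([(67, [2, 2, 1, 3, 0, 3, 3, 1, 2, 0, 3, 1, 3, 0, 3, 3, 1, 3, 0], 166), (45, [1, 2, 0, 2, 1, 3, 0, 3, 1, 2, 0, 2, 1, 2, 0, 3,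 3, 1, 3, 0, 2], 277), (92, [2, 1, 2, 0, 3, 1, 3, 0, 1, 3, 0], 420)], 0), ([(66, [2, 2, 1, 3, 0, 3, 3, 1, 2, 0, 3, 1, 3, 0, 3, 3, 1, 3, 0], 166), (95, [2, 1, 2, 0, 1, 2, 0, 1, 2, 0, 3, 1, 3, 0, 2, 1, 2, 0], 316), (89, [2, 1, 2, 0, 3, 1, 3, 0, 1, 3, 0], 290)], 0), ([(72, [1, 2, 0, 3, 3, 1, 2, 0, 2, 2, 1, 2, 0, 2, 2, 2, 1, 2, 0, 2, 1, 3, 0], 21), (67, [1, 2, 0, 1, 2, 0, 2, 1, 3, 0, 3, 1, 3, 0, 2, 1, 2, 0, 2, 2, 1, 3, 0, 1, 3, 0], 158), (41, [2, 1, 2, 0, 2, 1, 3, 0, 2, 2, 1, 3, 0, 3, 3, 1, 3, 0], 898)], 44), ([(59, [3, 1, 2, 0, 1, 2, 0, 2, 1, 3, 0, 3, 3, 1, 2, 0, 3], 77), (49, [1, 2, 0, 1, 2, 0, 1, 2, 0, 2], 204), (25, [2, 1, 2, 0, 3, 1, 3, 0, 1, 3, 0], 3444)], 184), ([(66, [3, 1, 2,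 0, 2, 1, 3, 0, 3, 1, 2, 0, 2, 1, 2, 0, 2], 71), (95, [1, 2, 0, 2, 1, 3, 0, 3, 3, 1, 2, 0, 3], 347), (84, [2, 2, 1, 3, 0, 2, 2, 2, 1, 2, 0, 2, 1, 3, 0, 3, 1, 3, 0], 28)], 35), ([(59, [2, 2, 1, 3, 0, 3, 3, 1, 2, 0, 3, 1, 3, 0, 3, 3, 1, 3, 0], 52), (60, [1, 2, 0, 2, 2, 1, 2, 0, 2, 1, 3, 0, 2, 1, 2, 0, 2, 2], 61), (90, [2, 1, 2, 0, 3, 1, 3, 0, 1, 3, 0], 434)], 146), ([(60, [2, 2, 1, 3, 0, 3, 3, 1, 2, 0, 3, 1, 3, 0, 3, 3, 1, 3, 0], 52), (90, [3, 1, 2, 0, 1, 2, 0, 1, 2, 0, 2, 1, 2, 0, 1, 2, 0, 3, 3, 1, 3, 0, 2], 434), (59, [2, 2, 1, 2, 0, 1, 2, 0, 3], 52)], 208), ([(74, [3, 1, 3, 0, 1, 3, 0, 3, 1, 2, 0, 2, 1, 3, 0, 3, 3, 1, 2, 0], 115), (73, [2, 1, 2, 0, 2, 1, 3, 0, 3, 3, 1, 3, 0, 2, 2,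 1, 3, 0, 2], 10), (68, [2, 2, 1, 3, 0, 3, 1, 3, 0], 42)], 143), ([(75, [3, 1, 3, 0, 1, 3, 0, 3, 1, 2, 0, 2, 1, 3, 0, 3, 3, 1, 2, 0], 115), (61, [2, 1, 2, 0, 1, 2, 0, 2, 1, 3, 0, 3, 1, 3, 0, 1, 3, 0], 157), (99, [3, 1, 2, 0, 3, 1, 3, 0], 8004)], 165), ([(72, [3, 1, 3, 0, 2, 2, 1, 3, 0, 2, 2, 2, 1, 2, 0, 1, 2, 0, 2, 1, 2, 0, 2], 131), (72, [1, 2, 0, 2, 2, 1, 3, 0, 2, 1, 2, 0, 2, 1, 3, 0, 2, 2, 1, 2, 0], 169), (64, [3, 1, 2, 0, 2, 1, 2, 0, 1, 2, 0, 2, 1, 3, 0, 3, 1, 2, 0, 3], 154)], 205), ([(72, [1, 2, 0, 3, 1, 3, 0, 3, 1, 2, 0, 2, 1, 3, 0, 2, 2, 1, 3, 0], 33), (54, [1, 2, 0, 3, 1, 3, 0, 3, 1, 2, 0, 2, 1, 2, 0, 1, 2, 0, 3, 3, 1, 2, 0, 1, 2, 0], 220), (81, [2, 1, 2, 0, 3, 1, 3, 0, 1,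 3, 0], 135)], 0), ([(70, [1, 3, 0, 2, 1, 2, 0, 1, 2, 0, 2, 1, 3, 0, 3, 1, 2, 0, 1, 2, 0], 114), (54, [2, 2, 1, 2, 0, 3, 1, 3, 0, 3, 3, 1, 3, 0, 2, 1, 2, 0, 2, 1, 3, 0, 3], 93), (86, [2, 1, 3, 0, 3, 1, 2, 0, 1, 2, 0, 2, 1, 3, 0, 3], 113)], 76), ([(55, [2, 2, 1, 3, 0, 3, 3, 1, 2, 0, 3, 1, 3, 0, 3, 3, 1, 3, 0], 166), (94, [2, 1, 3, 0, 3, 1, 2, 0, 2, 1, 2, 0, 2, 2, 1, 3, 0], 338), (44, [1, 3, 0, 2, 2, 2, 1, 3, 0, 1, 3, 0, 3, 1, 2, 0, 1, 2, 0, 3, 1, 3, 0], 1159)], 63), ([(54, [2, 2, 1, 3, 0, 3, 3, 1, 2, 0, 3, 1, 3, 0, 3, 3, 1, 3, 0], 166), (91, [1, 3, 0, 3, 3, 1, 2, 0, 3, 1, 3, 0, 3, 3, 1, 2, 0, 1, 2, 0, 1, 2, 0, 2], 390), (97, [2, 1, 2, 0, 3, 1, 3, 0, 1, 3, 0], 67)], 0), ([(73, [3, 1,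 3, 0, 1, 3, 0, 3, 1, 2, 0, 2, 1, 3, 0, 3, 3, 1, 2, 0], 107), (72, [1, 3, 0, 3, 1, 2, 0, 3, 3, 1, 2, 0, 1, 2, 0, 1, 2, 0, 2, 2], 98), (69, [3, 1, 2, 0, 3, 1, 3, 0], 217)], 94), ([(72, [3, 1, 3, 0, 1, 3, 0, 3, 1, 2, 0, 2, 1, 3, 0, 3, 3, 1, 2, 0], 107), (75, [1, 3, 0, 1, 3, 0, 3, 1, 2, 0, 2, 1, 3, 0, 2, 2, 1, 2, 0, 3], 89), (62, [1, 2, 0, 1, 2, 0, 3, 1, 3, 0, 1, 3, 0], 151)], 146), ([(59, [1, 2, 0, 2, 1, 2, 0, 1, 2, 0, 3, 3, 1, 3, 0, 3, 3, 1, 3, 0, 1, 3, 0, 2], 107), (55, [3, 1, 2, 0, 1, 2, 0, 2, 2, 1, 2, 0, 1, 2, 0, 2, 2, 1, 3, 0, 3, 1, 2, 0, 2], 175), (93, [1, 3, 0, 2, 2, 2, 1, 3, 0, 1, 3, 0, 3, 1, 2, 0, 1, 2, 0, 3, 1, 3, 0], 265)], 182), ([(60, [1, 2, 0, 2, 1, 2, 0, 1, 2, 0, 3, 3,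 1, 3, 0, 3, 3, 1, 3, 0, 1, 3, 0, 2], 107), (90, [1, 2, 0, 2, 2, 1, 2, 0, 3, 1, 3, 0, 3, 1, 2, 0, 2, 2, 1, 2, 0, 3], 444), (70, [1, 2, 0, 3, 1, 3, 0, 1, 3, 0, 2, 1, 2, 0, 1, 2, 0, 2, 1, 2, 0], 78)], 146), ([(69, [2, 2, 1, 2, 0, 1, 2, 0, 2, 1, 3, 0, 3, 1, 3, 0, 2], 135), (73, [2, 1, 2, 0, 3, 1, 3, 0, 1, 3, 0], 68), (72, [2, 1, 2, 0, 1, 2, 0, 1, 2, 0, 3, 1, 3, 0, 3, 1, 2, 0, 3, 1, 3, 0], 98)], 40), ([(68, [2, 2, 1, 2, 0, 1, 2, 0, 2, 1, 3, 0, 3, 1, 3, 0, 2], 135), (74, [3, 1, 2, 0, 2, 1, 2, 0, 1, 2, 0, 3, 3, 1, 3, 0], 120), (73, [2, 1, 2, 0, 3, 3, 1, 2, 0, 1, 2, 0, 2, 1, 3, 0, 1, 3, 0, 3, 1, 3, 0, 1, 3, 0], 193)], 34), ([(61, [2, 1, 2, 0, 2, 1, 3, 0, 3, 1, 2, 0, 3, 1, 3, 0, 2, 1, 2, 0],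 81), (99, [2, 1, 3, 0, 2, 2, 2, 1, 2, 0, 1, 2, 0, 1, 2, 0], 14028), (74, [1, 2, 0, 1, 2, 0, 3, 3, 1, 3, 0, 3, 3, 1, 2, 0, 2, 1, 2, 0, 3], 149)], 68), ([(62, [2, 1, 2, 0, 2, 1, 3, 0, 3, 1, 2, 0, 3, 1, 3, 0, 2, 1, 2, 0], 81), (72, [2, 1, 2, 0, 1, 2, 0, 1, 2, 0, 3, 1, 3, 0, 3, 3, 1, 3, 0, 2, 1, 2, 0, 3], 65), (75, [1, 2, 0, 1, 2, 0, 2, 1, 3, 0, 3, 1, 3, 0, 1, 3, 0, 2, 2, 2, 1, 3, 0, 3, 1, 3, 0, 2], 89)], 68), ([(80, [2, 1, 3, 0, 3, 1, 3, 0, 1, 3, 0, 2, 1, 2, 0, 1, 2, 0, 2, 1, 3, 0, 3, 1, 3, 0], 219), (17, [2, 2, 1, 2, 0, 3, 1, 3, 0, 3], 3376), (11, [2, 1, 2, 0, 3, 1, 3, 0, 1, 3, 0], 46779)], 0), ([(81, [2, 1, 3, 0, 3, 1, 3, 0, 1, 3, 0, 2, 1, 2, 0, 1, 2, 0, 2, 1, 3, 0, 3, 1, 3, 0], 234),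 (65, [2, 2, 2, 1, 2, 0, 2, 1, 3, 0, 3, 1, 3, 0, 2], 76), (78, [2, 1, 3, 0, 3, 1, 2, 0, 3, 1, 3, 0, 1, 3, 0], 147)], 49), ([(84, [2, 1, 2, 0, 2, 2, 2, 1, 3, 0, 1, 3, 0, 2], 178), (57, [2, 2, 1, 2, 0], 226), (79, [2], 322)], 230), ([(85, [2, 1, 2, 0, 2, 2, 2, 1, 3, 0, 1, 3, 0, 2], 178), (83, [1, 2, 0, 1, 2, 0, 2, 1, 3, 0, 3, 1, 2, 0, 1, 2, 0, 1, 2, 0, 2, 1, 3, 0, 3], 5), (76, [2, 2, 1, 2, 0], 432)], 9), ([(89, [2, 1, 2, 0, 3, 3, 1, 2, 0, 2, 2, 1, 2, 0, 2, 2, 2, 1, 2, 0], 176), (72, [2, 1, 2, 0, 2, 2, 1, 2, 0, 3, 1, 3, 0, 2, 1, 2, 0, 1, 2, 0, 3, 3, 1, 3, 0, 2], 71), (63, [2, 1, 2, 0, 3, 1, 3, 0, 1, 3, 0], 206)], 462), ([(88, [1, 2, 0, 3, 1, 3, 0, 3, 1, 2, 0, 2, 1, 2, 0, 1, 2, 0, 3, 3,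 1, 2, 0, 1, 2, 0], 246), (80, [3, 3, 1, 2, 0, 3, 3, 1, 2, 0, 1, 2, 0, 2], 180), (24, [2, 1, 2, 0, 3, 1, 3, 0, 1, 3, 0], 4907)], 300), ([(88, [1, 2, 0, 3, 1, 3, 0, 2, 2, 2, 1, 3, 0, 2, 1, 2, 0, 3], 142), (88, [2, 1, 3, 0, 1, 3, 0, 2, 1, 2, 0, 1, 2, 0, 2, 1, 3, 0, 3, 1, 2, 0, 1, 2, 0, 2, 1, 2, 0, 2], 428), (83, [2, 1, 3, 0, 3, 1, 3, 0, 2, 1, 2, 0, 1, 2, 0, 2, 1, 2, 0], 303)], 449), ([(89, [2, 1, 3, 0, 3, 1, 3, 0, 2, 2, 1, 2, 0, 2, 1, 3, 0], 323), (67, [1, 3, 0, 1, 3, 0, 3, 1, 2, 0, 1, 2, 0, 2], 111), (40, [2, 1, 2, 0, 3, 1, 3, 0, 1, 3, 0], 805)], 0), ([(91, [1, 2, 0, 2, 1, 3, 0, 3, 1, 2, 0, 2, 1, 2, 0, 3, 1, 3, 0, 2, 1, 2, 0, 2, 2], 199), (95, [1, 3, 0, 2, 2, 1, 3, 0, 2, 1, 2, 0, 1,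 2, 0, 3], 536), (85, [2, 2, 2, 1, 2, 0, 1, 2, 0, 2, 1, 3, 0, 1, 3, 0, 2, 1, 2, 0], 220)], 86), ([(90, [1, 2, 0, 2, 1, 3, 0, 3, 1, 2, 0, 2, 1, 2, 0, 3, 1, 3, 0, 2, 1, 2, 0, 2, 2], 199), (74, [2, 1, 3, 0, 3, 1, 2, 0, 2, 1, 2, 0, 1, 2, 0, 3, 3], 82), (57, [2, 1, 3, 0, 3, 3, 1, 3, 0, 2, 2, 1, 3, 0, 1, 3, 0], 7)], 286), ([(91, [2, 1, 3, 0, 2, 2, 1, 2, 0, 2, 2, 1, 3, 0, 3, 3, 1, 3, 0], 136), (94, [3, 1, 2, 0, 2, 1, 2, 0, 2, 2], 245), (42, [2, 1, 3, 0, 2, 1, 2, 0, 2, 2, 2, 1, 3, 0, 2], 896)], 403), ([(90, [2, 2, 1, 3, 0, 2, 2, 1, 2, 0, 3, 3, 1, 3, 0, 2, 1, 2, 0, 2], 84), (74, [2, 1, 3, 0, 1, 3, 0, 3, 1, 2, 0, 1, 2, 0, 2, 2, 1, 3, 0, 2, 1, 2, 0, 3, 1, 3, 0], 65), (65, [2, 2, 1, 3, 0, 3, 1,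 2, 0, 2, 2, 1, 3, 0], 167)], 7), ([(91, [3, 1, 2, 0, 2, 2, 1, 3, 0, 1, 3, 0, 3, 3, 1, 3, 0, 2], 383), (97, [2, 2, 1, 3, 0, 3, 3, 1, 2, 0, 3, 1, 3, 0, 3, 3, 1, 3, 0], 473), (54, [2, 1, 2, 0, 3, 1, 3, 0, 1, 3, 0], 139)], 26), ([(90, [3, 1, 2, 0, 2, 2, 1, 3, 0, 1, 3, 0, 3, 3, 1, 3, 0, 2], 383), (54, [1, 2, 0, 3, 1, 3, 0, 1, 3, 0, 2, 1, 2, 0, 1, 2, 0, 2, 2, 1, 2, 0, 2], 235), (88, [3, 3, 1, 2, 0, 2, 2, 2, 1, 2, 0, 1, 2, 0, 3], 488)], 238), ([(91, [1, 2, 0, 2, 2, 1, 2, 0, 2, 1, 3, 0, 2, 1, 2, 0, 2, 2], 386), (98, [2, 2, 1, 2, 0, 2, 1, 2, 0, 1, 2, 0, 3, 1, 3, 0, 1, 3, 0, 3, 1, 2, 0], 35), (95, [3, 1, 3, 0, 2, 1, 2, 0, 2, 2, 1, 2, 0, 1, 2, 0, 3], 402)], 49), ([(90, [1, 2, 0, 2, 2, 1, 2,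 0, 2, 1, 3, 0, 2, 1, 2, 0, 2, 2], 386), (59, [1, 2, 0, 2, 2, 1, 2, 0, 1, 2, 0, 2, 1, 2, 0, 3, 1, 3, 0, 2, 1, 2, 0], 39), (60, [2, 1, 2, 0, 3, 1, 3, 0, 1, 3, 0], 115)], 0), ([(93, [1, 2, 0, 2, 1, 3, 0, 3, 1, 2, 0, 2, 1, 2, 0, 3, 3, 1, 3, 0, 2], 302), (59, [3, 1, 2, 0, 3, 3, 1, 3, 0, 2, 1, 2, 0, 2, 1, 2, 0, 1, 2, 0, 3], 40), (55, [3, 3, 1, 2, 0, 2, 2, 2, 1, 2, 0, 1, 2, 0, 3], 172)], 297), ([(95, [2, 1, 3, 0, 3, 3, 1, 2, 0, 1, 2, 0, 2, 1, 3, 0, 2, 2, 1, 3, 0], 150), (87, [2, 1, 2, 0, 3, 3, 1, 3, 0, 3, 1, 2, 0, 3, 3, 1, 2, 0], 60), (45, [2, 1, 2, 0, 3, 1, 3, 0, 1, 3, 0], 941)], 0), ([(93, [2, 1, 3, 0, 3, 3, 1, 2, 0, 1, 2, 0, 3, 1, 3, 0, 1, 3, 0, 2], 460), (74, [2, 2, 1, 2, 0, 1, 2, 0,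 2, 2, 1, 3, 0, 2, 2, 1, 3, 0], 168), (71, [2, 1, 3, 0, 3, 1, 2, 0, 2, 1, 3, 0, 2, 1, 2, 0, 3, 1, 3, 0, 1, 3, 0], 223)], 411), ([(95, [2, 2, 1, 2, 0, 2, 2, 2, 1, 3, 0, 1, 3, 0, 2, 2], 545), (85, [2, 1, 3, 0, 3, 1, 2, 0, 2, 2, 1, 2, 0, 2, 1, 2, 0, 1, 2, 0, 1, 2, 0], 118), (91, [1, 2, 0, 2, 2, 1, 2, 0, 2, 1, 2, 0, 1, 2, 0, 2, 1, 3, 0], 81)], 297), ([(95, [1, 2, 0, 2, 1, 2, 0, 2, 2, 2, 1, 2, 0, 2, 1, 3, 0, 1, 3, 0, 3], 531), (89, [2, 2, 1, 3, 0, 3, 3, 1, 2, 0, 3, 1, 3, 0, 3, 3, 1, 3, 0], 258), (66, [2, 1, 2, 0, 3, 1, 3, 0, 1, 3, 0], 139)], 522), ([(95, [2, 2, 1, 3, 0, 3, 3, 1, 2, 0, 3, 1, 3, 0, 1, 3, 0, 3], 431), (91, [2, 1, 3, 0, 3, 1, 2, 0, 1, 2, 0, 1, 2, 0, 2, 1, 2, 0, 1, 2, 0, 3,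 1, 3, 0, 2, 1, 2, 0], 273), (96, [1, 2, 0, 3, 1, 3, 0, 1, 3, 0, 2, 1, 2, 0, 1, 2, 0, 2, 1, 2, 0], 432)], 517), ([(98, [1, 3, 0, 1, 3, 0, 2, 1, 2, 0, 3, 1, 3, 0, 3], 103), (96, [2, 1, 3, 0, 3, 1, 2, 0, 3, 1, 3, 0, 2, 1, 2, 0, 3, 1, 3, 0, 3], 190), (98, [1, 2, 0, 1, 2, 0, 2, 2, 2, 1, 3, 0, 3, 1, 2, 0, 3, 3], 231)], 457), ([(99, [2, 1, 2, 0, 1, 2, 0, 2, 1, 3, 0, 3, 1, 3, 0, 1, 3, 0], 23514), (74, [1, 2, 0, 2, 2, 1, 2, 0, 3, 1, 3, 0, 2, 2, 1, 2, 0, 3, 3, 1, 2, 0], 110), (61, [3, 1, 2, 0, 3, 1, 3, 0], 62)], 2611), ([(99, [1, 2, 0, 1, 2, 0, 1, 2, 0, 2, 1, 2, 0, 2, 2, 2], 25139), (61, [1, 2, 0, 1, 2, 0, 1, 2, 0, 2, 1, 2, 0, 2, 2, 2], 239), (100, [2, 1, 2, 0, 3, 1, 3, 0, 1, 3, 0], 12623)],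 26170)],
[([(0, [], 0), (5, [], 0), (2, [], 24400)], 0), ([(5, [], 5242), (2, [], 24400), (0, [], 0)], 31563), ([(6, [], 5242), (14, [], 2300), (3, [], 24400)], 31563), ([(7, [], 4232), (26, [], 9832), (4, [], 24400)], 26586), ([(8, [], 4232), (12, [], 2300), (1, [], 24400)], 26586), ([(9, [2, 1, 3, 0, 2], 85983), (19, [1, 2, 0, 1, 2, 0, 2, 1, 2, 0, 3, 3, 1, 3, 0, 3], 2952), (12, [1, 2, 0, 1, 2, 0], 3172)], 9979), ([(9, [2, 2, 2, 1, 3, 0, 2, 1, 2, 0, 3, 1, 3, 0, 2], 23273), (17, [2, 1, 3, 0, 2], 4086), (5, [1, 2, 0, 1, 2, 0], 6342)], 9979), ([(10, [2, 1, 3, 0, 2], 14899), (34, [2, 1, 3, 0, 2], 786), (14, [1, 2, 0, 1, 2, 0], 3403)], 9979), ([(10, [2, 2, 2, 1, 3, 0, 2, 1, 2, 0, 3, 1,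 3, 0, 2], 47121), (36, [2, 1, 3, 0, 2], 786), (26, [1, 2, 0, 1, 2, 0], 40994)], 9979), ([(5, [1, 3, 0, 1, 3, 0], 59447), (9, [2, 2, 1, 2, 0, 2, 1, 3, 0, 3, 1, 3, 0, 2], 54755), (17, [2, 1, 3, 0, 3], 3225)], 76758), ([(7, [1, 3, 0, 1, 3, 0], 53005), (28, [1, 2, 0, 3, 1, 3, 0], 37468), (31, [2, 1, 3, 0, 3], 928)], 91616), ([(9, [2, 1, 2, 0, 3, 1, 3, 0, 2, 1, 2, 0, 2, 2], 71370), (24, [2, 1, 3, 0, 1, 3, 0, 2, 2, 1, 3, 0, 1, 3, 0, 3, 1, 2, 0, 2], 3123), (77, [1, 3, 0, 1, 3, 0, 2], 378)], 93520), ([(18, [2, 1, 3, 0, 2], 4008), (50, [2, 1, 3, 0, 2], 146), (27, [1, 2, 0, 1, 2, 0], 44486)], 2744), ([(19, [2, 1, 3, 0, 2], 4008), (17, [2, 2, 2, 1, 3, 0, 2, 1, 2, 0, 3, 1, 3, 0, 2], 1936), (6,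 [1, 2, 0, 1, 2, 0], 99326)], 2744), ([(20, [2, 1, 3, 0, 2], 2784), (49, [2, 1, 3, 0, 2], 14), (15, [1, 2, 0, 1, 2, 0], 3403)], 2744), ([(21, [2, 1, 3, 0, 2], 2784), (31, [2, 2, 2, 1, 3, 0, 2, 1, 2, 0, 3, 1, 3, 0, 2], 843), (8, [1, 2, 0, 1, 2, 0], 96871)], 2744), ([(19, [1, 2, 0, 3, 1, 3, 0], 2591), (12, [1, 3, 0, 1, 3, 0], 3442), (9, [2, 1, 3, 0, 3], 125819)], 4333), ([(16, [2, 2, 1, 2, 0, 2, 1, 3, 0, 3, 1, 3, 0, 2], 3388), (39, [1, 2, 0, 3, 1, 3, 0], 134), (33, [2, 1, 3, 0, 3], 940)], 3292), ([(21, [1, 3, 0, 1, 3, 0, 3, 3, 1, 3, 0, 2, 2], 1651), (34, [2, 1, 3, 0, 2, 1, 2, 0, 1, 2, 0], 143), (19, [1, 3, 0, 1, 3, 0, 3, 3, 1, 3, 0, 2, 2], 2017)], 4270), ([(20, [1, 3, 0, 1, 3, 0, 3,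 3, 1, 3, 0, 2, 2], 1651), (62, [2, 1, 2, 0, 2, 1, 2, 0, 1, 2, 0, 2, 1, 3, 0, 3], 65), (47, [2, 1, 3, 0, 2, 1, 2, 0, 1, 2, 0], 120)], 2983), ([(19, [1, 3, 0, 1, 3, 0, 3, 3, 1, 3, 0, 2, 2], 2017), (21, [1, 3, 0, 1, 3, 0, 3, 3, 1, 3, 0, 2, 2], 701), (34, [2, 1, 3, 0, 2, 1, 2, 0, 1, 2, 0], 143)], 2983), ([(18, [1, 3, 0, 1, 3, 0, 3, 3, 1, 3, 0, 2, 2], 2017), (68, [2, 1, 2, 0, 2, 1, 2, 0, 1, 2, 0, 2, 1, 3, 0, 3], 96), (49, [2, 1, 3, 0, 2, 1, 2, 0, 1, 2, 0], 139)], 2983), ([(21, [3, 3, 1, 3, 0, 1, 3, 0, 3], 3757), (30, [2, 1, 2, 0, 1, 2, 0, 2], 484), (23, [1, 2, 0, 2, 1, 3, 0, 3, 1, 3, 0, 1, 3, 0, 3, 1, 3, 0], 847)], 1836), ([(20, [3, 3, 1, 3, 0, 1, 3, 0, 3], 3757), (53, [2, 1, 2, 0, 1,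 2, 0, 2], 115), (30, [2, 2, 1, 3, 0, 3, 3, 1, 3, 0, 3, 1, 2, 0], 916)], 2770), ([(24, [1, 2, 0, 2, 2, 1, 3, 0, 1, 3, 0, 3, 3, 1, 2, 0, 3], 627), (88, [2, 1, 2, 0, 2, 2, 2, 1, 3, 0, 2, 1, 2, 0, 2, 1, 2, 0], 266), (80, [1, 2, 0, 3, 3, 1, 3, 0, 3, 3, 1, 3, 0, 2, 2, 1, 2, 0, 1, 2, 0, 2], 248)], 1281), ([(20, [2, 2, 1, 3, 0, 3, 1, 2, 0, 2, 1, 2, 0, 3, 3], 2977), (59, [2, 1, 3, 0, 3, 1, 2, 0, 2, 2, 2, 1, 3, 0, 2, 2, 1, 2, 0, 1, 2, 0], 174), (58, [2, 1, 3, 0, 2, 1, 2, 0, 1, 2, 0], 177)], 4816), ([(28, [2, 1, 3, 0, 2], 46897), (31, [2, 1, 3, 0, 2], 569), (7, [1, 2, 0, 1, 2, 0], 110311)], 41609), ([(29, [2, 1, 3, 0, 2], 41688), (47, [2, 1, 3, 0, 2], 146), (13, [1, 2, 0, 1, 2, 0], 2677)], 41609),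 ([(28, [2, 1, 3, 0, 2, 1, 2, 0, 1, 2, 0], 62514), (39, [2, 1, 3, 0, 2, 1, 2, 0, 1, 2, 0], 1138), (36, [2, 1, 3, 0, 2, 1, 2, 0, 1, 2, 0], 1232)], 42686), ([(29, [2, 1, 3, 0, 2, 1, 2, 0, 1, 2, 0], 73368), (69, [1, 3, 0, 3, 1, 3, 0, 1, 3, 0, 3, 1, 2, 0, 2], 22), (50, [2, 1, 3, 0, 2, 1, 2, 0, 1, 2, 0], 194)], 42686), ([(34, [2, 1, 2, 0, 2, 2, 2, 1, 2, 0, 1, 2, 0, 3], 984), (14, [1, 3, 0, 1, 3, 0], 2685), (10, [2, 1, 3, 0, 3], 103041)], 960), ([(35, [1, 2, 0, 3, 1, 3, 0], 641), (49, [1, 2, 0, 3, 1, 3, 0], 48), (22, [2, 1, 3, 0, 3, 1, 3, 0, 1, 3, 0], 3754)], 845), ([(37, [2, 1, 2, 0, 2, 2, 2, 1, 2, 0, 1, 2, 0, 3], 995), (47, [1, 2, 0, 3, 1, 3, 0], 26), (16, [2, 1, 3, 0, 3], 4415)], 1354),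 ([(38, [1, 2, 0, 3, 1, 3, 0], 431), (46, [2, 1, 2, 0, 2, 2, 2, 1, 2, 0, 1, 2, 0, 3], 104), (32, [2, 1, 3, 0, 3], 732)], 876), ([(34, [2, 1, 3, 0, 2, 1, 2, 0, 1, 2, 0], 1132), (19, [1, 3, 0, 1, 3, 0, 3, 3, 1, 3, 0, 2, 2], 2017), (21, [1, 3, 0, 1, 3, 0, 3, 3, 1, 3, 0, 2, 2], 701)], 453), ([(39, [2, 1, 3, 0, 2, 1, 2, 0, 1, 2, 0], 341), (36, [2, 1, 3, 0, 2, 1, 2, 0, 1, 2, 0], 1232), (28, [2, 1, 3, 0, 2, 1, 2, 0, 1, 2, 0], 62514)], 569), ([(38, [2, 1, 3, 0, 2, 1, 2, 0, 1, 2, 0], 341), (68, [1, 3, 0, 3, 1, 3, 0, 1, 3, 0, 3, 1, 2, 0, 2], 22), (53, [2, 1, 3, 0, 2, 1, 2, 0, 1, 2, 0], 30)], 786), ([(37, [1, 3, 0, 1, 3, 0, 3, 3, 1, 3, 0, 2, 2], 80), (69, [1, 2, 0, 1, 2, 0, 2, 1, 2, 0, 2, 1,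 3, 0, 3, 1, 2, 0, 2], 139), (46, [2, 1, 3, 0, 2, 1, 2, 0, 1, 2, 0], 118)], 786), ([(36, [2, 1, 3, 0, 2, 1, 2, 0, 1, 2, 0], 136), (28, [2, 1, 3, 0, 2, 1, 2, 0, 1, 2, 0], 62514), (39, [2, 1, 3, 0, 2, 1, 2, 0, 1, 2, 0], 1138)], 668), ([(35, [2, 1, 3, 0, 2, 1, 2, 0, 1, 2, 0], 136), (62, [1, 2, 0, 1, 2, 0, 2, 1, 2, 0, 2, 1, 3, 0, 3, 1, 2, 0, 2], 127), (51, [2, 1, 3, 0, 2, 1, 2, 0, 1, 2, 0], 40)], 786), ([(44, [2, 1, 2, 0, 2, 1, 3, 0, 3, 1, 3, 0, 2, 1, 2, 0, 1, 2, 0, 2], 747), (73, [1, 2, 0, 3, 3, 1, 3, 0, 3, 3, 1, 3, 0, 3, 1, 2, 0, 3, 3], 56), (56, [2, 1, 3, 0, 2, 1, 2, 0, 1, 2, 0], 94)], 1341), ([(44, [1, 2, 0, 2, 1, 2, 0, 1, 2, 0, 1, 2, 0, 3, 1, 3, 0, 3, 3, 1, 3, 0, 1, 3, 0, 2], 366),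 (54, [2, 1, 2, 0, 2, 1, 2, 0, 1, 2, 0, 2, 1, 2, 0, 3, 1, 3, 0, 1, 3, 0, 3], 130), (82, [2, 1, 3, 0, 2, 1, 2, 0, 1, 2, 0], 42)], 786), ([(45, [2, 1, 2, 0, 2, 1, 3, 0, 3, 1, 3, 0, 2, 1, 2, 0, 1, 2, 0, 2], 940), (94, [1, 2, 0, 2, 2, 1, 3, 0, 3], 76), (43, [1, 3, 0, 3, 3, 1, 3, 0, 2, 2, 1, 2, 0, 1, 2, 0, 2, 1, 3, 0], 437)], 294), ([(45, [1, 2, 0, 2, 1, 2, 0, 1, 2, 0, 1, 2, 0, 3, 1, 3, 0, 3, 3, 1, 3, 0, 1, 3, 0, 2], 642), (95, [1, 3, 0, 3, 3, 1, 2, 0, 2, 1, 3, 0, 3, 1, 3, 0, 2, 1, 2, 0, 2], 238), (87, [2, 2, 1, 2, 0, 1, 2, 0, 1, 2, 0, 2, 1, 2, 0, 2, 1, 3, 0, 3, 1, 3, 0], 20)], 975), ([(40, [2, 1, 2, 0, 2, 1, 3, 0, 3, 1, 3, 0, 2, 1, 2, 0, 1, 2, 0, 2], 747), (89, [2, 1, 2, 0, 2, 1, 3, 0,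 3, 3, 1, 2, 0, 3, 3], 321), (67, [2, 1, 3, 0, 3, 1, 3, 0, 1, 3, 0], 130)], 537), ([(42, [2, 1, 2, 0, 2, 1, 3, 0, 3, 1, 3, 0, 2, 1, 2, 0, 1, 2, 0, 2], 940), (91, [2, 2, 1, 2, 0, 2, 1, 2, 0, 3, 1, 3, 0, 2, 2, 2, 1, 2, 0], 319), (94, [2, 1, 3, 0, 2, 1, 2, 0, 1, 2, 0], 244)], 786), ([(68, [1, 2, 0, 1, 2, 0, 2, 1, 2, 0, 2, 1, 3, 0, 3, 1, 2, 0, 2], 121), (49, [1, 3, 0, 1, 3, 0, 3, 3, 1, 3, 0, 2, 2], 102), (18, [2, 1, 3, 0, 2, 1, 2, 0, 1, 2, 0], 1801)], 146), ([(69, [1, 2, 0, 1, 2, 0, 2, 1, 2, 0, 2, 1, 3, 0, 3, 1, 2, 0, 2], 121), (46, [2, 1, 3, 0, 2, 1, 2, 0, 1, 2, 0], 118), (37, [1, 3, 0, 1, 3, 0, 3, 3, 1, 3, 0, 2, 2], 80)], 121), ([(62, [1, 3, 0, 3, 1, 3, 0, 1, 3, 0, 3, 1, 2, 0, 2], 157),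 (47, [1, 3, 0, 1, 3, 0, 3, 3, 1, 3, 0, 2, 2], 99), (20, [2, 1, 3, 0, 2, 1, 2, 0, 1, 2, 0], 1830)], 146), ([(61, [1, 3, 0, 3, 1, 3, 0, 1, 3, 0, 3, 1, 2, 0, 2], 157), (99, [2, 1, 2, 0, 2, 1, 2, 0, 1, 2, 0, 2, 1, 3, 0, 3], 13676), (48, [1, 3, 0, 1, 3, 0, 3, 3, 1, 3, 0, 2, 2], 95)], 138), ([(68, [1, 3, 0, 3, 1, 3, 0, 1, 3, 0, 3, 1, 2, 0, 2], 22), (53, [2, 1, 3, 0, 2, 1, 2, 0, 1, 2, 0], 30), (38, [2, 1, 3, 0, 2, 1, 2, 0, 1, 2, 0], 341)], 146), ([(69, [1, 3, 0, 3, 1, 3, 0, 1, 3, 0, 3, 1, 2, 0, 2], 22), (50, [2, 1, 3, 0, 2, 1, 2, 0, 1, 2, 0], 194), (29, [2, 1, 3, 0, 2, 1, 2, 0, 1, 2, 0], 73368)], 146), ([(62, [1, 2, 0, 1, 2, 0, 2, 1, 2, 0, 2, 1, 3, 0, 3, 1, 2, 0, 2], 42), (51, [2, 1, 3,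 0, 2, 1, 2, 0, 1, 2, 0], 40), (35, [2, 1, 3, 0, 2, 1, 2, 0, 1, 2, 0], 136)], 48), ([(61, [1, 2, 0, 1, 2, 0, 2, 1, 2, 0, 2, 1, 3, 0, 3, 1, 2, 0, 2], 42), (99, [1, 2, 0, 1, 2, 0, 2, 1, 2, 0, 2, 1, 3, 0, 3, 1, 2, 0, 2], 9678), (52, [2, 1, 3, 0, 2, 1, 2, 0, 1, 2, 0], 30)], 146), ([(66, [2, 1, 2, 0, 2, 1, 3, 0, 3, 1, 3, 0, 2, 1, 2, 0, 1, 2, 0, 2], 127), (96, [2, 2, 1, 2, 0, 2, 1, 3, 0], 392), (92, [2, 1, 3, 0, 2, 1, 2, 0, 1, 2, 0], 137)], 146), ([(67, [2, 1, 2, 0, 2, 1, 3, 0, 3, 1, 3, 0, 2, 1, 2, 0, 1, 2, 0, 2], 127), (40, [2, 1, 3, 0, 1, 3, 0, 2, 2, 2, 1, 3, 0, 2, 1, 2, 0, 1, 2, 0], 479), (89, [2, 1, 3, 0, 2, 1, 2, 0, 1, 2, 0], 269)], 146), ([(73, [1, 2, 0, 3, 1, 3, 0, 2, 2, 1, 2, 0,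 3, 1, 3, 0, 3, 3, 1, 2, 0, 2, 2], 230), (67, [2, 1, 3, 0, 3, 1, 2, 0, 2, 2, 2, 1, 3, 0, 3], 71), (41, [1, 3, 0, 3, 3, 1, 3, 0, 2, 2, 1, 2, 0, 1, 2, 0, 2, 1, 3, 0], 1011)], 28), ([(67, [3, 3, 1, 3, 0, 2, 2, 2, 1, 2, 0], 29), (34, [2, 2, 1, 3, 0, 3, 1, 2, 0, 2, 1, 2, 0, 3, 3], 905), (25, [2, 1, 3, 0, 2, 1, 2, 0, 1, 2, 0], 2949)], 184), ([(60, [1, 3, 0, 1, 3, 0, 3, 3, 1, 2, 0, 3, 1, 3, 0, 2, 1, 2, 0, 1, 2, 0, 3, 1, 3, 0], 221), (85, [1, 2, 0, 2, 1, 2, 0, 1, 2, 0, 2, 1, 2, 0, 3, 3], 218), (84, [2, 2, 2, 1, 2, 0, 2, 1, 2, 0, 1, 2, 0, 2, 1, 2, 0], 363)], 35), ([(60, [2, 1, 2, 0, 2, 1, 3, 0, 3, 1, 3, 0, 2, 1, 2, 0, 1, 2, 0, 2], 15), (88, [1, 3, 0, 3, 1, 2, 0, 3, 1, 3, 0, 1, 3, 0, 2, 2, 1,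 2, 0, 3], 263), (90, [2, 1, 3, 0, 2, 1, 2, 0, 1, 2, 0], 361)], 146), ([(59, [2, 1, 2, 0, 2, 1, 3, 0, 3, 1, 3, 0, 2, 1, 2, 0, 1, 2, 0, 2], 15), (59, [2, 2, 1, 2, 0, 3, 3, 1, 2, 0, 1, 2, 0, 2, 2, 1, 2, 0, 3], 65), (59, [1, 3, 0, 3, 1, 3, 0, 2, 1, 2, 0, 2, 1, 3, 0, 1, 3, 0, 3, 1, 2, 0], 63)], 208), ([(75, [2, 2, 1, 2, 0, 2, 2, 2, 1, 3, 0, 3, 3, 1, 2, 0, 1, 2, 0, 3], 179), (72, [1, 2, 0, 2, 1, 2, 0, 3, 1, 3, 0, 1, 3, 0, 3, 1, 3, 0, 2, 2, 1, 2, 0, 3, 3], 31), (68, [1, 2, 0, 1, 2, 0, 1, 2, 0], 44)], 146), ([(74, [2, 2, 1, 2, 0, 2, 2, 2, 1, 3, 0, 3, 3, 1, 2, 0, 1, 2, 0, 3], 179), (61, [2, 2, 2], 61), (99, [2, 1, 3, 0, 2, 1, 2, 0, 1, 2, 0], 12594)], 146), ([(73, [2, 2, 1, 3, 0, 3, 3, 1, 2,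 0, 2, 2, 1, 2, 0, 3, 1, 3, 0, 3], 157), (73, [3, 1, 3, 0, 3, 3, 1, 2, 0, 1, 2, 0, 1, 2, 0, 2, 1, 2, 0, 3, 3, 1, 3, 0], 158), (64, [1, 2, 0, 1, 2, 0, 3, 1, 3, 0, 1, 3, 0, 2, 2, 1, 2, 0, 2], 142)], 194), ([(73, [2, 1, 3, 0, 2, 2, 2, 1, 3, 0, 2, 1, 2, 0, 2, 1, 3, 0, 1, 3, 0], 188), (54, [1, 2, 0, 1, 2, 0, 3, 1, 3, 0, 1, 3, 0, 2, 2, 2, 1, 2, 0, 2, 1, 3, 0, 3], 44), (81, [2, 1, 3, 0, 2, 1, 2, 0, 1, 2, 0], 171)], 146), ([(71, [1, 3, 0, 3, 3, 1, 3, 0, 3, 1, 2, 0, 2, 1, 3, 0, 3], 177), (95, [2, 1, 2, 0, 2, 1, 2, 0, 1, 2, 0, 1, 2, 0, 2, 2, 1, 3, 0, 2, 2, 1, 3, 0, 3, 1, 3, 0, 2], 421), (86, [1, 3, 0, 3, 3, 1, 2, 0, 2, 1, 2, 0, 3, 1, 3, 0, 2, 1, 2, 0, 2], 37)], 63), ([(54, [2, 1, 2, 0, 2, 1,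 3, 0, 3, 1, 3, 0, 2, 1, 2, 0, 1, 2, 0, 2], 127), (82, [1, 2, 0, 2, 1, 2, 0, 3, 1, 3, 0, 1, 3, 0, 2, 2], 117), (44, [1, 2, 0, 2, 2, 1, 2, 0, 2, 1, 3, 0, 3, 1, 2, 0, 3], 585)], 177), ([(55, [2, 1, 2, 0, 2, 1, 3, 0, 3, 1, 3, 0, 2, 1, 2, 0, 1, 2, 0, 2], 127), (96, [2, 1, 3, 0, 3, 1, 2, 0, 1, 2, 0, 1, 2, 0, 2, 1, 2, 0, 1, 2, 0, 1, 2, 0, 3], 583), (97, [2, 1, 3, 0, 2, 1, 2, 0, 1, 2, 0], 423)], 146), ([(72, [3, 1, 2, 0, 2, 1, 3, 0, 3, 3, 1, 3, 0, 2, 1, 2, 0, 3], 171), (73, [2, 1, 2, 0, 2, 2, 1, 2, 0, 2, 1, 3, 0, 2, 2, 2, 1, 2, 0, 2], 60), (69, [2, 1, 3, 0, 2, 1, 2, 0, 1, 2, 0], 39)], 110), ([(73, [3, 1, 2, 0, 2, 1, 3, 0, 3, 3, 1, 3, 0, 2, 1, 2, 0, 3], 171), (74, [2, 2, 1, 2, 0, 3, 1, 3,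 0, 2, 1, 2, 0, 2], 60), (62, [2, 1, 2, 0, 1, 2, 0], 123)], 146), ([(60, [2, 1, 3, 0, 1, 3, 0, 3, 3, 1, 2, 0, 3, 1, 3, 0, 3, 3, 1, 3, 0], 97), (91, [2, 2, 1, 2, 0, 1, 2, 0, 2, 1, 3, 0, 1, 3, 0, 3, 3, 1, 2, 0], 348), (93, [1, 2, 0, 2, 2, 1, 2, 0, 2, 1, 3, 0, 3, 1, 2, 0, 3], 352)], 56), ([(59, [2, 1, 3, 0, 1, 3, 0, 3, 3, 1, 2, 0, 3, 1, 3, 0, 3, 3, 1, 3, 0], 97), (74, [3, 1, 2, 0, 3, 1, 3, 0, 3, 3, 1, 3, 0, 3, 3, 1, 2, 0, 2, 1, 2, 0], 203), (70, [2, 2, 1, 3, 0, 2, 1, 2, 0, 1, 2, 0, 3, 1, 3, 0, 1, 3, 0, 3, 1, 3, 0], 21)], 146), ([(56, [2, 2, 1, 2, 0, 3, 3, 1, 2, 0, 2, 2, 1, 3, 0, 1, 3, 0], 189), (44, [2, 2, 1, 2, 0, 2, 2, 2, 1, 3, 0, 2, 2, 2], 247), (72, [1, 2, 0, 2, 2, 2, 1, 3, 0, 2,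 1, 2, 0, 3, 1, 3, 0, 3], 239)], 40), ([(56, [1, 2, 0, 3, 3, 1, 2, 0, 2, 1, 3, 0, 2, 2, 1, 2, 0], 19), (44, [1, 3, 0, 1, 3, 0, 3, 1, 3, 0, 2, 1, 2, 0, 1, 2, 0, 2, 1, 3, 0, 3, 1, 2, 0], 1188), (73, [3, 1, 2, 0, 2, 1, 2, 0, 2, 1, 3, 0, 1, 3, 0, 3, 1, 2, 0, 2], 214)], 34), ([(58, [3, 1, 2, 0, 2, 2, 1, 2, 0, 3, 1, 3, 0, 3, 3, 1, 3, 0], 100), (25, [2, 2, 1, 2, 0, 2, 2, 2, 1, 3, 0, 2, 2, 2], 8), (74, [1, 2, 0, 1, 2, 0, 1, 2, 0, 3, 1, 3, 0, 1, 3, 0, 2, 2, 1, 3, 0, 1, 3, 0, 3], 99)], 159), ([(57, [2, 2, 1, 3, 0, 2, 1, 2, 0, 2, 1, 3, 0, 2, 2, 1, 3, 0, 2], 239), (90, [1, 2, 0, 2, 2, 1, 3, 0, 3, 1, 2, 0, 1, 2, 0, 1, 2, 0, 2, 1, 3, 0, 3, 3], 400), (75, [2, 2, 1, 2, 0, 3, 3, 1, 3, 0, 1, 3, 0, 3,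 1, 3, 0, 1, 3, 0], 68)], 159), ([(80, [2, 1, 3, 0, 1, 3, 0, 2, 2, 1, 3, 0, 1, 3, 0, 3, 1, 2, 0, 2], 222), (17, [2, 1, 2, 0, 3, 1, 3, 0, 2, 1, 2, 0, 2, 2], 3466), (11, [1, 3, 0, 1, 3, 0, 2], 87999)], 139), ([(81, [2, 1, 3, 0, 1, 3, 0, 2, 2, 1, 3, 0, 1, 3, 0, 3, 1, 2, 0, 2], 217), (65, [1, 2, 0, 1, 2, 0, 2, 1, 3, 0, 3, 1, 2, 0, 1, 2, 0, 2, 1, 3, 0], 108), (78, [3, 1, 2, 0, 3, 3, 1, 2, 0], 183)], 188), ([(84, [3, 1, 2, 0, 1, 2, 0, 2, 2, 1, 3, 0, 2, 1, 2, 0, 1, 2, 0, 2], 217), (57, [3, 1, 2, 0, 1, 2, 0, 2, 1, 2, 0, 2], 222), (79, [2, 1, 2, 0, 2, 2, 2, 1, 3, 0, 3], 433)], 164), ([(85, [3, 1, 2, 0, 1, 2, 0, 2, 2, 1, 3, 0, 2, 1, 2, 0, 1, 2, 0, 2], 217), (83, [3, 1, 3, 0, 3, 1, 2, 0, 3, 3,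 1, 3, 0, 2, 1, 2, 0], 59), (76, [1, 2, 0, 3, 1, 3, 0, 3], 308)], 48), ([(89, [2, 1, 2, 0, 3, 3, 1, 3, 0, 3, 1, 2, 0, 2, 2, 1, 3, 0, 2, 1, 2, 0], 163), (73, [1, 3, 0, 2, 1, 2, 0, 2, 2, 1, 3, 0, 1, 3, 0, 3, 1, 2, 0, 1, 2, 0, 1, 2, 0], 117), (63, [2, 1, 3, 0, 2, 1, 2, 0, 1, 2, 0], 218)], 462), ([(88, [1, 2, 0, 1, 2, 0, 3, 1, 3, 0, 1, 3, 0, 2, 2, 2, 1, 2, 0, 2, 1, 3, 0, 3], 122), (80, [1, 3, 0, 3, 1, 2, 0, 3, 1, 3, 0, 1, 3, 0], 26), (24, [2, 1, 3, 0, 2, 1, 2, 0, 1, 2, 0], 4318)], 300), ([(88, [2, 1, 2, 0, 2, 1, 2, 0, 1, 2, 0, 2, 1, 2, 0, 3, 1, 3, 0, 1, 3, 0, 3], 105), (88, [1, 2, 0, 2, 2, 1, 2, 0, 1, 2, 0, 3, 1, 3, 0, 1, 3, 0, 2, 1, 2, 0, 1, 2, 0, 3], 345), (83, [2, 2, 1, 2, 0, 3, 3,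 1, 2, 0, 3, 3, 1, 2, 0], 260)], 259), ([(89, [3, 3, 1, 2, 0, 1, 2, 0, 3, 1, 3, 0, 3, 1, 2, 0, 2, 1, 2, 0, 1, 2, 0], 439), (67, [3, 3, 1, 3, 0, 1, 3, 0], 63), (40, [2, 1, 3, 0, 2, 1, 2, 0, 1, 2, 0], 956)], 49), ([(91, [2, 2, 1, 2, 0, 3, 3, 1, 2, 0, 2, 1, 2, 0, 1, 2, 0, 2, 1, 2, 0, 3], 40), (95, [2, 1, 3, 0, 2, 1, 2, 0, 2, 2, 1, 3, 0, 1, 3, 0, 3, 1, 3, 0, 1, 3, 0, 2], 590), (85, [1, 2, 0, 1, 2, 0, 2, 2, 2, 1, 3, 0, 3, 1, 2, 0, 3], 237)], 212), ([(90, [2, 2, 1, 2, 0, 3, 3, 1, 2, 0, 2, 1, 2, 0, 1, 2, 0, 2, 1, 2, 0, 3], 40), (74, [3, 1, 3, 0, 1, 3, 0, 3, 1, 3, 0, 1, 3, 0, 3, 1, 2, 0, 2, 1, 3, 0], 128), (57, [2, 1, 2, 0, 1, 2, 0, 2, 2, 2, 1, 2, 0, 2], 224)], 427), ([(91, [1, 3, 0, 3, 3,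 1, 2, 0, 2, 1, 2, 0, 1, 2, 0], 52), (94, [1, 2, 0, 1, 2, 0, 1, 2, 0, 2, 2, 2, 1, 3, 0, 2, 2, 2], 318), (42, [2, 1, 2, 0, 2, 1, 2, 0, 3, 1, 3, 0, 1, 3, 0, 2, 1, 2, 0], 980)], 273), ([(90, [2, 1, 2, 0, 2, 1, 3, 0, 3, 1, 2, 0, 3, 1, 3, 0, 1, 3, 0, 3, 3], 99), (75, [2, 1, 3, 0, 3, 1, 2, 0, 3, 1, 3, 0, 2, 1, 2, 0, 1, 2, 0, 3, 1, 3, 0], 81), (65, [2, 2, 1, 2, 0, 1, 2, 0, 3, 3, 1, 3, 0], 79)], 229), ([(82, [1, 3, 0, 2, 2, 1, 3, 0, 2, 1, 2, 0, 1, 2, 0, 2], 33), (44, [1, 2, 0, 1, 2, 0], 458), (54, [2, 1, 3, 0, 2, 1, 2, 0, 1, 2, 0], 122)], 26), ([(83, [2, 1, 3, 0, 1, 3, 0, 2, 2, 2, 1, 3, 0, 2, 1, 2, 0, 1, 2, 0], 464), (88, [2, 1, 2, 0, 2, 2, 2, 1, 3, 0, 3, 3, 1, 3, 0, 2, 2], 349), (88, [1,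 2, 0, 2, 1, 3, 0, 1, 3, 0, 3, 1, 3, 0, 1, 3, 0, 2, 1, 2, 0, 2], 321)], 194), ([(89, [2, 2, 1, 2, 0, 2, 2, 2, 1, 3, 0, 1, 3, 0, 3, 3, 1, 3, 0], 486), (55, [2, 1, 3, 0, 2, 2, 1, 2, 0, 3, 3, 1, 2, 0, 1, 2, 0], 18), (95, [3, 1, 3, 0, 1, 3, 0, 2, 1, 2, 0, 2, 1, 3, 0, 1, 3, 0, 3, 1, 2, 0], 504)], 49), ([(88, [2, 2, 1, 2, 0, 2, 2, 2, 1, 3, 0, 1, 3, 0, 3, 3, 1, 3, 0], 486), (90, [2, 1, 2, 0, 2, 1, 3, 0, 3, 1, 3, 0, 2, 1, 2, 0, 1, 2, 0, 2], 451), (60, [2, 1, 3, 0, 2, 1, 2, 0, 1, 2, 0], 19)], 49), ([(97, [1, 2, 0, 3, 1, 3, 0, 2, 1, 2, 0, 2, 2, 1, 3, 0, 2, 1, 2, 0, 2, 2], 19), (72, [1, 2, 0, 3, 3, 1, 3, 0, 3, 3, 1, 3, 0, 1, 3, 0, 3, 1, 2, 0], 11), (55, [1, 2, 0, 2, 1, 3, 0, 1, 3, 0, 3, 1, 3,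 0, 1, 3, 0, 2, 1, 2, 0, 2], 231)], 379), ([(94, [2, 1, 2, 0, 3, 1, 3, 0, 2, 2, 1, 2, 0, 2, 2, 1, 2, 0], 60), (43, [1, 3, 0, 3, 3, 1, 2, 0, 3, 1, 3, 0, 3, 1, 2, 0, 2, 2], 1046), (45, [2, 1, 3, 0, 2, 1, 2, 0, 1, 2, 0], 272)], 291), ([(95, [2, 1, 3, 0, 3, 1, 3, 0, 2, 1, 2, 0, 2, 1, 3, 0, 2, 2], 233), (90, [3, 1, 2, 0, 3, 1, 3, 0, 3, 1, 2, 0, 2, 1, 2, 0, 1, 2, 0], 348), (71, [2, 1, 3, 0, 3, 1, 3, 0, 1, 3, 0], 111)], 411), ([(93, [1, 2, 0, 2, 1, 3, 0, 1, 3, 0, 3, 1, 2, 0, 1, 2, 0, 1, 2, 0, 2], 253), (60, [1, 3, 0, 3, 1, 2, 0, 3, 1, 3, 0, 1, 3, 0, 3, 1, 3, 0, 2, 2, 1, 2, 0], 213), (91, [3, 3, 1, 3, 0, 3, 1, 2, 0, 3, 1, 3, 0, 1, 3, 0, 2], 414)], 297), ([(96, [2, 1, 3, 0, 2, 2, 2, 1, 2, 0,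 3, 3, 1, 3, 0], 555), (92, [2, 1, 2, 0, 2, 1, 3, 0, 3, 1, 3, 0, 2, 1, 2, 0, 1, 2, 0, 2], 108), (66, [2, 1, 3, 0, 2, 1, 2, 0, 1, 2, 0], 169)], 522), ([(97, [2, 1, 3, 0, 2, 2, 2, 1, 2, 0, 3, 3, 1, 3, 0], 555), (55, [2, 1, 2, 0, 2, 2, 1, 2, 0, 2, 1, 2, 0, 1, 2, 0, 1, 2, 0, 2, 2, 2, 1, 3, 0], 130), (96, [2, 2, 1, 3, 0, 2, 1, 2, 0, 1, 2, 0, 3, 1, 3, 0, 1, 3, 0, 3, 1, 3, 0], 36)], 517), ([(97, [3, 1, 2, 0, 2, 2, 2, 1, 2, 0, 2, 1, 3, 0, 2, 1, 2, 0], 33), (71, [2, 1, 3, 0, 3, 1, 2, 0, 1, 2, 0, 2, 1, 3, 0, 1, 3, 0, 2, 1, 2, 0, 1, 2, 0], 25), (98, [1, 2, 0, 2, 1, 3, 0, 3, 1, 2, 0, 3, 3, 1, 2, 0, 1, 2, 0], 204)], 535), ([(99, [2, 2, 2], 26566), (75, [2, 1, 3, 0, 3, 1, 2, 0, 3, 1, 3, 0, 3, 3,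 1, 2, 0, 1, 2, 0], 87), (61, [2, 1, 3, 0, 2, 1, 2, 0, 1, 2, 0], 95)], 2342), ([(99, [1, 2, 0, 2, 1, 2, 0, 2, 2], 24182), (61, [1, 2, 0, 2, 1, 2, 0, 2, 2], 228), (100, [2, 1, 3, 0, 2, 1, 2, 0, 1, 2, 0], 11268)], 26170)],
[([(0, [], 0), (5, [], 0), (2, [], 24400)], 0), ([(5, [], 112207), (2, [], 24400), (0, [], 0)], 63359), ([(6, [], 112207), (14, [], 2300), (3, [], 24400)], 63359), ([(7, [], 41198), (26, [], 9832), (4, [], 24400)], 22258), ([(8, [], 41198), (12, [], 2300), (1, [], 24400)], 22258), ([(9, [], 94929), (19, [2, 1, 2, 0, 2, 2, 2, 1, 2, 0, 2, 2], 2983), (12, [2], 2648)], 43296), ([(9, [2, 2, 2, 1, 3, 0, 2, 1, 2, 0, 3, 3], 78897), (17, [], 4086), (5, [2], 24400)], 43296),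 ([(10, [], 43296), (34, [], 0), (14, [2], 2983)], 94929), ([(10, [2, 2, 2, 1, 3, 0, 2, 1, 2, 0, 3, 3], 90368), (36, [], 786), (26, [2], 42686)], 94929), ([(11, [1, 3, 0, 3, 1, 3, 0, 1, 3, 0, 2], 1552), (80, [1, 3, 0, 3, 1, 3, 0, 1, 3, 0, 2], 49), (17, [2, 1, 3, 0, 2, 2], 3770)], 38290), ([(11, [1, 2, 0, 1, 2, 0, 3, 1, 3, 0, 3], 3556), (82, [1, 3, 0, 3, 1, 3, 0, 1, 3, 0, 2], 184), (31, [2, 1, 3, 0, 2, 2], 1017)], 93449), ([(10, [2, 2, 2, 1, 2, 0, 2, 2, 1, 2, 0], 28472), (40, [3, 3, 1, 3, 0, 1, 3, 0, 3, 1, 3, 0, 1, 3, 0, 3, 3], 736), (77, [3, 1, 3, 0, 1, 3, 0], 296)], 119085), ([(18, [], 4064), (50, [], 0), (27, [2], 42686)], 3312), ([(19, [], 4064), (17, [2, 2, 2, 1, 3, 0, 2, 1, 2,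 0, 3, 3], 1936), (6, [2], 94337)], 3312), ([(20, [], 3312), (49, [], 14), (15, [2], 2983)], 4064), ([(21, [], 3312), (31, [2, 2, 2, 1, 3, 0, 2, 1, 2, 0, 3, 3], 843), (8, [2], 117107)], 4064), ([(24, [1, 3, 0, 3, 1, 3, 0, 1, 3, 0, 2], 2932), (77, [1, 3, 0, 3, 1, 3, 0, 1, 3, 0, 2], 300), (9, [2, 1, 3, 0, 2, 2], 76758)], 2787), ([(24, [1, 2, 0, 2, 1, 2, 0, 1, 2, 0, 2, 2, 1, 2, 0, 2, 1, 3, 0, 3, 1, 3, 0], 513), (87, [1, 2, 0, 2, 1, 2, 0, 1, 2, 0, 2, 1, 2, 0, 3, 1, 3, 0, 1, 3, 0], 28), (33, [2, 1, 3, 0, 2, 2], 983)], 4481), ([(24, [1, 2, 0, 2, 1, 3, 0, 2, 2, 1, 3, 0], 763), (80, [1, 3, 0, 2, 1, 2, 0, 1, 2, 0, 3, 3, 1, 3, 0, 2, 1, 2, 0, 2, 2], 21), (19, [1, 2, 0, 1, 2, 0, 2, 1, 2, 0, 3,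 3, 1, 3, 0], 3703)], 3240), ([(24, [2, 2, 2, 1, 3, 0, 2, 2, 1, 2, 0, 2, 1, 3, 0, 2, 2, 2, 1, 2, 0], 235), (89, [1, 2, 0, 1, 2, 0, 2, 1, 2, 0, 2, 2, 1, 2, 0, 1, 2, 0, 2, 1, 2, 0, 1, 2, 0], 498), (47, [2, 1, 3, 0, 2, 2], 120)], 3142), ([(25, [3, 1, 2, 0, 2, 1, 3, 0, 3, 3, 1, 2, 0, 3, 3, 1, 2, 0], 4440), (67, [1, 3, 0, 1, 3, 0, 3, 3, 1, 2, 0, 3, 1, 3, 0, 2, 1, 2, 0], 169), (34, [2, 1, 3, 0, 2, 2], 669)], 3308), ([(25, [1, 2, 0, 2, 1, 3, 0, 1, 3, 0, 3, 1, 3, 0, 2, 1, 2, 0, 1, 2, 0, 2], 3716), (59, [1, 3, 0, 3, 1, 3, 0, 1, 3, 0, 3, 3, 1, 3, 0, 1, 3, 0, 3], 7), (49, [2, 1, 3, 0, 2, 2], 189)], 3308), ([(25, [2, 2, 2, 1, 2, 0, 3, 1, 3, 0, 2, 1, 2, 0, 1, 2, 0, 2, 1, 2, 0], 1712), (58, [1,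 3, 0, 2, 2, 1, 2, 0, 3, 1, 3, 0, 2, 1, 2, 0], 56), (23, [1, 2, 0, 1, 2, 0, 3, 3, 1, 2, 0, 1, 2, 0, 2, 1, 2, 0], 1165)], 346), ([(25, [1, 3, 0, 2, 2, 1, 2, 0, 1, 2, 0, 2, 1, 2, 0, 1, 2, 0, 3], 331), (56, [2, 1, 2, 0, 2, 1, 3, 0, 2, 2, 1, 3, 0, 1, 3, 0], 168), (30, [2, 1, 2, 0, 3, 1, 3, 0, 2, 1, 2, 0], 1105)], 2795), ([(25, [1, 3, 0, 2, 2, 2, 1, 2, 0, 2, 1, 3, 0, 3, 1, 2, 0, 1, 2, 0, 1, 2, 0], 3633), (60, [3, 1, 3, 0, 2, 1, 2, 0, 1, 2, 0, 3, 3, 1, 2, 0, 3, 1, 3, 0, 3, 3, 1, 2, 0], 56), (80, [2, 1, 3, 0, 2, 2, 1, 2, 0, 3, 1, 3, 0, 1, 3, 0, 3], 30)], 1073), ([(25, [1, 2, 0, 3, 3, 1, 3, 0, 2, 1, 2, 0, 1, 2, 0, 2, 1, 3, 0], 1693), (75, [3, 1, 2, 0, 1, 2, 0, 2, 1, 2, 0, 3, 1, 3, 0, 1, 3,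 0], 64), (58, [3, 1, 3, 0, 2, 1, 2, 0, 2], 175)], 3486), ([(28, [], 47488), (31, [], 569), (7, [2], 94616)], 44185), ([(29, [], 44185), (47, [], 146), (13, [2], 2983)], 47488), ([(29, [1, 2, 0, 1, 2, 0, 1, 2, 0, 2, 2, 1, 2, 0, 1, 2, 0], 69884), (67, [2, 1, 2, 0, 1, 2, 0, 2, 1, 3, 0, 3, 1, 3, 0, 1, 3, 0, 2], 70), (36, [2, 1, 3, 0, 2, 2], 727)], 43725), ([(28, [1, 2, 0, 1, 2, 0, 1, 2, 0, 2, 2, 1, 2, 0, 1, 2, 0], 70442), (44, [2, 1, 3, 0, 2, 1, 2, 0, 2, 1, 3, 0, 3, 3, 1, 3, 0, 2, 2, 1, 3, 0, 2], 1034), (50, [2, 1, 3, 0, 2, 2], 148)], 44177), ([(40, [1, 3, 0, 3, 1, 3, 0, 1, 3, 0, 2], 755), (77, [1, 2, 0, 1, 2, 0, 3, 1, 3, 0, 3], 336), (10, [2, 1, 3, 0, 2, 2], 65560)], 776), ([(41, [1,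 3, 0, 3, 1, 3, 0, 1, 3, 0, 2], 916), (58, [2, 2, 2, 1, 3, 0, 2, 1, 2, 0, 3, 1, 3, 0], 57), (22, [1, 2, 0, 2, 2, 1, 2, 0, 3], 2136)], 862), ([(42, [1, 3, 0, 3, 1, 3, 0, 1, 3, 0, 2], 755), (80, [2, 1, 2, 0, 1, 2, 0, 2, 1, 2, 0, 1, 2, 0, 2, 2, 1, 3, 0, 3], 242), (16, [2, 1, 3, 0, 2, 2], 1575)], 1200), ([(43, [1, 3, 0, 3, 1, 3, 0, 1, 3, 0, 2], 721), (43, [3, 1, 2, 0, 2, 1, 3, 0, 3, 1, 2, 0, 1, 2, 0, 2, 1, 3, 0, 3, 1, 2, 0], 451), (32, [2, 1, 3, 0, 2, 2], 308)], 807), ([(44, [1, 2, 0, 1, 2, 0, 2, 1, 2, 0, 2, 2, 1, 2, 0, 1, 2, 0, 2, 1, 2, 0, 1, 2, 0], 749), (58, [1, 2, 0, 2, 1, 2, 0, 1, 2, 0, 3, 1, 3, 0, 1, 3, 0, 2, 1, 2, 0], 79), (21, [1, 2, 0, 1, 2, 0, 2, 1, 2, 0, 3, 3, 1, 3, 0], 2818)],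 456), ([(44, [2, 1, 3, 0, 2, 2, 2, 1, 3, 0, 2, 2, 1, 3, 0, 2, 1, 2, 0], 411), (50, [1, 2, 0, 1, 2, 0, 1, 2, 0, 2, 2, 1, 2, 0, 1, 2, 0], 159), (28, [2, 1, 3, 0, 2, 2], 8702)], 502), ([(44, [2, 2, 2, 1, 3, 0, 3, 1, 2, 0, 1, 2, 0, 1, 2, 0, 2, 2, 1, 2, 0, 2, 1, 2, 0], 756), (70, [1, 2, 0, 2, 1, 3, 0, 2, 2, 1, 3, 0, 1, 3, 0, 3, 1, 2, 0], 9), (53, [2, 1, 3, 0, 2, 2], 139)], 892), ([(45, [1, 2, 0, 1, 2, 0, 2, 1, 2, 0, 2, 2, 1, 2, 0, 1, 2, 0, 2, 1, 2, 0, 1, 2, 0], 971), (92, [1, 2, 0, 1, 2, 0, 2, 1, 2, 0, 2, 2, 1, 2, 0, 1, 2, 0, 2, 1, 2, 0, 1, 2, 0], 291), (46, [2, 1, 3, 0, 2, 2], 120)], 774), ([(45, [2, 1, 3, 0, 2, 2, 2, 1, 3, 0, 2, 2, 1, 3, 0, 2, 1, 2, 0], 473), (94, [2, 2, 2, 1, 3, 0,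 3, 1, 2, 0, 1, 2, 0, 1, 2, 0, 2, 2, 1, 2, 0, 2, 1, 2, 0], 580), (39, [2, 1, 3, 0, 2, 2], 732)], 656), ([(45, [2, 2, 2, 1, 3, 0, 3, 1, 2, 0, 1, 2, 0, 1, 2, 0, 2, 2, 1, 2, 0, 2, 1, 2, 0], 754), (97, [2, 1, 2, 0, 3, 1, 3, 0, 1, 3, 0, 3, 3, 1, 3, 0, 3, 1, 2, 0, 3], 282), (51, [2, 1, 3, 0, 2, 2], 113)], 837), ([(40, [2, 2, 1, 3, 0, 3, 3, 1, 2, 0, 2, 2, 1, 2, 0, 3, 3], 249), (86, [3, 1, 2, 0, 1, 2, 0, 1, 2, 0, 3, 1, 3, 0, 3], 140), (56, [3, 1, 3, 0, 1, 3, 0], 82)], 1181), ([(43, [2, 2, 1, 3, 0, 3, 3, 1, 2, 0, 2, 2, 1, 2, 0, 3, 3], 1142), (42, [1, 3, 0, 3, 1, 2, 0, 3, 1, 3, 0, 3, 1, 2, 0, 2, 1, 2, 0, 1, 2, 0], 727), (82, [3, 1, 3, 0, 1, 3, 0], 45)], 846), ([(43, [1, 2, 0, 1, 2, 0, 1, 2,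 0, 3, 3, 1, 2, 0, 1, 2, 0, 2, 1, 2, 0, 1, 2, 0], 106), (43, [1, 2, 0, 2, 1, 3, 0, 2, 1, 2, 0, 2, 1, 2, 0, 1, 2, 0, 2], 804), (43, [2, 1, 2, 0, 2, 1, 3, 0, 3, 1, 3, 0, 2, 1, 2, 0, 1, 2, 0, 2, 1, 2, 0], 1059)], 94), ([(41, [2, 2, 1, 3, 0, 3, 3, 1, 2, 0, 2, 2, 1, 2, 0, 3, 3], 1305), (60, [3, 1, 2, 0, 2, 1, 2, 0, 1, 2, 0, 1, 2, 0, 3, 3, 1, 2, 0], 7), (87, [1, 2, 0, 2, 1, 2, 0, 3, 3, 1, 3, 0, 3, 1, 2, 0, 3, 3], 30)], 929), ([(40, [3, 1, 2, 0, 1, 2, 0, 1, 2, 0, 3, 1, 3, 0, 2, 1, 2, 0, 2, 2, 1, 3, 0], 690), (89, [2, 2, 1, 3, 0, 1, 3, 0, 3, 3, 1, 2, 0, 3, 1, 3, 0, 3, 1, 2, 0, 2, 1, 2, 0], 313), (67, [2, 2, 1, 2, 0, 2, 1, 3, 0, 3, 1, 3, 0, 2, 1, 2, 0, 3], 177)], 957), ([(42, [3, 1, 2, 0, 1,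 2, 0, 1, 2, 0, 3, 1, 3, 0, 2, 1, 2, 0, 2, 2, 1, 3, 0], 660), (91, [2, 2, 2, 1, 3, 0, 2, 1, 2, 0, 2, 1, 2, 0, 3], 434), (94, [3, 1, 3, 0, 2, 1, 2, 0, 2], 202)], 783), ([(54, [1, 2, 0, 1, 2, 0, 2, 1, 2, 0, 2, 2, 1, 2, 0, 1, 2, 0, 2, 1, 2, 0, 1, 2, 0], 129), (80, [2, 1, 2, 0, 3, 3, 1, 3, 0, 2, 1, 2, 0, 2, 1, 2, 0, 3], 152), (18, [2, 1, 3, 0, 2, 2], 4298)], 136), ([(55, [1, 2, 0, 1, 2, 0, 2, 1, 2, 0, 2, 2, 1, 2, 0, 1, 2, 0, 2, 1, 2, 0, 1, 2, 0], 129), (94, [2, 1, 2, 0, 3, 1, 3, 0, 1, 3, 0, 3, 3, 1, 3, 0, 3, 1, 2, 0, 3], 379), (37, [1, 2, 0, 1, 2, 0, 2, 1, 2, 0, 3, 3, 1, 3, 0], 756)], 133), ([(59, [1, 2, 0, 1, 2, 0, 2, 1, 2, 0, 2, 2, 1, 2, 0, 1, 2, 0, 2, 1, 2, 0, 1, 2, 0], 152), (58, [3,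 1, 2, 0, 2, 1, 3, 0, 3, 3, 1, 2, 0, 3, 3, 1, 2, 0], 169), (20, [2, 1, 3, 0, 2, 2], 3690)], 134), ([(60, [1, 2, 0, 1, 2, 0, 2, 1, 2, 0, 2, 2, 1, 2, 0, 1, 2, 0, 2, 1, 2, 0, 1, 2, 0], 152), (90, [2, 1, 2, 0, 3, 1, 3, 0, 1, 3, 0, 3, 3, 1, 3, 0, 3, 1, 2, 0, 3], 491), (48, [1, 2, 0, 1, 2, 0, 2, 1, 2, 0, 3, 3, 1, 3, 0], 148)], 134), ([(66, [2, 1, 2, 0, 3, 1, 3, 0, 1, 3, 0, 3, 3, 1, 3, 0, 3, 1, 2, 0, 3], 71), (94, [2, 1, 3, 0, 2, 2, 2, 1, 3, 0, 2, 2, 1, 3, 0, 2, 1, 2, 0], 487), (38, [2, 1, 3, 0, 2, 2], 635)], 136), ([(67, [2, 1, 2, 0, 3, 1, 3, 0, 1, 3, 0, 3, 3, 1, 3, 0, 3, 1, 2, 0, 3], 71), (36, [1, 2, 0, 1, 2, 0, 1, 2, 0, 2, 2, 1, 2, 0, 1, 2, 0], 816), (29, [2, 1, 3, 0, 2, 2], 9631)], 136),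 ([(70, [2, 1, 2, 0, 3, 1, 3, 0, 1, 3, 0, 3, 3, 1, 3, 0, 3, 1, 2, 0, 3], 80), (67, [1, 2, 0, 3, 3, 1, 3, 0, 2, 1, 2, 0, 3, 1, 3, 0, 3, 3, 1, 2, 0, 1, 2, 0], 14), (35, [2, 1, 3, 0, 2, 2], 604)], 59), ([(71, [2, 1, 2, 0, 3, 1, 3, 0, 1, 3, 0, 3, 3, 1, 3, 0, 3, 1, 2, 0, 3], 80), (93, [2, 1, 3, 0, 2, 1, 2, 0, 2, 1, 3, 0, 3, 3, 1, 3, 0, 2, 2, 1, 3, 0, 2], 574), (52, [2, 1, 3, 0, 2, 2], 58)], 134), ([(55, [2, 1, 3, 0, 3, 3, 1, 2, 0, 2, 2, 1, 3, 0, 1, 3, 0, 2, 1, 2, 0, 1, 2, 0, 2], 28), (98, [1, 2, 0, 1, 2, 0, 2, 1, 2, 0, 3, 1, 3, 0, 1, 3, 0, 2, 2, 1, 2, 0, 2], 39), (92, [3, 1, 3, 0, 2, 1, 2, 0, 2], 284)], 143), ([(54, [2, 1, 3, 0, 3, 3, 1, 2, 0, 2, 2, 1, 3, 0, 1, 3, 0, 2, 1, 2, 0, 1, 2, 0,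 2], 28), (88, [2, 1, 2, 0, 3, 1, 3, 0, 2, 1, 2, 0, 1, 2, 0, 2, 2, 2], 445), (89, [3, 1, 3, 0, 2, 1, 2, 0, 2], 495)], 143), ([(65, [1, 3, 0, 1, 3, 0, 2, 2, 1, 2, 0, 3, 1, 3, 0, 1, 3, 0, 3], 134), (82, [2, 2, 2, 1, 2, 0, 2, 1, 3, 0, 3, 3, 1, 3, 0, 1, 3, 0], 413), (41, [2, 1, 2, 0, 2, 1, 3, 0, 3, 1, 3, 0, 2, 1, 2, 0, 1, 2, 0, 2, 1, 2, 0], 32)], 32), ([(75, [2, 2, 1, 2, 0, 3, 1, 3, 0, 2, 1, 2, 0, 2, 2, 1, 2, 0, 1, 2, 0, 3], 31), (58, [1, 2, 0, 3, 3, 1, 3, 0, 2, 1, 2, 0, 1, 2, 0, 2, 1, 3, 0], 166), (25, [3, 1, 3, 0, 2, 1, 2, 0, 2], 1381)], 187), ([(75, [2, 2, 1, 2, 0, 2, 1, 2, 0, 1, 2, 0, 1, 2, 0, 2, 2, 1, 2, 0, 2, 2, 1, 2, 0], 119), (60, [1, 2, 0, 3, 1, 3, 0, 2, 1, 2, 0, 1, 2, 0, 3, 1,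 3, 0, 1, 3, 0, 2], 60), (84, [2, 1, 3, 0, 3, 1, 2, 0, 1, 2, 0, 2, 2, 1, 2, 0, 1, 2, 0], 98)], 6), ([(70, [3, 1, 2, 0, 1, 2, 0, 1, 2, 0, 3, 1, 3, 0, 2, 1, 2, 0, 2, 2, 1, 3, 0], 69), (60, [3, 1, 3, 0, 3, 3, 1, 3, 0, 1, 3, 0, 2, 1, 2, 0, 2, 1, 3, 0, 3], 74), (90, [3, 1, 3, 0, 2, 1, 2, 0, 2], 360)], 143), ([(71, [3, 1, 2, 0, 1, 2, 0, 1, 2, 0, 3, 1, 3, 0, 2, 1, 2, 0, 2, 2, 1, 3, 0], 69), (92, [1, 3, 0, 1, 3, 0, 3, 1, 2, 0, 2, 1, 3, 0, 2], 291), (59, [2, 1, 2, 0, 1, 2, 0, 1, 2, 0, 2, 1, 2, 0, 2, 1, 3, 0, 1, 3, 0, 3, 1, 3, 0, 2], 188)], 208), ([(71, [2, 1, 2, 0, 2, 2, 1, 2, 0, 2, 2, 2, 1, 2, 0, 3, 1, 3, 0, 3], 106), (97, [2, 1, 2, 0, 2, 2, 1, 2, 0, 2, 2, 2, 1, 2, 0, 3, 1, 3, 0, 3], 244),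 (68, [2, 1, 2, 0, 1, 2, 0, 1, 2, 0, 3, 3, 1, 2, 0], 172)], 91), ([(70, [2, 1, 2, 0, 2, 2, 1, 2, 0, 2, 2, 2, 1, 2, 0, 3, 1, 3, 0, 3], 106), (61, [1, 2, 0, 1, 2, 0, 2, 1, 2, 0, 3, 3, 1, 3, 0, 3], 175), (99, [1, 3, 0, 3, 1, 2, 0, 2, 2], 53)], 0), ([(71, [2, 2, 2, 1, 2, 0, 1, 2, 0, 3, 3, 1, 2, 0, 1, 2, 0, 2, 1, 2, 0, 1, 2, 0, 3], 137), (92, [1, 2, 0, 1, 2, 0, 1, 2, 0, 2, 2, 1, 3, 0, 3, 3, 1, 3, 0, 3, 3, 1, 2, 0], 139), (64, [1, 3, 0, 3, 3, 1, 2, 0, 3, 1, 3, 0, 3, 1, 2, 0, 2, 2, 1, 2, 0], 116)], 211), ([(58, [1, 2, 0, 2, 1, 3, 0, 1, 3, 0, 3, 1, 3, 0, 1, 3, 0, 2, 2, 1, 3, 0], 92), (24, [3, 3, 1, 2, 0, 1, 2, 0, 2, 1, 3, 0, 3, 3, 1, 3, 0, 3, 3], 4840), (81, [3, 1, 3, 0, 1, 3, 0], 27)], 139),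 ([(74, [1, 2, 0, 1, 2, 0, 1, 2, 0, 3, 3, 1, 3, 0, 1, 3, 0, 3, 3, 1, 3, 0, 1, 3, 0], 123), (60, [2, 1, 2, 0, 2, 2, 1, 2, 0, 3, 3, 1, 3, 0, 3, 1, 2, 0, 3, 1, 3, 0, 3], 152), (86, [1, 3, 0, 1, 3, 0, 3, 3, 1, 3, 0, 3, 1, 2, 0, 2, 1, 3, 0, 1, 3, 0], 75)], 118), ([(55, [3, 1, 2, 0, 1, 2, 0, 1, 2, 0, 3, 1, 3, 0, 2, 1, 2, 0, 2, 2, 1, 3, 0], 78), (94, [2, 2, 2, 1, 2, 0, 2, 2, 2, 1, 3, 0, 2, 2], 338), (44, [1, 3, 0, 3, 1, 2, 0, 1, 2, 0, 1, 2, 0, 3, 1, 3, 0, 2, 1, 2, 0], 6)], 63), ([(54, [3, 1, 2, 0, 1, 2, 0, 1, 2, 0, 3, 1, 3, 0, 2, 1, 2, 0, 2, 2, 1, 3, 0], 78), (91, [2, 2, 1, 2, 0, 2, 2, 1, 2, 0, 1, 2, 0, 2, 2, 1, 3, 0, 3, 1, 3, 0], 390), (97, [3, 1, 3, 0, 2, 1, 2, 0, 2], 80)], 143), ([(55,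 [2, 1, 2, 0, 2, 2, 1, 2, 0, 2, 2, 2, 1, 2, 0, 3, 1, 3, 0, 3], 226), (92, [2, 1, 2, 0, 2, 2, 1, 2, 0, 2, 2, 2, 1, 2, 0, 3, 1, 3, 0, 3], 484), (69, [1, 3, 0, 3, 1, 2, 0, 2, 2], 188)], 110), ([(54, [2, 1, 2, 0, 2, 2, 1, 2, 0, 2, 2, 2, 1, 2, 0, 3, 1, 3, 0, 3], 226), (90, [1, 3, 0, 3, 1, 3, 0, 2, 1, 2, 0, 1, 2, 0, 2, 1, 3, 0, 1, 3, 0, 2, 1, 2, 0, 1, 2, 0], 348), (62, [2, 1, 2, 0, 1, 2, 0, 1, 2, 0, 3, 3, 1, 2, 0], 235)], 93), ([(59, [2, 1, 3, 0, 3, 3, 1, 2, 0, 2, 2, 1, 3, 0, 1, 3, 0, 2, 1, 2, 0, 1, 2, 0, 2], 138), (55, [1, 3, 0, 2, 2, 1, 3, 0, 2, 1, 2, 0, 2, 2, 1, 3, 0, 1, 3, 0, 3, 1, 2, 0], 175), (93, [1, 3, 0, 3, 1, 2, 0, 1, 2, 0, 1, 2, 0, 3, 1, 3, 0, 2, 1, 2, 0], 423)], 182), ([(60,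 [2, 1, 3, 0, 3, 3, 1, 2, 0, 2, 2, 1, 3, 0, 1, 3, 0, 2, 1, 2, 0, 1, 2, 0, 2], 138), (90, [2, 1, 3, 0, 2, 1, 2, 0, 2, 1, 2, 0, 3, 3], 444), (70, [2, 2, 2, 1, 2, 0, 2, 1, 3, 0, 3, 1, 2, 0, 1, 2, 0, 1, 2, 0, 2], 166)], 143), ([(75, [3, 1, 2, 0, 1, 2, 0, 2, 1, 2, 0, 1, 2, 0, 3, 3, 1, 3, 0, 2], 55), (72, [1, 3, 0, 3, 1, 3, 0, 2, 1, 2, 0, 3, 1, 3, 0, 3, 3, 1, 3, 0], 21), (72, [3, 3, 1, 3, 0, 3, 3, 1, 3, 0, 1, 3, 0, 3, 3, 1, 3, 0, 1, 3, 0], 141)], 40), ([(74, [3, 1, 2, 0, 1, 2, 0, 2, 1, 2, 0, 1, 2, 0, 3, 3, 1, 3, 0, 2], 55), (75, [3, 1, 3, 0, 3, 1, 2, 0, 2, 1, 2, 0, 1, 2, 0, 3, 1, 3, 0, 1, 3, 0], 180), (73, [2, 1, 2, 0, 1, 2, 0, 3, 3, 1, 3, 0, 3, 1, 2, 0, 1, 2, 0, 2, 1, 3, 0, 1, 3, 0, 2],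 184)], 209), ([(73, [1, 2, 0, 1, 2, 0, 2, 2, 1, 2, 0, 1, 2, 0, 2, 2, 1, 3, 0, 2, 2], 202), (68, [2, 1, 2, 0, 1, 2, 0, 2, 1, 3, 0, 2, 1, 2, 0, 2], 9), (74, [1, 3, 0, 1, 3, 0, 3, 3, 1, 3, 0, 3, 1, 2, 0, 2, 1, 2, 0, 1, 2, 0, 1, 2, 0], 75)], 68), ([(72, [1, 2, 0, 1, 2, 0, 2, 2, 1, 2, 0, 1, 2, 0, 2, 2, 1, 3, 0, 2, 2], 202), (75, [1, 2, 0, 2, 1, 2, 0, 1, 2, 0, 2, 2, 2, 1, 2, 0, 3, 1, 3, 0, 2, 1, 2, 0], 167), (75, [3, 1, 2, 0, 1, 2, 0, 1, 2, 0, 2, 1, 3, 0, 3, 1, 3, 0, 1, 3, 0, 3, 3, 1, 3, 0], 12)], 68), ([(82, [3, 3, 1, 3, 0, 1, 3, 0, 3, 1, 3, 0, 1, 3, 0, 3, 3], 244), (31, [2, 2, 2, 1, 2, 0, 2, 2, 1, 2, 0], 926), (11, [3, 1, 3, 0, 1, 3, 0], 21557)], 86), ([(83, [3, 3, 1, 3, 0, 1, 3, 0, 3,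 1, 3, 0, 1, 3, 0, 3, 3], 459), (85, [2, 1, 3, 0, 1, 3, 0, 2, 2, 1, 2, 0, 3, 3, 1, 3, 0, 1, 3, 0, 2, 1, 2, 0], 33), (78, [3, 1, 2, 0, 2], 221)], 214), ([(84, [2, 1, 3, 0, 2, 2, 1, 2, 0, 1, 2, 0, 2], 171), (57, [3, 1, 2, 0, 2, 2, 1, 3, 0, 3, 1, 2, 0, 3, 3, 1, 3, 0], 214), (79, [2, 1, 3, 0, 3, 3, 1, 3, 0, 2, 2], 315)], 9), ([(85, [2, 1, 3, 0, 2, 2, 1, 2, 0, 1, 2, 0, 2], 171), (83, [2, 2, 1, 3, 0, 2, 1, 2, 0, 2, 1, 2, 0], 198), (76, [1, 3, 0, 2, 2], 489)], 54), ([(81, [1, 3, 0, 1, 3, 0, 2, 1, 2, 0, 1, 2, 0, 3, 1, 3, 0, 1, 3, 0, 3, 1, 2, 0, 1, 2, 0], 495), (70, [3, 1, 3, 0, 1, 3, 0, 2, 2, 2, 1, 2, 0, 1, 2, 0, 3], 230), (63, [3, 1, 3, 0, 1, 3, 0], 163)], 451), ([(81, [3, 3, 1, 2, 0, 1,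 2, 0, 2, 1, 3, 0, 3, 3, 1, 3, 0, 3, 3], 442), (58, [1, 3, 0, 2, 2, 2, 1, 2, 0, 2, 1, 3, 0, 3, 1, 2, 0, 1, 2, 0, 1, 2, 0], 101), (24, [3, 1, 3, 0, 1, 3, 0], 4190)], 254), ([(86, [1, 3, 0, 1, 3, 0, 2, 1, 2, 0, 1, 2, 0, 3, 1, 3, 0, 1, 3, 0, 3, 1, 2, 0, 1, 2, 0], 470), (54, [3, 1, 3, 0, 1, 3, 0, 2, 2, 2, 1, 2, 0, 1, 2, 0, 3], 186), (83, [2, 1, 2, 0, 2, 2, 1, 2, 0, 2, 1, 3, 0, 3, 3, 1, 3, 0, 3], 322)], 449), ([(86, [3, 3, 1, 2, 0, 1, 2, 0, 2, 1, 3, 0, 3, 3, 1, 3, 0, 3, 3], 121), (56, [2, 2, 1, 3, 0, 3, 3, 1, 2, 0, 2, 2, 1, 2, 0, 3, 3], 82), (40, [3, 1, 3, 0, 1, 3, 0], 713)], 86), ([(91, [3, 3, 1, 3, 0, 2, 1, 2, 0, 3, 1, 3, 0, 3, 3, 1, 2, 0, 1, 2, 0], 220), (95, [3, 1, 3, 0, 2, 1, 2, 0,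 2, 2, 1, 3, 0, 2, 2, 1, 3, 0, 3, 1, 3, 0], 82), (85, [2, 1, 3, 0, 3, 1, 3, 0, 1, 3, 0, 3, 1, 2, 0, 2, 1, 2, 0], 64)], 212), ([(90, [3, 3, 1, 3, 0, 2, 1, 2, 0, 3, 1, 3, 0, 3, 3, 1, 2, 0, 1, 2, 0], 220), (75, [1, 2, 0, 2, 2, 1, 3, 0, 1, 3, 0, 3, 1, 2, 0, 2, 1, 3, 0, 3], 159), (57, [1, 2, 0, 2, 2, 1, 3, 0, 1, 3, 0, 2, 2, 1, 2, 0, 1, 2, 0, 2], 55)], 336), ([(83, [3, 3, 1, 2, 0, 1, 2, 0, 2, 1, 3, 0, 3, 3, 1, 3, 0, 3, 3], 19), (87, [1, 2, 0, 2, 1, 3, 0, 2, 1, 2, 0, 2, 1, 2, 0, 1, 2, 0, 2], 4), (42, [3, 1, 2, 0, 3, 3, 1, 2, 0, 1, 2, 0, 2], 229)], 432), ([(83, [1, 3, 0, 1, 3, 0, 2, 1, 2, 0, 1, 2, 0, 3, 1, 3, 0, 1, 3, 0, 3, 1, 2, 0, 1, 2, 0], 240), (89, [2, 2, 2, 1, 2, 0, 1, 2, 0, 3, 3, 1,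 2, 0, 1, 2, 0, 2, 1, 2, 0, 1, 2, 0, 3], 408), (65, [2, 1, 3, 0, 1, 3, 0, 3, 3, 1, 2, 0, 3, 1, 3, 0, 3, 3], 201)], 145), ([(88, [1, 2, 0, 1, 2, 0, 2, 1, 3, 0, 2, 2, 1, 3, 0, 3, 3, 1, 3, 0, 2, 2], 349), (89, [2, 1, 3, 0, 3, 3, 1, 2, 0, 2, 2, 1, 3, 0, 1, 3, 0, 2, 1, 2, 0, 1, 2, 0, 2], 286), (54, [3, 1, 3, 0, 2, 1, 2, 0, 2], 52)], 216), ([(89, [1, 2, 0, 1, 2, 0, 2, 1, 3, 0, 2, 2, 1, 3, 0, 3, 3, 1, 3, 0, 2, 2], 349), (54, [1, 2, 0, 2, 2, 2, 1, 2, 0, 2, 1, 3, 0, 3, 3, 1, 3, 0, 1, 3, 0, 2, 1, 2, 0], 5), (88, [2, 2, 2, 1, 2, 0, 3, 3, 1, 3, 0, 3, 3, 1, 2, 0, 2, 1, 2, 0], 262)], 194), ([(91, [3, 1, 3, 0, 3, 3, 1, 3, 0, 1, 3, 0, 2, 1, 2, 0, 2, 1, 3, 0, 3], 273), (96, [1, 3, 0, 3, 1, 2, 0, 3,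 1, 3, 0, 2, 1, 2, 0, 1, 2, 0, 2, 1, 2, 0, 3], 432), (95, [1, 2, 0, 2, 2, 1, 3, 0, 2, 2, 1, 2, 0, 2, 2, 1, 3, 0, 3, 1, 3, 0], 275)], 49), ([(90, [3, 1, 3, 0, 3, 3, 1, 3, 0, 1, 3, 0, 2, 1, 2, 0, 2, 1, 3, 0, 3], 273), (70, [2, 2, 1, 2, 0, 2, 2, 1, 3, 0, 3, 1, 2, 0, 1, 2, 0, 2], 139), (60, [3, 1, 3, 0, 2, 1, 2, 0, 2], 163)], 185), ([(98, [2, 1, 3, 0, 1, 3, 0, 3, 1, 3, 0, 2, 2, 1, 2, 0, 2, 1, 3, 0, 3, 1, 3, 0], 447), (92, [1, 3, 0, 1, 3, 0, 3, 1, 2, 0, 2, 1, 3, 0, 3, 3, 1, 2, 0, 3, 1, 3, 0], 285), (55, [2, 2, 2, 1, 2, 0, 3, 3, 1, 3, 0, 3, 3, 1, 2, 0, 2, 1, 2, 0], 36)], 379), ([(94, [1, 2, 0, 2, 1, 2, 0, 1, 2, 0, 1, 2, 0, 2, 1, 2, 0, 1, 2, 0, 3, 3, 1, 3, 0, 1, 3, 0], 84), (43, [2, 1, 3,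 0, 2, 1, 2, 0, 1, 2, 0, 2, 1, 2, 0, 1, 2, 0, 2], 435), (45, [3, 1, 3, 0, 2, 1, 2, 0, 2], 1160)], 375), ([(95, [3, 1, 3, 0, 2, 2, 1, 2, 0, 1, 2, 0, 2, 1, 3, 0, 2, 2, 1, 2, 0], 362), (90, [1, 2, 0, 2, 1, 2, 0, 1, 2, 0, 2, 1, 3, 0, 2, 1, 2, 0, 2, 1, 2, 0, 3, 1, 3, 0, 2], 348), (71, [2, 2, 1, 2, 0, 2, 1, 3, 0, 3, 1, 3, 0, 2, 1, 2, 0, 3], 73)], 139), ([(95, [2, 2, 1, 3, 0, 3, 1, 2, 0, 3, 3, 1, 3, 0, 1, 3, 0], 564), (88, [1, 2, 0, 2, 1, 2, 0, 3, 3, 1, 2, 0, 3, 3, 1, 3, 0, 3, 3], 392), (91, [2], 470)], 297), ([(95, [2, 1, 3, 0, 3, 1, 3, 0, 1, 3, 0, 2, 2, 1, 2, 0, 2, 2, 1, 3, 0], 512), (89, [3, 1, 2, 0, 1, 2, 0, 1, 2, 0, 3, 1, 3, 0, 2, 1, 2, 0, 2, 2, 1, 3, 0], 258), (66, [3, 1, 3, 0, 2, 1,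 2, 0, 2], 61)], 621), ([(95, [2, 2, 1, 3, 0, 3, 1, 3, 0, 2, 1, 2, 0, 2, 2, 2, 1, 2, 0, 2], 559), (91, [1, 2, 0, 1, 2, 0, 2, 1, 2, 0, 1, 2, 0, 3, 1, 3, 0, 3, 3, 1, 3, 0, 1, 3, 0], 273), (96, [2, 2, 2, 1, 2, 0, 2, 1, 3, 0, 3, 1, 2, 0, 1, 2, 0, 1, 2, 0, 2], 549)], 498), ([(93, [2, 1, 2, 0, 1, 2, 0, 1, 2, 0, 2, 1, 3, 0, 3, 1, 2, 0, 2, 1, 2, 0, 2], 222), (66, [2, 2, 2, 1, 3, 0, 1, 3, 0, 2, 2, 1, 2, 0, 2, 1, 3, 0, 2], 72), (98, [2, 1, 2, 0, 2, 2, 1, 3, 0, 1, 3, 0, 3, 3], 314)], 20), ([(99, [1, 2, 0, 1, 2, 0, 2, 1, 2, 0, 3, 3, 1, 3, 0, 3], 21573), (70, [2, 1, 2, 0, 2, 2, 1, 2, 0, 3, 3, 1, 3, 0, 2, 1, 2, 0, 3], 162), (61, [1, 3, 0, 3, 1, 2, 0, 2, 2], 66)], 2342), ([(99, [2, 1, 2, 0, 2, 1,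 2, 0, 1, 2, 0, 2, 1, 3, 0, 2], 24226), (61, [2, 1, 2, 0, 2, 1, 2, 0, 1, 2, 0, 2, 1, 3, 0, 2], 191), (100, [1, 3, 0, 3, 1, 2, 0, 2, 2], 17419)], 26170)]]

end CfsgLib.InvChar.SporHN
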