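import Cfsg.Agent.Lib.InvChar.SporHNTrace

/-! The saturation. -/

set_option autoImplicit false
set_option maxRecDepth 100000

namespace CfsgLib.InvChar.SporHN

open CfsgLib.InvChar.Coset

/-- hints -/
def relC8 : List (List (List (ℕ × List ℕ × ℕ) × ℕ)) := [
[([(0, [], 0), (5, [], 0), (2, [], 24400)], 0), ([(5, [], 41198), (2, [], 24400), (0, [], 0)], 22258), ([(6, [], 41198), (14, [], 2300), (3, [], 24400)], 22258), ([(7, [], 112207), (26, [], 9832), (4, [], 24400)], 63359), ([(8, [], 112207), (12, [], 2300), (1, [], 24400)], 63359), ([(9, [3, 1, 2, 0], 23954), (19, [1, 3, 0, 2], 2758), (12, [1, 2, 0], 2983)], 94929), ([(9, [2, 2, 1, 2, 0, 2, 2, 1, 2, 0, 3, 1, 3, 0], 68160), (17,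 [3, 1, 2, 0], 4587), (5, [1, 2, 0], 4220)], 94929), ([(10, [3, 1, 2, 0], 103521), (34, [2, 2, 1, 3, 0, 2, 1, 2, 0, 1, 2, 0, 2, 2, 1, 3, 0, 1, 3, 0], 850), (14, [1, 2, 0], 3655)], 43296), ([(10, [2, 2, 1, 2, 0, 2, 2, 1, 2, 0, 3, 1, 3, 0], 44554), (36, [1, 3, 0, 2], 568), (26, [1, 2, 0], 31284)], 43296), ([(11, [3, 1, 2, 0, 2, 1, 3, 0, 2, 1, 2, 0, 3], 23638), (80, [2, 1, 2, 0, 2, 1, 2, 0, 1, 2, 0, 2, 1, 3, 0, 1, 3, 0, 2], 44), (17, [2, 1, 3, 0, 2, 1, 2, 0], 2958)], 43256), ([(11, [1, 2, 0, 1, 2, 0, 2, 1, 3, 0, 3, 1, 2, 0], 42404), (82, [2, 1, 2, 0, 2, 1, 2, 0, 1, 2, 0, 2, 1, 3, 0, 1, 3, 0, 2], 179), (31, [2, 1, 3, 0, 2, 1, 2, 0], 959)], 73126), ([(9, [2, 2, 1, 2, 0, 2, 2], 69714),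 (24, [2, 1, 3, 0, 2, 1, 2, 0, 2, 2, 1, 2, 0], 4678), (77, [3, 1, 3, 0, 2, 1, 2, 0, 1, 2, 0], 434)], 0), ([(18, [2, 2, 1, 3, 0, 2, 1, 2, 0, 1, 2, 0, 2, 2, 1, 3, 0, 1, 3, 0], 3892), (50, [1, 3, 0, 2], 90), (27, [1, 2, 0], 31284)], 4064), ([(19, [2, 2, 1, 3, 0, 2, 1, 2, 0, 1, 2, 0, 2, 2, 1, 3, 0, 1, 3, 0], 3892), (17, [2, 2, 1, 2, 0, 2, 2, 1, 2, 0, 3, 1, 3, 0], 51), (6, [1, 2, 0], 44960)], 4064), ([(20, [2, 2, 1, 3, 0, 2, 1, 2, 0, 1, 2, 0, 2, 2, 1, 3, 0, 1, 3, 0], 3129), (49, [2, 2, 1, 3, 0, 2, 1, 2, 0, 1, 2, 0, 2, 2, 1, 3, 0, 1, 3, 0], 14), (15, [1, 2, 0], 3655)], 3312), ([(21, [2, 2, 1, 3, 0, 2, 1, 2, 0, 1, 2, 0, 2, 2, 1, 3, 0, 1, 3, 0], 3129), (31, [2, 2, 1, 2, 0, 2, 2, 1, 2, 0,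 3, 1, 3, 0], 844), (8, [1, 2, 0], 97291)], 3312), ([(24, [2, 1, 2, 0, 2, 1, 2, 0, 1, 2, 0, 2, 1, 3, 0, 1, 3, 0, 2], 4627), (77, [3, 1, 2, 0, 2, 1, 3, 0, 2, 1, 2, 0, 3], 284), (9, [2, 1, 3, 0, 2, 1, 2, 0], 117429)], 2760), ([(24, [2, 1, 3, 0, 3, 1, 3, 0, 2, 2, 1, 2, 0, 1, 2, 0, 2, 2, 1, 3, 0, 3], 1156), (87, [1, 2, 0, 2, 2, 1, 3, 0, 2, 1, 2, 0, 3, 1, 3, 0, 1, 3, 0], 217), (33, [2, 1, 3, 0, 2, 1, 2, 0], 990)], 4826), ([(24, [2, 2, 2, 1, 2, 0, 2, 2, 1, 2, 0, 3], 1975), (80, [1, 3, 0, 2, 1, 2, 0, 1, 2, 0, 2, 2, 1, 3, 0, 3, 3], 26), (19, [1, 3, 0, 1, 3, 0, 3, 3, 1, 3, 0, 2, 2, 1, 3, 0], 3219)], 2693), ([(24, [2, 1, 3, 0, 3, 1, 2, 0, 2, 1, 2, 0, 3, 1, 3, 0, 3, 3], 1614), (89, [1, 3, 0,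 3, 1, 3, 0, 1, 3, 0, 2, 2, 1, 3, 0, 1, 3, 0, 3, 3, 1, 2, 0], 498), (47, [2, 1, 3, 0, 2, 1, 2, 0], 151)], 3308), ([(25, [2, 1, 2, 0, 1, 2, 0, 2, 1, 2, 0, 1, 2, 0, 1, 2, 0, 2, 1, 3, 0], 4957), (67, [2, 2, 2, 1, 3, 0, 2, 1, 2, 0, 1, 2, 0, 2, 1, 2, 0, 2], 104), (34, [2, 1, 3, 0, 2, 1, 2, 0], 732)], 3142), ([(25, [2, 2, 1, 3, 0, 3, 1, 2, 0, 2, 1, 2, 0, 1, 2, 0, 1, 2, 0, 2, 1, 2, 0], 2887), (59, [3, 3, 1, 3, 0, 3, 3, 1, 3, 0, 2, 2, 1, 3, 0], 54), (49, [2, 1, 3, 0, 2, 1, 2, 0], 215)], 3142), ([(25, [2, 1, 2, 0, 1, 2, 0, 1, 2, 0, 2, 1, 2, 0, 3, 1, 3, 0, 2, 1, 2, 0], 2123), (58, [1, 2, 0, 1, 2, 0, 2, 2, 1, 3, 0, 1, 3, 0, 3, 1, 2, 0, 1, 2, 0, 3, 1, 3, 0], 11), (23, [1, 2, 0, 2, 1, 3, 0, 3,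 1, 3, 0, 1, 3, 0, 2, 2], 1157)], 2232), ([(25, [3, 3, 1, 2, 0, 2, 2, 2, 1, 2, 0], 2364), (56, [2, 1, 2, 0, 2, 2, 1, 2, 0, 3, 3, 1, 2, 0, 1, 2, 0], 159), (30, [2, 2, 1, 3, 0, 3, 3, 1, 3, 0, 3], 1215)], 4682), ([(24, [3, 1, 2, 0, 2, 2, 2, 1, 2, 0, 1, 2, 0], 974), (88, [2, 1, 2, 0, 1, 2, 0, 2, 1, 2, 0, 3, 1, 3, 0, 3, 3, 1, 2, 0, 1, 2, 0, 3], 278), (80, [2, 1, 3, 0, 2, 2, 1, 2, 0, 3, 1, 3, 0, 1, 3, 0, 3, 3, 1, 2, 0], 58)], 2230), ([(24, [1, 2, 0, 1, 2, 0, 2, 1, 3, 0, 3, 1, 2, 0, 2, 1, 2, 0, 2, 1, 3, 0], 4506), (81, [2, 2, 2, 1, 3, 0, 2, 1, 2, 0, 3, 1, 3, 0, 1, 3, 0, 3, 1, 2, 0, 2], 43), (58, [3, 1, 3, 0, 2, 1, 2, 0, 1, 2, 0], 60)], 4816), ([(28, [1, 3, 0, 2], 15867), (31, [3, 1, 2, 0],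 752), (7, [1, 2, 0], 93538)], 47488), ([(29, [1, 3, 0, 2], 24815), (47, [2, 2, 1, 3, 0, 2, 1, 2, 0, 1, 2, 0, 2, 2, 1, 3, 0, 1, 3, 0], 102), (13, [1, 2, 0], 3811)], 44185), ([(29, [2, 2, 1, 3, 0, 3, 3, 1, 2, 0, 1, 2, 0, 2, 2], 50892), (67, [2, 1, 2, 0, 2, 1, 2, 0, 3, 1, 3, 0, 2, 2, 1, 3, 0], 169), (36, [2, 1, 3, 0, 2, 1, 2, 0], 524)], 44177), ([(28, [2, 2, 1, 3, 0, 3, 3, 1, 2, 0, 1, 2, 0, 2, 2], 65978), (44, [1, 3, 0, 2, 2, 1, 2, 0, 2, 2, 1, 3, 0, 1, 3, 0, 2, 2], 973), (50, [2, 1, 3, 0, 2, 1, 2, 0], 145)], 43725), ([(40, [2, 1, 2, 0, 2, 1, 2, 0, 1, 2, 0, 2, 1, 3, 0, 1, 3, 0, 2], 959), (77, [1, 2, 0, 1, 2, 0, 2, 1, 3, 0, 3, 1, 2, 0], 356), (10, [2, 1, 3, 0, 2, 1, 2, 0], 17512)], 774),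 ([(41, [2, 1, 2, 0, 2, 1, 2, 0, 1, 2, 0, 2, 1, 3, 0, 1, 3, 0, 2], 987), (58, [2, 1, 3, 0, 3, 3, 1, 3, 0, 3, 3, 1, 2, 0, 1, 2, 0, 2, 1, 3, 0, 3], 33), (22, [1, 3, 0, 1, 3, 0, 2, 1, 2, 0, 1, 2, 0], 160)], 721), ([(42, [2, 1, 2, 0, 2, 1, 2, 0, 1, 2, 0, 2, 1, 3, 0, 1, 3, 0, 2], 1013), (80, [2, 2, 1, 3, 0, 1, 3, 0, 2, 2, 1, 2, 0, 1, 2, 0, 1, 2, 0], 151), (16, [2, 1, 3, 0, 2, 1, 2, 0], 132)], 1387), ([(43, [2, 1, 2, 0, 2, 1, 2, 0, 1, 2, 0, 2, 1, 3, 0, 1, 3, 0, 2], 1030), (43, [3, 1, 2, 0, 2, 1, 3, 0, 3, 1, 2, 0, 1, 2, 0, 1, 2, 0, 3, 1, 3, 0, 2], 451), (32, [2, 1, 3, 0, 2, 1, 2, 0], 124)], 934), ([(44, [1, 3, 0, 3, 1, 3, 0, 1, 3, 0, 2, 2, 1, 3, 0, 1, 3, 0, 3, 3, 1, 2, 0], 1063), (58, [2,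 2, 1, 2, 0, 1, 2, 0, 1, 2, 0, 3, 1, 3, 0, 3, 1, 2, 0, 3], 71), (21, [1, 3, 0, 1, 3, 0, 3, 3, 1, 3, 0, 2, 2, 1, 3, 0], 2555)], 384), ([(44, [1, 2, 0, 2, 2, 2, 1, 2, 0, 2, 1, 3, 0, 2, 2], 691), (50, [2, 2, 1, 3, 0, 3, 3, 1, 2, 0, 1, 2, 0, 2, 2], 130), (28, [2, 1, 3, 0, 2, 1, 2, 0], 68117)], 419), ([(44, [1, 2, 0, 3, 1, 3, 0, 1, 3, 0, 3, 3, 1, 3, 0, 2, 1, 2, 0, 2, 2], 742), (70, [1, 2, 0, 2, 2, 2, 1, 2, 0, 2, 1, 3, 0, 2, 1, 2, 0, 1, 2, 0], 182), (53, [2, 1, 3, 0, 2, 1, 2, 0], 87)], 723), ([(45, [1, 3, 0, 3, 1, 3, 0, 1, 3, 0, 2, 2, 1, 3, 0, 1, 3, 0, 3, 3, 1, 2, 0], 965), (92, [1, 3, 0, 3, 1, 3, 0, 1, 3, 0, 2, 2, 1, 3, 0, 1, 3, 0, 3, 3, 1, 2, 0], 291), (46, [2, 1, 3, 0, 2, 1, 2, 0], 151)],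 776), ([(45, [1, 2, 0, 2, 2, 2, 1, 2, 0, 2, 1, 3, 0, 2, 2], 699), (94, [1, 2, 0, 3, 1, 3, 0, 1, 3, 0, 3, 3, 1, 3, 0, 2, 1, 2, 0, 2, 2], 580), (39, [2, 1, 3, 0, 2, 1, 2, 0], 726)], 608), ([(45, [1, 2, 0, 3, 1, 3, 0, 1, 3, 0, 3, 3, 1, 3, 0, 2, 1, 2, 0, 2, 2], 1068), (97, [1, 2, 0, 2, 1, 3, 0, 3, 3, 1, 3, 0, 3, 3, 1, 2, 0], 286), (51, [2, 1, 3, 0, 2, 1, 2, 0], 112)], 799), ([(44, [1, 2, 0, 1, 2, 0, 2, 1, 3, 0, 3, 3, 1, 3, 0, 1, 3, 0, 3, 3], 864), (73, [2, 1, 2, 0, 1, 2, 0, 3, 1, 3, 0, 2, 1, 2, 0, 2, 2, 1, 2, 0, 1, 2, 0, 1, 2, 0], 214), (56, [3, 1, 3, 0, 2, 1, 2, 0, 1, 2, 0], 179)], 1341), ([(44, [2, 1, 3, 0, 2, 2, 1, 2, 0, 3, 1, 3, 0, 1, 3, 0, 2, 2, 1, 2, 0, 1, 2, 0], 424), (54, [3,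 1, 2, 0, 2, 1, 2, 0, 2, 2, 2, 1, 2, 0, 2, 1, 2, 0], 130), (82, [3, 1, 3, 0, 2, 1, 2, 0, 1, 2, 0], 61)], 0), ([(45, [1, 2, 0, 1, 2, 0, 2, 1, 3, 0, 3, 3, 1, 3, 0, 1, 3, 0, 3, 3], 941), (94, [3, 1, 2, 0, 1, 2, 0, 1, 2, 0, 3, 1, 3, 0, 3, 3, 1, 3, 0, 3], 76), (43, [2, 1, 2, 0, 2, 2, 1, 3, 0, 3, 3, 1, 2, 0, 1, 2, 0, 3, 1, 3, 0], 665)], 4), ([(45, [2, 1, 3, 0, 2, 2, 1, 2, 0, 3, 1, 3, 0, 1, 3, 0, 2, 2, 1, 2, 0, 1, 2, 0], 364), (95, [2, 2, 1, 2, 0, 3, 1, 3, 0, 3, 3, 1, 3, 0, 1, 3, 0], 238), (87, [3, 1, 2, 0, 2, 2, 1, 3, 0, 1, 3, 0, 2, 2, 1, 3, 0, 1, 3, 0], 54)], 893), ([(44, [2, 2, 1, 2, 0, 1, 2, 0, 2, 1, 2, 0, 3, 3, 1, 3, 0, 1, 3, 0, 2], 1265), (72, [2, 1, 2, 0, 1, 2, 0, 1, 2, 0, 2, 1, 3,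 0, 3, 1, 3, 0, 2, 1, 2, 0], 230), (67, [2, 1, 3, 0, 3, 1, 2, 0, 2, 1, 3, 0, 3, 1, 3, 0, 2, 1, 2, 0, 1, 2, 0], 91)], 537), ([(45, [2, 1, 2, 0, 2, 2, 1, 3, 0, 3, 3, 1, 3, 0, 3, 1, 2, 0, 2], 283), (96, [3, 1, 2, 0, 2, 1, 3, 0, 2, 1, 2, 0, 3, 1, 3, 0, 1, 3, 0, 3], 317), (94, [3, 1, 3, 0, 2, 1, 2, 0, 1, 2, 0], 534)], 0), ([(54, [1, 3, 0, 3, 1, 3, 0, 1, 3, 0, 2, 2, 1, 3, 0, 1, 3, 0, 3, 3, 1, 2, 0], 163), (80, [2, 2, 2, 1, 2, 0, 3, 1, 3, 0, 2], 41), (18, [2, 1, 3, 0, 2, 1, 2, 0], 4270)], 134), ([(55, [1, 3, 0, 3, 1, 3, 0, 1, 3, 0, 2, 2, 1, 3, 0, 1, 3, 0, 3, 3, 1, 2, 0], 163), (94, [1, 2, 0, 2, 1, 3, 0, 3, 3, 1, 3, 0, 3, 3, 1, 2, 0], 297), (37, [1, 3, 0, 1, 3, 0, 3, 3, 1, 3, 0, 2, 2, 1,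 3, 0], 783)], 142), ([(59, [1, 3, 0, 3, 1, 3, 0, 1, 3, 0, 2, 2, 1, 3, 0, 1, 3, 0, 3, 3, 1, 2, 0], 178), (58, [2, 1, 2, 0, 1, 2, 0, 2, 1, 2, 0, 1, 2, 0, 1, 2, 0, 2, 1, 3, 0], 130), (20, [2, 1, 3, 0, 2, 1, 2, 0], 2833)], 136), ([(60, [1, 3, 0, 3, 1, 3, 0, 1, 3, 0, 2, 2, 1, 3, 0, 1, 3, 0, 3, 3, 1, 2, 0], 178), (90, [1, 2, 0, 2, 1, 3, 0, 3, 3, 1, 3, 0, 3, 3, 1, 2, 0], 432), (48, [1, 3, 0, 1, 3, 0, 3, 3, 1, 3, 0, 2, 2, 1, 3, 0], 143)], 167), ([(66, [1, 2, 0, 2, 1, 3, 0, 3, 3, 1, 3, 0, 3, 3, 1, 2, 0], 74), (94, [1, 2, 0, 2, 2, 2, 1, 2, 0, 2, 1, 3, 0, 2, 2], 471), (38, [2, 1, 3, 0, 2, 1, 2, 0], 440)], 134), ([(67, [1, 2, 0, 2, 1, 3, 0, 3, 3, 1, 3, 0, 3, 3, 1, 2, 0], 74), (36, [2, 2, 1,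 3, 0, 3, 3, 1, 2, 0, 1, 2, 0, 2, 2], 940), (29, [2, 1, 3, 0, 2, 1, 2, 0], 77865)], 134), ([(70, [1, 2, 0, 2, 1, 3, 0, 3, 3, 1, 3, 0, 3, 3, 1, 2, 0], 61), (67, [2, 1, 3, 0, 3, 1, 2, 0, 3, 3, 1, 2, 0, 2, 1, 3, 0, 2, 2], 204), (35, [2, 1, 3, 0, 2, 1, 2, 0], 962)], 51), ([(71, [1, 2, 0, 2, 1, 3, 0, 3, 3, 1, 3, 0, 3, 3, 1, 2, 0], 61), (93, [1, 3, 0, 2, 2, 1, 2, 0, 2, 2, 1, 3, 0, 1, 3, 0, 2, 2], 624), (52, [2, 1, 3, 0, 2, 1, 2, 0], 37)], 136), ([(73, [2, 1, 3, 0, 3, 1, 3, 0, 1, 3, 0, 2, 2, 1, 2, 0, 3, 1, 3, 0], 109), (55, [1, 2, 0, 1, 2, 0, 3, 3, 1, 2, 0, 3, 1, 3, 0, 3, 3], 38), (92, [3, 1, 3, 0, 2, 1, 2, 0, 1, 2, 0], 577)], 0), ([(72, [2, 1, 3, 0, 3, 1, 3, 0, 1, 3, 0, 2, 2, 1, 2, 0, 3,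 1, 3, 0], 109), (60, [1, 2, 0, 1, 2, 0, 2, 2, 1, 2, 0, 1, 2, 0, 2, 1, 2, 0, 2, 1, 3, 0, 1, 3, 0, 3], 13), (89, [3, 1, 3, 0, 2, 1, 2, 0, 1, 2, 0], 484)], 0), ([(73, [2, 1, 3, 0, 3, 1, 2, 0, 2, 1, 3, 0, 2, 2, 2, 1, 3, 0, 3], 182), (67, [2, 2, 1, 3, 0, 3, 1, 2, 0, 2, 1, 2, 0, 1, 2, 0, 1, 2, 0], 161), (41, [2, 1, 2, 0, 2, 2, 1, 3, 0, 3, 3, 1, 2, 0, 1, 2, 0, 3, 1, 3, 0], 365)], 47), ([(60, [1, 2, 0, 2, 2, 1, 3, 0, 3, 1, 3, 0, 2, 1, 2, 0, 2, 1, 3, 0, 3, 1, 2, 0], 104), (80, [1, 3, 0, 2, 2, 2, 1, 3, 0, 1, 3, 0, 3, 1, 3, 0], 5), (25, [3, 1, 3, 0, 2, 1, 2, 0, 1, 2, 0], 2346)], 184), ([(64, [2, 2, 2, 1, 3, 0, 2, 1, 2, 0, 3, 1, 3, 0, 1, 3, 0, 3, 1, 2, 0, 2], 79), (54, [2, 2, 2, 1, 2, 0, 3,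 3, 1, 2, 0, 1, 2, 0, 2, 1, 3, 0, 2], 105), (84, [2, 1, 3, 0, 1, 3, 0, 2, 1, 2, 0, 1, 2, 0, 2], 107)], 35), ([(75, [2, 1, 2, 0, 3, 1, 3, 0, 1, 3, 0, 2, 2, 1, 2, 0, 2, 1, 3, 0], 68), (57, [1, 2, 0, 1, 2, 0, 3, 1, 3, 0, 3, 3, 1, 2, 0, 2, 1, 3, 0, 2], 214), (90, [3, 1, 3, 0, 2, 1, 2, 0, 1, 2, 0], 287)], 146), ([(74, [2, 1, 2, 0, 3, 1, 3, 0, 1, 3, 0, 2, 2, 1, 2, 0, 2, 1, 3, 0], 68), (75, [2, 1, 2, 0, 1, 2, 0, 2, 2, 1, 2, 0, 3, 3, 1, 3, 0, 3, 1, 2, 0, 3, 3], 225), (59, [2, 1, 2, 0, 1, 2, 0, 1, 2, 0, 2, 1, 2, 0, 2, 1, 3, 0, 1, 3, 0, 3], 70)], 204), ([(60, [2, 2, 1, 2, 0, 1, 2, 0, 2, 1, 3, 0, 3, 1, 2, 0, 3, 3, 1, 3, 0, 2], 226), (89, [1, 3, 0, 3, 3, 1, 2, 0, 2, 2, 1, 2, 0, 3, 3, 1, 2, 0,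 2, 2], 327), (68, [2, 1, 3, 0, 3, 1, 3, 0, 2, 1, 2, 0, 1, 2, 0], 25)], 146), ([(59, [2, 2, 1, 2, 0, 1, 2, 0, 2, 1, 3, 0, 3, 1, 2, 0, 3, 3, 1, 3, 0, 2], 226), (61, [3, 1, 3, 0, 2, 1, 2, 0, 3, 1, 3, 0, 3], 165), (99, [3, 1, 3, 0, 2, 1, 2, 0, 1, 2, 0], 18275)], 0), ([(73, [2, 2, 1, 3, 0, 2, 1, 2, 0, 2, 2, 2, 1, 3, 0, 2, 2, 1, 3, 0], 141), (73, [3, 1, 2, 0, 3, 3, 1, 3, 0, 2, 1, 2, 0, 3, 1, 3, 0, 3], 64), (64, [1, 2, 0, 2, 2, 1, 3, 0, 2, 2, 1, 2, 0, 2, 1, 3, 0, 2, 2], 81)], 193), ([(73, [2, 1, 2, 0, 2, 1, 3, 0, 1, 3, 0, 3, 3, 1, 2, 0, 3, 3], 238), (54, [1, 2, 0, 1, 2, 0, 2, 1, 2, 0, 3, 1, 3, 0, 3, 1, 2, 0, 2, 1, 3, 0, 2, 2], 41), (81, [3, 1, 3, 0, 2, 1, 2, 0, 1, 2, 0], 160)], 0), ([(74,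 [2, 2, 1, 2, 0, 2, 2, 1, 2, 0, 1, 2, 0, 2, 1, 2, 0, 1, 2, 0, 2], 107), (60, [1, 2, 0, 1, 2, 0, 2, 1, 2, 0, 2, 1, 3, 0, 2, 2, 1, 2, 0, 2, 2], 76), (86, [3, 1, 2, 0, 2, 2, 2, 1, 2, 0, 2, 1, 3, 0, 3, 1, 3, 0, 1, 3, 0], 113)], 113), ([(73, [2, 1, 2, 0, 3, 1, 3, 0, 1, 3, 0, 2, 2, 1, 2, 0, 2, 1, 3, 0], 196), (56, [2, 1, 3, 0, 3, 1, 3, 0, 2, 2, 1, 3, 0, 2, 1, 2, 0, 2, 1, 3, 0, 2], 173), (44, [3, 1, 3, 0, 2, 1, 2, 0, 2, 1, 3, 0, 3, 1, 2, 0, 2], 84)], 63), ([(72, [2, 1, 2, 0, 3, 1, 3, 0, 1, 3, 0, 2, 2, 1, 2, 0, 2, 1, 3, 0], 196), (55, [1, 2, 0, 1, 2, 0, 3, 1, 3, 0, 3, 1, 2, 0, 3, 1, 3, 0], 32), (97, [3, 1, 3, 0, 2, 1, 2, 0, 1, 2, 0], 492)], 0), ([(67, [2, 2, 1, 2, 0, 1, 2, 0, 2, 1, 3, 0,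 3, 1, 2, 0, 3, 3, 1, 3, 0, 2], 106), (44, [3, 1, 2, 0, 2, 1, 2, 0, 1, 2, 0, 1, 2, 0, 2, 1, 2, 0, 3, 1, 3, 0, 3], 61), (69, [3, 3, 1, 3, 0, 1, 3, 0, 2], 82)], 168), ([(66, [2, 2, 1, 2, 0, 1, 2, 0, 2, 1, 3, 0, 3, 1, 2, 0, 3, 3, 1, 3, 0, 2], 106), (93, [3, 1, 2, 0, 2, 1, 2, 0, 1, 2, 0, 1, 2, 0, 2, 1, 2, 0, 3, 1, 3, 0, 3], 75), (62, [1, 2, 0, 2, 2, 2, 1, 3, 0, 1, 3, 0, 2], 210)], 91), ([(75, [2, 1, 3, 0, 3, 1, 3, 0, 1, 3, 0, 2, 2, 1, 2, 0, 3, 1, 3, 0], 231), (71, [1, 2, 0, 2, 1, 2, 0, 1, 2, 0, 2, 2, 1, 2, 0, 1, 2, 0, 2, 2], 11), (93, [3, 1, 3, 0, 2, 1, 2, 0, 2, 1, 3, 0, 3, 1, 2, 0, 2], 633)], 182), ([(74, [2, 1, 3, 0, 3, 1, 3, 0, 1, 3, 0, 2, 2, 1, 2, 0, 3, 1, 3, 0], 231), (59, [3, 1,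 2, 0, 1, 2, 0, 2, 1, 2, 0, 2, 2, 1, 3, 0, 1, 3, 0, 3, 3, 1, 3, 0, 1, 3, 0], 77), (70, [2, 2, 2, 1, 2, 0, 2, 1, 3, 0, 3, 1, 3, 0, 1, 3, 0], 12)], 146), ([(72, [3, 1, 3, 0, 2, 1, 2, 0, 2, 2, 2, 1, 2, 0], 0), (64, [3, 3, 1, 2, 0, 2, 2, 1, 2, 0, 3, 3], 96), (72, [3, 1, 2, 0, 1, 2, 0, 2, 1, 2, 0, 1, 2, 0, 3, 3, 1, 2, 0, 1, 2, 0, 2, 1, 2, 0, 1, 2, 0], 37)], 40), ([(73, [3, 1, 3, 0, 2, 1, 2, 0, 2, 2, 2, 1, 2, 0], 0), (64, [3, 1, 3, 0, 1, 3, 0, 2, 1, 2, 0, 1, 2, 0, 3], 140), (73, [1, 3, 0, 3, 1, 3, 0, 2, 1, 2, 0, 1, 2, 0, 2, 2, 2, 1, 3, 0], 205)], 34), ([(75, [2, 1, 3, 0, 1, 3, 0, 2, 1, 2, 0, 2, 1, 3, 0, 2, 2, 1, 2, 0, 2], 216), (73, [2, 1, 3, 0, 3, 3, 1, 3, 0, 1, 3, 0, 3, 1, 3, 0, 2, 1,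 2, 0], 184), (74, [2, 2, 1, 2, 0, 2, 2, 1, 3, 0, 3, 1, 3, 0, 2], 143)], 68), ([(74, [2, 1, 3, 0, 1, 3, 0, 2, 1, 2, 0, 2, 1, 3, 0, 2, 2, 1, 2, 0, 2], 216), (73, [1, 2, 0, 2, 1, 2, 0, 2, 1, 3, 0, 2, 2, 2, 1, 3, 0, 2], 32), (75, [1, 2, 0, 1, 2, 0, 3, 1, 3, 0, 2, 1, 2, 0, 2, 2, 1, 2, 0, 2, 1, 2, 0], 99)], 68), ([(80, [2, 1, 3, 0, 2, 1, 2, 0, 2, 2, 1, 2, 0], 171), (17, [2, 2, 1, 2, 0, 2, 2], 3923), (11, [3, 1, 3, 0, 2, 1, 2, 0, 1, 2, 0], 49988)], 0), ([(81, [2, 1, 3, 0, 2, 1, 2, 0, 2, 2, 1, 2, 0], 208), (65, [2, 2, 1, 2, 0, 1, 2, 0, 3, 3, 1, 3, 0, 1, 3, 0, 2, 2, 1, 2, 0], 108), (78, [3, 1, 2, 0, 1, 2, 0], 217)], 23), ([(87, [1, 2, 0, 1, 2, 0, 2, 1, 2, 0, 3, 1, 3, 0, 1, 3, 0, 3, 1, 3,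 0, 1, 3, 0], 175), (42, [2, 1, 2, 0, 2, 1, 3, 0, 1, 3, 0, 3, 1, 3, 0, 2, 1, 2, 0, 3, 1, 3, 0], 1280), (79, [2, 1, 3, 0, 3, 3, 1, 3, 0, 2, 1, 2, 0], 381)], 162), ([(86, [3, 1, 2, 0, 1, 2, 0, 2, 1, 2, 0, 1, 2, 0, 2, 2, 2, 1, 3, 0], 78), (63, [3, 1, 2, 0, 1, 2, 0, 2, 1, 2, 0, 1, 2, 0, 2, 2, 2, 1, 3, 0], 50), (76, [1, 3, 0, 2, 1, 2, 0], 379)], 51), ([(89, [2, 2, 2, 1, 2, 0, 1, 2, 0, 3, 3, 1, 2, 0, 1, 2, 0, 2, 1, 3, 0, 3, 3, 1, 2, 0], 207), (73, [3, 1, 2, 0, 2, 1, 2, 0, 1, 2, 0, 2, 1, 3, 0, 2, 2, 1, 2, 0, 1, 2, 0, 1, 2, 0], 110), (63, [3, 1, 3, 0, 2, 1, 2, 0, 1, 2, 0], 220)], 462), ([(88, [1, 2, 0, 1, 2, 0, 2, 1, 2, 0, 3, 1, 3, 0, 3, 1, 2, 0, 2, 1, 3, 0, 2, 2], 62), (80, [3, 1, 2, 0,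 1, 2, 0, 2, 1, 2, 0, 1, 2, 0, 2, 1, 3, 0], 6), (24, [3, 1, 3, 0, 2, 1, 2, 0, 1, 2, 0], 3705)], 300), ([(88, [3, 1, 2, 0, 2, 1, 2, 0, 2, 2, 2, 1, 2, 0, 2, 1, 2, 0], 40), (88, [1, 2, 0, 3, 3, 1, 3, 0, 2, 2, 1, 3, 0, 2, 1, 2, 0, 3], 345), (83, [2, 1, 2, 0, 1, 2, 0, 2, 1, 3, 0, 1, 3, 0, 3, 1, 2, 0, 2, 1, 3, 0], 260)], 411), ([(89, [2, 2, 1, 2, 0, 1, 2, 0, 1, 2, 0, 3, 3, 1, 2, 0, 3, 1, 3, 0, 3, 1, 2, 0], 425), (67, [1, 2, 0, 1, 2, 0, 2, 1, 2, 0, 3, 1, 3, 0, 1, 3, 0, 3, 1, 3, 0, 1, 3, 0, 2], 104), (40, [3, 1, 3, 0, 2, 1, 2, 0, 1, 2, 0], 927)], 0), ([(84, [3, 3, 1, 3, 0, 2, 2, 1, 3, 0, 2, 1, 2, 0, 2, 2, 1, 3, 0], 464), (60, [2, 1, 3, 0, 3, 1, 2, 0, 3, 3, 1, 2, 0, 1, 2, 0, 1, 2, 0, 3, 1,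 3, 0], 96), (85, [2, 1, 3, 0, 3, 1, 3, 0, 1, 3, 0, 3, 1, 2, 0, 2, 2, 1, 3, 0, 2], 161)], 129), ([(85, [3, 3, 1, 3, 0, 2, 2, 1, 3, 0, 2, 1, 2, 0, 2, 2, 1, 3, 0], 464), (90, [2, 1, 2, 0, 2, 1, 3, 0, 3, 1, 2, 0, 2, 2, 1, 2, 0, 3, 3, 1, 2, 0], 209), (57, [1, 2, 0, 2, 2, 1, 3, 0, 1, 3, 0, 2, 2, 1, 2, 0, 1, 2, 0, 1, 2, 0], 114)], 286), ([(91, [2, 2, 1, 3, 0, 2, 1, 2, 0, 2, 2, 1, 3, 0, 3, 1, 3, 0, 1, 3, 0], 203), (94, [1, 3, 0, 2, 2, 1, 2, 0, 1, 2, 0, 2, 1, 2, 0, 2, 1, 3, 0, 1, 3, 0], 352), (42, [3, 1, 2, 0, 3, 3, 1, 2, 0, 1, 2, 0, 1, 2, 0], 883)], 403), ([(90, [2, 2, 1, 3, 0, 2, 2, 1, 2, 0, 1, 2, 0, 2, 1, 3, 0, 2, 1, 2, 0], 98), (75, [2, 1, 3, 0, 3, 1, 2, 0, 2, 2, 1, 2, 0, 2, 2, 1, 2,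 0, 1, 2, 0], 81), (65, [1, 2, 0, 1, 2, 0, 3, 1, 3, 0, 2, 1, 2, 0, 1, 2, 0, 2, 1, 2, 0, 3], 85)], 241), ([(90, [1, 2, 0, 1, 2, 0, 2, 2, 1, 2, 0, 1, 2, 0, 2, 1, 2, 0, 2, 1, 3, 0, 1, 3, 0, 3], 282), (73, [1, 2, 0, 3, 3, 1, 3, 0, 1, 3, 0, 3, 1, 3, 0, 2, 1, 2, 0, 1, 2, 0], 151), (54, [3, 1, 3, 0, 2, 1, 2, 0, 1, 2, 0], 194)], 26), ([(91, [1, 2, 0, 1, 2, 0, 2, 2, 1, 2, 0, 1, 2, 0, 2, 1, 2, 0, 2, 1, 3, 0, 1, 3, 0, 3], 282), (95, [2, 2, 2, 1, 3, 0, 3, 3, 1, 2, 0, 1, 2, 0, 1, 2, 0, 3, 1, 3, 0, 3], 629), (88, [2, 1, 2, 0, 2, 2, 2, 1, 2, 0, 2, 1, 2, 0, 3, 3], 322)], 238), ([(85, [1, 3, 0, 2, 1, 2, 0, 3, 1, 3, 0, 3, 1, 2, 0, 2, 1, 3, 0, 3, 1, 2, 0], 246), (91, [3, 3, 1, 2, 0, 2, 1, 2, 0, 1, 2,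 0, 3, 3, 1, 2, 0], 82), (95, [2, 1, 2, 0, 2, 2, 1, 3, 0, 2, 2, 1, 2, 0, 2, 2, 1, 3, 0, 3], 590)], 185), ([(84, [1, 3, 0, 2, 1, 2, 0, 3, 1, 3, 0, 3, 1, 2, 0, 2, 1, 3, 0, 3, 1, 2, 0], 246), (74, [1, 3, 0, 3, 1, 2, 0, 2, 2, 1, 2, 0, 1, 2, 0, 2, 1, 2, 0], 180), (60, [3, 1, 3, 0, 2, 1, 2, 0, 1, 2, 0], 146)], 0), ([(92, [1, 2, 0, 1, 2, 0, 2, 2, 1, 3, 0, 2, 1, 2, 0, 2, 1, 3, 0, 3, 3, 1, 3, 0, 3], 550), (75, [1, 2, 0, 1, 2, 0, 2, 1, 3, 0, 3, 3, 1, 3, 0], 179), (55, [2, 1, 2, 0, 2, 2, 2, 1, 2, 0, 2, 1, 2, 0, 3, 3], 119)], 297), ([(96, [2, 1, 3, 0, 1, 3, 0, 3, 3, 1, 2, 0, 1, 2, 0, 2, 1, 2, 0, 3, 3, 1, 2, 0], 354), (94, [2, 1, 2, 0, 2, 2, 1, 3, 0, 3, 3, 1, 3, 0, 3, 1, 2, 0, 2], 18), (45, [3,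 1, 3, 0, 2, 1, 2, 0, 1, 2, 0], 220)], 0), ([(97, [2, 1, 3, 0, 1, 3, 0, 2, 1, 2, 0, 2, 1, 3, 0, 3, 3, 1, 2, 0, 2], 211), (74, [3, 1, 2, 0, 1, 2, 0, 1, 2, 0, 2, 2, 2, 1, 2, 0, 1, 2, 0], 182), (71, [2, 1, 3, 0, 3, 1, 2, 0, 2, 1, 3, 0, 3, 1, 3, 0, 2, 1, 2, 0, 1, 2, 0], 20)], 411), ([(98, [1, 2, 0, 3, 1, 3, 0, 3, 3, 1, 2, 0, 1, 2, 0, 3, 3, 1, 3, 0], 541), (95, [2, 1, 2, 0, 2, 1, 2, 0, 3, 3, 1, 2, 0, 1, 2, 0, 2, 1, 3, 0, 1, 3, 0, 3, 3], 286), (91, [1, 2, 0], 412)], 379), ([(92, [1, 2, 0, 1, 2, 0, 3, 1, 3, 0, 3, 1, 2, 0, 3, 1, 3, 0], 4), (73, [1, 3, 0, 3, 1, 3, 0, 1, 3, 0, 2, 2, 1, 2, 0, 3, 1, 3, 0, 3, 1, 2, 0], 118), (66, [3, 1, 3, 0, 2, 1, 2, 0, 1, 2, 0], 127)], 522), ([(92, [2, 1, 2,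 0, 2, 1, 2, 0, 1, 2, 0, 1, 2, 0, 2], 34), (66, [3, 1, 3, 0, 2, 1, 2, 0, 2, 1, 2, 0, 1, 2, 0, 3, 1, 3, 0], 122), (96, [2, 2, 2, 1, 2, 0, 2, 1, 3, 0, 3, 1, 3, 0, 1, 3, 0], 273)], 517), ([(92, [1, 2, 0, 3, 1, 3, 0, 3, 1, 2, 0, 2, 1, 2, 0, 1, 2, 0], 36), (55, [3, 1, 2, 0, 3, 3, 1, 2, 0, 3, 1, 3, 0], 39), (98, [2, 2, 2, 1, 2, 0, 2, 1, 3, 0, 2, 2, 1, 3, 0, 2, 2], 501)], 535), ([(99, [3, 1, 3, 0, 2, 1, 2, 0, 3, 1, 3, 0, 3], 22956), (59, [2, 1, 2, 0, 3, 3, 1, 3, 0, 2, 2, 1, 3, 0, 3, 3, 1, 3, 0, 2], 181), (61, [3, 1, 3, 0, 2, 1, 2, 0, 1, 2, 0], 162)], 2342), ([(100, [3, 1, 3, 0, 2, 1, 2, 0, 1, 2, 0], 30653), (100, [3, 1, 3, 0, 2, 1, 2, 0, 1, 2, 0], 16809), (100, [3, 1, 3, 0, 2, 1, 2, 0, 1,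 2, 0], 16809)], 26170)],
[([(0, [], 0), (5, [], 0), (2, [], 24400)], 0), ([(5, [], 13793), (2, [], 24400), (0, [], 0)], 63246), ([(6, [], 13793), (14, [], 2300), (3, [], 24400)], 63246), ([(7, [], 44394), (26, [], 9832), (4, [], 24400)], 22589), ([(8, [], 44394), (12, [], 2300), (1, [], 24400)], 22589), ([(9, [1, 2, 0, 2, 1, 3, 0, 3], 961), (19, [1, 2, 0, 1, 2, 0, 2, 2, 1, 3, 0, 2], 3350), (12, [1, 3, 0, 1, 3, 0, 3], 3655)], 117145), ([(9, [1, 2, 0, 2, 1, 3, 0, 1, 3, 0, 3, 1, 3, 0], 110217), (17, [1, 2, 0, 2, 1, 3, 0, 3], 4812), (5, [1, 3, 0, 1, 3, 0, 3], 43414)], 117145), ([(10, [1, 2, 0, 2, 1, 3, 0, 3], 15998), (34, [1, 2, 0, 2, 1, 3, 0, 3], 786), (14, [1, 3, 0, 1, 3, 0, 3], 2664)],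 117145), ([(10, [1, 2, 0, 2, 1, 3, 0, 1, 3, 0, 3, 1, 3, 0], 68564), (36, [1, 2, 0, 2, 1, 3, 0, 3], 893), (26, [1, 3, 0, 1, 3, 0, 3], 44236)], 117145), ([(11, [2, 2, 1, 2, 0, 3, 1, 3, 0], 43485), (80, [3, 1, 3, 0, 2, 2, 1, 3, 0], 54), (17, [1, 2, 0, 3, 1, 3, 0, 3], 3086)], 113367), ([(11, [2, 1, 2, 0, 3, 3, 1, 3, 0, 3, 1, 2, 0], 71176), (82, [3, 1, 3, 0, 2, 2, 1, 3, 0], 49), (31, [1, 2, 0, 3, 1, 3, 0, 3], 986)], 80773), ([(10, [2, 2, 1, 2, 0, 3, 1, 3, 0, 2], 81723), (40, [1, 2, 0, 1, 2, 0, 2, 2, 1, 3, 0, 3, 3, 1, 3, 0, 3, 1, 2, 0], 852), (77, [3, 1, 2, 0, 2, 1, 3, 0, 3, 3], 285)], 0), ([(18, [1, 2, 0, 2, 1, 3, 0, 3], 2562), (50, [1, 2, 0, 2, 1, 3, 0, 3], 146), (27, [1, 3, 0, 1, 3,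 0, 3], 40968)], 4647), ([(19, [1, 2, 0, 2, 1, 3, 0, 3], 2562), (17, [1, 2, 0, 2, 1, 3, 0, 1, 3, 0, 3, 1, 3, 0], 2187), (6, [1, 3, 0, 1, 3, 0, 3], 106196)], 4647), ([(20, [1, 2, 0, 2, 1, 3, 0, 3], 2908), (49, [1, 2, 0, 2, 1, 3, 0, 3], 14), (15, [1, 3, 0, 1, 3, 0, 3], 2664)], 4647), ([(21, [1, 2, 0, 2, 1, 3, 0, 3], 2908), (31, [1, 2, 0, 2, 1, 3, 0, 1, 3, 0, 3, 1, 3, 0], 1053), (8, [1, 3, 0, 1, 3, 0, 3], 40633)], 4647), ([(24, [3, 1, 3, 0, 2, 2, 1, 3, 0], 2853), (77, [2, 2, 1, 2, 0, 3, 1, 3, 0], 441), (9, [1, 2, 0, 3, 1, 3, 0, 3], 37093)], 2944), ([(24, [1, 2, 0, 2, 1, 2, 0, 3, 3, 1, 3, 0, 3, 1, 2, 0, 2, 1, 2, 0], 890), (87, [1, 2, 0, 2, 2, 1, 3, 0, 1, 3, 0, 3, 1, 3, 0, 2, 1, 2, 0,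 1, 2, 0], 34), (33, [1, 2, 0, 3, 1, 3, 0, 3], 862)], 4120), ([(24, [3, 1, 2, 0, 2, 2, 2, 1, 3, 0, 2, 2, 1, 2, 0], 2466), (80, [1, 2, 0, 1, 2, 0, 1, 2, 0, 3, 1, 3, 0, 3, 3, 1, 3, 0, 2, 2], 92), (19, [2, 1, 3, 0, 2, 2, 2, 1, 3, 0, 1, 3, 0, 2], 3544)], 3746), ([(24, [3, 3, 1, 3, 0, 1, 3, 0, 2, 1, 2, 0, 2, 1, 3, 0, 2], 754), (89, [1, 2, 0, 2, 1, 3, 0, 3, 3, 1, 2, 0, 1, 2, 0, 1, 2, 0, 2], 324), (47, [1, 2, 0, 3, 1, 3, 0, 3], 123)], 4497), ([(25, [1, 2, 0, 2, 1, 3, 0, 2, 2, 2, 1, 2, 0, 1, 2, 0, 1, 2, 0], 3273), (67, [2, 1, 2, 0, 1, 2, 0, 3, 1, 3, 0, 1, 3, 0, 3, 1, 3, 0, 1, 3, 0, 2, 1, 2, 0], 167), (34, [1, 2, 0, 3, 1, 3, 0, 3], 678)], 4497), ([(25, [1, 2, 0, 2, 1, 3, 0, 1, 3, 0, 3, 1,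 3, 0], 5036), (59, [1, 3, 0, 2, 1, 2, 0, 1, 2, 0, 2, 2, 1, 2, 0, 1, 2, 0, 2], 7), (49, [1, 2, 0, 3, 1, 3, 0, 3], 189)], 4497), ([(25, [2, 2, 2, 1, 2, 0, 3, 1, 3, 0, 2, 1, 2, 0, 1, 2, 0, 2, 1, 2, 0], 907), (58, [1, 3, 0, 2, 2, 1, 2, 0, 3, 1, 3, 0, 2, 1, 2, 0], 56), (23, [1, 2, 0, 1, 2, 0, 3, 3, 1, 2, 0, 1, 2, 0, 2, 1, 2, 0], 1165)], 1139), ([(25, [1, 3, 0, 2, 2, 1, 2, 0, 1, 2, 0, 2, 1, 2, 0, 1, 2, 0, 3], 2096), (56, [2, 1, 2, 0, 2, 1, 3, 0, 2, 2, 1, 3, 0, 1, 3, 0], 168), (30, [2, 1, 2, 0, 3, 1, 3, 0, 2, 1, 2, 0], 1105)], 2832), ([(19, [3, 3, 1, 3, 0, 2, 2, 1, 2, 0, 3, 1, 3, 0], 798), (24, [3, 1, 3, 0, 3, 1, 2, 0, 2, 2, 2], 1171), (80, [2, 1, 2, 0, 2, 1, 3, 0, 3, 1, 2, 0, 1, 2, 0,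 1, 2, 0, 2, 1, 2, 0], 134)], 1281), ([(25, [2, 2, 1, 3, 0, 3, 1, 3, 0, 2, 2, 1, 2, 0, 2, 1, 3, 0], 1306), (74, [2, 2, 1, 2, 0, 3, 1, 3, 0, 3, 3, 1, 2, 0, 1, 2, 0, 2, 1, 3, 0, 3, 1, 2, 0], 99), (58, [3, 1, 2, 0, 2, 1, 3, 0, 3, 3], 88)], 4816), ([(28, [1, 2, 0, 2, 1, 3, 0, 3], 40525), (31, [1, 2, 0, 2, 1, 3, 0, 3], 569), (7, [1, 3, 0, 1, 3, 0, 3], 94415)], 49255), ([(29, [1, 2, 0, 2, 1, 3, 0, 3], 41936), (47, [1, 2, 0, 2, 1, 3, 0, 3], 146), (13, [1, 3, 0, 1, 3, 0, 3], 3338)], 49255), ([(29, [1, 3, 0, 3, 1, 3, 0, 2, 2, 1, 2, 0], 59381), (67, [2, 1, 2, 0, 2, 1, 3, 0, 2, 1, 2, 0, 3, 1, 3, 0, 2], 102), (36, [1, 2, 0, 3, 1, 3, 0, 3], 727)], 48835), ([(28, [1, 3, 0, 3, 1, 3, 0, 2, 2, 1,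 2, 0], 67173), (44, [1, 3, 0, 2, 2, 2, 1, 3, 0, 2, 1, 2, 0, 3, 1, 3, 0], 484), (50, [1, 2, 0, 3, 1, 3, 0, 3], 92)], 48835), ([(40, [3, 1, 3, 0, 2, 2, 1, 3, 0], 917), (77, [2, 1, 2, 0, 3, 3, 1, 3, 0, 3, 1, 2, 0], 296), (10, [1, 2, 0, 3, 1, 3, 0, 3], 12597)], 783), ([(41, [3, 1, 3, 0, 2, 2, 1, 3, 0], 898), (58, [1, 3, 0, 3, 3, 1, 2, 0, 2, 1, 3, 0, 2, 2, 1, 2, 0], 4), (22, [3, 3, 1, 2, 0], 2404)], 762), ([(42, [3, 1, 3, 0, 2, 2, 1, 3, 0], 910), (80, [1, 2, 0, 2, 1, 2, 0, 1, 2, 0, 1, 2, 0, 3, 1, 3, 0, 2, 1, 2, 0, 1, 2, 0], 196), (16, [1, 2, 0, 3, 1, 3, 0, 3], 2017)], 1343), ([(43, [3, 1, 3, 0, 2, 2, 1, 3, 0], 965), (43, [1, 2, 0, 3, 3, 1, 2, 0, 2, 2, 1, 2, 0, 3, 3, 1, 3, 0, 2], 670),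 (32, [1, 2, 0, 3, 1, 3, 0, 3], 104)], 940), ([(44, [1, 2, 0, 2, 1, 3, 0, 3, 3, 1, 2, 0, 1, 2, 0, 1, 2, 0, 2], 779), (58, [2, 2, 1, 2, 0, 2, 1, 3, 0, 3, 1, 3, 0, 2, 2, 1, 2, 0, 3, 1, 3, 0], 103), (21, [2, 1, 3, 0, 2, 2, 2, 1, 3, 0, 1, 3, 0, 2], 3732)], 375), ([(44, [1, 2, 0, 1, 2, 0, 2, 1, 3, 0, 2, 2, 1, 3, 0, 2, 2, 1, 2, 0, 2], 1074), (50, [1, 3, 0, 3, 1, 3, 0, 2, 2, 1, 2, 0], 68), (28, [1, 2, 0, 3, 1, 3, 0, 3], 78915)], 540), ([(44, [1, 3, 0, 1, 3, 0, 3, 3, 1, 3, 0, 2, 1, 2, 0, 3, 1, 3, 0], 386), (70, [1, 2, 0, 1, 2, 0, 3, 1, 3, 0, 1, 3, 0, 3, 1, 2, 0, 1, 2, 0, 1, 2, 0, 3, 3], 182), (53, [1, 2, 0, 3, 1, 3, 0, 3], 139)], 1035), ([(45, [1, 2, 0, 2, 1, 3, 0, 3, 3, 1, 2, 0, 1, 2, 0,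 1, 2, 0, 2], 915), (92, [1, 2, 0, 2, 1, 3, 0, 3, 3, 1, 2, 0, 1, 2, 0, 1, 2, 0, 2], 291), (46, [1, 2, 0, 3, 1, 3, 0, 3], 123)], 783), ([(45, [1, 2, 0, 1, 2, 0, 2, 1, 3, 0, 2, 2, 1, 3, 0, 2, 2, 1, 2, 0, 2], 1034), (94, [1, 3, 0, 1, 3, 0, 3, 3, 1, 3, 0, 2, 1, 2, 0, 3, 1, 3, 0], 580), (39, [1, 2, 0, 3, 1, 3, 0, 3], 509)], 476), ([(45, [1, 3, 0, 1, 3, 0, 3, 3, 1, 3, 0, 2, 1, 2, 0, 3, 1, 3, 0], 419), (97, [1, 2, 0, 2, 1, 3, 0, 3, 3, 1, 2, 0, 1, 2, 0, 1, 2, 0, 2], 286), (51, [1, 2, 0, 3, 1, 3, 0, 3], 123)], 929), ([(43, [2, 2, 1, 2, 0, 2, 2, 1, 2, 0, 3, 1, 3, 0, 2, 1, 2, 0], 1391), (44, [1, 2, 0, 1, 2, 0, 3, 1, 3, 0, 1, 3, 0, 2, 2, 2, 1, 3, 0, 2, 1, 2, 0], 1119), (56, [3, 1, 2, 0, 2, 1,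 3, 0, 3, 3], 200)], 1341), ([(40, [2, 2, 1, 2, 0, 2, 2, 1, 2, 0, 3, 1, 3, 0, 2, 1, 2, 0], 261), (88, [1, 2, 0, 2, 1, 3, 0, 3, 1, 3, 0, 2, 1, 2, 0, 2, 1, 3, 0, 2, 1, 2, 0], 420), (82, [3, 1, 2, 0, 2, 1, 3, 0, 3, 3], 6)], 0), ([(41, [2, 2, 1, 2, 0, 2, 2, 1, 2, 0, 3, 1, 3, 0, 2, 1, 2, 0], 1142), (67, [1, 3, 0, 3, 3, 1, 3, 0, 3, 1, 2, 0, 2, 2, 1, 2, 0], 75), (43, [2, 2, 1, 3, 0, 3, 3, 1, 2, 0, 1, 2, 0, 2, 1, 3, 0, 1, 3, 0], 735)], 114), ([(43, [3, 1, 2, 0, 2, 2, 2, 1, 2, 0, 1, 2, 0, 2, 1, 3, 0, 1, 3, 0], 120), (40, [1, 3, 0, 3, 1, 3, 0, 1, 3, 0, 3, 1, 2, 0, 1, 2, 0, 2, 1, 2, 0], 435), (87, [2, 1, 2, 0, 1, 2, 0, 3, 1, 3, 0, 3, 3, 1, 3, 0], 204)], 770), ([(45, [2, 2, 1, 3, 0, 2, 2, 1,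 2, 0, 3, 3, 1, 2, 0, 1, 2, 0], 12), (93, [1, 2, 0, 1, 2, 0, 2, 1, 2, 0, 1, 2, 0, 2, 1, 3, 0, 1, 3, 0, 3, 3, 1, 3, 0, 3], 579), (67, [1, 3, 0, 2, 1, 2, 0, 3, 1, 3, 0, 3], 61)], 537), ([(44, [2, 2, 1, 3, 0, 2, 2, 1, 2, 0, 3, 3, 1, 2, 0, 1, 2, 0], 13), (71, [1, 2, 0, 2, 1, 3, 0, 2, 2, 1, 2, 0, 3, 3, 1, 2, 0, 3, 1, 3, 0, 1, 3, 0, 2], 207), (94, [3, 1, 2, 0, 2, 1, 3, 0, 3, 3], 459)], 0), ([(54, [1, 2, 0, 2, 1, 3, 0, 3, 3, 1, 2, 0, 1, 2, 0, 1, 2, 0, 2], 139), (80, [1, 2, 0, 3, 3, 1, 2, 0, 1, 2, 0, 2, 2, 1, 3, 0, 1, 3, 0], 20), (18, [1, 2, 0, 3, 1, 3, 0, 3], 4698)], 143), ([(55, [1, 2, 0, 2, 1, 3, 0, 3, 3, 1, 2, 0, 1, 2, 0, 1, 2, 0, 2], 139), (94, [1, 3, 0, 3, 1, 3, 0, 1, 3, 0, 2, 2, 1,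 2, 0, 1, 2, 0, 2], 297), (37, [2, 1, 3, 0, 2, 2, 2, 1, 3, 0, 1, 3, 0, 2], 829)], 165), ([(59, [1, 2, 0, 2, 1, 3, 0, 3, 3, 1, 2, 0, 1, 2, 0, 1, 2, 0, 2], 120), (58, [1, 2, 0, 2, 1, 3, 0, 2, 2, 2, 1, 2, 0, 1, 2, 0, 1, 2, 0], 122), (20, [1, 2, 0, 3, 1, 3, 0, 3], 3865)], 143), ([(60, [1, 2, 0, 2, 1, 3, 0, 3, 3, 1, 2, 0, 1, 2, 0, 1, 2, 0, 2], 120), (90, [1, 3, 0, 3, 1, 3, 0, 1, 3, 0, 2, 2, 1, 2, 0, 1, 2, 0, 2], 432), (48, [2, 1, 3, 0, 2, 2, 2, 1, 3, 0, 1, 3, 0, 2], 137)], 141), ([(66, [1, 2, 0, 2, 1, 3, 0, 3, 3, 1, 2, 0, 1, 2, 0, 1, 2, 0, 2], 139), (94, [1, 2, 0, 1, 2, 0, 2, 1, 3, 0, 2, 2, 1, 3, 0, 2, 2, 1, 2, 0, 2], 471), (38, [1, 2, 0, 3, 1, 3, 0, 3], 1071)], 143), ([(67, [1, 2, 0,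 2, 1, 3, 0, 3, 3, 1, 2, 0, 1, 2, 0, 1, 2, 0, 2], 139), (36, [1, 3, 0, 3, 1, 3, 0, 2, 2, 1, 2, 0], 713), (29, [1, 2, 0, 3, 1, 3, 0, 3], 76013)], 143), ([(70, [1, 2, 0, 2, 1, 3, 0, 3, 3, 1, 2, 0, 1, 2, 0, 1, 2, 0, 2], 120), (67, [2, 2, 1, 3, 0, 2, 1, 2, 0, 2, 1, 3, 0, 2, 2, 1, 3, 0, 3, 1, 3, 0, 2], 204), (35, [1, 2, 0, 3, 1, 3, 0, 3], 604)], 43), ([(71, [1, 2, 0, 2, 1, 3, 0, 3, 3, 1, 2, 0, 1, 2, 0, 1, 2, 0, 2], 120), (93, [1, 3, 0, 2, 2, 2, 1, 3, 0, 2, 1, 2, 0, 3, 1, 3, 0], 624), (52, [1, 2, 0, 3, 1, 3, 0, 3], 228)], 143), ([(59, [3, 1, 2, 0, 1, 2, 0, 1, 2, 0, 2, 1, 2, 0, 1, 2, 0, 3, 1, 3, 0, 3, 1, 2, 0], 226), (71, [3, 3, 1, 3, 0, 2, 1, 2, 0, 1, 2, 0, 2], 52), (92, [3, 1, 2, 0, 2,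 1, 3, 0, 3, 3], 375)], 0), ([(60, [3, 1, 2, 0, 1, 2, 0, 1, 2, 0, 2, 1, 2, 0, 1, 2, 0, 3, 1, 3, 0, 3, 1, 2, 0], 226), (88, [1, 3, 0, 3, 3, 1, 2, 0, 1, 2, 0, 2, 1, 3, 0, 3, 1, 2, 0, 3, 3], 356), (89, [3, 1, 2, 0, 2, 1, 3, 0, 3, 3], 314)], 0), ([(66, [2, 1, 2, 0, 2, 1, 3, 0, 2, 2, 1, 2, 0, 1, 2, 0, 3], 229), (94, [3, 1, 3, 0, 3, 1, 2, 0, 2, 1, 2, 0, 1, 2, 0, 2, 1, 3, 0, 2, 2], 532), (41, [2, 2, 1, 3, 0, 3, 3, 1, 2, 0, 1, 2, 0, 2, 1, 3, 0, 1, 3, 0], 475)], 16), ([(74, [1, 2, 0, 1, 2, 0, 2, 2, 1, 3, 0, 2, 1, 2, 0, 2, 1, 3, 0, 1, 3, 0, 3, 3, 1, 2, 0, 3], 33), (58, [2, 2, 1, 3, 0, 3, 1, 3, 0, 2, 2, 1, 2, 0, 2, 1, 3, 0], 74), (25, [3, 1, 2, 0, 2, 1, 3, 0, 3, 3], 324)], 184), ([(74, [1, 2,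 0, 3, 1, 3, 0, 1, 3, 0, 2, 2, 2, 1, 3, 0, 2, 1, 2, 0, 3, 1, 3, 0], 96), (60, [2, 2, 2, 1, 2, 0, 2, 2, 2, 1, 2, 0, 1, 2, 0, 1, 2, 0, 3], 143), (84, [1, 2, 0, 3, 3, 1, 2, 0, 1, 2, 0, 2, 1, 2, 0, 3, 1, 3, 0, 1, 3, 0, 3], 225)], 5), ([(54, [3, 1, 2, 0, 1, 2, 0, 1, 2, 0, 2, 1, 2, 0, 1, 2, 0, 3, 1, 3, 0, 3, 1, 2, 0], 188), (88, [1, 3, 0, 2, 2, 1, 3, 0, 1, 3, 0, 3, 1, 2, 0, 2, 2, 1, 3, 0, 1, 3, 0], 497), (90, [3, 1, 2, 0, 2, 1, 3, 0, 3, 3], 289)], 146), ([(55, [3, 1, 2, 0, 1, 2, 0, 1, 2, 0, 2, 1, 2, 0, 1, 2, 0, 3, 1, 3, 0, 3, 1, 2, 0], 188), (93, [1, 2, 0, 1, 2, 0, 1, 2, 0, 2, 1, 2, 0, 2, 1, 3, 0, 3, 1, 3, 0, 2, 1, 2, 0, 3], 283), (59, [1, 2, 0, 2, 2, 1, 3, 0, 1, 3, 0, 3, 1, 2, 0, 2, 2,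 1, 2, 0, 1, 2, 0], 12)], 204), ([(60, [1, 2, 0, 1, 2, 0, 1, 2, 0, 2, 1, 2, 0, 1, 2, 0, 2, 1, 3, 0, 1, 3, 0, 2, 1, 2, 0, 2], 208), (89, [1, 2, 0, 1, 2, 0, 1, 2, 0, 2, 1, 2, 0, 3, 1, 3, 0, 3, 3, 1, 2, 0, 2, 1, 2, 0], 424), (68, [1, 3, 0, 3], 48)], 156), ([(59, [1, 2, 0, 1, 2, 0, 1, 2, 0, 2, 1, 2, 0, 1, 2, 0, 2, 1, 3, 0, 1, 3, 0, 2, 1, 2, 0, 2], 208), (61, [1, 2, 0, 1, 2, 0, 3, 1, 3, 0, 3, 1, 2, 0, 2, 1, 3, 0, 3, 3], 93), (99, [1, 2, 0, 3, 1, 3, 0, 3], 13317)], 156), ([(59, [1, 2, 0, 1, 2, 0, 3, 3, 1, 2, 0, 1, 2, 0, 2, 1, 3, 0, 3, 3, 1, 2, 0], 233), (59, [1, 2, 0, 1, 2, 0, 3, 3, 1, 3, 0, 2, 1, 2, 0, 1, 2, 0, 2, 1, 2, 0, 2], 154), (64, [1, 3, 0, 3, 3, 1, 3, 0, 3, 1, 2, 0, 2, 2, 1, 2,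 0], 198)], 215), ([(54, [2, 2, 2, 1, 2, 0, 1, 2, 0, 1, 2, 0, 3, 1, 3, 0, 2, 1, 2, 0, 1, 2, 0, 3], 69), (88, [2, 1, 3, 0, 1, 3, 0, 3, 1, 2, 0, 2, 2, 1, 2, 0, 1, 2, 0, 1, 2, 0], 315), (81, [3, 1, 2, 0, 2, 1, 3, 0, 3, 3], 17)], 0), ([(56, [1, 3, 0, 1, 3, 0, 3, 3, 1, 3, 0, 2, 1, 2, 0, 3, 1, 3, 0], 160), (40, [1, 2, 0, 3, 1, 3, 0, 2, 1, 2, 0, 2, 2, 1, 2, 0, 3, 3], 380), (86, [1, 2, 0, 2, 1, 2, 0, 1, 2, 0, 3, 1, 3, 0, 1, 3, 0, 2, 1, 2, 0, 3, 1, 3, 0], 235)], 108), ([(70, [3, 1, 2, 0, 2, 2, 2, 1, 2, 0, 1, 2, 0, 2, 1, 3, 0, 1, 3, 0], 51), (67, [1, 2, 0, 1, 2, 0, 2, 2, 2, 1, 3, 0, 2, 1, 2, 0, 1, 2, 0], 232), (44, [2, 1, 2, 0, 1, 2, 0, 2, 1, 2, 0, 3, 3, 1, 2, 0], 1295)], 177), ([(71, [3, 1,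 2, 0, 2, 2, 2, 1, 2, 0, 1, 2, 0, 2, 1, 3, 0, 1, 3, 0], 51), (98, [1, 3, 0, 3, 1, 3, 0, 1, 3, 0, 3, 1, 3, 0, 1, 3, 0, 2, 2, 1, 2, 0], 171), (97, [3, 1, 2, 0, 2, 1, 3, 0, 3, 3], 1)], 0), ([(67, [1, 2, 0, 1, 2, 0, 1, 2, 0, 2, 1, 2, 0, 1, 2, 0, 2, 1, 3, 0, 1, 3, 0, 2, 1, 2, 0, 2], 93), (44, [1, 2, 0, 2, 1, 3, 0, 3, 1, 2, 0, 1, 2, 0, 1, 2, 0, 3, 1, 3, 0], 1260), (69, [1, 2, 0, 3, 1, 3, 0, 3], 64)], 113), ([(66, [1, 2, 0, 1, 2, 0, 1, 2, 0, 2, 1, 2, 0, 1, 2, 0, 2, 1, 3, 0, 1, 3, 0, 2, 1, 2, 0, 2], 93), (93, [1, 2, 0, 2, 1, 3, 0, 3, 1, 2, 0, 1, 2, 0, 1, 2, 0, 3, 1, 3, 0], 490), (62, [2, 1, 3, 0, 1, 3, 0, 3], 186)], 156), ([(66, [3, 1, 2, 0, 2, 2, 2, 1, 2, 0, 1, 2, 0, 2, 1, 3, 0, 1, 3, 0],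 59), (98, [1, 3, 0, 2, 2, 1, 2, 0, 2, 1, 3, 0, 2, 2, 1, 2, 0, 1, 2, 0, 2], 219), (93, [2, 1, 2, 0, 1, 2, 0, 2, 1, 2, 0, 3, 3, 1, 2, 0], 444)], 56), ([(67, [3, 1, 2, 0, 2, 2, 2, 1, 2, 0, 1, 2, 0, 2, 1, 3, 0, 1, 3, 0], 59), (44, [3, 1, 2, 0, 1, 2, 0, 1, 2, 0, 2, 1, 3, 0, 1, 3, 0, 2, 1, 2, 0], 1287), (70, [1, 2, 0, 3, 3, 1, 2, 0, 1, 2, 0, 2, 2, 1, 2, 0, 2, 1, 3, 0], 196)], 146), ([(75, [1, 2, 0, 2, 1, 2, 0, 1, 2, 0, 3, 3, 1, 3, 0, 1, 3, 0, 3, 1, 2, 0, 2], 0), (75, [3, 1, 2, 0, 1, 2, 0, 1, 2, 0, 2, 1, 2, 0, 1, 2, 0, 2, 1, 2, 0], 189), (72, [1, 2, 0, 1, 2, 0, 3, 1, 3, 0, 3, 3, 1, 2, 0, 1, 2, 0, 2, 2, 1, 3, 0, 2, 2], 10)], 220), ([(74, [1, 2, 0, 2, 1, 2, 0, 1, 2, 0, 3, 3, 1, 3, 0, 1, 3,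 0, 3, 1, 2, 0, 2], 0), (62, [2, 2, 1, 3, 0, 3, 3, 1, 3, 0, 1, 3, 0, 2, 2, 1, 2, 0, 3], 126), (73, [2, 2, 1, 2, 0, 2, 2, 2, 1, 3, 0, 2, 1, 2, 0, 1, 2, 0, 3], 111)], 34), ([(73, [1, 2, 0, 1, 2, 0, 2, 2, 1, 2, 0, 1, 2, 0, 3], 58), (75, [1, 2, 0, 2, 2, 1, 2, 0, 2, 1, 3, 0, 3, 1, 3, 0, 2, 2, 1, 2, 0], 81), (74, [2, 1, 3, 0, 2, 2, 1, 3, 0, 3, 3, 1, 3, 0, 2, 1, 2, 0, 2], 180)], 68), ([(72, [1, 2, 0, 1, 2, 0, 2, 2, 1, 2, 0, 1, 2, 0, 3], 58), (72, [2, 1, 2, 0, 1, 2, 0, 2, 2, 2, 1, 3, 0, 2, 1, 2, 0, 3, 1, 3, 0], 141), (75, [2, 1, 3, 0, 3, 3, 1, 3, 0, 2, 1, 2, 0, 2, 1, 2, 0, 1, 2, 0, 1, 2, 0], 125)], 159), ([(82, [1, 2, 0, 1, 2, 0, 2, 2, 1, 3, 0, 3, 3, 1, 3, 0, 3, 1, 2, 0], 144), (31, [2, 2,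 1, 2, 0, 3, 1, 3, 0, 2], 1010), (11, [3, 1, 2, 0, 2, 1, 3, 0, 3, 3], 116660)], 0), ([(83, [1, 2, 0, 1, 2, 0, 2, 2, 1, 3, 0, 3, 3, 1, 3, 0, 3, 1, 2, 0], 437), (85, [1, 2, 0, 3, 1, 3, 0, 2, 1, 2, 0, 1, 2, 0, 2, 1, 2, 0, 2, 2, 1, 3, 0], 179), (78, [1, 3, 0, 1, 3, 0, 3, 1, 2, 0, 2, 1, 2, 0, 2], 47)], 218), ([(87, [2, 1, 2, 0, 2, 2, 2, 1, 2, 0, 1, 2, 0, 3], 233), (42, [3, 1, 3, 0, 3, 1, 2, 0, 3, 3, 1, 3, 0, 2, 1, 2, 0], 1093), (79, [2, 1, 2, 0, 2, 2, 1, 2, 0, 1, 2, 0, 2], 383)], 178), ([(86, [3, 1, 2, 0, 1, 2, 0, 3, 1, 3, 0, 1, 3, 0, 2, 2, 2, 1, 2, 0], 171), (63, [3, 1, 2, 0, 1, 2, 0, 3, 1, 3, 0, 1, 3, 0, 2, 2, 2, 1, 2, 0], 50), (76, [1, 2, 0, 3, 3, 1, 2, 0, 1, 2, 0, 2], 443)], 164),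 ([(88, [2, 2, 2, 1, 2, 0, 2, 1, 2, 0, 1, 2, 0, 2, 1, 3, 0, 2, 2], 228), (90, [1, 2, 0, 1, 2, 0, 3, 3, 1, 2, 0, 1, 2, 0, 2, 1, 3, 0, 3, 3, 1, 2, 0], 423), (63, [3, 1, 2, 0, 2, 1, 3, 0, 3, 3], 180)], 462), ([(89, [1, 2, 0, 1, 2, 0, 2, 2, 1, 2, 0, 1, 2, 0, 3, 3, 1, 3, 0, 1, 3, 0], 65), (47, [3, 3, 1, 3, 0, 2, 2, 1, 2, 0, 3, 1, 3, 0], 147), (24, [3, 1, 2, 0, 2, 1, 3, 0, 3, 3], 798)], 300), ([(89, [1, 2, 0, 2, 1, 3, 0, 2, 1, 2, 0, 2, 2], 199), (65, [2, 2, 2, 1, 2, 0, 3, 1, 3, 0, 3, 1, 2, 0, 2], 204), (83, [2, 1, 2, 0, 2, 1, 2, 0, 1, 2, 0, 1, 2, 0, 3, 1, 3, 0, 1, 3, 0, 3], 235)], 411), ([(88, [2, 1, 3, 0, 3, 1, 3, 0, 2, 1, 2, 0, 2, 1, 3, 0, 1, 3, 0, 3, 1, 2, 0, 2, 1, 3, 0], 454), (87,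 [2, 1, 3, 0, 3, 1, 3, 0, 2, 1, 2, 0, 1, 2, 0], 52), (40, [3, 1, 2, 0, 2, 1, 3, 0, 3, 3], 1135)], 0), ([(90, [2, 1, 2, 0, 2, 1, 2, 0, 3, 3, 1, 2, 0, 3, 1, 3, 0, 2, 1, 2, 0], 57), (60, [2, 2, 1, 2, 0, 3, 3, 1, 2, 0, 3, 1, 3, 0, 1, 3, 0, 2, 2, 1, 3, 0, 2], 212), (85, [3, 1, 2, 0, 2, 2, 1, 3, 0, 3, 3, 1, 2, 0, 3, 1, 3, 0], 3)], 244), ([(91, [2, 1, 2, 0, 2, 1, 2, 0, 3, 3, 1, 2, 0, 3, 1, 3, 0, 2, 1, 2, 0], 57), (92, [3, 1, 3, 0, 3, 1, 2, 0, 2, 2, 2, 1, 3, 0, 3, 1, 2, 0, 1, 2, 0], 6), (57, [3, 1, 2, 0, 2, 1, 2, 0, 3, 1, 3, 0, 2, 1, 2, 0, 2, 1, 3, 0, 3], 168)], 253), ([(90, [1, 2, 0, 3, 1, 3, 0, 3, 1, 2, 0, 2, 1, 3, 0, 1, 3, 0, 3, 1, 2, 0], 76), (67, [2, 2, 1, 3, 0, 2, 2, 1, 3, 0, 3, 3,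 1, 3, 0, 2, 2, 1, 2, 0, 3], 91), (42, [3, 3, 1, 2, 0, 2, 2, 1, 3, 0, 3, 3], 896)], 432), ([(91, [3, 1, 2, 0, 2, 1, 2, 0, 1, 2, 0, 3, 1, 3, 0, 3, 3, 1, 3, 0], 92), (92, [1, 2, 0, 1, 2, 0, 3, 3, 1, 2, 0, 1, 2, 0, 2, 1, 3, 0, 3, 3, 1, 2, 0], 611), (65, [2, 2, 1, 2, 0, 1, 2, 0, 1, 2, 0, 2, 1, 3, 0, 3, 1, 3, 0, 1, 3, 0], 40)], 129), ([(88, [1, 2, 0, 1, 2, 0, 2, 2, 1, 3, 0, 3, 3, 1, 2, 0, 1, 2, 0, 2, 2, 1, 3, 0], 293), (90, [3, 1, 2, 0, 1, 2, 0, 1, 2, 0, 2, 1, 2, 0, 1, 2, 0, 3, 1, 3, 0, 3, 1, 2, 0], 350), (54, [3, 1, 2, 0, 2, 1, 3, 0, 3, 3], 188)], 26), ([(89, [1, 2, 0, 1, 2, 0, 2, 2, 1, 3, 0, 3, 3, 1, 2, 0, 1, 2, 0, 2, 2, 1, 3, 0], 293), (60, [1, 3, 0, 3, 1, 3, 0, 2, 1, 2, 0, 3, 3, 1,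 3, 0, 2, 1, 2, 0, 3, 1, 3, 0, 1, 3, 0], 224), (88, [3, 1, 3, 0, 1, 3, 0, 2, 2, 1, 2, 0, 2, 2, 1, 3, 0], 359)], 238), ([(89, [1, 3, 0, 3, 1, 3, 0, 1, 3, 0, 2, 2, 1, 2, 0, 1, 2, 0, 3, 3, 1, 3, 0], 356), (66, [2, 2, 1, 3, 0, 2, 2, 1, 3, 0, 2, 1, 2, 0, 1, 2, 0], 179), (95, [1, 2, 0, 1, 2, 0, 1, 2, 0, 2, 2, 1, 2, 0, 2, 2, 1, 3, 0], 155)], 185), ([(88, [1, 3, 0, 3, 1, 3, 0, 1, 3, 0, 2, 2, 1, 2, 0, 1, 2, 0, 3, 3, 1, 3, 0], 356), (89, [3, 1, 2, 0, 1, 2, 0, 1, 2, 0, 2, 1, 2, 0, 1, 2, 0, 3, 1, 3, 0, 3, 1, 2, 0], 314), (60, [3, 1, 2, 0, 2, 1, 3, 0, 3, 3], 226)], 0), ([(94, [1, 2, 0, 2, 2, 2, 1, 2, 0, 3, 1, 3, 0, 2, 2, 2, 1, 2, 0], 402), (44, [2, 1, 3, 0, 1, 3, 0, 3, 1, 3, 0, 1, 3, 0, 2, 1,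 2, 0, 1, 2, 0, 2, 1, 2, 0], 6), (55, [3, 1, 3, 0, 1, 3, 0, 2, 2, 1, 2, 0, 2, 2, 1, 3, 0], 175)], 297), ([(93, [3, 1, 2, 0, 1, 2, 0, 3, 3, 1, 3, 0, 1, 3, 0, 3, 3], 574), (67, [1, 2, 0, 1, 2, 0, 2, 1, 3, 0, 2, 1, 2, 0, 2, 2, 1, 3, 0, 2], 106), (45, [3, 1, 2, 0, 2, 1, 3, 0, 3, 3], 1173)], 0), ([(94, [2, 2, 2, 1, 3, 0, 3, 3, 1, 3, 0, 2, 1, 2, 0, 1, 2, 0, 2], 583), (44, [1, 2, 0, 1, 2, 0, 2, 1, 2, 0, 1, 2, 0, 2, 1, 3, 0, 1, 3, 0, 3, 3, 1, 3, 0, 3], 166), (71, [1, 3, 0, 2, 1, 2, 0, 3, 1, 3, 0, 3], 216)], 411), ([(97, [1, 2, 0, 1, 2, 0, 1, 2, 0, 2, 1, 2, 0, 2, 2, 1, 3, 0, 3, 1, 3, 0], 581), (54, [2, 1, 2, 0, 1, 2, 0, 3, 1, 3, 0, 3, 1, 2, 0, 2, 2, 2, 1, 3, 0, 1, 3, 0], 100), (91, [1, 3,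 0, 3, 1, 2, 0, 1, 2, 0, 2, 1, 3, 0, 3, 3], 319)], 379), ([(98, [1, 2, 0, 3, 3, 1, 3, 0, 2, 2, 1, 2, 0, 1, 2, 0, 1, 2, 0], 63), (93, [2, 1, 3, 0, 3, 1, 3, 0, 2, 1, 2, 0, 1, 2, 0, 3, 1, 3, 0, 2], 589), (66, [3, 1, 2, 0, 2, 1, 3, 0, 3, 3], 78)], 522), ([(98, [2, 1, 2, 0, 2, 2, 1, 3, 0, 3, 1, 2, 0, 3, 1, 3, 0, 3, 1, 2, 0], 100), (98, [1, 2, 0, 1, 2, 0, 3, 1, 3, 0, 1, 3, 0, 3, 1, 3, 0, 1, 3, 0], 416), (96, [1, 2, 0, 3, 3, 1, 2, 0, 1, 2, 0, 2, 2, 1, 2, 0, 2, 1, 3, 0], 366)], 517), ([(98, [1, 2, 0, 3, 1, 3, 0, 1, 3, 0, 2, 2, 1, 3, 0, 1, 3, 0, 3, 3], 55), (96, [2, 2, 2, 1, 3, 0, 3, 1, 2, 0, 2, 2, 1, 3, 0, 2], 184), (98, [1, 2, 0, 2, 2, 1, 2, 0, 1, 2, 0, 3, 1, 3, 0, 3], 351)], 50), ([(99,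 [1, 2, 0, 1, 2, 0, 3, 1, 3, 0, 3, 1, 2, 0, 2, 1, 3, 0, 3, 3], 29192), (59, [2, 2, 2, 1, 2, 0, 1, 2, 0, 2, 1, 2, 0, 3, 1, 3, 0, 2, 2, 2], 14), (61, [1, 2, 0, 3, 1, 3, 0, 3], 154)], 2331), ([(99, [2, 2, 1, 2, 0, 1, 2, 0, 2, 1, 2, 0, 2, 2, 1, 3, 0, 3], 29417), (61, [2, 2, 1, 2, 0, 1, 2, 0, 2, 1, 2, 0, 2, 2, 1, 3, 0, 3], 191), (100, [3, 1, 2, 0, 2, 1, 3, 0], 6721)], 24528)],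
[([(0, [], 0), (5, [], 0), (2, [], 24400)], 0), ([(5, [], 44394), (2, [], 24400), (0, [], 0)], 22589), ([(6, [], 44394), (14, [], 2300), (3, [], 24400)], 22589), ([(7, [], 13793), (26, [], 9832), (4, [], 24400)], 63246), ([(8, [], 13793), (12, [], 2300), (1, [], 24400)], 63246), ([(9, [2, 2, 2, 1, 3, 0], 33139), (19, [3, 1, 2, 0, 2, 2, 2, 1, 3, 0], 2758), (12, [3, 3, 1, 3, 0], 2983)], 117145), ([(9, [2, 2, 1, 3, 0, 3], 9963), (17, [2, 2, 2, 1, 3, 0], 2999), (5, [3, 3, 1, 3, 0], 4220)], 117145), ([(10, [2, 2, 2, 1, 3, 0], 44340), (34, [2, 2, 1, 3, 0, 3, 1, 2, 0, 3, 1, 3, 0, 3], 843), (14, [3, 3, 1, 3, 0], 3214)], 117145), ([(10, [2, 2, 1, 3, 0, 3], 85973), (36, [3, 1, 2, 0, 2, 2,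 2, 1, 3, 0], 556), (26, [3, 3, 1, 3, 0], 31284)], 117145), ([(11, [3, 1, 2, 0, 2, 1, 3, 0, 2, 1, 2, 0, 3], 19669), (80, [2, 1, 2, 0, 2, 1, 2, 0, 1, 2, 0, 2, 1, 3, 0, 1, 3, 0, 2], 44), (17, [2, 1, 3, 0, 2, 1, 2, 0], 2958)], 111319), ([(11, [1, 2, 0, 1, 2, 0, 2, 1, 3, 0, 3, 1, 2, 0], 13960), (82, [2, 1, 2, 0, 2, 1, 2, 0, 1, 2, 0, 2, 1, 3, 0, 1, 3, 0, 2], 179), (31, [2, 1, 3, 0, 2, 1, 2, 0], 959)], 63558), ([(10, [2, 2, 2, 1, 3, 0, 3, 3, 1, 3, 0], 114197), (40, [1, 2, 0, 2, 1, 2, 0, 1, 2, 0, 1, 2, 0, 3, 1, 3, 0], 765), (77, [2, 2, 1, 3, 0, 2, 2, 1, 2, 0], 473)], 125034), ([(18, [2, 2, 1, 3, 0, 3, 1, 2, 0, 3, 1, 3, 0, 3], 4730), (50, [3, 1, 2, 0, 2, 2, 2, 1, 3, 0], 67), (27, [3, 3, 1,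 3, 0], 31284)], 4647), ([(19, [2, 2, 1, 3, 0, 3, 1, 2, 0, 3, 1, 3, 0, 3], 4730), (17, [2, 2, 1, 3, 0, 3], 1936), (6, [3, 3, 1, 3, 0], 94645)], 4647), ([(20, [2, 2, 1, 3, 0, 3, 1, 2, 0, 3, 1, 3, 0, 3], 2659), (49, [2, 2, 1, 3, 0, 3, 1, 2, 0, 3, 1, 3, 0, 3], 14), (15, [3, 3, 1, 3, 0], 3214)], 4647), ([(21, [2, 2, 1, 3, 0, 3, 1, 2, 0, 3, 1, 3, 0, 3], 2659), (31, [2, 2, 1, 3, 0, 3], 843), (8, [3, 3, 1, 3, 0], 43296)], 4647), ([(24, [2, 1, 2, 0, 2, 1, 2, 0, 1, 2, 0, 2, 1, 3, 0, 1, 3, 0, 2], 4803), (77, [3, 1, 2, 0, 2, 1, 3, 0, 2, 1, 2, 0, 3], 284), (9, [2, 1, 3, 0, 2, 1, 2, 0], 117429)], 2826), ([(24, [2, 1, 3, 0, 3, 1, 3, 0, 2, 2, 1, 2, 0, 1, 2, 0, 2, 2, 1, 3, 0, 3], 1945), (87, [1,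 2, 0, 2, 2, 1, 3, 0, 2, 1, 2, 0, 3, 1, 3, 0, 1, 3, 0], 217), (33, [2, 1, 3, 0, 2, 1, 2, 0], 990)], 4171), ([(24, [1, 2, 0, 1, 2, 0, 3, 1, 3, 0, 1, 3, 0, 2, 1, 2, 0, 2, 2, 1, 3, 0], 527), (80, [1, 3, 0, 3, 1, 2, 0, 1, 2, 0, 1, 2, 0, 2, 1, 3, 0, 3, 1, 2, 0, 2], 156), (19, [2, 2, 2, 1, 3, 0, 3, 1, 3, 0, 2, 2], 4553)], 3981), ([(24, [2, 1, 3, 0, 3, 3, 1, 3, 0, 2, 1, 2, 0, 2, 2], 1006), (89, [2, 1, 2, 0, 2, 1, 2, 0, 1, 2, 0, 2, 1, 3, 0, 1, 3, 0, 2], 498), (47, [2, 1, 3, 0, 3, 1, 3, 0], 151)], 4497), ([(25, [2, 1, 2, 0, 2, 1, 2, 0, 1, 2, 0, 2, 1, 3, 0, 1, 3, 0, 2], 3863), (67, [3, 1, 2, 0, 1, 2, 0, 2, 1, 3, 0, 3, 1, 2, 0, 2], 91), (34, [2, 1, 3, 0, 3, 1, 3, 0], 943)], 4497), ([(25, [1,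 3, 0, 3, 3, 1, 3, 0, 2, 2, 1, 3, 0, 3, 3], 2668), (59, [2, 1, 3, 0, 1, 3, 0, 3, 1, 3, 0, 1, 3, 0, 2, 1, 2, 0, 1, 2, 0, 2, 1, 2, 0, 3], 53), (49, [2, 1, 3, 0, 3, 1, 3, 0], 211)], 4497), ([(25, [2, 2, 1, 2, 0, 1, 2, 0, 3, 3, 1, 3, 0, 3], 926), (58, [2, 1, 2, 0, 3, 3, 1, 2, 0, 1, 2, 0, 2, 1, 2, 0, 2, 2, 1, 3, 0, 3], 33), (23, [1, 2, 0, 2, 1, 3, 0, 3, 1, 2, 0, 2, 1, 2, 0, 1, 2, 0], 93)], 888), ([(25, [3, 1, 2, 0, 3, 1, 3, 0, 2], 1801), (56, [2, 1, 3, 0, 1, 3, 0, 2, 2, 1, 2, 0, 3, 3, 1, 2, 0, 1, 2, 0], 145), (30, [2, 2, 1, 2, 0, 2, 1, 3, 0, 3, 1, 3, 0, 2, 1, 2, 0], 1179)], 4178), ([(19, [2, 2, 2, 1, 2, 0, 2, 2, 2, 1, 3, 0, 2], 1568), (24, [1, 3, 0, 3, 1, 3, 0, 1, 3, 0, 3, 1, 3, 0, 1,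 3, 0, 2, 1, 2, 0], 1229), (80, [1, 2, 0, 1, 2, 0, 1, 2, 0, 2, 2, 1, 2, 0, 2, 1, 2, 0, 1, 2, 0], 37)], 2230), ([(25, [1, 2, 0, 1, 2, 0, 1, 2, 0, 2, 2, 2, 1, 2, 0, 3, 3], 290), (75, [1, 3, 0, 2, 2, 1, 3, 0, 2, 1, 2, 0, 1, 2, 0, 3, 3, 1, 3, 0], 112), (58, [1, 3, 0, 2, 1, 2, 0, 3, 1, 3, 0, 1, 3, 0], 123)], 4816), ([(28, [3, 1, 2, 0, 2, 2, 2, 1, 3, 0], 16840), (31, [2, 2, 2, 1, 3, 0], 752), (7, [3, 3, 1, 3, 0], 93538)], 49255), ([(29, [3, 1, 2, 0, 2, 2, 2, 1, 3, 0], 16840), (47, [2, 2, 1, 3, 0, 3, 1, 2, 0, 3, 1, 3, 0, 3], 67), (13, [3, 3, 1, 3, 0], 3203)], 49255), ([(29, [2, 1, 3, 0, 3, 1, 3, 0, 2, 1, 2, 0, 3], 76755), (67, [3, 1, 3, 0, 3, 1, 2, 0, 3, 1, 3, 0, 2, 1, 2, 0, 3], 136), (36,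 [2, 1, 3, 0, 3, 1, 3, 0], 909)], 48835), ([(28, [2, 1, 3, 0, 3, 1, 3, 0, 2, 1, 2, 0, 3], 72665), (44, [1, 3, 0, 1, 3, 0, 2, 1, 2, 0, 1, 2, 0, 2, 1, 3, 0, 3, 1, 2, 0, 2], 479), (50, [2, 1, 3, 0, 3, 1, 3, 0], 145)], 48835), ([(40, [2, 1, 2, 0, 2, 1, 2, 0, 1, 2, 0, 2, 1, 3, 0, 1, 3, 0, 2], 1071), (77, [1, 2, 0, 1, 2, 0, 2, 1, 3, 0, 3, 1, 2, 0], 356), (10, [2, 1, 3, 0, 2, 1, 2, 0], 17512)], 910), ([(41, [2, 1, 2, 0, 2, 1, 2, 0, 1, 2, 0, 2, 1, 3, 0, 1, 3, 0, 2], 772), (58, [2, 1, 3, 0, 3, 3, 1, 3, 0, 3, 3, 1, 2, 0, 1, 2, 0, 2, 1, 3, 0, 3], 33), (22, [1, 3, 0, 1, 3, 0, 2, 1, 2, 0, 1, 2, 0], 160)], 970), ([(42, [2, 1, 2, 0, 2, 1, 2, 0, 1, 2, 0, 2, 1, 3, 0, 1, 3, 0, 2], 898), (80, [2, 2,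 1, 3, 0, 1, 3, 0, 2, 2, 1, 2, 0, 1, 2, 0, 1, 2, 0], 151), (16, [2, 1, 3, 0, 2, 1, 2, 0], 132)], 1259), ([(43, [2, 1, 2, 0, 2, 1, 2, 0, 1, 2, 0, 2, 1, 3, 0, 1, 3, 0, 2], 750), (43, [3, 1, 2, 0, 2, 1, 3, 0, 3, 1, 2, 0, 1, 2, 0, 1, 2, 0, 3, 1, 3, 0, 2], 451), (32, [2, 1, 3, 0, 2, 1, 2, 0], 124)], 935), ([(44, [2, 1, 2, 0, 2, 1, 2, 0, 1, 2, 0, 2, 1, 3, 0, 1, 3, 0, 2], 1071), (58, [2, 1, 3, 0, 3, 1, 2, 0, 3, 1, 3, 0, 3, 1, 2, 0, 2], 71), (21, [2, 2, 2, 1, 3, 0, 3, 1, 3, 0, 2, 2], 4282)], 481), ([(44, [1, 2, 0, 1, 2, 0, 2, 2, 1, 3, 0, 2, 1, 2, 0, 2], 560), (50, [2, 1, 3, 0, 3, 1, 3, 0, 2, 1, 2, 0, 3], 117), (28, [2, 1, 3, 0, 3, 1, 3, 0], 62388)], 540), ([(44, [1, 3, 0, 3, 1, 2, 0, 1, 2,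 0, 1, 2, 0, 2, 1, 3, 0, 3, 1, 2, 0, 2], 940), (70, [1, 2, 0, 1, 2, 0, 2, 1, 2, 0, 2, 2, 2, 1, 2, 0, 1, 2, 0], 182), (53, [2, 1, 3, 0, 3, 1, 3, 0], 87)], 1035), ([(45, [2, 1, 2, 0, 2, 1, 2, 0, 1, 2, 0, 2, 1, 3, 0, 1, 3, 0, 2], 898), (92, [2, 1, 2, 0, 2, 1, 2, 0, 1, 2, 0, 2, 1, 3, 0, 1, 3, 0, 2], 291), (46, [2, 1, 3, 0, 3, 1, 3, 0], 151)], 783), ([(45, [1, 2, 0, 1, 2, 0, 2, 2, 1, 3, 0, 2, 1, 2, 0, 2], 533), (94, [1, 3, 0, 3, 1, 2, 0, 1, 2, 0, 1, 2, 0, 2, 1, 3, 0, 3, 1, 2, 0, 2], 510), (39, [2, 1, 3, 0, 3, 1, 3, 0], 726)], 476), ([(45, [1, 3, 0, 3, 1, 2, 0, 1, 2, 0, 1, 2, 0, 2, 1, 3, 0, 3, 1, 2, 0, 2], 868), (97, [2, 1, 2, 0, 2, 1, 2, 0, 1, 2, 0, 2, 1, 3, 0, 1, 3, 0, 2], 187), (51,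 [2, 1, 3, 0, 3, 1, 3, 0], 151)], 929), ([(43, [2, 1, 2, 0, 3, 3, 1, 3, 0, 1, 3, 0, 3, 3, 1, 2, 0, 3], 1208), (44, [1, 2, 0, 2, 2, 2, 1, 2, 0, 1, 2, 0, 2, 1, 2, 0, 3, 1, 3, 0, 1, 3, 0], 30), (56, [1, 3, 0, 2, 1, 2, 0, 3, 1, 3, 0, 1, 3, 0], 36)], 1341), ([(40, [2, 1, 2, 0, 3, 3, 1, 3, 0, 1, 3, 0, 3, 3, 1, 2, 0, 3], 271), (88, [3, 3, 1, 3, 0, 2, 2, 2, 1, 2, 0, 3, 1, 3, 0, 2, 1, 2, 0], 475), (82, [1, 3, 0, 2, 1, 2, 0, 3, 1, 3, 0, 1, 3, 0], 232)], 0), ([(41, [2, 1, 2, 0, 3, 3, 1, 3, 0, 1, 3, 0, 3, 3, 1, 2, 0, 3], 1143), (67, [1, 2, 0, 1, 2, 0, 2, 1, 3, 0, 3, 1, 2, 0, 2, 1, 2, 0, 1, 2, 0, 3, 1, 3, 0, 1, 3, 0], 169), (43, [1, 2, 0, 3, 3, 1, 2, 0, 1, 2, 0, 2, 2, 1, 2, 0, 1, 2, 0, 3], 472)],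 82), ([(43, [2, 2, 1, 2, 0, 2, 1, 3, 0, 2, 2, 1, 3, 0, 3, 3, 1, 3, 0, 2], 212), (40, [1, 3, 0, 2, 2, 2, 1, 3, 0, 3, 1, 2, 0, 2], 601), (87, [3, 1, 3, 0, 3, 1, 2, 0, 2, 1, 2, 0, 3, 3, 1, 2, 0], 32)], 841), ([(45, [2, 2, 1, 2, 0, 1, 2, 0, 2, 1, 3, 0, 2, 2, 2], 165), (93, [1, 3, 0, 3, 1, 3, 0, 1, 3, 0, 3, 1, 2, 0, 2, 1, 3, 0, 1, 3, 0, 3], 585), (67, [1, 3, 0, 2, 2, 1, 3, 0, 3, 1, 3, 0], 83)], 537), ([(44, [2, 2, 1, 2, 0, 1, 2, 0, 2, 1, 3, 0, 2, 2, 2], 208), (71, [1, 2, 0, 2, 2, 2, 1, 3, 0, 3, 1, 3, 0, 1, 3, 0, 2, 1, 2, 0, 3, 1, 3, 0], 188), (94, [1, 3, 0, 2, 1, 2, 0, 3, 1, 3, 0, 1, 3, 0], 438)], 0), ([(54, [2, 1, 2, 0, 2, 1, 2, 0, 1, 2, 0, 2, 1, 3, 0, 1, 3, 0, 2], 171), (80, [1, 2,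 0, 1, 2, 0, 2, 2, 1, 3, 0, 2, 1, 2, 0, 2], 222), (18, [2, 1, 3, 0, 3, 1, 3, 0], 4130)], 143), ([(55, [2, 1, 2, 0, 2, 1, 2, 0, 1, 2, 0, 2, 1, 3, 0, 1, 3, 0, 2], 171), (94, [1, 2, 0, 2, 1, 3, 0, 3, 3, 1, 3, 0, 2, 2, 1, 3, 0], 297), (37, [2, 2, 2, 1, 3, 0, 3, 1, 3, 0, 2, 2], 931)], 161), ([(59, [2, 1, 2, 0, 2, 1, 2, 0, 1, 2, 0, 2, 1, 3, 0, 1, 3, 0, 2], 153), (58, [2, 1, 2, 0, 2, 1, 2, 0, 1, 2, 0, 2, 1, 3, 0, 1, 3, 0, 2], 146), (20, [2, 1, 3, 0, 3, 1, 3, 0], 2842)], 143), ([(60, [2, 1, 2, 0, 2, 1, 2, 0, 1, 2, 0, 2, 1, 3, 0, 1, 3, 0, 2], 153), (90, [1, 2, 0, 2, 1, 3, 0, 3, 3, 1, 3, 0, 2, 2, 1, 3, 0], 432), (48, [2, 2, 2, 1, 3, 0, 3, 1, 3, 0, 2, 2], 170)], 124), ([(66, [2, 1, 2, 0, 2,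 1, 2, 0, 1, 2, 0, 2, 1, 3, 0, 1, 3, 0, 2], 171), (94, [1, 2, 0, 1, 2, 0, 2, 2, 1, 3, 0, 2, 1, 2, 0, 2], 604), (38, [2, 1, 3, 0, 3, 1, 3, 0], 449)], 143), ([(67, [2, 1, 2, 0, 2, 1, 2, 0, 1, 2, 0, 2, 1, 3, 0, 1, 3, 0, 2], 171), (36, [2, 1, 3, 0, 3, 1, 3, 0, 2, 1, 2, 0, 3], 875), (29, [2, 1, 3, 0, 3, 1, 3, 0], 56426)], 143), ([(70, [2, 1, 2, 0, 2, 1, 2, 0, 1, 2, 0, 2, 1, 3, 0, 1, 3, 0, 2], 153), (67, [2, 1, 3, 0, 3, 3, 1, 3, 0, 3, 3, 1, 2, 0, 1, 2, 0, 2], 11), (35, [2, 1, 3, 0, 3, 1, 3, 0], 1072)], 43), ([(71, [2, 1, 2, 0, 2, 1, 2, 0, 1, 2, 0, 2, 1, 3, 0, 1, 3, 0, 2], 153), (93, [1, 3, 0, 1, 3, 0, 2, 1, 2, 0, 1, 2, 0, 2, 1, 3, 0, 3, 1, 2, 0, 2], 541), (52, [2, 1, 3, 0, 3, 1, 3, 0],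 37)], 143), ([(59, [3, 3, 1, 2, 0, 1, 2, 0, 2, 1, 3, 0, 2, 2, 1, 2, 0, 1, 2, 0, 3], 235), (71, [2, 2, 1, 3, 0, 2, 1, 2, 0, 3, 1, 3, 0, 3, 3, 1, 2, 0, 1, 2, 0, 2], 190), (92, [1, 3, 0, 2, 1, 2, 0, 3, 1, 3, 0, 1, 3, 0], 223)], 0), ([(60, [3, 3, 1, 2, 0, 1, 2, 0, 2, 1, 3, 0, 2, 2, 1, 2, 0, 1, 2, 0, 3], 235), (88, [1, 3, 0, 3, 1, 3, 0, 2, 2, 1, 2, 0, 3, 3, 1, 2, 0, 2, 1, 3, 0, 3], 497), (89, [1, 3, 0, 2, 1, 2, 0, 3, 1, 3, 0, 1, 3, 0], 420)], 0), ([(66, [2, 2, 1, 3, 0, 2, 2, 1, 3, 0, 2, 1, 2, 0, 1, 2, 0, 3], 194), (94, [2, 1, 2, 0, 2, 1, 3, 0, 1, 3, 0, 3, 1, 2, 0, 2, 1, 2, 0, 3], 532), (41, [1, 2, 0, 3, 3, 1, 2, 0, 1, 2, 0, 2, 2, 1, 2, 0, 1, 2, 0, 3], 571)], 3), ([(75, [2, 2, 2, 1, 2,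 0, 2, 1, 2, 0, 1, 2, 0, 3, 1, 3, 0, 2, 1, 2, 0, 1, 2, 0], 21), (58, [1, 2, 0, 1, 2, 0, 1, 2, 0, 2, 2, 2, 1, 2, 0, 3, 3], 140), (25, [1, 3, 0, 2, 1, 2, 0, 3, 1, 3, 0, 1, 3, 0], 1359)], 184), ([(75, [2, 1, 3, 0, 3, 1, 3, 0, 2, 1, 2, 0, 3, 3, 1, 3, 0, 2, 1, 2, 0, 2, 2], 102), (60, [2, 1, 3, 0, 3, 1, 3, 0, 2, 1, 2, 0, 3, 3, 1, 3, 0, 3], 105), (84, [1, 2, 0, 2, 1, 2, 0, 3, 1, 3, 0, 3, 1, 2, 0, 2, 2, 1, 3, 0], 64)], 21), ([(54, [3, 3, 1, 2, 0, 1, 2, 0, 2, 1, 3, 0, 2, 2, 1, 2, 0, 1, 2, 0, 3], 235), (88, [2, 2, 1, 2, 0, 3, 3, 1, 2, 0, 3, 1, 3, 0, 3, 1, 2, 0, 1, 2, 0, 3], 488), (90, [1, 3, 0, 2, 1, 2, 0, 3, 1, 3, 0, 1, 3, 0], 498)], 146), ([(55, [3, 3, 1, 2, 0, 1, 2, 0, 2, 1, 3, 0, 2, 2,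 1, 2, 0, 1, 2, 0, 3], 235), (93, [1, 2, 0, 2, 1, 3, 0, 3, 1, 2, 0, 1, 2, 0, 1, 2, 0, 2, 2, 2, 1, 2, 0], 415), (59, [1, 2, 0, 2, 1, 3, 0, 3, 1, 3, 0, 2, 2, 1, 2, 0, 2, 1, 3, 0], 0)], 204), ([(71, [2, 2, 1, 2, 0, 2, 2, 1, 3, 0, 3, 3, 1, 3, 0, 3, 3], 146), (97, [2, 2, 1, 2, 0, 2, 2, 1, 3, 0, 3, 3, 1, 3, 0, 3, 3], 244), (68, [1, 2, 0, 3, 3, 1, 3, 0], 156)], 156), ([(70, [2, 2, 1, 2, 0, 2, 2, 1, 3, 0, 3, 3, 1, 3, 0, 3, 3], 146), (61, [2, 2, 1, 3, 0, 3, 3, 1, 3, 0], 85), (99, [2, 1, 3, 0, 3, 1, 3, 0], 18614)], 156), ([(59, [2, 2, 1, 3, 0, 1, 3, 0, 2, 1, 2, 0, 1, 2, 0, 2, 1, 3, 0, 1, 3, 0, 3, 3, 1, 2, 0, 3], 228), (59, [2, 1, 2, 0, 1, 2, 0, 1, 2, 0, 3, 1, 3, 0, 2, 1, 2, 0, 1, 2, 0, 3, 1,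 3, 0], 156), (64, [1, 2, 0, 1, 2, 0, 2, 1, 2, 0, 3, 1, 3, 0, 2, 1, 2, 0, 1, 2, 0, 2], 196)], 207), ([(54, [2, 1, 2, 0, 2, 2, 1, 2, 0, 3, 3, 1, 3, 0, 1, 3, 0, 3, 1, 3, 0, 1, 3, 0], 110), (88, [2, 2, 1, 2, 0, 3, 1, 3, 0, 2, 1, 2, 0, 2, 1, 3, 0, 2, 2, 1, 3, 0, 3, 1, 3, 0], 315), (81, [1, 3, 0, 2, 1, 2, 0, 3, 1, 3, 0, 1, 3, 0], 47)], 0), ([(56, [2, 2, 2, 1, 2, 0, 3, 3, 1, 2, 0, 2, 2, 1, 3, 0, 3], 129), (40, [2, 2, 1, 2, 0, 1, 2, 0, 3, 1, 3, 0, 2, 1, 2, 0, 2], 587), (86, [2, 1, 3, 0, 1, 3, 0, 3, 1, 3, 0, 2, 1, 2, 0, 2, 1, 3, 0, 1, 3, 0], 111)], 113), ([(70, [3, 3, 1, 2, 0, 1, 2, 0, 2, 1, 3, 0, 2, 2, 1, 2, 0, 1, 2, 0, 3], 235), (67, [1, 2, 0, 2, 1, 3, 0, 2, 2, 2, 1, 3, 0, 1, 3, 0, 2, 1,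 2, 0], 25), (44, [2, 2, 2, 1, 2, 0, 3, 3, 1, 3, 0, 3, 3], 1198)], 177), ([(71, [3, 3, 1, 2, 0, 1, 2, 0, 2, 1, 3, 0, 2, 2, 1, 2, 0, 1, 2, 0, 3], 235), (98, [1, 2, 0, 1, 2, 0, 1, 2, 0, 2, 1, 3, 0, 1, 3, 0, 3, 3, 1, 2, 0, 2, 2], 203), (97, [1, 3, 0, 2, 1, 2, 0, 3, 1, 3, 0, 1, 3, 0], 352)], 0), ([(55, [2, 1, 2, 0, 1, 2, 0, 2, 1, 2, 0, 1, 2, 0, 3, 1, 3, 0, 3, 1, 2, 0, 2, 1, 3, 0, 3], 208), (92, [2, 1, 2, 0, 1, 2, 0, 2, 1, 2, 0, 1, 2, 0, 3, 1, 3, 0, 3, 1, 2, 0, 2, 1, 3, 0, 3], 484), (69, [2, 1, 3, 0, 3, 1, 3, 0], 212)], 113), ([(54, [2, 1, 2, 0, 1, 2, 0, 2, 1, 2, 0, 1, 2, 0, 3, 1, 3, 0, 3, 1, 2, 0, 2, 1, 3, 0, 3], 208), (90, [2, 2, 1, 2, 0, 2, 2, 1, 3, 0, 3, 3, 1, 3, 0, 3, 3], 387), (62,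 [3, 1, 3, 0], 43)], 156), ([(66, [3, 3, 1, 2, 0, 1, 2, 0, 2, 1, 3, 0, 2, 2, 1, 2, 0, 1, 2, 0, 3], 235), (98, [2, 2, 1, 2, 0, 3, 1, 3, 0, 3, 3, 1, 2, 0, 1, 2, 0, 2, 2, 2], 179), (93, [2, 2, 2, 1, 2, 0, 3, 3, 1, 3, 0, 3, 3], 9)], 56), ([(67, [3, 3, 1, 2, 0, 1, 2, 0, 2, 1, 3, 0, 2, 2, 1, 2, 0, 1, 2, 0, 3], 235), (44, [3, 1, 2, 0, 2, 2, 1, 2, 0, 3, 3, 1, 2, 0, 2], 160), (70, [1, 2, 0, 1, 2, 0, 3, 1, 3, 0, 3, 1, 2, 0, 3, 3, 1, 3, 0, 3], 42)], 93), ([(63, [1, 2, 0, 2, 2, 1, 3, 0, 2, 1, 2, 0, 1, 2, 0, 3, 1, 3, 0], 73), (89, [1, 3, 0, 2, 2, 1, 3, 0, 2, 1, 2, 0, 2, 1, 3, 0, 1, 3, 0, 3, 3], 338), (72, [3, 1, 3, 0, 2, 1, 2, 0, 2, 2, 1, 3, 0, 3, 1, 2, 0, 2, 2], 79)], 40), ([(64, [3, 3, 1, 2,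 0, 2, 2, 1, 3, 0, 3, 3, 1, 3, 0, 2], 50), (73, [2, 1, 3, 0, 2, 2, 2, 1, 2, 0, 2, 1, 3, 0, 1, 3, 0], 205), (73, [2, 2, 1, 2, 0, 2, 2, 1, 2, 0, 3, 1, 3, 0, 3, 3, 1, 3, 0], 158)], 34), ([(58, [1, 2, 0, 2, 2, 2, 1, 3, 0, 2, 2, 2], 176), (25, [2, 1, 2, 0, 3, 1, 3, 0, 2, 1, 2, 0, 1, 2, 0, 3, 1, 3, 0, 1, 3, 0, 2], 2379), (74, [2, 2, 1, 3, 0, 2, 1, 2, 0, 2, 1, 2, 0, 1, 2, 0, 2, 2, 2, 1, 2, 0, 3], 160)], 159), ([(57, [1, 2, 0, 2, 2, 2, 1, 2, 0, 3, 1, 3, 0, 2, 2, 1, 3, 0], 3), (90, [2, 1, 3, 0, 1, 3, 0, 3, 1, 3, 0, 1, 3, 0, 3, 1, 2, 0, 2, 1, 2, 0, 3, 1, 3, 0, 2, 2], 337), (75, [2, 2, 1, 2, 0, 2, 2, 1, 2, 0, 2, 1, 2, 0, 3, 3], 151)], 159), ([(82, [1, 2, 0, 2, 1, 2, 0, 1, 2, 0, 1, 2, 0, 3, 1,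 3, 0], 143), (31, [2, 2, 2, 1, 3, 0, 3, 3, 1, 3, 0], 835), (11, [2, 2, 1, 3, 0, 2, 2, 1, 2, 0], 33181)], 164), ([(83, [1, 2, 0, 2, 1, 2, 0, 1, 2, 0, 1, 2, 0, 3, 1, 3, 0], 485), (85, [2, 1, 2, 0, 1, 2, 0, 3, 1, 3, 0, 1, 3, 0, 2, 1, 2, 0, 3, 1, 3, 0, 1, 3, 0], 179), (78, [2, 1, 3, 0, 1, 3, 0, 2, 2, 1, 2, 0], 94)], 1), ([(87, [2, 1, 3, 0, 1, 3, 0, 3, 3, 1, 2, 0, 1, 2, 0, 2, 1, 2, 0, 2], 72), (42, [1, 2, 0, 1, 2, 0, 2, 1, 3, 0, 1, 3, 0, 2, 1, 2, 0, 1, 2, 0, 2, 1, 2, 0], 1213), (79, [1, 3, 0, 3, 3, 1, 2, 0, 3, 1, 3, 0, 3], 295)], 197), ([(86, [3, 1, 2, 0, 2, 2, 2, 1, 2, 0, 2, 1, 3, 0, 1, 3, 0], 236), (63, [3, 1, 2, 0, 2, 2, 2, 1, 2, 0, 2, 1, 3, 0, 1, 3, 0], 50), (76, [3, 3, 1, 3, 0, 2,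 1, 2, 0, 2, 1, 2, 0], 485)], 30), ([(88, [2, 2, 2, 1, 2, 0, 3, 1, 3, 0, 1, 3, 0, 3, 1, 3, 0, 2, 2], 57), (90, [2, 2, 1, 3, 0, 1, 3, 0, 2, 1, 2, 0, 1, 2, 0, 2, 1, 3, 0, 1, 3, 0, 3, 3, 1, 2, 0, 3], 423), (63, [1, 3, 0, 2, 1, 2, 0, 3, 1, 3, 0, 1, 3, 0], 228)], 462), ([(89, [2, 2, 1, 2, 0, 1, 2, 0, 3, 1, 3, 0, 1, 3, 0, 3, 1, 2, 0, 1, 2, 0, 1, 2, 0, 3], 66), (47, [2, 2, 2, 1, 2, 0, 2, 2, 2, 1, 3, 0, 2], 173), (24, [1, 3, 0, 2, 1, 2, 0, 3, 1, 3, 0, 1, 3, 0], 1839)], 300), ([(89, [1, 2, 0, 1, 2, 0, 2, 2, 1, 2, 0, 1, 2, 0, 2, 1, 3, 0, 1, 3, 0, 3], 186), (65, [3, 1, 2, 0, 2, 1, 2, 0, 3, 1, 3, 0, 3], 205), (83, [1, 2, 0, 3, 1, 3, 0, 2, 2, 2, 1, 2, 0, 1, 2, 0], 228)], 304), ([(88, [1, 2, 0,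 2, 1, 3, 0, 2, 2, 1, 2, 0, 3, 3, 1, 2, 0, 3, 3, 1, 3, 0, 1, 3, 0], 388), (87, [2, 1, 3, 0, 3, 1, 2, 0, 1, 2, 0, 2, 1, 2, 0, 1, 2, 0, 3], 76), (40, [1, 3, 0, 2, 1, 2, 0, 3, 1, 3, 0, 1, 3, 0], 1208)], 0), ([(90, [2, 2, 2, 1, 2, 0, 2, 2, 1, 2, 0, 1, 2, 0, 2, 2, 1, 3, 0, 2], 228), (60, [2, 2, 2, 1, 3, 0, 3, 3, 1, 2, 0, 1, 2, 0, 2, 2, 1, 3, 0], 219), (85, [1, 2, 0, 1, 2, 0, 3, 1, 3, 0, 3, 1, 2, 0, 3, 3, 1, 3, 0, 3], 97)], 180), ([(91, [2, 2, 2, 1, 2, 0, 2, 2, 1, 2, 0, 1, 2, 0, 2, 2, 1, 3, 0, 2], 228), (92, [2, 2, 2, 1, 2, 0, 2, 1, 3, 0, 1, 3, 0, 3, 1, 3, 0, 2, 1, 2, 0], 6), (57, [1, 2, 0, 1, 2, 0, 2, 1, 3, 0, 3, 1, 3, 0, 2, 1, 2, 0, 1, 2, 0], 145)], 286), ([(90, [2, 1, 2, 0, 2, 1, 3,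 0, 3, 1, 2, 0, 2, 2, 1, 2, 0, 2, 1, 3, 0, 3], 147), (67, [3, 1, 2, 0, 2, 2, 1, 3, 0, 1, 3, 0, 3, 3, 1, 2, 0, 3, 1, 3, 0, 1, 3, 0], 143), (42, [3, 3, 1, 2, 0, 1, 2, 0, 1, 2, 0, 3, 1, 3, 0, 1, 3, 0], 432)], 432), ([(91, [2, 1, 3, 0, 2, 2, 2, 1, 2, 0, 2, 2, 1, 2, 0, 1, 2, 0], 6), (92, [2, 2, 1, 3, 0, 1, 3, 0, 2, 1, 2, 0, 1, 2, 0, 2, 1, 3, 0, 1, 3, 0, 3, 3, 1, 2, 0, 3], 611), (65, [1, 2, 0, 1, 2, 0, 2, 1, 3, 0, 2, 1, 2, 0, 2, 1, 2, 0, 3], 47)], 138), ([(88, [2, 1, 2, 0, 1, 2, 0, 1, 2, 0, 2, 1, 2, 0, 3, 1, 3, 0, 2, 1, 2, 0, 1, 2, 0, 2, 1, 3, 0, 1, 3, 0], 417), (90, [3, 3, 1, 2, 0, 1, 2, 0, 2, 1, 3, 0, 2, 2, 1, 2, 0, 1, 2, 0, 3], 324), (54, [1, 3, 0, 2, 1, 2, 0, 3, 1, 3, 0, 1, 3, 0], 194)],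 26), ([(89, [2, 1, 2, 0, 1, 2, 0, 1, 2, 0, 2, 1, 2, 0, 3, 1, 3, 0, 2, 1, 2, 0, 1, 2, 0, 2, 1, 3, 0, 1, 3, 0], 417), (60, [1, 3, 0, 3, 1, 2, 0, 1, 2, 0, 2, 1, 3, 0, 3, 1, 2, 0, 3, 1, 3, 0], 232), (88, [2, 1, 3, 0, 1, 3, 0, 2, 1, 2, 0, 2, 2, 1, 2, 0, 1, 2, 0, 3], 497)], 194), ([(89, [2, 1, 3, 0, 3, 1, 2, 0, 3, 1, 3, 0, 1, 3, 0, 3, 1, 2, 0], 290), (66, [1, 3, 0, 1, 3, 0, 2, 2, 1, 2, 0, 2, 1, 3, 0, 3, 1, 2, 0, 2, 1, 2, 0], 123), (95, [2, 1, 3, 0, 1, 3, 0, 3, 3, 1, 2, 0, 1, 2, 0, 3], 220)], 49), ([(88, [2, 1, 3, 0, 3, 1, 2, 0, 3, 1, 3, 0, 1, 3, 0, 3, 1, 2, 0], 290), (89, [3, 3, 1, 2, 0, 1, 2, 0, 2, 1, 3, 0, 2, 2, 1, 2, 0, 1, 2, 0, 3], 475), (60, [1, 3, 0, 2, 1, 2, 0, 3, 1, 3, 0, 1, 3,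 0], 194)], 0), ([(94, [2, 2, 1, 2, 0, 3, 1, 3, 0, 2, 1, 2, 0, 2, 2, 1, 2, 0, 3, 1, 3, 0], 229), (44, [3, 1, 2, 0, 2, 1, 2, 0, 3, 3, 1, 2, 0, 3, 1, 3, 0, 3], 198), (55, [2, 1, 3, 0, 1, 3, 0, 2, 1, 2, 0, 2, 2, 1, 2, 0, 1, 2, 0, 3], 170)], 379), ([(93, [2, 2, 1, 2, 0, 1, 2, 0, 2, 1, 2, 0, 1, 2, 0, 3, 3, 1, 3, 0, 2], 447), (67, [2, 1, 3, 0, 1, 3, 0, 3, 1, 2, 0, 1, 2, 0, 1, 2, 0, 2, 1, 3, 0], 90), (45, [1, 3, 0, 2, 1, 2, 0, 3, 1, 3, 0, 1, 3, 0], 1194)], 0), ([(94, [2, 1, 3, 0, 1, 3, 0, 3, 3, 1, 3, 0, 2, 2, 1, 3, 0, 3, 3, 1, 2, 0], 552), (44, [1, 3, 0, 3, 1, 3, 0, 1, 3, 0, 3, 1, 2, 0, 2, 1, 3, 0, 1, 3, 0, 3], 351), (71, [1, 3, 0, 2, 2, 1, 3, 0, 3, 1, 3, 0], 227)], 411), ([(97, [3, 1, 2,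 0, 1, 2, 0, 1, 2, 0, 3, 1, 3, 0, 3], 549), (54, [1, 2, 0, 2, 1, 3, 0, 2, 2, 1, 2, 0, 2, 2, 1, 3, 0, 1, 3, 0, 3, 3], 113), (91, [3, 1, 3, 0, 2, 2, 1, 2, 0, 3, 1, 3, 0, 1, 3, 0], 384)], 297), ([(98, [3, 1, 2, 0, 2, 1, 2, 0, 2, 1, 3, 0, 3, 1, 2, 0, 3, 3, 1, 2, 0], 59), (93, [2, 2, 2, 1, 3, 0, 3, 3, 1, 2, 0, 1, 2, 0, 1, 2, 0, 3, 1, 3, 0], 491), (66, [1, 3, 0, 2, 1, 2, 0, 3, 1, 3, 0, 1, 3, 0], 164)], 522), ([(98, [2, 1, 2, 0, 2, 2, 1, 3, 0, 1, 3, 0], 516), (98, [2, 1, 2, 0, 2, 1, 2, 0, 3, 1, 3, 0, 1, 3, 0, 3, 1, 3, 0, 1, 3, 0, 2], 385), (96, [1, 2, 0, 1, 2, 0, 3, 1, 3, 0, 3, 1, 2, 0, 3, 3, 1, 3, 0, 3], 324)], 622), ([(92, [3, 1, 3, 0, 2, 1, 2, 0, 2, 1, 3, 0, 2, 2, 1, 2, 0, 1, 2, 0, 3],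 24), (55, [1, 2, 0, 1, 2, 0, 1, 2, 0, 3, 3, 1, 3, 0, 2, 2, 1, 2, 0, 3, 1, 3, 0, 2], 39), (98, [1, 2, 0, 2, 2, 1, 2, 0, 2, 1, 3, 0, 3, 1, 3, 0], 565)], 50), ([(99, [2, 2, 1, 3, 0, 3, 3, 1, 3, 0], 26407), (70, [1, 3, 0, 3, 1, 2, 0, 3, 1, 3, 0, 2, 1, 2, 0, 3, 1, 3, 0, 1, 3, 0], 156), (61, [2, 1, 3, 0, 3, 1, 3, 0], 84)], 2331), ([(100, [3, 1, 3, 0, 2, 1, 2, 0, 1, 2, 0], 26065), (100, [3, 1, 3, 0, 2, 1, 2, 0, 1, 2, 0], 16809), (100, [3, 1, 3, 0, 2, 1, 2, 0, 1, 2, 0], 16809)], 26184)],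
[([(0, [], 0), (5, [], 0), (2, [], 24400)], 0), ([(5, [], 642), (2, [], 24400), (0, [], 0)], 44277), ([(6, [], 642), (14, [], 2300), (3, [], 24400)], 44277), ([(7, [], 48807), (26, [], 9832), (4, [], 24400)], 39492), ([(8, [], 48807), (12, [], 2300), (1, [], 24400)], 39492), ([(9, [1, 3, 0, 2, 1, 2, 0, 1, 2, 0, 2], 5373), (19, [1, 2, 0, 1, 2, 0, 2], 2758), (12, [1, 2, 0, 1, 2, 0, 2], 2569)], 112885), ([(9, [3, 1, 2, 0, 3, 1, 3, 0, 1, 3, 0, 2, 1, 2, 0], 51152), (17, [1, 3, 0, 2, 1, 2, 0, 1, 2, 0, 2], 4607), (5, [1, 2, 0, 1, 2, 0, 2], 628)], 112885), ([(10, [1, 3, 0, 2, 1, 2, 0, 1, 2, 0, 2], 30071), (34, [1, 2, 0, 2, 1, 3, 0, 3, 3, 1, 2, 0, 3], 843), (14, [1, 2, 0, 1, 2, 0, 2], 2816)],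 112885), ([(10, [3, 1, 2, 0, 3, 1, 3, 0, 1, 3, 0, 2, 1, 2, 0], 24467), (36, [1, 2, 0, 1, 2, 0, 2], 563), (26, [1, 2, 0, 1, 2, 0, 2], 25175)], 112885), ([(6, [1, 2, 0, 1, 2, 0, 2, 1, 3, 0, 3, 1, 2, 0], 116038), (19, [1, 2, 0, 1, 2, 0, 3, 1, 3, 0, 2, 1, 2, 0, 1, 2, 0, 2, 1, 2, 0], 2553), (17, [1, 3, 0, 1, 3, 0], 787)], 119085), ([(8, [1, 2, 0, 1, 2, 0, 2, 1, 3, 0, 3, 1, 2, 0], 120611), (21, [1, 2, 0, 1, 2, 0, 3, 1, 3, 0, 2, 1, 2, 0, 1, 2, 0, 2, 1, 2, 0], 2728), (31, [1, 3, 0, 1, 3, 0], 759)], 60080), ([(9, [2, 2, 2, 1, 2, 0, 2, 2], 87528), (24, [1, 3, 0, 2, 2, 1, 2, 0, 2, 1, 3, 0, 3, 3, 1, 3, 0], 3792), (77, [2, 1, 3, 0, 3, 1, 2, 0, 3], 472)], 41645), ([(18, [1, 2, 0, 2, 1, 3, 0, 3,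 3, 1, 2, 0, 3], 2618), (50, [1, 2, 0, 1, 2, 0, 2], 67), (27, [1, 2, 0, 1, 2, 0, 2], 25175)], 4415), ([(19, [1, 2, 0, 2, 1, 3, 0, 3, 3, 1, 2, 0, 3], 2618), (17, [3, 1, 2, 0, 3, 1, 3, 0, 1, 3, 0, 2, 1, 2, 0], 1516), (6, [1, 2, 0, 1, 2, 0, 2], 63639)], 4415), ([(20, [1, 2, 0, 2, 1, 3, 0, 3, 3, 1, 2, 0, 3], 3751), (49, [1, 2, 0, 2, 1, 3, 0, 3, 3, 1, 2, 0, 3], 14), (15, [1, 2, 0, 1, 2, 0, 2], 2816)], 4415), ([(21, [1, 2, 0, 2, 1, 3, 0, 3, 3, 1, 2, 0, 3], 3751), (31, [3, 1, 2, 0, 3, 1, 3, 0, 1, 3, 0, 2, 1, 2, 0], 972), (8, [1, 2, 0, 1, 2, 0, 2], 12993)], 4415), ([(17, [2, 2, 1, 2, 0, 3, 1, 3, 0, 3, 3, 1, 2, 0], 3226), (5, [1, 2, 0, 1, 2, 0, 2, 1, 3, 0, 3, 1, 2, 0], 60914), (9, [1, 3, 0,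 1, 3, 0], 28517)], 3745), ([(18, [1, 2, 0, 1, 2, 0, 2, 1, 3, 0, 3, 1, 3, 0, 1, 3, 0, 2], 1863), (46, [1, 2, 0, 1, 2, 0, 2, 1, 3, 0, 3, 1, 3, 0, 1, 3, 0, 2], 14), (33, [1, 3, 0, 1, 3, 0], 576)], 2670), ([(20, [2, 2, 2, 1, 2, 0, 3, 1, 3, 0, 3, 3, 1, 2, 0], 1433), (58, [1, 2, 0, 1, 2, 0, 2, 2, 1, 2, 0, 3, 3, 1, 2, 0], 99), (19, [2, 2, 1, 3, 0, 1, 3, 0, 2, 2, 2, 1, 2, 0], 4745)], 4602), ([(21, [2, 2, 2, 1, 2, 0, 3, 1, 3, 0, 3, 3, 1, 2, 0], 1433), (41, [3, 1, 2, 0, 2, 1, 3, 0, 3, 3, 1, 3, 0, 3, 3, 1, 3, 0, 1, 3, 0], 262), (47, [1, 3, 0, 2, 1, 2, 0, 2], 145)], 4497), ([(18, [2, 2, 2, 1, 2, 0, 3, 1, 3, 0, 3, 3, 1, 2, 0], 2132), (56, [2, 1, 2, 0, 1, 2, 0, 2, 1, 3, 0, 1, 3, 0, 3, 1, 2, 0,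 2, 1, 3, 0, 2], 225), (34, [1, 3, 0, 2, 1, 2, 0, 2], 627)], 4497), ([(19, [2, 2, 2, 1, 2, 0, 3, 1, 3, 0, 3, 3, 1, 2, 0], 2132), (25, [2, 2, 1, 2, 0, 1, 2, 0, 2, 1, 2, 0, 1, 2, 0, 1, 2, 0], 3324), (49, [1, 3, 0, 2, 1, 2, 0, 2], 142)], 4497), ([(25, [2, 1, 2, 0, 1, 2, 0, 1, 2, 0, 2, 1, 2, 0, 1, 2, 0, 2, 1, 3, 0, 1, 3, 0, 2], 1682), (58, [1, 2, 0, 2, 2, 2, 1, 2, 0, 3, 3, 1, 2, 0, 2, 2, 1, 2, 0, 1, 2, 0], 57), (23, [1, 2, 0, 1, 2, 0, 3, 1, 3, 0, 2, 1, 2, 0], 1362)], 578), ([(25, [1, 3, 0, 1, 3, 0], 2283), (56, [2, 1, 3, 0, 3, 1, 2, 0, 2, 1, 2, 0, 1, 2, 0, 1, 2, 0, 2, 1, 3, 0], 145), (30, [2, 2, 1, 2, 0, 1, 2, 0, 3, 3, 1, 2, 0, 1, 2, 0], 1297)], 5037), ([(21, [2, 1, 2, 0, 2, 1, 3, 0,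 1, 3, 0, 2, 1, 2, 0], 2163), (40, [2, 1, 3, 0, 3, 1, 2, 0, 2, 2], 1432), (80, [2, 2, 1, 2, 0, 3, 1, 3, 0, 1, 3, 0, 3, 1, 2, 0, 1, 2, 0, 3, 1, 3, 0, 1, 3, 0], 129)], 2230), ([(21, [2, 2, 2, 1, 3, 0, 3, 3, 1, 2, 0, 1, 2, 0], 3832), (44, [2, 1, 3, 0, 3, 1, 2, 0, 2, 2], 721), (58, [2, 1, 3, 0, 3, 1, 2, 0, 3], 145)], 4439), ([(28, [1, 2, 0, 1, 2, 0, 2], 37524), (31, [1, 3, 0, 2, 1, 2, 0, 1, 2, 0, 2], 752), (7, [1, 2, 0, 1, 2, 0, 2], 48493)], 48671), ([(29, [1, 2, 0, 1, 2, 0, 2], 37524), (47, [1, 2, 0, 2, 1, 3, 0, 3, 3, 1, 2, 0, 3], 67), (13, [1, 2, 0, 1, 2, 0, 2], 2805)], 48671), ([(28, [2, 2, 2, 1, 2, 0, 3, 1, 3, 0, 3, 3, 1, 2, 0], 2235), (43, [3, 1, 2, 0, 1, 2, 0, 2, 1, 3, 0, 3, 1,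 2, 0, 1, 2, 0, 1, 2, 0], 192), (36, [1, 3, 0, 2, 1, 2, 0, 2], 665)], 48835), ([(29, [2, 2, 2, 1, 2, 0, 3, 1, 3, 0, 3, 3, 1, 2, 0], 9138), (64, [3, 1, 2, 0, 1, 2, 0, 3, 3, 1, 3, 0, 2, 2, 1, 3, 0, 3, 3], 77), (50, [1, 3, 0, 2, 1, 2, 0, 2], 82)], 48835), ([(36, [1, 2, 0, 1, 2, 0, 2, 1, 3, 0, 3, 1, 3, 0, 1, 3, 0, 2], 562), (26, [1, 2, 0, 1, 2, 0, 2, 1, 3, 0, 3, 1, 2, 0], 27708), (10, [1, 3, 0, 1, 3, 0], 93379)], 815), ([(34, [1, 2, 0, 1, 2, 0, 2, 1, 3, 0, 3, 1, 3, 0, 1, 3, 0, 2], 395), (23, [2, 2, 2, 1, 2, 0, 2, 1, 3, 0, 3, 1, 2, 0], 2643), (22, [3, 1, 2, 0, 1, 2, 0, 2], 3806)], 845), ([(39, [1, 2, 0, 1, 2, 0, 2, 1, 3, 0, 3, 1, 3, 0, 1, 3, 0, 2], 667), (33, [2, 2, 1, 2, 0, 3, 1, 3, 0,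 3, 3, 1, 2, 0], 940), (16, [1, 3, 0, 1, 3, 0], 4529)], 1083), ([(37, [1, 2, 0, 1, 2, 0, 2, 1, 3, 0, 3, 1, 3, 0, 1, 3, 0, 2], 528), (51, [1, 2, 0, 1, 2, 0, 2, 1, 3, 0, 3, 1, 3, 0, 1, 3, 0, 2], 110), (32, [1, 3, 0, 1, 3, 0], 408)], 747), ([(40, [2, 1, 2, 0, 1, 2, 0, 2, 1, 3, 0, 1, 3, 0, 3, 1, 2, 0, 2, 1, 3, 0, 2], 190), (80, [2, 2, 2, 1, 3, 0, 3, 1, 3, 0, 1, 3, 0, 3, 1, 2, 0, 1, 2, 0, 1, 2, 0], 230), (21, [2, 2, 1, 3, 0, 1, 3, 0, 2, 2, 2, 1, 2, 0], 3846)], 378), ([(43, [2, 1, 2, 0, 1, 2, 0, 2, 1, 3, 0, 1, 3, 0, 3, 1, 2, 0, 2, 1, 3, 0, 2], 1329), (36, [2, 2, 2, 1, 2, 0, 3, 1, 3, 0, 3, 3, 1, 2, 0], 658), (28, [1, 3, 0, 2, 1, 2, 0, 2], 503)], 540), ([(42, [3, 1, 2, 0, 2, 1, 2, 0, 3, 1,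 3, 0, 2, 2, 1, 3, 0], 1368), (84, [1, 2, 0, 1, 2, 0, 3, 3, 1, 2, 0, 3], 206), (53, [1, 3, 0, 2, 1, 2, 0, 2], 160)], 1035), ([(43, [3, 1, 2, 0, 2, 1, 2, 0, 3, 1, 3, 0, 2, 2, 1, 3, 0], 312), (41, [2, 2, 1, 3, 0, 2, 1, 2, 0, 3, 1, 3, 0, 3, 1, 2, 0, 3], 1026), (46, [1, 3, 0, 2, 1, 2, 0, 2], 97)], 783), ([(41, [2, 1, 2, 0, 1, 2, 0, 2, 1, 3, 0, 1, 3, 0, 3, 1, 2, 0, 2, 1, 3, 0, 2], 1256), (56, [3, 1, 2, 0, 2, 1, 2, 0, 3, 1, 3, 0, 2, 2, 1, 3, 0], 97), (39, [1, 3, 0, 2, 1, 2, 0, 2], 738)], 476), ([(40, [3, 1, 2, 0, 2, 1, 2, 0, 3, 1, 3, 0, 2, 2, 1, 3, 0], 1357), (81, [2, 2, 2, 1, 3, 0, 3, 1, 3, 0, 1, 3, 0, 3, 1, 2, 0, 1, 2, 0, 1, 2, 0], 218), (51, [1, 3, 0, 2, 1, 2, 0, 2], 106)], 929), ([(34,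 [1, 2, 0, 2, 1, 3, 0, 2, 1, 2, 0, 2, 1, 3, 0, 3], 75), (18, [2, 2, 1, 3, 0, 3, 3, 1, 2, 0, 1, 2, 0, 1, 2, 0], 1567), (56, [2, 1, 3, 0, 3, 1, 2, 0, 2, 2], 220)], 1341), ([(38, [2, 1, 2, 0, 2, 1, 3, 0, 1, 3, 0, 2, 1, 2, 0], 297), (63, [2, 2, 2, 1, 2, 0, 2, 1, 3, 0, 3, 1, 3, 0, 1, 3, 0, 2], 218), (82, [2, 1, 3, 0, 3, 1, 2, 0, 2, 2], 49)], 0), ([(37, [2, 1, 2, 0, 2, 1, 3, 0, 1, 3, 0, 2, 1, 2, 0], 1231), (56, [2, 2, 1, 2, 0, 3, 1, 3, 0, 1, 3, 0, 3, 1, 2, 0, 1, 2, 0, 3, 1, 3, 0, 1, 3, 0], 7), (43, [2, 2, 1, 3, 0, 3, 1, 3, 0, 2, 1, 2, 0], 559)], 114), ([(35, [2, 1, 2, 0, 2, 1, 3, 0, 1, 3, 0, 2, 1, 2, 0], 194), (57, [2, 1, 2, 0, 2, 1, 2, 0, 1, 2, 0, 1, 2, 0, 2, 1, 3, 0, 1, 3, 0, 2, 1, 2,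 0, 1, 2, 0], 186), (87, [2, 2, 1, 2, 0, 2, 1, 3, 0, 3, 1, 3, 0, 1, 3, 0, 2, 1, 2, 0], 37)], 786), ([(34, [2, 2, 1, 2, 0, 2, 2, 1, 2, 0], 649), (25, [2, 1, 2, 0, 2, 2, 1, 3, 0, 1, 3, 0, 3, 1, 3, 0, 1, 3, 0], 3974), (67, [3, 1, 2, 0, 1, 2, 0, 2], 111)], 537), ([(37, [2, 2, 1, 2, 0, 2, 2, 1, 2, 0], 367), (55, [1, 2, 0, 1, 2, 0, 3, 1, 3, 0, 2, 1, 2, 0, 1, 2, 0, 2, 1, 2, 0], 144), (94, [2, 1, 3, 0, 3, 1, 2, 0, 2, 2], 295)], 0), ([(56, [3, 1, 2, 0, 1, 2, 0, 2, 1, 3, 0, 3, 1, 2, 0, 1, 2, 0, 1, 2, 0], 207), (34, [2, 2, 2, 1, 2, 0, 3, 1, 3, 0, 3, 3, 1, 2, 0], 541), (18, [1, 3, 0, 2, 1, 2, 0, 2], 1870)], 143), ([(56, [2, 2, 2, 1, 3, 0, 3, 1, 3, 0, 1, 3, 0, 3, 1, 2, 0, 1, 2, 0, 1, 2, 0], 5),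 (43, [3, 1, 3, 0, 2, 1, 2, 0, 1, 2, 0, 2], 448), (37, [2, 2, 1, 3, 0, 1, 3, 0, 2, 2, 2, 1, 2, 0], 588)], 145), ([(58, [1, 2, 0, 1, 2, 0, 1, 2, 0, 3, 3, 1, 3, 0, 1, 3, 0, 3], 113), (19, [2, 1, 2, 0, 3, 3, 1, 3, 0, 1, 3, 0, 3, 3, 1, 2, 0], 4707), (20, [1, 3, 0, 2, 1, 2, 0, 2], 1025)], 143), ([(57, [2, 2, 1, 2, 0, 1, 2, 0, 2, 1, 2, 0, 1, 2, 0, 1, 2, 0], 188), (86, [3, 1, 2, 0, 1, 2, 0, 2, 1, 3, 0, 3, 1, 2, 0, 1, 2, 0, 1, 2, 0], 29), (48, [2, 2, 1, 3, 0, 1, 3, 0, 2, 2, 2, 1, 2, 0], 71)], 143), ([(63, [2, 2, 1, 3, 0, 2, 1, 2, 0, 3, 1, 3, 0, 3, 1, 2, 0, 3], 14), (82, [2, 1, 2, 0, 1, 2, 0, 2, 1, 3, 0, 1, 3, 0, 3, 1, 2, 0, 2, 1, 3, 0, 2], 205), (38, [1, 3, 0, 2, 1, 2, 0, 2], 1272)], 143),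 ([(64, [2, 2, 2, 1, 3, 0, 3, 1, 3, 0, 1, 3, 0, 3, 1, 2, 0, 1, 2, 0, 1, 2, 0], 67), (50, [2, 2, 2, 1, 2, 0, 3, 1, 3, 0, 3, 3, 1, 2, 0], 114), (29, [1, 3, 0, 2, 1, 2, 0, 2], 9583)], 143), ([(57, [1, 2, 0, 2, 2, 1, 2, 0, 2, 2, 1, 2, 0, 3], 126), (87, [3, 1, 2, 0, 1, 2, 0, 2, 1, 3, 0, 3, 1, 2, 0, 1, 2, 0, 1, 2, 0], 125), (35, [1, 3, 0, 2, 1, 2, 0, 2], 1203)], 43), ([(58, [2, 1, 2, 0, 3, 3, 1, 2, 0, 2, 1, 3, 0, 3, 1, 3, 0, 1, 3, 0, 3, 1, 3, 0], 21), (25, [1, 2, 0, 2, 2, 1, 2, 0, 2, 2, 1, 2, 0, 3], 197), (52, [1, 3, 0, 2, 1, 2, 0, 2], 215)], 143), ([(69, [2, 2, 1, 2, 0, 1, 2, 0, 3, 1, 3, 0, 2, 1, 2, 0, 1, 2, 0, 2, 1, 2, 0], 212), (55, [2, 1, 3, 0, 3, 1, 2, 0, 2, 2], 39), (92, [2, 1, 3,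 0, 3, 1, 2, 0, 2, 2], 484)], 0), ([(68, [2, 2, 1, 2, 0, 1, 2, 0, 3, 1, 3, 0, 2, 1, 2, 0, 1, 2, 0, 2, 1, 2, 0], 212), (60, [2, 2, 1, 3, 0, 3, 3, 1, 3, 0, 2, 1, 2, 0, 2, 1, 3, 0], 48), (89, [2, 1, 3, 0, 3, 1, 2, 0, 2, 2], 327)], 0), ([(46, [2, 2, 1, 3, 0, 3, 3, 1, 2, 0, 1, 2, 0, 1, 2, 0], 197), (43, [2, 1, 2, 0, 1, 2, 0, 1, 2, 0, 2, 1, 2, 0, 2, 1, 3, 0, 1, 3, 0], 119), (41, [2, 2, 1, 3, 0, 3, 1, 3, 0, 2, 1, 2, 0], 1026)], 16), ([(59, [2, 2, 1, 2, 0, 1, 2, 0, 2, 2, 1, 2, 0, 2, 1, 2, 0, 3, 3, 1, 2, 0], 69), (49, [2, 2, 2, 1, 3, 0, 3, 3, 1, 2, 0, 1, 2, 0], 187), (25, [2, 1, 3, 0, 3, 1, 2, 0, 3], 3118)], 225), ([(66, [3, 3, 1, 2, 0, 3, 3, 1, 2, 0, 2, 1, 3, 0, 3, 1, 3, 0, 1, 3, 0, 2], 156),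 (95, [1, 2, 0, 1, 2, 0, 2, 1, 2, 0, 1, 2, 0, 2, 1, 3, 0, 3, 1, 3, 0, 1, 3, 0], 246), (84, [1, 2, 0, 1, 2, 0, 2, 1, 3, 0, 3, 1, 3, 0, 2, 1, 2, 0, 2, 2, 1, 2, 0, 1, 2, 0], 22)], 35), ([(62, [3, 1, 3, 0, 2, 1, 2, 0, 2, 2, 1, 3, 0, 2, 1, 2, 0, 2, 1, 2, 0], 48), (54, [2, 2, 1, 3, 0, 3, 3, 1, 3, 0, 2, 1, 2, 0, 2, 1, 3, 0], 219), (90, [2, 1, 3, 0, 3, 1, 2, 0, 2, 2], 348)], 146), ([(61, [3, 1, 3, 0, 2, 1, 2, 0, 2, 2, 1, 3, 0, 2, 1, 2, 0, 2, 1, 2, 0], 48), (99, [3, 3, 1, 2, 0, 1, 2, 0, 2, 1, 2, 0, 2, 2, 1, 2, 0, 1, 2, 0], 13162), (59, [2, 1, 2, 0, 3, 1, 3, 0, 3, 1, 2, 0, 1, 2, 0, 2, 1, 2, 0, 1, 2, 0, 2, 2], 59)], 208), ([(75, [3, 1, 2, 0, 3, 1, 3, 0, 2, 2, 2, 1, 2, 0, 3, 3, 1, 3, 0], 69),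 (72, [2, 1, 3, 0, 1, 3, 0, 3, 3, 1, 2, 0, 1, 2, 0, 2, 2, 1, 3, 0, 2, 1, 2, 0], 208), (68, [2, 1, 3, 0, 1, 3, 0, 2, 1, 2, 0, 2], 20)], 156), ([(74, [3, 1, 2, 0, 3, 1, 3, 0, 2, 2, 2, 1, 2, 0, 3, 3, 1, 3, 0], 69), (61, [1, 2, 0, 2, 2, 2, 1, 3, 0, 3, 3, 1, 3, 0], 71), (99, [1, 3, 0, 2, 1, 2, 0, 2], 8366)], 156), ([(63, [2, 2, 1, 2, 0, 2, 1, 3, 0, 3, 1, 3, 0, 1, 3, 0, 2, 1, 2, 0], 192), (86, [2, 2, 1, 3, 0, 3, 1, 3, 0, 2, 1, 2, 0], 177), (64, [1, 3, 0, 2, 2, 1, 2, 0, 2, 1, 3, 0, 3, 3, 1, 3, 0], 167)], 215), ([(46, [1, 2, 0, 1, 2, 0, 1, 2, 0, 3, 1, 3, 0, 1, 3, 0, 2, 2, 2], 180), (42, [2, 2, 1, 2, 0, 2, 1, 3, 0, 3, 1, 3, 0, 1, 3, 0, 2, 1, 2, 0], 1100), (81, [2, 1, 3, 0, 3, 1, 2, 0, 2, 2],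 50)], 0), ([(49, [2, 1, 2, 0, 3, 3, 1, 3, 0, 1, 3, 0, 3, 3, 1, 2, 0], 81), (24, [3, 1, 2, 0, 1, 2, 0, 2, 1, 3, 0, 3, 1, 2, 0, 1, 2, 0, 1, 2, 0], 1495), (86, [3, 1, 2, 0, 1, 2, 0, 3, 3, 1, 3, 0, 2, 2, 1, 3, 0, 3, 3], 221)], 104), ([(69, [1, 3, 0, 1, 3, 0, 2, 1, 2, 0, 1, 2, 0, 2, 1, 3, 0, 3, 1, 3, 0, 1, 3, 0], 156), (67, [2, 1, 3, 0, 3, 1, 2, 0, 2, 2], 113), (44, [2, 2, 1, 3, 0, 3, 1, 2, 0, 3, 1, 3, 0, 3, 3, 1, 3, 0], 1270)], 132), ([(68, [1, 3, 0, 1, 3, 0, 2, 1, 2, 0, 1, 2, 0, 2, 1, 3, 0, 3, 1, 3, 0, 1, 3, 0], 156), (71, [2, 1, 3, 0, 3, 1, 2, 0, 2, 2], 156), (97, [2, 1, 3, 0, 3, 1, 2, 0, 2, 2], 244)], 0), ([(72, [3, 1, 2, 0, 3, 1, 3, 0, 2, 2, 2, 1, 2, 0, 3, 3, 1, 3, 0], 78), (73,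 [2, 1, 2, 0, 1, 2, 0, 2, 1, 3, 0, 3, 3, 1, 2, 0, 1, 2, 0, 2, 1, 3, 0, 1, 3, 0, 3], 60), (69, [1, 3, 0, 2, 1, 2, 0, 2], 211)], 113), ([(73, [3, 1, 2, 0, 3, 1, 3, 0, 2, 2, 2, 1, 2, 0, 3, 3, 1, 3, 0], 78), (74, [1, 2, 0, 1, 2, 0, 2, 1, 3, 0, 3, 1, 2, 0, 3, 1, 3, 0, 2, 2, 2, 1, 3, 0], 158), (62, [3, 1, 2, 0, 2, 2], 135)], 146), ([(62, [2, 2, 1, 2, 0, 1, 2, 0, 3, 1, 3, 0, 2, 1, 2, 0, 1, 2, 0, 2, 1, 2, 0], 84), (66, [2, 1, 3, 0, 3, 1, 2, 0, 2, 2], 84), (93, [2, 2, 1, 3, 0, 3, 1, 2, 0, 3, 1, 3, 0, 3, 3, 1, 3, 0], 588)], 9), ([(61, [2, 2, 1, 2, 0, 1, 2, 0, 3, 1, 3, 0, 2, 1, 2, 0, 1, 2, 0, 2, 1, 2, 0], 84), (99, [2, 1, 3, 0, 2, 1, 2, 0, 2, 1, 3, 0, 3, 1, 2, 0, 2, 2], 19060), (70, [1, 2, 0,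 3, 1, 3, 0, 1, 3, 0, 3, 1, 2, 0, 1, 2, 0, 3, 1, 3, 0, 3], 93)], 146), ([(56, [1, 3, 0, 3, 3, 1, 3, 0, 1, 3, 0, 2, 1, 2, 0, 2], 47), (44, [3, 1, 2, 0, 3, 3, 1, 3, 0, 1, 3, 0, 2, 1, 2, 0], 323), (72, [3, 3, 1, 3, 0, 3, 1, 2, 0, 2, 2, 1, 3, 0, 3, 3, 1, 2, 0, 1, 2, 0, 3], 21)], 40), ([(56, [3, 1, 2, 0, 2, 1, 2, 0, 1, 2, 0, 1, 2, 0, 3, 3], 232), (44, [2, 2, 2, 1, 3, 0, 1, 3, 0, 3, 3, 1, 3, 0, 2, 1, 2, 0, 1, 2, 0], 1100), (73, [1, 3, 0, 2, 2, 1, 3, 0, 2, 1, 2, 0, 1, 2, 0, 2, 1, 2, 0, 3, 1, 3, 0, 3], 214)], 209), ([(57, [1, 2, 0, 2, 2, 2, 1, 3, 0, 3, 1, 2, 0, 1, 2, 0, 2], 197), (90, [1, 2, 0, 2, 1, 2, 0, 3, 1, 3, 0, 1, 3, 0, 3, 3, 1, 3, 0, 1, 3, 0, 2], 295), (74, [1, 2, 0, 2, 1, 3, 0, 3,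 1, 2, 0, 2, 2, 1, 2, 0, 3, 1, 3, 0, 3], 80)], 68), ([(58, [2, 2, 1, 2, 0, 2, 2, 1, 2, 0, 1, 2, 0, 1, 2, 0, 3, 1, 3, 0], 95), (25, [2, 2, 2, 1, 2, 0, 3, 3, 1, 2, 0, 2, 1, 3, 0, 3], 1734), (75, [2, 2, 1, 2, 0, 3, 3, 1, 3, 0, 3, 3, 1, 2, 0, 1, 2, 0, 2], 133)], 159), ([(80, [1, 3, 0, 2, 2, 1, 2, 0, 2, 1, 3, 0, 3, 3, 1, 3, 0], 5), (17, [2, 2, 2, 1, 2, 0, 2, 2], 4736), (11, [2, 1, 3, 0, 3, 1, 2, 0, 3], 55680)], 140), ([(81, [1, 3, 0, 2, 2, 1, 2, 0, 2, 1, 3, 0, 3, 3, 1, 3, 0], 161), (65, [2, 1, 2, 0, 3, 3, 1, 3, 0, 3, 1, 2, 0, 2, 1, 3, 0, 1, 3, 0, 3], 63), (78, [3, 1, 2, 0, 2, 2, 1, 2, 0, 1, 2, 0], 175)], 235), ([(87, [1, 2, 0, 1, 2, 0, 3, 3, 1, 2, 0, 1, 2, 0, 2, 1, 2, 0, 1, 2, 0, 2], 215),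 (42, [2, 2, 1, 3, 0, 3, 1, 2, 0, 3, 1, 3, 0, 3, 1, 2, 0, 2], 1348), (79, [1, 2, 0, 2, 1, 2, 0, 1, 2, 0, 2, 2, 1, 3, 0, 3], 443)], 180), ([(86, [2, 1, 3, 0, 3, 1, 2, 0, 2, 1, 2, 0, 1, 2, 0, 1, 2, 0, 2, 1, 3, 0], 68), (63, [2, 1, 3, 0, 3, 1, 2, 0, 2, 1, 2, 0, 1, 2, 0, 1, 2, 0, 2, 1, 3, 0], 50), (76, [2, 1, 2, 0, 3, 3, 1, 3, 0, 3, 1, 2, 0, 3], 256)], 91), ([(86, [2, 2, 2, 1, 2, 0, 2, 1, 3, 0, 3, 1, 3, 0, 1, 3, 0, 2], 270), (64, [2, 1, 2, 0, 1, 2, 0, 2, 1, 3, 0, 2, 2, 1, 3, 0, 3], 156), (63, [2, 1, 3, 0, 3, 1, 2, 0, 2, 2], 147)], 462), ([(86, [2, 2, 1, 2, 0, 3, 1, 3, 0, 1, 3, 0, 3, 1, 2, 0, 1, 2, 0, 3, 1, 3, 0, 1, 3, 0], 423), (49, [2, 1, 2, 0, 2, 1, 3, 0, 1, 3, 0, 2, 1, 2, 0], 126),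 (24, [2, 1, 3, 0, 3, 1, 2, 0, 2, 2], 350)], 300), ([(80, [2, 2, 2, 1, 2, 0, 2, 1, 3, 0, 3, 1, 3, 0, 1, 3, 0, 2], 462), (24, [2, 2, 1, 3, 0, 2, 1, 2, 0, 2, 1, 3, 0, 3, 1, 2, 0, 1, 2, 0, 1, 2, 0], 4156), (83, [2, 1, 2, 0, 1, 2, 0, 1, 2, 0, 2, 1, 2, 0, 2, 1, 3, 0, 1, 3, 0], 316)], 449), ([(80, [2, 2, 1, 2, 0, 3, 1, 3, 0, 1, 3, 0, 3, 1, 2, 0, 1, 2, 0, 3, 1, 3, 0, 1, 3, 0], 129), (21, [2, 1, 2, 0, 2, 1, 3, 0, 1, 3, 0, 2, 1, 2, 0], 4352), (40, [2, 1, 3, 0, 3, 1, 2, 0, 2, 2], 1432)], 0), ([(90, [2, 2, 1, 3, 0, 3, 1, 2, 0, 3, 1, 3, 0, 3, 3, 1, 3, 0], 33), (60, [2, 1, 3, 0, 3, 3, 1, 2, 0, 2, 2, 1, 2, 0, 2, 2, 2, 1, 2, 0], 219), (85, [1, 3, 0, 1, 3, 0, 2, 2, 1, 2, 0, 2, 1, 3, 0, 1, 3, 0, 2,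 1, 2, 0], 3)], 212), ([(91, [2, 2, 1, 3, 0, 3, 1, 2, 0, 3, 1, 3, 0, 3, 3, 1, 3, 0], 33), (92, [3, 1, 3, 0, 2, 2, 1, 2, 0, 2], 6), (57, [2, 2, 1, 3, 0, 3, 1, 3, 0, 1, 3, 0, 2, 2, 1, 3, 0], 148)], 490), ([(85, [1, 2, 0, 3, 1, 3, 0, 3, 1, 2, 0, 2, 1, 2, 0, 1, 2, 0, 1, 2, 0], 314), (82, [2, 2, 2, 1, 2, 0, 2, 1, 3, 0, 3, 1, 3, 0, 1, 3, 0, 2], 394), (42, [2, 2, 1, 3, 0, 2, 1, 2, 0, 2, 1, 3, 0, 3, 1, 2, 0, 1, 2, 0, 1, 2, 0], 213)], 272), ([(85, [2, 2, 2, 1, 3, 0, 3, 1, 2, 0, 2, 2, 2, 1, 3, 0], 454), (86, [2, 1, 2, 0, 1, 2, 0, 1, 2, 0, 2, 1, 2, 0, 2, 1, 3, 0, 1, 3, 0], 262), (65, [2, 1, 2, 0, 2, 1, 3, 0, 1, 3, 0, 2, 1, 2, 0], 217)], 229), ([(90, [2, 2, 1, 3, 0, 3, 3, 1, 3, 0, 2, 1, 2, 0,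 2, 1, 3, 0], 327), (62, [3, 3, 1, 2, 0, 1, 2, 0, 2, 1, 3, 0, 2, 2, 1, 2, 0, 1, 2, 0], 25), (54, [2, 1, 3, 0, 3, 1, 2, 0, 2, 2], 181)], 26), ([(91, [2, 2, 1, 3, 0, 3, 3, 1, 3, 0, 2, 1, 2, 0, 2, 1, 3, 0], 327), (95, [2, 1, 3, 0, 3, 3, 1, 3, 0, 3, 3, 1, 2, 0, 2, 1, 2, 0], 438), (88, [2, 1, 2, 0, 2, 2, 1, 2, 0, 2, 2, 2, 1, 2, 0, 2, 1, 3, 0], 424)], 238), ([(88, [2, 2, 1, 3, 0, 3, 3, 1, 3, 0, 2, 1, 2, 0, 2, 1, 3, 0], 327), (91, [2, 1, 2, 0, 3, 1, 3, 0, 3, 1, 2, 0, 1, 2, 0, 2, 1, 2, 0, 1, 2, 0, 2, 2], 416), (95, [2, 1, 3, 0, 2, 2, 1, 2, 0, 3, 1, 3, 0, 2, 1, 2, 0, 1, 2, 0, 2, 1, 3, 0], 451)], 49), ([(89, [2, 2, 1, 3, 0, 3, 3, 1, 3, 0, 2, 1, 2, 0, 2, 1, 3, 0], 327), (68, [3, 3, 1, 2, 0,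 1, 2, 0, 2, 1, 3, 0, 2, 2, 1, 2, 0, 1, 2, 0], 38), (60, [2, 1, 3, 0, 3, 1, 2, 0, 2, 2], 224)], 0), ([(92, [2, 1, 2, 0, 2, 2, 1, 2, 0, 2, 2, 2, 1, 2, 0, 2, 1, 3, 0], 438), (69, [3, 1, 2, 0, 2, 1, 2, 0, 2], 232), (55, [2, 1, 2, 0, 2, 2, 1, 2, 0, 2, 2, 2, 1, 2, 0, 2, 1, 3, 0], 49)], 297), ([(92, [2, 1, 2, 0, 2, 1, 2, 0, 1, 2, 0, 2, 1, 2, 0, 1, 2, 0, 1, 2, 0, 2, 1, 2, 0], 331), (46, [2, 2, 1, 2, 0, 2, 2, 1, 2, 0], 151), (45, [2, 1, 3, 0, 3, 1, 2, 0, 2, 2], 637)], 0), ([(92, [3, 3, 1, 3, 0, 1, 3, 0, 2, 1, 2, 0, 1, 2, 0, 2, 1, 3, 0, 3, 1, 3, 0, 1, 3, 0], 120), (64, [1, 2, 0, 3, 1, 3, 0, 2, 2, 1, 3, 0, 2, 2], 114), (71, [3, 1, 2, 0, 1, 2, 0, 2], 183)], 411), ([(94, [3, 1, 3, 0, 1, 3, 0,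 2, 1, 2, 0, 3, 1, 3, 0, 1, 3, 0, 3, 1, 3, 0], 176), (40, [2, 1, 3, 0, 2, 2, 2, 1, 3, 0, 3, 1, 2, 0, 3], 863), (91, [3, 1, 3, 0, 2, 1, 2, 0, 2, 1, 3, 0, 3, 1, 2, 0, 2, 2], 406)], 297), ([(93, [2, 2, 1, 3, 0, 3, 1, 2, 0, 3, 1, 3, 0, 3, 3, 1, 3, 0], 307), (62, [2, 2, 1, 2, 0, 1, 2, 0, 3, 1, 3, 0, 2, 1, 2, 0, 1, 2, 0, 2, 1, 2, 0], 186), (66, [2, 1, 3, 0, 3, 1, 2, 0, 2, 2], 84)], 522), ([(94, [1, 2, 0, 2], 321), (45, [1, 2, 0, 2], 1430), (96, [1, 2, 0, 3, 1, 3, 0, 1, 3, 0, 3, 1, 2, 0, 1, 2, 0, 3, 1, 3, 0, 3], 326)], 517), ([(95, [2, 1, 3, 0, 2, 2, 2, 1, 2, 0, 3], 100), (91, [1, 2, 0, 3, 3, 1, 3, 0, 1, 3, 0, 2, 1, 2, 0, 1, 2, 0, 2, 1, 3, 0, 3], 431), (98, [1, 2, 0, 2, 2, 2, 1, 2, 0, 2],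 618)], 50), ([(99, [1, 2, 0, 2, 2, 2, 1, 3, 0, 3, 3, 1, 3, 0], 26972), (75, [2, 2, 1, 3, 0, 3, 3, 1, 2, 0, 2, 1, 3, 0, 2, 2], 109), (61, [1, 3, 0, 2, 1, 2, 0, 2], 157)], 2331), ([(100, [3, 3, 1, 2, 0, 1, 2, 0, 1, 2, 0], 29532), (100, [3, 3, 1, 2, 0, 1, 2, 0, 1, 2, 0], 15972), (100, [3, 3, 1, 2, 0, 1, 2, 0, 1, 2, 0], 15972)], 21993)],
[([(0, [], 0), (5, [], 0), (2, [], 24400)], 0), ([(5, [], 48807), (2, [], 24400), (0, [], 0)], 39492), ([(6, [], 48807), (14, [], 2300), (3, [], 24400)], 39492), ([(7, [], 642), (26, [], 9832), (4, [], 24400)], 44277), ([(8, [], 642), (12, [], 2300), (1, [], 24400)], 44277), ([(9, [1, 3, 0, 2, 2, 2, 1, 2, 0], 66407), (19, [2, 2, 1, 2, 0, 1, 2, 0, 1,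 2, 0, 2, 2, 2], 2907), (12, [2, 2, 1, 2, 0], 3790)], 112885), ([(9, [1, 3, 0, 3, 3, 1, 2, 0, 2], 235), (17, [1, 3, 0, 2, 2, 2, 1, 2, 0], 4085), (5, [2, 2, 1, 2, 0], 994)], 112885), ([(10, [1, 3, 0, 2, 2, 2, 1, 2, 0], 66407), (34, [1, 3, 0, 2, 2, 2, 1, 2, 0], 786), (14, [2, 2, 1, 2, 0], 2569)], 112885), ([(10, [1, 3, 0, 3, 3, 1, 2, 0, 2], 62947), (36, [1, 3, 0, 2, 2, 2, 1, 2, 0], 785), (26, [2, 2, 1, 2, 0], 40539)], 112885), ([(11, [1, 2, 0, 3, 1, 3, 0, 1, 3, 0, 3, 3], 105294), (80, [3, 1, 2, 0, 3, 3, 1, 2, 0, 3], 34), (17, [3, 3], 4051)], 48787), ([(11, [1, 2, 0, 3, 1, 3, 0, 2, 1, 2, 0, 1, 2, 0], 75392), (82, [3, 1, 2, 0, 3, 3, 1, 2, 0, 3], 75), (31, [3, 3], 723)], 63378), ([(10,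 [3, 3], 51340), (40, [3, 1, 2, 0, 3, 3, 1, 2, 0, 3], 744), (77, [1, 2, 0, 3, 1, 3, 0, 2, 1, 2, 0, 1, 2, 0], 297)], 0), ([(18, [1, 3, 0, 2, 2, 2, 1, 2, 0], 3745), (50, [1, 3, 0, 2, 2, 2, 1, 2, 0], 146), (27, [2, 2, 1, 2, 0], 40539)], 4415), ([(19, [1, 3, 0, 2, 2, 2, 1, 2, 0], 3745), (17, [1, 3, 0, 3, 3, 1, 2, 0, 2], 1934), (6, [2, 2, 1, 2, 0], 119514)], 4415), ([(20, [1, 3, 0, 2, 2, 2, 1, 2, 0], 3745), (49, [1, 3, 0, 2, 2, 2, 1, 2, 0], 14), (15, [2, 2, 1, 2, 0], 2569)], 4415), ([(21, [1, 3, 0, 2, 2, 2, 1, 2, 0], 3745), (31, [1, 3, 0, 3, 3, 1, 2, 0, 2], 732), (8, [2, 2, 1, 2, 0], 80246)], 4415), ([(24, [3, 1, 2, 0, 3, 3, 1, 2, 0, 3], 4664), (77, [1, 2, 0, 3, 1, 3, 0, 1, 3, 0, 3, 3],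 422), (9, [3, 3], 12560)], 3148), ([(24, [1, 2, 0, 2, 1, 2, 0, 3, 3, 1, 3, 0, 3, 1, 2, 0, 3, 3, 1, 2, 0], 1688), (87, [1, 2, 0, 2, 2, 1, 3, 0, 1, 3, 0, 2, 1, 2, 0, 1, 2, 0, 2, 1, 3, 0, 3, 3], 137), (33, [3, 3], 1039)], 4122), ([(24, [1, 2, 0, 1, 2, 0, 3, 3, 1, 3, 0, 1, 3, 0, 2, 1, 2, 0], 2205), (80, [1, 2, 0, 3, 1, 3, 0, 2, 1, 2, 0, 3, 1, 3, 0, 3, 3, 1, 3, 0, 1, 3, 0], 78), (19, [2, 1, 2, 0, 2, 2, 1, 3, 0, 3], 3850)], 3368), ([(24, [3, 3, 1, 2, 0, 1, 2, 0, 2, 1, 2, 0, 3, 3, 1, 2, 0, 2], 1589), (89, [3, 1, 2, 0, 3, 3, 1, 2, 0, 1, 2, 0, 2, 1, 2, 0], 498), (47, [3, 1, 2, 0, 2, 1, 2, 0], 134)], 4497), ([(25, [2, 2, 1, 3, 0, 1, 3, 0, 3, 1, 2, 0, 2, 2], 4152), (67, [1, 2, 0, 3, 1, 3, 0,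 2, 1, 2, 0, 3, 1, 3, 0, 3, 1, 2, 0, 1, 2, 0, 2, 1, 2, 0], 169), (34, [3, 1, 2, 0, 2, 1, 2, 0], 546)], 4497), ([(25, [1, 3, 0, 3, 3, 1, 2, 0, 3, 3, 1, 3, 0, 1, 3, 0], 2747), (59, [1, 2, 0, 2, 2, 1, 3, 0, 2, 2, 1, 2, 0, 2, 2, 1, 3, 0, 3], 7), (49, [3, 1, 2, 0, 2, 1, 2, 0], 193)], 4497), ([(22, [3, 3], 2370), (34, [2, 2, 2, 1, 2, 0, 2, 1, 3, 0, 3, 1, 2, 0], 426), (23, [1, 2, 0, 1, 2, 0, 2, 1, 3, 0, 3, 1, 3, 0, 1, 3, 0, 2], 2643)], 2320), ([(23, [3, 3], 2370), (21, [2, 2, 2, 1, 2, 0, 2, 1, 3, 0, 3, 1, 2, 0], 867), (30, [2, 2, 1, 2, 0, 1, 2, 0, 2, 1, 3, 0, 1, 3, 0, 2], 448)], 2552), ([(19, [2, 2, 1, 2, 0, 2, 2, 1, 2, 0, 3, 1, 3, 0, 2, 1, 2, 0], 2238), (24, [1, 2, 0, 3, 1, 3, 0, 2, 1,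 2, 0, 2, 2, 1, 3, 0, 2, 2, 2], 511), (80, [1, 3, 0, 3, 3, 1, 2, 0, 2, 1, 3, 0, 3, 3, 1, 3, 0, 3], 48)], 772), ([(25, [2, 1, 3, 0, 1, 3, 0, 3, 1, 3, 0, 2, 1, 2, 0, 3, 1, 3, 0, 1, 3, 0, 2], 1622), (52, [2, 2, 2, 1, 3, 0, 2, 1, 2, 0, 3, 1, 3, 0, 1, 3, 0, 2], 181), (58, [1, 2, 0, 3, 1, 3, 0, 2, 1, 2, 0, 1, 2, 0], 37)], 4816), ([(28, [1, 3, 0, 2, 2, 2, 1, 2, 0], 45891), (31, [1, 3, 0, 2, 2, 2, 1, 2, 0], 569), (7, [2, 2, 1, 2, 0], 48130)], 48671), ([(29, [1, 3, 0, 2, 2, 2, 1, 2, 0], 45891), (47, [1, 3, 0, 2, 2, 2, 1, 2, 0], 146), (13, [2, 2, 1, 2, 0], 2569)], 48671), ([(29, [2, 1, 3, 0, 3, 3, 1, 3, 0, 1, 3, 0], 62118), (67, [3, 1, 2, 0, 3, 1, 3, 0, 2, 2, 2, 1, 2, 0], 95), (36, [3, 1, 2,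 0, 2, 1, 2, 0], 892)], 48835), ([(28, [2, 1, 3, 0, 3, 3, 1, 3, 0, 1, 3, 0], 73369), (44, [2, 1, 2, 0, 1, 2, 0, 2, 2, 1, 2, 0, 2, 2, 1, 2, 0, 3, 1, 3, 0, 2], 649), (50, [3, 1, 2, 0, 2, 1, 2, 0], 95)], 48835), ([(40, [3, 1, 2, 0, 3, 3, 1, 2, 0, 3], 950), (77, [1, 2, 0, 3, 1, 3, 0, 2, 1, 2, 0, 1, 2, 0], 297), (10, [3, 3], 51340)], 928), ([(41, [3, 1, 2, 0, 3, 3, 1, 2, 0, 3], 1044), (58, [1, 2, 0, 1, 2, 0, 1, 2, 0, 2, 1, 2, 0, 3, 1, 3, 0, 2], 34), (22, [2, 1, 2, 0], 2404)], 845), ([(42, [3, 1, 2, 0, 3, 3, 1, 2, 0, 3], 1073), (80, [2, 2, 1, 2, 0, 1, 2, 0, 3, 1, 3, 0, 1, 3, 0, 2, 2, 2], 243), (16, [3, 3], 528)], 1144), ([(43, [3, 1, 2, 0, 3, 3, 1, 2, 0, 3], 860), (43, [1, 2, 0, 3, 1, 3,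 0, 3, 3, 1, 2, 0, 1, 2, 0, 3, 3, 1, 3, 0, 2], 612), (32, [3, 3], 100)], 929), ([(44, [3, 1, 2, 0, 3, 3, 1, 2, 0, 1, 2, 0, 2, 1, 2, 0], 745), (58, [2, 2, 1, 3, 0, 3, 1, 2, 0, 2, 2, 2, 1, 3, 0], 71), (21, [2, 1, 2, 0, 2, 2, 1, 3, 0, 3], 4738)], 699), ([(44, [1, 2, 0, 1, 2, 0, 2, 2, 1, 3, 0, 1, 3, 0, 3, 1, 2, 0, 1, 2, 0, 2, 2, 1, 3, 0], 942), (50, [2, 1, 3, 0, 3, 3, 1, 3, 0, 1, 3, 0], 111), (28, [3, 1, 2, 0, 2, 1, 2, 0], 69460)], 540), ([(44, [2, 1, 3, 0, 1, 3, 0, 2, 2, 1, 2, 0, 2, 2, 2, 1, 3, 0, 3], 561), (70, [1, 3, 0, 1, 3, 0, 2, 1, 2, 0, 1, 2, 0, 3, 1, 3, 0, 2, 1, 2, 0, 1, 2, 0], 182), (53, [3, 1, 2, 0, 2, 1, 2, 0], 136)], 1035), ([(45, [3, 1, 2, 0, 3, 3, 1, 2, 0, 1, 2, 0, 2, 1,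 2, 0], 1062), (92, [3, 1, 2, 0, 3, 3, 1, 2, 0, 1, 2, 0, 2, 1, 2, 0], 291), (46, [3, 1, 2, 0, 2, 1, 2, 0], 134)], 783), ([(45, [1, 2, 0, 1, 2, 0, 2, 2, 1, 3, 0, 1, 3, 0, 3, 1, 2, 0, 1, 2, 0, 2, 2, 1, 3, 0], 844), (94, [2, 1, 3, 0, 1, 3, 0, 2, 2, 1, 2, 0, 2, 2, 2, 1, 3, 0, 3], 510), (39, [3, 1, 2, 0, 2, 1, 2, 0], 370)], 476), ([(45, [2, 1, 3, 0, 1, 3, 0, 2, 2, 1, 2, 0, 2, 2, 2, 1, 3, 0, 3], 610), (97, [3, 1, 2, 0, 3, 3, 1, 2, 0, 1, 2, 0, 2, 1, 2, 0], 282), (51, [3, 1, 2, 0, 2, 1, 2, 0], 134)], 929), ([(43, [1, 2, 0, 1, 2, 0, 1, 2, 0, 3, 1, 3, 0, 3], 1101), (44, [1, 3, 0, 2, 1, 2, 0, 2, 2, 2, 1, 2, 0, 2, 1, 2, 0, 3, 3], 1349), (56, [1, 2, 0, 3, 1, 3, 0, 2, 1, 2, 0, 1, 2, 0], 235)],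 1341), ([(40, [1, 2, 0, 1, 2, 0, 1, 2, 0, 3, 1, 3, 0, 3], 114), (88, [1, 3, 0, 1, 3, 0, 3, 3, 1, 2, 0, 2, 2, 1, 2, 0, 3, 1, 3, 0, 3, 3], 325), (82, [1, 2, 0, 3, 1, 3, 0, 2, 1, 2, 0, 1, 2, 0], 91)], 0), ([(41, [1, 2, 0, 1, 2, 0, 1, 2, 0, 3, 1, 3, 0, 3], 1085), (67, [1, 2, 0, 3, 3, 1, 2, 0, 1, 2, 0, 2, 1, 2, 0, 3, 1, 3, 0, 3, 1, 2, 0, 3], 127), (43, [1, 3, 0, 2, 2, 1, 2, 0, 3, 3, 1, 2, 0, 2], 570)], 94), ([(43, [2, 1, 3, 0, 3, 3, 1, 3, 0, 2, 2, 1, 3, 0, 3, 1, 3, 0], 85), (40, [3, 3, 1, 2, 0, 1, 2, 0, 2, 1, 2, 0], 687), (87, [2, 1, 2, 0, 2, 1, 3, 0, 3, 3, 1, 2, 0, 2, 1, 3, 0, 3], 177)], 841), ([(45, [1, 2, 0, 3, 1, 3, 0, 2, 1, 2, 0, 1, 2, 0], 333), (97, [2, 1, 2, 0, 2, 1, 3, 0, 2, 2,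 1, 2, 0, 2, 2, 1, 3, 0], 370), (67, [2, 1, 2, 0], 48)], 537), ([(44, [1, 2, 0, 3, 1, 3, 0, 2, 1, 2, 0, 1, 2, 0], 333), (66, [2, 1, 2, 0, 3, 3, 1, 3, 0, 1, 3, 0, 3, 1, 2, 0, 1, 2, 0, 2, 2], 186), (94, [1, 2, 0, 3, 1, 3, 0, 2, 1, 2, 0, 1, 2, 0], 587)], 0), ([(54, [3, 1, 2, 0, 3, 3, 1, 2, 0, 1, 2, 0, 2, 1, 2, 0], 125), (80, [1, 2, 0, 1, 2, 0, 2, 1, 3, 0, 2, 1, 2, 0, 3, 1, 3, 0, 1, 3, 0, 3], 70), (18, [3, 1, 2, 0, 2, 1, 2, 0], 3644)], 143), ([(55, [3, 1, 2, 0, 3, 3, 1, 2, 0, 1, 2, 0, 2, 1, 2, 0], 125), (94, [2, 2, 1, 2, 0, 2, 2, 1, 3, 0, 2, 2, 1, 2, 0, 2, 2], 297), (37, [2, 1, 2, 0, 2, 2, 1, 3, 0, 3], 730)], 143), ([(59, [3, 1, 2, 0, 3, 3, 1, 2, 0, 1, 2, 0, 2, 1, 2, 0], 162), (58, [2,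 2, 1, 3, 0, 1, 3, 0, 3, 1, 2, 0, 2, 2], 169), (20, [3, 1, 2, 0, 2, 1, 2, 0], 4795)], 143), ([(60, [3, 1, 2, 0, 3, 3, 1, 2, 0, 1, 2, 0, 2, 1, 2, 0], 162), (90, [2, 2, 1, 2, 0, 2, 2, 1, 3, 0, 2, 2, 1, 2, 0, 2, 2], 432), (48, [2, 1, 2, 0, 2, 2, 1, 3, 0, 3], 122)], 177), ([(66, [3, 1, 2, 0, 3, 3, 1, 2, 0, 1, 2, 0, 2, 1, 2, 0], 125), (94, [1, 2, 0, 1, 2, 0, 2, 2, 1, 3, 0, 1, 3, 0, 3, 1, 2, 0, 1, 2, 0, 2, 2, 1, 3, 0], 471), (38, [3, 1, 2, 0, 2, 1, 2, 0], 1077)], 143), ([(67, [3, 1, 2, 0, 3, 3, 1, 2, 0, 1, 2, 0, 2, 1, 2, 0], 125), (36, [2, 1, 3, 0, 3, 3, 1, 3, 0, 1, 3, 0], 672), (29, [3, 1, 2, 0, 2, 1, 2, 0], 58810)], 143), ([(70, [3, 1, 2, 0, 3, 3, 1, 2, 0, 1, 2, 0, 2, 1, 2, 0], 162),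 (67, [1, 2, 0, 2, 2, 1, 2, 0, 2, 2, 2, 1, 3, 0, 3, 1, 2, 0, 2], 208), (35, [3, 1, 2, 0, 2, 1, 2, 0], 490)], 43), ([(71, [3, 1, 2, 0, 3, 3, 1, 2, 0, 1, 2, 0, 2, 1, 2, 0], 162), (93, [2, 1, 2, 0, 1, 2, 0, 2, 2, 1, 2, 0, 2, 2, 1, 2, 0, 3, 1, 3, 0, 2], 574), (52, [3, 1, 2, 0, 2, 1, 2, 0], 205)], 143), ([(59, [1, 3, 0, 2, 2, 2, 1, 3, 0, 1, 3, 0, 3, 1, 2, 0, 2, 1, 3, 0, 2, 2], 204), (66, [1, 2, 0, 1, 2, 0, 1, 2, 0, 2, 2, 1, 3, 0, 3, 3, 1, 2, 0, 1, 2, 0, 1, 2, 0], 208), (92, [1, 2, 0, 3, 1, 3, 0, 2, 1, 2, 0, 1, 2, 0], 375)], 0), ([(60, [1, 3, 0, 2, 2, 2, 1, 3, 0, 1, 3, 0, 3, 1, 2, 0, 2, 1, 3, 0, 2, 2], 204), (83, [1, 2, 0, 3, 3, 1, 3, 0, 3, 1, 2, 0, 2], 428), (89, [1, 2, 0, 3, 1, 3, 0,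 2, 1, 2, 0, 1, 2, 0], 261)], 0), ([(66, [1, 2, 0, 3, 3, 1, 2, 0, 1, 2, 0, 2, 1, 3, 0, 1, 3, 0, 3, 3, 1, 2, 0], 217), (94, [3, 1, 2, 0, 2, 1, 2, 0], 612), (41, [1, 3, 0, 2, 2, 1, 2, 0, 3, 3, 1, 2, 0, 2], 590)], 32), ([(52, [3, 1, 2, 0, 3, 3], 170), (58, [2, 1, 3, 0, 1, 3, 0, 3, 1, 3, 0, 2, 1, 2, 0, 3, 1, 3, 0, 1, 3, 0, 2], 7), (25, [1, 2, 0, 3, 1, 3, 0, 2, 1, 2, 0, 1, 2, 0], 197)], 184), ([(53, [2, 2, 2, 1, 3, 0, 2, 1, 2, 0, 3, 1, 3, 0, 1, 3, 0, 2], 45), (42, [2, 1, 3, 0, 2, 2, 1, 2, 0, 3, 1, 3, 0, 1, 3, 0, 3, 1, 2, 0], 1122), (84, [2, 2, 2, 1, 2, 0, 2, 1, 3, 0, 3, 1, 2, 0, 1, 2, 0, 1, 2, 0, 3, 1, 3, 0], 237)], 35), ([(54, [1, 3, 0, 2, 2, 2, 1, 3, 0, 1, 3, 0, 3, 1, 2, 0, 2, 1, 3,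 0, 2, 2], 208), (83, [3, 1, 2, 0, 1, 2, 0, 2, 1, 3, 0, 2, 2, 1, 3, 0, 2, 1, 2, 0], 411), (90, [1, 2, 0, 3, 1, 3, 0, 2, 1, 2, 0, 1, 2, 0], 457)], 146), ([(55, [1, 3, 0, 2, 2, 2, 1, 3, 0, 1, 3, 0, 3, 1, 2, 0, 2, 1, 3, 0, 2, 2], 208), (97, [1, 3, 0, 2, 1, 2, 0, 3, 3, 1, 3, 0, 3, 1, 2, 0, 2, 1, 2, 0, 1, 2, 0, 1, 2, 0], 522), (59, [3, 1, 2, 0, 1, 2, 0, 3, 1, 3, 0, 1, 3, 0, 3, 1, 3, 0, 1, 3, 0, 2, 1, 2, 0, 2], 143)], 204), ([(74, [1, 3, 0, 2, 2, 1, 3, 0, 1, 3, 0, 3, 1, 3, 0, 1, 3, 0, 2, 2], 120), (73, [1, 2, 0, 2, 1, 3, 0, 1, 3, 0, 3, 1, 3, 0, 2, 1, 2, 0, 2, 1, 3, 0, 2, 2, 2], 193), (68, [1, 3, 0, 2, 1, 2, 0, 1, 2, 0], 53)], 146), ([(75, [1, 3, 0, 2, 2, 1, 3, 0, 1, 3, 0, 3, 1, 3, 0, 1,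 3, 0, 2, 2], 120), (61, [2, 1, 3, 0, 2, 1, 2, 0, 1, 2, 0, 3, 1, 3, 0, 3], 132), (99, [3, 1, 2, 0, 2, 1, 2, 0], 13034)], 156), ([(59, [1, 2, 0, 1, 2, 0, 2, 1, 2, 0, 1, 2, 0, 2, 1, 3, 0, 3, 1, 2, 0, 3, 3, 1, 2, 0, 2, 1, 3, 0], 216), (59, [1, 3, 0, 2, 2, 2, 1, 2, 0, 2, 1, 3, 0, 2, 1, 2, 0, 2], 156), (64, [1, 2, 0, 1, 2, 0, 2, 1, 3, 0, 2, 1, 2, 0, 3, 1, 3, 0, 1, 3, 0, 3], 194)], 207), ([(54, [2, 1, 2, 0, 2, 1, 3, 0, 3, 3, 1, 2, 0, 1, 2, 0, 2, 1, 2, 0, 3, 1, 3, 0, 1, 3, 0, 2], 103), (88, [1, 3, 0, 3, 1, 2, 0, 3, 1, 3, 0, 2, 1, 2, 0, 3, 1, 3, 0, 3, 3, 1, 2, 0], 315), (81, [1, 2, 0, 3, 1, 3, 0, 2, 1, 2, 0, 1, 2, 0], 50)], 0), ([(56, [2, 1, 2, 0, 2, 1, 3, 0, 3, 3, 1, 2, 0, 2, 1, 3, 0, 3],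 179), (40, [1, 2, 0, 3, 3, 1, 2, 0, 1, 2, 0, 2, 1, 3, 0, 1, 3, 0, 3, 3, 1, 2, 0], 700), (86, [1, 2, 0, 3, 3, 1, 3, 0, 3, 3, 1, 3, 0, 2, 1, 2, 0, 3], 137)], 63), ([(70, [2, 1, 3, 0, 3, 3, 1, 3, 0, 2, 2, 1, 3, 0, 3, 1, 3, 0], 14), (53, [2, 1, 3, 0, 3, 3, 1, 3, 0, 3, 1, 2, 0, 2], 79), (44, [1, 2, 0, 2, 1, 2, 0, 1, 2, 0, 1, 2, 0, 2, 1, 2, 0, 2, 1, 3, 0], 713)], 177), ([(71, [2, 1, 3, 0, 3, 3, 1, 3, 0, 2, 2, 1, 3, 0, 3, 1, 3, 0], 14), (96, [2, 2, 1, 3, 0, 3, 1, 2, 0, 2, 2, 1, 2, 0, 2], 1), (97, [1, 2, 0, 3, 1, 3, 0, 2, 1, 2, 0, 1, 2, 0], 261)], 0), ([(73, [1, 3, 0, 3, 3, 1, 3, 0, 2, 1, 2, 0, 3, 1, 3, 0, 3, 1, 2, 0, 3, 3], 141), (72, [1, 3, 0, 2, 2, 1, 3, 0, 2, 1, 2, 0, 1, 2, 0, 2, 2,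 1, 3, 0, 1, 3, 0, 3], 98), (69, [3, 1, 2, 0, 2, 1, 2, 0], 24)], 113), ([(72, [1, 3, 0, 3, 3, 1, 3, 0, 2, 1, 2, 0, 3, 1, 3, 0, 3, 1, 2, 0, 3, 3], 141), (75, [1, 2, 0, 1, 2, 0, 1, 2, 0, 2, 1, 2, 0, 2, 2, 1, 3, 0, 3, 1, 2, 0, 3, 1, 3, 0], 89), (62, [2, 1, 3, 0, 1, 3, 0, 2, 1, 2, 0, 1, 2, 0], 75)], 146), ([(66, [2, 1, 3, 0, 3, 3, 1, 3, 0, 2, 2, 1, 3, 0, 3, 1, 3, 0], 14), (96, [2, 1, 3, 0, 3, 3, 1, 3, 0, 2, 2, 1, 3, 0, 3, 1, 3, 0], 187), (93, [1, 2, 0, 2, 1, 2, 0, 1, 2, 0, 1, 2, 0, 2, 1, 2, 0, 2, 1, 3, 0], 539)], 56), ([(67, [2, 1, 3, 0, 3, 3, 1, 3, 0, 2, 2, 1, 3, 0, 3, 1, 3, 0], 14), (35, [2, 1, 2, 0, 3, 3, 1, 2, 0, 3], 962), (70, [2, 2, 1, 3, 0, 3, 1, 2, 0, 2, 2, 1, 2, 0, 2], 182)],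 93), ([(74, [1, 2, 0, 1, 2, 0, 2, 1, 3, 0, 3, 1, 3, 0, 1, 3, 0, 2, 1, 2, 0, 1, 2, 0, 2], 54), (75, [1, 2, 0, 2, 1, 2, 0, 2, 1, 3, 0, 2, 2, 1, 2, 0, 2, 2, 1, 2, 0, 2], 32), (72, [2, 1, 2, 0, 1, 2, 0, 2, 1, 3, 0, 2, 1, 2, 0, 2, 1, 2, 0, 3, 1, 3, 0], 49)], 220), ([(75, [1, 2, 0, 1, 2, 0, 2, 1, 3, 0, 3, 1, 3, 0, 1, 3, 0, 2, 1, 2, 0, 1, 2, 0, 2], 54), (74, [2, 1, 3, 0, 1, 3, 0, 3, 3, 1, 2, 0, 2, 2, 1, 2, 0, 3, 3, 1, 2, 0], 180), (73, [1, 2, 0, 2, 1, 2, 0, 1, 2, 0, 3, 1, 3, 0, 3, 1, 2, 0, 2, 1, 3, 0, 3], 32)], 34), ([(72, [2, 1, 2, 0, 2, 1, 2, 0, 3, 3, 1, 2, 0, 3, 1, 3, 0, 1, 3, 0, 3, 1, 3, 0], 6), (70, [1, 2, 0, 2, 1, 2, 0, 1, 2, 0, 1, 2, 0, 2, 1, 3, 0, 1, 3, 0, 2, 1, 2, 0], 68), (74,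 [2, 1, 2, 0, 1, 2, 0, 1, 2, 0, 2, 2, 1, 2, 0, 2, 2, 1, 3, 0, 2, 1, 2, 0, 2], 3)], 159), ([(73, [2, 1, 2, 0, 2, 1, 2, 0, 3, 3, 1, 2, 0, 3, 1, 3, 0, 1, 3, 0, 3, 1, 3, 0], 6), (70, [1, 3, 0, 2, 1, 2, 0, 2, 1, 3, 0, 3, 1, 2, 0, 2, 1, 3, 0], 117), (75, [2, 2, 1, 2, 0, 3, 3], 235)], 159), ([(82, [3, 1, 2, 0, 3, 3, 1, 2, 0, 3], 75), (31, [3, 3], 723), (11, [1, 2, 0, 3, 1, 3, 0, 2, 1, 2, 0, 1, 2, 0], 108260)], 0), ([(83, [3, 1, 2, 0, 3, 3, 1, 2, 0, 3], 376), (85, [1, 3, 0, 2, 2, 2, 1, 3, 0, 2, 1, 2, 0, 2, 2, 2], 57), (78, [1, 2, 0, 2, 1, 3, 0, 1, 3, 0, 3, 3, 1, 2, 0, 3], 100)], 43), ([(84, [3, 1, 2, 0, 1, 2, 0, 2, 1, 2, 0, 3, 1, 3, 0, 1, 3, 0, 3], 5), (57, [3, 1, 2, 0, 1, 2, 0, 2, 1, 2,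 0, 1, 2, 0, 3], 222), (79, [2, 2, 1, 3, 0, 3, 1, 3, 0, 1, 3, 0, 3, 1, 2, 0], 260)], 54), ([(85, [3, 1, 2, 0, 1, 2, 0, 2, 1, 2, 0, 3, 1, 3, 0, 1, 3, 0, 3], 5), (83, [1, 3, 0, 3, 3, 1, 3, 0, 2, 2, 2, 1, 2, 0, 2], 209), (76, [1, 3, 0, 2, 1, 2, 0, 1, 2, 0, 2, 2], 318)], 99), ([(88, [3, 3, 1, 2, 0, 1, 2, 0, 2, 1, 2, 0], 33), (90, [1, 2, 0, 1, 2, 0, 2, 1, 2, 0, 1, 2, 0, 2, 1, 3, 0, 3, 1, 2, 0, 3, 3, 1, 2, 0, 2, 1, 3, 0], 423), (63, [1, 2, 0, 3, 1, 3, 0, 2, 1, 2, 0, 1, 2, 0], 211)], 462), ([(89, [1, 2, 0, 3, 3, 1, 2, 0, 2, 2, 1, 2, 0, 3, 1, 3, 0, 3, 1, 2, 0, 3], 169), (47, [2, 2, 1, 2, 0, 2, 2, 1, 2, 0, 3, 1, 3, 0, 2, 1, 2, 0], 159), (24, [1, 2, 0, 3, 1, 3, 0, 2, 1, 2, 0, 1, 2, 0], 102)],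 300), ([(89, [1, 3, 0, 1, 3, 0, 3, 3, 1, 3, 0, 3, 1, 2, 0, 2, 2, 1, 2, 0, 2], 207), (65, [1, 2, 0, 1, 2, 0, 2, 1, 3, 0, 3, 3, 1, 3, 0, 3], 206), (83, [1, 2, 0, 1, 2, 0, 3, 3, 1, 3, 0, 1, 3, 0, 2, 1, 2, 0], 64)], 254), ([(88, [1, 2, 0, 2, 2, 1, 2, 0, 2, 2, 2, 1, 3, 0, 3, 1, 2, 0, 2], 491), (87, [3, 1, 3, 0, 2, 2, 1, 2, 0, 1, 2, 0, 2, 2, 1, 3, 0], 104), (40, [1, 2, 0, 3, 1, 3, 0, 2, 1, 2, 0, 1, 2, 0], 1427)], 0), ([(83, [2, 2, 1, 2, 0, 3, 3, 1, 2, 0, 3, 1, 3, 0, 1, 3, 0, 2], 165), (76, [2, 2, 2, 1, 2, 0, 2, 1, 3, 0], 278), (85, [2, 2, 1, 3, 0, 3, 1, 2, 0, 2, 2, 1, 2, 0, 2], 107)], 180), ([(82, [2, 1, 3, 0, 3, 1, 3, 0, 2, 1, 2, 0, 2, 2, 2], 476), (41, [2, 1, 2, 0, 1, 2, 0, 3, 3, 1,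 2, 0, 3, 1, 3, 0, 2, 2, 2], 1378), (57, [1, 3, 0, 3, 3, 1, 3, 0, 3, 3, 1, 3, 0, 1, 3, 0, 3], 97)], 336), ([(90, [3, 1, 2, 0, 2, 2, 1, 3, 0, 1, 3, 0, 3, 1, 2, 0, 2, 1, 3, 0, 2, 2], 51), (67, [1, 3, 0, 2, 1, 2, 0, 3, 1, 3, 0, 2, 1, 2, 0, 1, 2, 0], 93), (42, [2, 1, 2, 0, 2, 2, 1, 2, 0, 1, 2, 0, 3, 1, 3, 0], 937)], 273), ([(91, [2, 1, 3, 0, 1, 3, 0, 2, 1, 2, 0, 1, 2, 0, 2, 2, 2, 1, 3, 0, 3], 7), (92, [1, 2, 0, 1, 2, 0, 2, 1, 2, 0, 1, 2, 0, 2, 1, 3, 0, 3, 1, 2, 0, 3, 3, 1, 2, 0, 2, 1, 3, 0], 611), (65, [2, 2, 2, 1, 2, 0, 3, 3, 1, 3, 0, 1, 3, 0], 44)], 229), ([(83, [1, 2, 0, 2, 1, 2, 0, 3, 1, 3, 0, 2, 2, 1, 3, 0, 2], 337), (90, [1, 3, 0, 2, 2, 2, 1, 3, 0, 1, 3, 0, 3, 1, 2, 0, 2, 1, 3,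 0, 2, 2], 272), (54, [1, 2, 0, 3, 1, 3, 0, 2, 1, 2, 0, 1, 2, 0], 204)], 26), ([(82, [3, 1, 3, 0, 3, 3, 1, 3, 0, 3, 1, 2, 0, 2, 2, 1, 2, 0, 2], 197), (42, [1, 2, 0, 2, 2, 1, 3, 0, 1, 3, 0, 3, 1, 3, 0, 1, 3, 0, 3], 1273), (88, [1, 2, 0, 2, 1, 3, 0, 2, 1, 2, 0, 3, 1, 3, 0, 3, 3, 1, 3, 0, 1, 3, 0, 2], 382)], 194), ([(82, [2, 2, 1, 3, 0, 3, 3, 1, 2, 0, 2, 2, 1, 2, 0, 2, 2], 116), (45, [1, 2, 0, 3, 3, 1, 3, 0, 3, 1, 2, 0, 2, 1, 2, 0, 1, 2, 0, 1, 2, 0], 948), (95, [2, 2, 1, 3, 0, 3, 3, 1, 2, 0, 1, 2, 0, 1, 2, 0, 3, 1, 3, 0, 3, 3], 115)], 49), ([(83, [1, 3, 0, 1, 3, 0, 2, 2, 1, 2, 0, 3, 1, 3, 0, 2, 1, 2, 0, 1, 2, 0], 413), (89, [1, 3, 0, 2, 2, 2, 1, 3, 0, 1, 3, 0, 3, 1, 2, 0, 2, 1, 3, 0,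 2, 2], 475), (60, [1, 2, 0, 3, 1, 3, 0, 2, 1, 2, 0, 1, 2, 0], 208)], 0), ([(96, [1, 2, 0, 1, 2, 0, 1, 2, 0, 2, 2, 1, 3, 0, 3, 3, 1, 2, 0, 1, 2, 0, 1, 2, 0], 621), (93, [2, 2, 2, 1, 2, 0, 2, 1, 3, 0, 3, 3, 1, 3, 0, 3], 489), (55, [1, 2, 0, 2, 1, 3, 0, 2, 1, 2, 0, 3, 1, 3, 0, 3, 3, 1, 3, 0, 1, 3, 0, 2], 56)], 379), ([(97, [2, 1, 2, 0, 2, 1, 3, 0, 2, 2, 1, 2, 0, 2, 2, 1, 3, 0], 370), (67, [2, 1, 2, 0], 48), (45, [1, 2, 0, 3, 1, 3, 0, 2, 1, 2, 0, 1, 2, 0], 1317)], 0), ([(96, [2, 1, 2, 0, 3, 3, 1, 3, 0, 1, 3, 0, 3, 1, 2, 0, 1, 2, 0, 2, 2], 410), (93, [1, 3, 0, 1, 3, 0, 2, 1, 2, 0, 1, 2, 0, 3, 1, 3, 0, 2, 1, 2, 0, 1, 2, 0], 100), (71, [2, 1, 2, 0], 135)], 411), ([(95, [1, 2, 0, 3, 1, 3,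 0, 2, 1, 2, 0, 1, 2, 0], 484), (88, [3, 3, 1, 2, 0, 1, 2, 0, 1, 2, 0, 3, 1, 3, 0, 2, 1, 2, 0, 1, 2, 0], 424), (91, [3, 1, 3, 0, 2, 1, 2, 0, 1, 2, 0, 3, 1, 3, 0, 2, 1, 2, 0, 1, 2, 0], 416)], 297), ([(96, [1, 2, 0, 3, 1, 3, 0, 2, 1, 2, 0, 1, 2, 0], 6), (93, [1, 3, 0, 1, 3, 0, 2, 2, 2, 1, 2, 0], 611), (66, [1, 2, 0, 3, 1, 3, 0, 2, 1, 2, 0, 1, 2, 0], 132)], 522), ([(97, [1, 2, 0, 3, 1, 3, 0, 2, 1, 2, 0, 1, 2, 0], 6), (71, [2, 1, 3, 0, 3, 3, 1, 3, 0, 2, 2, 1, 3, 0, 3, 1, 3, 0], 14), (96, [2, 2, 1, 3, 0, 3, 1, 2, 0, 2, 2, 1, 2, 0, 2], 1)], 622), ([(98, [1, 2, 0, 3, 1, 3, 0, 2, 2, 1, 3, 0, 2, 1, 2, 0, 1, 2, 0, 2, 1, 2, 0], 473), (98, [2, 1, 2, 0, 1, 2, 0, 2, 1, 2, 0, 1, 2, 0, 1, 2, 0, 3,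 1, 3, 0, 2], 3), (98, [1, 2, 0, 2, 2, 2, 1, 3, 0, 2, 2, 1, 2, 0], 178)], 50), ([(99, [2, 1, 3, 0, 2, 1, 2, 0, 1, 2, 0, 3, 1, 3, 0, 3], 25271), (74, [2, 2, 1, 3, 0, 2, 2, 1, 2, 0, 2, 1, 3, 0, 2, 2, 2, 1, 2, 0, 2, 1, 3, 0], 95), (61, [3, 1, 2, 0, 2, 1, 2, 0], 129)], 2331), ([(99, [1, 2, 0, 1, 2, 0, 2, 2, 1, 2, 0, 3, 1, 3, 0, 1, 3, 0, 2, 1, 2, 0], 27452), (61, [1, 2, 0, 1, 2, 0, 2, 2, 1, 2, 0, 3, 1, 3, 0, 1, 3, 0, 2, 1, 2, 0], 191), (100, [1, 2, 0, 3, 3, 1, 2, 0], 14976)], 2968)]]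

end CfsgLib.InvChar.SporHN
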