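import Cfsg.Agent.Lib.InvChar.SporHNTrace

/-! The saturation. -/

set_option autoImplicit false
set_option maxRecDepth 100000

namespace CfsgLib.InvChar.SporHN

open CfsgLib.InvChar.Coset

/-- hints -/
def relC9 : List (List (List (ℕ × List ℕ × ℕ) × ℕ)) := [
[([(0, [], 0), (5, [], 0), (2, [], 24400)], 0), ([(5, [], 121171), (2, [], 24400), (0, [], 0)], 25120), ([(6, [], 121171), (14, [], 2300), (3, [], 24400)], 25120), ([(7, [], 81764), (26, [], 9832), (4, [], 24400)], 39453), ([(8, [], 81764), (12, [], 2300), (1, [], 24400)], 39453), ([(10, [2, 2, 2, 1, 2, 0, 2, 1, 3, 0, 3, 3], 96695), (33, [2, 2, 2, 1, 2, 0, 2, 1, 3, 0, 3, 1, 2, 0], 1350), (12, [2, 1, 2, 0], 2983)], 56069), ([(10,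 [2, 2, 2, 1, 2, 0, 2, 1, 3, 0, 3, 1, 2, 0], 5568), (31, [2, 2, 2, 1, 2, 0, 2, 1, 3, 0, 3, 3], 278), (5, [2, 1, 2, 0], 55398)], 56069), ([(9, [2, 2, 2, 1, 2, 0, 2, 1, 3, 0, 3, 1, 2, 0], 66903), (23, [2, 2, 1, 2, 0, 1, 2, 0, 2, 1, 2, 0, 1, 2, 0, 3], 1249), (14, [2, 1, 2, 0], 4132)], 94749), ([(9, [2, 2, 2, 1, 2, 0, 2, 1, 3, 0, 3, 3], 109952), (13, [2, 1, 2, 0], 1321), (26, [2, 1, 2, 0], 64047)], 94749), ([(11, [3, 1, 2, 0, 1, 2, 0, 2, 1, 3, 0, 3, 1, 2, 0], 94473), (80, [1, 3, 0, 3, 1, 3, 0, 1, 3, 0, 2, 2, 1, 3, 0, 2], 114), (17, [3, 1, 2, 0, 3, 1, 3, 0, 3], 2950)], 24304), ([(11, [1, 2, 0, 1, 2, 0, 1, 2, 0, 3], 41812), (82, [1, 3, 0, 3, 1, 3, 0, 1, 3, 0, 2, 2, 1, 3, 0, 2], 204), (31,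 [3, 1, 2, 0, 3, 1, 3, 0, 3], 750)], 105947), ([(10, [2, 2, 1, 3, 0, 1, 3, 0, 3, 3], 30666), (40, [2, 1, 2, 0, 1, 2, 0, 2, 2, 1, 2, 0, 3, 3, 1, 2, 0], 854), (77, [1, 2, 0, 3, 1, 3, 0, 3, 1, 2, 0], 422)], 91801), ([(17, [2, 2, 2, 1, 2, 0, 2, 1, 3, 0, 3, 1, 2, 0], 4706), (7, [2, 1, 2, 0], 43151), (27, [2, 1, 2, 0], 64047)], 3646), ([(16, [2, 2, 2, 1, 2, 0, 2, 1, 3, 0, 3, 3], 224), (31, [2, 2, 2, 1, 2, 0, 2, 1, 3, 0, 3, 1, 2, 0], 1019), (6, [2, 1, 2, 0], 59371)], 3646), ([(22, [2, 2, 1, 2, 0, 1, 2, 0, 2, 1, 2, 0, 1, 2, 0, 1, 2, 0], 294), (30, [2, 2, 2, 1, 2, 0, 2, 1, 3, 0, 3, 1, 2, 0], 93), (15, [2, 1, 2, 0], 2129)], 4029), ([(23, [2, 2, 1, 2, 0, 1, 2, 0, 2, 1, 2, 0, 1, 2, 0, 1, 2, 0],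 294), (17, [2, 2, 2, 1, 2, 0, 2, 1, 3, 0, 3, 3], 450), (8, [2, 1, 2, 0], 68717)], 4029), ([(24, [1, 3, 0, 3, 1, 3, 0, 1, 3, 0, 2, 2, 1, 3, 0, 2], 2520), (77, [3, 1, 2, 0, 1, 2, 0, 2, 1, 3, 0, 3, 1, 2, 0], 489), (9, [3, 1, 2, 0, 3, 1, 3, 0, 3], 122079)], 4106), ([(24, [2, 2, 2, 1, 3, 0, 3, 1, 3, 0, 1, 3, 0, 2, 2, 1, 2, 0, 1, 2, 0, 3], 665), (87, [3, 1, 3, 0, 3, 1, 2, 0, 2, 1, 3, 0, 3, 3], 31), (33, [3, 1, 2, 0, 3, 1, 3, 0, 3], 1064)], 3553), ([(25, [1, 2, 0, 2, 1, 3, 0, 2, 1, 2, 0, 3, 1, 3, 0, 1, 3, 0], 3090), (49, [1, 2, 0, 1, 2, 0, 1, 2, 0, 2, 2, 1, 2, 0, 3, 3, 1, 3, 0, 1, 3, 0], 137), (19, [1, 3, 0, 2, 1, 2, 0, 2, 1, 2, 0, 1, 2, 0, 1, 2, 0], 152)], 4842), ([(25, [1, 2, 0, 2, 2,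 2, 1, 2, 0, 2, 1, 3, 0, 3, 1, 3, 0, 1, 3, 0, 2], 4911), (64, [2, 1, 2, 0, 1, 2, 0, 2, 1, 2, 0, 2, 1, 3, 0, 3, 1, 2, 0, 2], 76), (47, [3, 1, 2, 0, 3, 1, 3, 0, 3], 195)], 2965), ([(24, [2, 1, 2, 0, 1, 2, 0, 2, 1, 2, 0, 1, 2, 0, 1, 2, 0, 3, 1, 3, 0], 1488), (82, [2, 2, 2, 1, 3, 0, 3, 1, 3, 0, 1, 3, 0, 2, 2, 1, 2, 0, 1, 2, 0, 3], 49), (34, [3, 1, 2, 0, 3, 1, 3, 0, 3], 1099)], 2965), ([(24, [2, 2, 1, 2, 0, 3, 3, 1, 2, 0, 1, 2, 0, 2, 1, 3, 0, 1, 3, 0], 2082), (86, [3, 1, 3, 0, 3, 1, 2, 0, 2, 1, 3, 0, 3, 3], 210), (49, [3, 1, 2, 0, 3, 1, 3, 0, 3], 168)], 2965), ([(25, [2, 2, 1, 2, 0, 1, 2, 0, 2, 1, 2, 0, 1, 2, 0, 1, 2, 0, 3, 1, 3, 0], 530), (58, [2, 1, 2, 0, 3, 3, 1, 2, 0, 2, 1, 3, 0, 3,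 1, 3, 0, 2, 1, 2, 0, 2], 27), (23, [3, 1, 3, 0, 1, 3, 0, 2, 1, 2, 0, 3, 1, 3, 0], 1177)], 1642), ([(25, [2, 1, 2, 0, 1, 2, 0, 1, 2, 0, 2, 2, 2, 1, 3, 0, 3, 1, 2, 0], 1489), (56, [1, 2, 0, 3, 3, 1, 2, 0, 2, 2, 1, 2, 0, 2, 2, 2, 1, 2, 0, 2], 145), (30, [2, 2, 1, 2, 0, 1, 2, 0, 2, 1, 2, 0, 2, 2, 1, 3, 0], 1317)], 4655), ([(25, [2, 1, 3, 0, 1, 3, 0, 2, 1, 2, 0, 1, 2, 0, 2, 1, 3, 0, 3, 1, 2, 0, 1, 2, 0], 4676), (63, [3, 1, 2, 0, 3, 1, 3, 0, 3, 1, 2, 0, 3, 3], 190), (80, [2, 2, 1, 2, 0, 2, 1, 3, 0, 3, 1, 3, 0, 2, 1, 2, 0, 2], 18)], 772), ([(25, [2, 2, 2, 1, 2, 0, 3, 1, 3, 0, 3, 1, 2, 0, 3], 780), (74, [2, 1, 3, 0, 3, 1, 3, 0, 1, 3, 0, 2, 2, 2, 1, 2, 0, 2, 1, 3, 0, 1, 3, 0, 3], 171), (58,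 [3, 1, 2, 0, 3, 1, 3, 0, 3], 159)], 3486), ([(27, [2, 1, 2, 0], 73668), (17, [2, 2, 2, 1, 2, 0, 2, 1, 3, 0, 3, 1, 2, 0], 4192), (7, [2, 1, 2, 0], 43151)], 45092), ([(26, [2, 1, 2, 0], 50848), (9, [2, 2, 2, 1, 2, 0, 2, 1, 3, 0, 3, 3], 75854), (13, [2, 1, 2, 0], 1321)], 47419), ([(28, [2, 2, 1, 3, 0, 2, 1, 2, 0, 2, 2, 1, 3, 0], 67033), (43, [3, 1, 2, 0, 1, 2, 0, 2, 2, 1, 2, 0, 2, 2, 2], 1333), (36, [3, 1, 2, 0, 3, 1, 3, 0, 3], 840)], 42650), ([(29, [2, 2, 1, 3, 0, 2, 1, 2, 0, 2, 2, 1, 3, 0], 55897), (64, [2, 1, 3, 0, 3, 1, 3, 0, 1, 3, 0, 3, 1, 2, 0, 1, 2, 0, 2, 1, 3, 0], 129), (50, [3, 1, 2, 0, 3, 1, 3, 0, 3], 137)], 42650), ([(40, [1, 3, 0, 3, 1, 3, 0, 1, 3, 0, 2, 2, 1, 3, 0, 2], 720),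 (77, [1, 2, 0, 1, 2, 0, 1, 2, 0, 3], 277), (10, [3, 1, 2, 0, 3, 1, 3, 0, 3], 41980)], 996), ([(41, [1, 3, 0, 3, 1, 3, 0, 1, 3, 0, 2, 2, 1, 3, 0, 2], 1059), (58, [2, 2, 2, 1, 2, 0, 3, 3, 1, 2, 0, 2, 1, 3, 0], 57), (22, [3, 1, 3, 0, 3], 1835)], 899), ([(42, [1, 3, 0, 3, 1, 3, 0, 1, 3, 0, 2, 2, 1, 3, 0, 2], 914), (80, [3, 1, 2, 0, 1, 2, 0, 2, 2, 1, 2, 0, 2, 2, 2], 242), (16, [3, 1, 2, 0, 3, 1, 3, 0, 3], 2425)], 1245), ([(43, [1, 3, 0, 3, 1, 3, 0, 1, 3, 0, 2, 2, 1, 3, 0, 2], 890), (43, [2, 1, 3, 0, 3, 1, 3, 0, 1, 3, 0, 3, 1, 2, 0, 1, 2, 0, 2, 1, 3, 0], 511), (32, [3, 1, 2, 0, 3, 1, 3, 0, 3], 262)], 960), ([(41, [2, 2, 2, 1, 3, 0, 3, 1, 3, 0, 1, 3, 0, 2, 2, 1, 2, 0, 1, 2, 0, 3], 1192),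 (47, [1, 2, 0, 1, 2, 0, 1, 2, 0, 2, 2, 1, 2, 0, 3, 3, 1, 3, 0, 1, 3, 0], 132), (21, [1, 3, 0, 2, 1, 2, 0, 2, 1, 2, 0, 1, 2, 0, 1, 2, 0], 176)], 482), ([(43, [2, 2, 1, 2, 0, 3, 3, 1, 2, 0, 1, 2, 0, 2, 1, 3, 0, 1, 3, 0], 85), (36, [2, 2, 1, 3, 0, 2, 1, 2, 0, 2, 2, 1, 3, 0], 815), (28, [3, 1, 2, 0, 3, 1, 3, 0, 3], 78827)], 706), ([(42, [2, 2, 2, 1, 3, 0, 3, 1, 3, 0, 1, 3, 0, 2, 2, 1, 2, 0, 1, 2, 0, 3], 266), (84, [2, 1, 2, 0, 1, 2, 0, 2, 2, 1, 2, 0], 236), (53, [3, 1, 2, 0, 3, 1, 3, 0, 3], 63)], 860), ([(42, [2, 2, 1, 2, 0, 3, 3, 1, 2, 0, 1, 2, 0, 2, 1, 3, 0, 1, 3, 0], 1190), (81, [3, 1, 2, 0, 1, 2, 0, 2, 2, 1, 2, 0, 2, 2, 2], 16), (46, [3, 1, 2, 0, 3, 1, 3, 0, 3], 193)], 996), ([(41,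 [2, 2, 1, 2, 0, 3, 3, 1, 2, 0, 1, 2, 0, 2, 1, 3, 0, 1, 3, 0], 230), (56, [2, 2, 2, 1, 3, 0, 3, 1, 3, 0, 1, 3, 0, 2, 2, 1, 2, 0, 1, 2, 0, 3], 97), (39, [3, 1, 2, 0, 3, 1, 3, 0, 3], 477)], 543), ([(40, [2, 2, 2, 1, 3, 0, 3, 1, 3, 0, 1, 3, 0, 2, 2, 1, 2, 0, 1, 2, 0, 3], 222), (81, [3, 1, 3, 0, 3, 1, 2, 0, 2, 1, 3, 0, 3, 3], 65), (51, [3, 1, 2, 0, 3, 1, 3, 0, 3], 177)], 1067), ([(45, [1, 2, 0, 3, 3, 1, 3, 0, 2, 1, 2, 0, 3, 1, 3, 0, 1, 3, 0, 2, 1, 2, 0], 986), (97, [2, 2, 2, 1, 3, 0, 1, 3, 0, 3, 1, 2, 0, 2, 2, 1, 3, 0, 2], 410), (56, [3, 1, 2, 0, 3, 1, 3, 0, 3], 29)], 1334), ([(45, [1, 2, 0, 1, 2, 0, 1, 2, 0, 3, 3, 1, 3, 0, 2, 2, 1, 3, 0, 1, 3, 0, 3], 1048), (95, [2, 2, 1, 2, 0, 3, 1,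 3, 0, 2, 2, 1, 3, 0, 2, 1, 2, 0, 2, 1, 3, 0, 2], 163), (82, [3, 1, 2, 0, 3, 1, 3, 0, 3], 48)], 1035), ([(44, [2, 1, 3, 0, 3, 1, 2, 0, 1, 2, 0, 2, 2, 1, 3, 0, 2, 1, 2, 0, 2, 1, 3, 0, 2, 1, 2, 0], 507), (56, [1, 3, 0, 1, 3, 0, 3, 1, 2, 0, 2, 1, 2, 0, 1, 2, 0, 1, 2, 0, 3], 184), (43, [1, 2, 0, 3, 3, 1, 2, 0, 3, 1, 3, 0, 2, 1, 2, 0, 1, 2, 0, 3, 1, 3, 0], 992)], 94), ([(44, [1, 2, 0, 1, 2, 0, 2, 1, 3, 0, 3, 1, 2, 0, 1, 2, 0, 1, 2, 0, 2, 1, 2, 0], 977), (60, [1, 2, 0, 2, 1, 2, 0, 3, 3, 1, 3, 0, 3, 1, 2, 0, 2, 2, 1, 2, 0, 3], 104), (87, [1, 2, 0, 1, 2, 0, 3, 1, 3, 0, 3, 1, 2, 0, 2, 1, 3, 0, 3, 1, 2, 0], 243)], 929), ([(45, [2, 2, 1, 2, 0, 1, 2, 0, 2, 1, 3, 0, 3, 1, 3, 0, 1, 3, 0, 2, 1, 2,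 0], 1115), (92, [1, 3, 0, 2, 2, 1, 3, 0, 3, 1, 3, 0, 2, 1, 2, 0, 1, 2, 0, 2, 1, 2, 0, 3, 1, 3, 0], 339), (67, [1, 2, 0, 3, 1, 3, 0, 2, 1, 2, 0, 3, 1, 3, 0, 1, 3, 0, 3], 163)], 587), ([(44, [2, 2, 1, 2, 0, 1, 2, 0, 2, 1, 3, 0, 3, 1, 3, 0, 1, 3, 0, 2, 1, 2, 0], 1150), (55, [2, 2, 1, 2, 0, 2, 2, 1, 3, 0, 2, 1, 2, 0, 2, 2, 2], 66), (94, [3, 1, 2, 0, 3, 1, 3, 0, 3], 198)], 783), ([(64, [3, 1, 2, 0, 1, 2, 0, 2, 2, 1, 2, 0, 2, 2, 2], 235), (58, [1, 2, 0, 2, 1, 3, 0, 2, 1, 2, 0, 3, 1, 3, 0, 1, 3, 0], 146), (18, [3, 1, 2, 0, 3, 1, 3, 0, 3], 3005)], 156), ([(63, [2, 1, 3, 0, 3, 1, 3, 0, 2, 2, 1, 2, 0, 1, 2, 0, 2, 1, 3, 0], 150), (87, [2, 1, 2, 0, 1, 2, 0, 2, 1, 2, 0, 2, 1, 3, 0, 3, 1, 2, 0,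 2], 19), (37, [1, 3, 0, 2, 1, 2, 0, 2, 1, 2, 0, 1, 2, 0, 1, 2, 0], 316)], 169), ([(65, [1, 2, 0, 2, 1, 3, 0, 3], 157), (80, [2, 2, 2, 1, 3, 0, 3, 1, 3, 0, 1, 3, 0, 2, 2, 1, 2, 0, 1, 2, 0, 3], 334), (20, [3, 1, 2, 0, 3, 1, 3, 0, 3], 3294)], 156), ([(65, [2, 1, 2, 0, 1, 2, 0, 2, 1, 2, 0, 1, 2, 0, 1, 2, 0, 2, 1, 2, 0, 3, 1, 3, 0], 96), (84, [1, 3, 0, 3, 1, 3, 0, 1, 3, 0, 3, 1, 2, 0, 1, 2, 0, 3, 1, 3, 0, 1, 3, 0], 412), (48, [1, 3, 0, 2, 1, 2, 0, 2, 1, 2, 0, 1, 2, 0, 1, 2, 0], 207)], 125), ([(63, [2, 1, 2, 0, 1, 2, 0, 2, 1, 2, 0, 1, 2, 0, 1, 2, 0, 3, 1, 3, 0], 228), (82, [2, 2, 1, 2, 0, 3, 3, 1, 2, 0, 1, 2, 0, 2, 1, 3, 0, 1, 3, 0], 191), (38, [3, 1, 2, 0, 3, 1, 3, 0, 3], 251)], 156),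 ([(64, [3, 1, 3, 0, 3, 1, 2, 0, 2, 1, 3, 0, 3, 3], 151), (50, [2, 2, 1, 3, 0, 2, 1, 2, 0, 2, 2, 1, 3, 0], 153), (29, [3, 1, 2, 0, 3, 1, 3, 0, 3], 58165)], 156), ([(57, [3, 3, 1, 3, 0, 3, 1, 2, 0, 2, 1, 2, 0, 1, 2, 0, 1, 2, 0], 116), (87, [3, 1, 2, 0, 1, 2, 0, 2, 2, 1, 2, 0, 2, 2, 2], 125), (35, [3, 1, 2, 0, 3, 1, 3, 0, 3], 170)], 11), ([(58, [1, 2, 0, 3, 1, 3, 0, 2, 2, 1, 2, 0, 3, 1, 3, 0, 1, 3, 0, 3, 1, 3, 0], 209), (25, [3, 3, 1, 3, 0, 3, 1, 2, 0, 2, 1, 2, 0, 1, 2, 0, 1, 2, 0], 895), (52, [3, 1, 2, 0, 3, 1, 3, 0, 3], 20)], 156), ([(74, [2, 2, 1, 3, 0, 1, 3, 0, 3, 3, 1, 2, 0, 3, 1, 3, 0, 2, 1, 2, 0, 1, 2, 0, 3], 135), (55, [1, 2, 0, 1, 2, 0, 2, 2, 1, 3, 0, 2, 1, 2, 0, 2, 2, 1, 2,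 0, 2, 1, 3, 0, 3], 135), (92, [3, 1, 2, 0, 3, 1, 3, 0, 3], 576)], 143), ([(75, [2, 2, 1, 3, 0, 1, 3, 0, 3, 3, 1, 2, 0, 3, 1, 3, 0, 2, 1, 2, 0, 1, 2, 0, 3], 135), (60, [3, 1, 3, 0, 1, 3, 0, 3, 1, 3, 0, 2, 1, 2, 0, 1, 2, 0, 3, 1, 3, 0, 1, 3, 0, 3], 108), (89, [3, 1, 2, 0, 3, 1, 3, 0, 3], 474)], 143), ([(67, [2, 2, 2, 1, 3, 0, 1, 3, 0, 3, 1, 2, 0, 2, 2, 1, 3, 0, 2], 53), (43, [2, 1, 2, 0, 2, 2, 2], 666), (41, [1, 2, 0, 3, 3, 1, 2, 0, 3, 1, 3, 0, 2, 1, 2, 0, 1, 2, 0, 3, 1, 3, 0], 386)], 32), ([(74, [2, 1, 3, 0, 3, 1, 2, 0, 3, 3, 1, 3, 0, 3, 1, 2, 0, 1, 2, 0], 191), (58, [2, 2, 2, 1, 2, 0, 3, 1, 3, 0, 3, 1, 2, 0, 3], 152), (25, [3, 1, 2, 0, 3, 1, 3, 0, 3], 1952)], 187), ([(74, [2, 2, 1,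 3, 0, 1, 3, 0, 3, 1, 2, 0, 1, 2, 0, 2, 1, 3, 0, 3, 1, 2, 0, 2, 2], 143), (60, [2, 1, 3, 0, 2, 2, 1, 3, 0, 3, 3, 1, 2, 0, 2, 1, 3, 0], 110), (84, [1, 2, 0, 2, 1, 3, 0, 1, 3, 0, 2, 1, 2, 0, 1, 2, 0, 3, 1, 3, 0], 26)], 6), ([(73, [1, 2, 0, 1, 2, 0, 1, 2, 0, 2, 2, 2, 1, 3, 0, 2, 1, 2, 0], 63), (54, [1, 2, 0, 2, 2, 1, 3, 0, 2, 1, 2, 0, 2, 2, 1, 3, 0, 1, 3, 0], 2), (90, [3, 1, 2, 0, 3, 1, 3, 0, 3], 297)], 143), ([(72, [1, 2, 0, 1, 2, 0, 1, 2, 0, 2, 2, 2, 1, 3, 0, 2, 1, 2, 0], 63), (75, [1, 2, 0, 3, 1, 3, 0, 3, 3, 1, 2, 0, 2, 1, 2, 0, 1, 2, 0, 3, 3, 1, 3, 0], 63), (59, [1, 2, 0, 2, 2, 1, 2, 0, 2, 1, 2, 0, 1, 2, 0, 1, 2, 0, 3, 1, 3, 0, 2], 173)], 208), ([(68, [2, 1, 3, 0, 3, 3, 1, 2, 0, 2,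 1, 3, 0, 3, 3], 48), (68, [2, 1, 3, 0, 3, 3, 1, 2, 0, 2, 1, 3, 0, 3, 3], 48), (68, [2, 1, 3, 0, 3, 3, 1, 2, 0, 2, 1, 3, 0, 3, 3], 48)], 146), ([(69, [2, 1, 3, 0, 3, 3, 1, 2, 0, 2, 1, 3, 0, 3, 3], 48), (61, [3, 3, 1, 2, 0, 2, 1, 3, 0, 3, 3], 230), (99, [3, 3, 1, 2, 0, 2, 1, 3, 0, 3, 3], 18689)], 0), ([(54, [3, 3, 1, 3, 0, 2, 1, 2, 0, 1, 2, 0, 3, 3, 1, 2, 0, 1, 2, 0, 2, 2], 25), (84, [3, 1, 3, 0, 3, 3, 1, 3, 0, 2, 2, 1, 3, 0, 2], 99), (64, [1, 3, 0, 2, 1, 2, 0, 1, 2, 0, 2, 2, 1, 3, 0, 1, 3, 0, 3, 1, 3, 0], 230)], 207), ([(55, [2, 2, 2, 1, 3, 0, 1, 3, 0, 3, 1, 2, 0, 2, 2, 1, 3, 0, 2], 76), (95, [1, 2, 0, 1, 2, 0, 2, 1, 3, 0, 3, 1, 2, 0, 1, 2, 0, 1, 2, 0, 2, 1, 2, 0], 606), (81, [3, 1,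 2, 0, 3, 1, 3, 0, 3], 63)], 167), ([(54, [3, 1, 2, 0, 1, 2, 0, 3, 1, 3, 0, 1, 3, 0, 3, 1, 2, 0, 1, 2, 0, 2, 2], 54), (83, [1, 2, 0, 2, 2, 2, 1, 2, 0, 1, 2, 0, 2, 1, 2, 0, 1, 2, 0, 3], 322), (86, [1, 2, 0, 1, 2, 0, 1, 2, 0, 2, 1, 3, 0, 3, 1, 2, 0, 2, 1, 3, 0], 36)], 88), ([(74, [1, 2, 0, 1, 2, 0, 1, 2, 0, 2, 2, 2, 1, 3, 0, 2, 1, 2, 0], 201), (67, [1, 2, 0, 1, 2, 0, 2, 2, 1, 3, 0, 2, 2, 1, 3, 0, 3, 3, 1, 2, 0], 28), (44, [3, 1, 2, 0, 3, 1, 3, 0, 1, 3, 0, 2, 1, 2, 0, 3, 1, 3, 0], 1310)], 63), ([(75, [1, 2, 0, 1, 2, 0, 1, 2, 0, 2, 2, 2, 1, 3, 0, 2, 1, 2, 0], 201), (71, [3, 1, 2, 0, 2, 2, 1, 2, 0, 2, 2, 1, 3, 0, 1, 3, 0, 2], 237), (97, [3, 1, 2, 0, 3, 1, 3, 0, 3], 194)], 143), ([(61, [1,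 2, 0, 2, 2, 2, 1, 2, 0, 2, 1, 3, 0, 3, 3], 48), (99, [1, 2, 0, 2, 2, 2, 1, 2, 0, 2, 1, 3, 0, 3, 3], 18689), (69, [3, 3, 1, 2, 0, 2, 1, 3, 0, 3, 3], 48)], 110), ([(62, [1, 2, 0, 2, 2, 2, 1, 2, 0, 2, 1, 3, 0, 3, 3], 48), (62, [1, 2, 0, 2, 2, 2, 1, 2, 0, 2, 1, 3, 0, 3, 3], 48), (62, [1, 2, 0, 2, 2, 2, 1, 2, 0, 2, 1, 3, 0, 3, 3], 48)], 146), ([(73, [2, 2, 2, 1, 2, 0, 1, 2, 0, 2, 1, 2, 0, 1, 2, 0, 2, 1, 3, 0, 3, 1, 2, 0], 1), (66, [2, 2, 2, 1, 2, 0, 2, 1, 2, 0, 1, 2, 0, 2, 1, 3, 0, 3, 1, 2, 0], 154), (93, [3, 1, 2, 0, 3, 1, 3, 0, 1, 3, 0, 2, 1, 2, 0, 3, 1, 3, 0], 74)], 182), ([(72, [2, 2, 2, 1, 2, 0, 1, 2, 0, 2, 1, 2, 0, 1, 2, 0, 2, 1, 3, 0, 3, 1, 2, 0], 1), (74, [2, 1, 3, 0, 1, 3, 0,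 3, 3, 1, 3, 0, 3, 1, 2, 0, 3, 3, 1, 3, 0, 2], 175), (70, [1, 2, 0, 2, 2, 1, 2, 0, 2, 1, 2, 0, 1, 2, 0, 3, 1, 3, 0, 2, 1, 2, 0, 2], 197)], 146), ([(75, [1, 2, 0, 2, 2, 1, 2, 0, 1, 2, 0, 2, 1, 3, 0, 3, 3, 1, 2, 0, 1, 2, 0], 226), (59, [3, 1, 3, 0, 3, 1, 2, 0, 2, 1, 3, 0, 1, 3, 0, 3, 1, 2, 0, 2, 1, 3, 0, 3], 81), (72, [2, 1, 3, 0, 3, 3, 1, 2, 0, 3, 1, 3, 0, 3, 3, 1, 2, 0, 1, 2, 0, 3], 17)], 220), ([(74, [1, 2, 0, 2, 2, 1, 2, 0, 1, 2, 0, 2, 1, 3, 0, 3, 3, 1, 2, 0, 1, 2, 0], 226), (59, [3, 3, 1, 2, 0, 1, 2, 0, 2, 1, 2, 0, 3, 1, 3, 0, 2, 1, 2, 0, 1, 2, 0, 3], 150), (73, [2, 1, 2, 0, 2, 1, 2, 0, 3, 1, 3, 0, 2, 1, 2, 0, 2, 1, 2, 0, 3], 233)], 34), ([(73, [1, 2, 0, 2, 2, 1, 2, 0, 1, 2, 0,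 2, 1, 3, 0, 3, 3, 1, 2, 0, 1, 2, 0], 188), (59, [2, 1, 2, 0, 2, 2, 2, 1, 3, 0, 2, 2, 1, 2, 0, 2, 2, 1, 2, 0, 1, 2, 0], 6), (74, [3, 3, 1, 3, 0, 1, 3, 0, 3, 1, 3, 0, 1, 3, 0, 3, 3, 1, 3, 0], 11)], 68), ([(72, [1, 2, 0, 2, 2, 1, 2, 0, 1, 2, 0, 2, 1, 3, 0, 3, 3, 1, 2, 0, 1, 2, 0], 188), (59, [1, 2, 0, 1, 2, 0, 2, 2, 1, 2, 0, 2, 1, 3, 0, 3, 3, 1, 2, 0, 2, 2], 22), (75, [1, 2, 0, 2, 1, 3, 0, 3, 1, 2, 0, 2, 1, 2, 0, 1, 2, 0, 3], 204)], 68), ([(82, [2, 1, 2, 0, 1, 2, 0, 2, 2, 1, 2, 0, 3, 3, 1, 2, 0], 211), (31, [2, 2, 1, 3, 0, 1, 3, 0, 3, 3], 883), (11, [1, 2, 0, 3, 1, 3, 0, 3, 1, 2, 0], 22014)], 53), ([(83, [2, 1, 2, 0, 1, 2, 0, 2, 2, 1, 2, 0, 3, 3, 1, 2, 0], 414), (85, [1, 2, 0, 1, 2,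 0, 2, 2, 1, 3, 0, 3, 1, 2, 0, 2, 1, 2, 0, 3, 3, 1, 3, 0, 2], 33), (78, [2, 2, 1, 3, 0, 2, 1, 2, 0, 1, 2, 0, 2], 39)], 95), ([(87, [2, 1, 3, 0, 2, 1, 2, 0, 2, 1, 3, 0, 3], 95), (42, [3, 3, 1, 2, 0, 3, 1, 3, 0, 3, 3, 1, 2, 0], 1280), (79, [3, 1, 3, 0, 3, 3, 1, 3, 0], 492)], 61), ([(86, [2, 1, 3, 0, 1, 3, 0, 3, 1, 3, 0, 1, 3, 0, 2, 2, 1, 2, 0, 2], 225), (63, [2, 1, 3, 0, 1, 3, 0, 3, 1, 3, 0, 1, 3, 0, 2, 2, 1, 2, 0, 2], 50), (76, [3, 3, 1, 2, 0, 2, 2, 2, 1, 3, 0], 334)], 89), ([(91, [2, 1, 2, 0, 3, 3, 1, 2, 0, 2, 2, 1, 3, 0, 3, 1, 2, 0, 2, 1, 2, 0, 2, 1, 3, 0], 66), (92, [3, 3, 1, 3, 0, 2, 1, 2, 0, 1, 2, 0, 3, 3, 1, 2, 0, 1, 2, 0, 2, 2], 606), (63, [3, 1, 2, 0, 3, 1, 3, 0, 3], 23)], 254),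 ([(90, [1, 2, 0, 2, 2, 2, 1, 2, 0, 2, 1, 3, 0, 2, 1, 2, 0, 3], 188), (58, [2, 1, 3, 0, 1, 3, 0, 2, 1, 2, 0, 1, 2, 0, 2, 1, 3, 0, 3, 1, 2, 0, 1, 2, 0], 220), (24, [3, 1, 2, 0, 3, 1, 3, 0, 3], 3228)], 388), ([(90, [1, 2, 0, 1, 2, 0, 2, 1, 3, 0, 1, 3, 0, 2, 1, 2, 0, 1, 2, 0, 3, 1, 3, 0, 3, 3, 1, 2, 0], 172), (54, [1, 2, 0, 1, 2, 0, 2, 2, 2, 1, 3, 0, 3, 1, 2, 0, 3, 1, 3, 0, 1, 3, 0], 204), (83, [2, 1, 2, 0, 1, 2, 0, 3, 3, 1, 3, 0, 3, 1, 2, 0, 2], 415)], 278), ([(91, [1, 3, 0, 2, 2, 1, 2, 0, 1, 2, 0, 3, 3, 1, 2, 0, 1, 2, 0, 1, 2, 0], 275), (94, [1, 2, 0, 3, 3, 1, 3, 0, 2, 1, 2, 0, 3, 1, 3, 0, 1, 3, 0, 2, 1, 2, 0], 246), (40, [3, 1, 2, 0, 3, 1, 3, 0, 3], 863)], 185), ([(88, [2, 2, 2, 1,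 2, 0, 2, 2, 1, 3, 0, 3, 3, 1, 3, 0, 3, 1, 2, 0], 130), (85, [3, 1, 2, 0, 1, 2, 0, 2, 2, 1, 2, 0, 1, 2, 0, 2, 1, 2, 0], 12), (85, [1, 2, 0, 2, 2, 1, 2, 0, 3, 3, 1, 3, 0, 2, 1, 2, 0, 2], 432)], 49), ([(89, [2, 2, 2, 1, 2, 0, 2, 2, 1, 3, 0, 3, 3, 1, 3, 0, 3, 1, 2, 0], 130), (64, [2, 1, 2, 0, 1, 2, 0, 2, 1, 2, 0, 3, 3], 108), (57, [1, 3, 0, 3, 1, 3, 0, 1, 3, 0, 3, 3, 1, 2, 0, 1, 2, 0], 190)], 286), ([(88, [3, 1, 2, 0, 1, 2, 0, 2, 1, 3, 0, 3, 3, 1, 3, 0, 2, 2, 2], 31), (82, [2, 1, 3, 0, 3, 1, 2, 0, 1, 2, 0, 2, 1, 2, 0, 2, 2, 1, 2, 0, 1, 2, 0, 3], 68), (42, [2, 2, 2], 1263)], 403), ([(89, [2, 2, 2, 1, 2, 0, 3, 3, 1, 2, 0, 2, 2, 1, 3, 0, 3, 1, 2, 0, 2], 102), (70, [2, 1, 2, 0, 2, 2, 1, 3,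 0, 2, 1, 2, 0, 2, 2, 1, 2, 0, 3], 143), (65, [2, 1, 3, 0, 1, 3, 0, 3, 1, 3, 0, 1, 3, 0, 3, 1, 2, 0, 1, 2, 0, 2, 2], 93)], 126), ([(90, [3, 1, 3, 0, 1, 3, 0, 3, 1, 3, 0, 2, 1, 2, 0, 1, 2, 0, 3, 1, 3, 0, 1, 3, 0, 3], 421), (74, [2, 2, 2, 1, 2, 0, 3, 1, 3, 0, 3, 3, 1, 2, 0, 2, 2, 1, 2, 0, 1, 2, 0, 2], 106), (54, [3, 1, 2, 0, 3, 1, 3, 0, 3], 119)], 216), ([(91, [3, 1, 3, 0, 1, 3, 0, 3, 1, 3, 0, 2, 1, 2, 0, 1, 2, 0, 3, 1, 3, 0, 1, 3, 0, 3], 421), (95, [1, 3, 0, 3, 1, 3, 0, 2, 1, 2, 0, 1, 2, 0, 2, 2, 1, 3, 0, 1, 3, 0, 3], 508), (88, [2, 1, 2, 0, 1, 2, 0, 1, 2, 0, 2, 1, 2, 0, 2, 1, 3, 0, 2, 1, 2, 0], 392)], 238), ([(88, [1, 2, 0, 2, 2, 1, 3, 0, 2, 1, 2, 0, 2, 2, 1, 3, 0, 1, 3, 0], 425),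 (91, [2, 1, 2, 0, 2, 1, 2, 0, 1, 2, 0, 2, 1, 3, 0, 3, 1, 2, 0, 2, 1, 2, 0], 346), (95, [2, 2, 1, 3, 0, 3, 1, 2, 0, 3, 1, 3, 0, 3, 1, 2, 0], 568)], 49), ([(89, [1, 2, 0, 2, 2, 1, 3, 0, 2, 1, 2, 0, 2, 2, 1, 3, 0, 1, 3, 0], 425), (72, [1, 2, 0, 2, 2, 1, 2, 0, 2, 1, 3, 0, 3, 1, 2, 0, 3, 3, 1, 3, 0], 135), (60, [3, 1, 2, 0, 3, 1, 3, 0, 3], 238)], 185), ([(92, [1, 2, 0, 2, 1, 2, 0, 3, 1, 3, 0, 2, 2, 1, 2, 0, 1, 2, 0, 2, 1, 3, 0], 508), (72, [1, 2, 0, 1, 2, 0, 2, 2, 1, 3, 0, 3, 3], 87), (55, [2, 1, 2, 0, 1, 2, 0, 1, 2, 0, 2, 1, 2, 0, 2, 1, 3, 0, 2, 1, 2, 0], 3)], 297), ([(92, [1, 3, 0, 3, 3, 1, 3, 0, 2, 2, 1, 3, 0, 2, 2, 2, 1, 3, 0, 3, 1, 3, 0], 268), (67, [1, 2, 0, 2, 2, 2, 1, 3, 0, 3,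 1, 3, 0, 1, 3, 0, 2], 179), (45, [3, 1, 2, 0, 3, 1, 3, 0, 3], 1174)], 375), ([(92, [2, 2, 1, 2, 0, 1, 2, 0, 2, 1, 3, 0, 3, 1, 3, 0, 1, 3, 0, 2, 2, 1, 2, 0], 144), (59, [2, 1, 3, 0, 3, 1, 2, 0, 2, 1, 3, 0, 2, 2, 1, 2, 0, 1, 2, 0, 3, 3, 1, 3, 0], 226), (71, [1, 2, 0, 3, 1, 3, 0, 2, 1, 2, 0, 3, 1, 3, 0, 1, 3, 0, 3], 52)], 282), ([(95, [2, 2, 1, 2, 0, 2, 1, 3, 0, 2, 2, 1, 2, 0, 1, 2, 0], 523), (88, [1, 3, 0, 2, 1, 2, 0, 1, 2, 0, 2, 1, 2, 0, 3, 1, 3, 0, 1, 3, 0, 3, 1, 2, 0], 279), (91, [3, 1, 3, 0, 2, 2, 1, 3, 0, 1, 3, 0, 3], 290)], 379), ([(93, [2, 1, 3, 0, 3, 1, 2, 0, 2, 1, 3, 0, 2, 2, 1, 3, 0, 3], 151), (74, [3, 1, 2, 0, 1, 2, 0, 3, 3, 1, 3, 0, 2, 2, 2, 1, 3, 0], 126), (66, [3, 1, 2,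 0, 3, 1, 3, 0, 3], 46)], 621), ([(94, [3, 1, 2, 0, 3, 3, 1, 3, 0, 2, 1, 2, 0, 1, 2, 0, 2, 1, 2, 0], 322), (45, [1, 2, 0, 2, 1, 2, 0, 3, 3, 1, 3, 0, 2, 1, 2, 0, 3], 220), (96, [1, 2, 0, 2, 2, 1, 2, 0, 2, 1, 2, 0, 1, 2, 0, 3, 1, 3, 0, 2, 1, 2, 0, 2], 142)], 517), ([(93, [1, 3, 0, 2, 2, 1, 3, 0, 2, 1, 2, 0, 2, 1, 3, 0, 3, 3], 280), (66, [2, 2, 1, 3, 0, 3, 1, 2, 0, 2, 1, 3, 0, 3, 3, 1, 2, 0, 2, 2], 155), (98, [1, 2, 0, 2, 1, 3, 0, 2, 2, 1, 3, 0, 3, 3, 1, 3, 0, 3, 3], 216)], 535), ([(99, [3, 3, 1, 2, 0, 2, 1, 3, 0, 3, 3], 20581), (69, [2, 1, 3, 0, 3, 3, 1, 2, 0, 2, 1, 3, 0, 3, 3], 48), (61, [3, 3, 1, 2, 0, 2, 1, 3, 0, 3, 3], 230)], 2342), ([(99, [1, 3, 0, 3, 1, 2, 0, 1, 2, 0, 2, 2, 1,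 3, 0, 2, 1, 2, 0, 2], 22083), (61, [1, 3, 0, 3, 1, 2, 0, 1, 2, 0, 2, 2, 1, 3, 0, 2, 1, 2, 0, 2], 191), (100, [1, 2, 0, 2, 2, 2, 1, 3, 0], 11547)], 3977)],
[([(0, [], 0), (5, [], 0), (2, [], 24400)], 0), ([(5, [], 113624), (2, [], 24400), (0, [], 0)], 61836), ([(6, [], 113624), (14, [], 2300), (3, [], 24400)], 61836), ([(7, [], 54894), (26, [], 9832), (4, [], 24400)], 38997), ([(8, [], 54894), (12, [], 2300), (1, [], 24400)], 38997), ([(9, [3, 1, 2, 0], 125440), (19, [1, 3, 0, 2], 2758), (12, [1, 2, 0], 2983)], 118113), ([(9, [2, 2, 1, 2, 0, 2, 2, 1, 2, 0, 3, 1, 3, 0], 17501), (17, [3, 1, 2, 0], 4587), (5, [1, 2, 0], 4220)], 118113), ([(10, [3, 1, 2, 0], 35758), (34, [2, 2, 1, 3, 0,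 2, 1, 2, 0, 1, 2, 0, 2, 2, 1, 3, 0, 1, 3, 0], 850), (14, [1, 2, 0], 3655)], 94875), ([(10, [2, 2, 1, 2, 0, 2, 2, 1, 2, 0, 3, 1, 3, 0], 86305), (36, [1, 3, 0, 2], 568), (26, [1, 2, 0], 31284)], 94875), ([(6, [1, 3, 0, 1, 3, 0, 3, 1, 2, 0, 2, 1, 3, 0], 42565), (19, [2, 2, 1, 3, 0, 3, 1, 2, 0, 2, 2, 2, 1, 2, 0], 4955), (17, [1, 2, 0], 1936)], 38320), ([(8, [1, 3, 0, 1, 3, 0, 3, 1, 2, 0, 2, 1, 3, 0], 94485), (21, [2, 2, 1, 3, 0, 3, 1, 2, 0, 2, 2, 2, 1, 2, 0], 4639), (31, [1, 2, 0], 843)], 106147), ([(9, [2, 1, 2, 0, 3, 3], 112114), (24, [2, 1, 2, 0, 2, 2, 1, 3, 0, 2, 1, 2, 0, 3, 1, 3, 0], 4922), (77, [3, 1, 3, 0, 3], 448)], 113367), ([(18, [2, 2, 1, 3, 0, 2, 1, 2, 0, 1, 2, 0, 2, 2, 1,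 3, 0, 1, 3, 0], 5035), (50, [1, 3, 0, 2], 90), (27, [1, 2, 0], 31284)], 4682), ([(19, [2, 2, 1, 3, 0, 2, 1, 2, 0, 1, 2, 0, 2, 2, 1, 3, 0, 1, 3, 0], 5035), (17, [2, 2, 1, 2, 0, 2, 2, 1, 2, 0, 3, 1, 3, 0], 51), (6, [1, 2, 0], 44960)], 4682), ([(20, [2, 2, 1, 3, 0, 2, 1, 2, 0, 1, 2, 0, 2, 2, 1, 3, 0, 1, 3, 0], 5008), (49, [2, 2, 1, 3, 0, 2, 1, 2, 0, 1, 2, 0, 2, 2, 1, 3, 0, 1, 3, 0], 14), (15, [1, 2, 0], 3655)], 4051), ([(21, [2, 2, 1, 3, 0, 2, 1, 2, 0, 1, 2, 0, 2, 2, 1, 3, 0, 1, 3, 0], 5008), (31, [2, 2, 1, 2, 0, 2, 2, 1, 2, 0, 3, 1, 3, 0], 844), (8, [1, 2, 0], 97291)], 4051), ([(17, [2, 2, 2, 1, 2, 0, 3, 3, 1, 2, 0, 2, 1, 3, 0], 2739), (5, [1, 3, 0, 1, 3, 0, 3, 1, 2, 0, 2, 1, 3, 0],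 72294), (9, [1, 2, 0], 65180)], 4732), ([(18, [1, 2, 0, 1, 2, 0, 1, 2, 0, 3, 3, 1, 3, 0, 2, 2, 1, 3, 0], 1597), (46, [1, 2, 0, 1, 2, 0, 1, 2, 0, 3, 3, 1, 3, 0, 2, 2, 1, 3, 0], 14), (33, [1, 2, 0], 380)], 4720), ([(20, [1, 2, 0, 1, 2, 0, 1, 2, 0, 2, 1, 2, 0, 3, 1, 3, 0, 2, 2, 2], 1095), (58, [3, 3, 1, 3, 0, 2, 2, 1, 3, 0, 2, 1, 2, 0, 2, 2, 1, 3, 0], 89), (19, [2, 1, 2, 0, 2, 2, 2, 1, 2, 0, 2, 2, 1, 2, 0], 4727)], 3981), ([(21, [1, 2, 0, 1, 2, 0, 1, 2, 0, 2, 1, 2, 0, 3, 1, 3, 0, 2, 2, 2], 1095), (41, [2, 2, 1, 2, 0, 1, 2, 0, 3, 1, 3, 0, 1, 3, 0, 3, 3, 1, 2, 0], 301), (47, [1, 2, 0], 146)], 3147), ([(18, [1, 2, 0, 1, 2, 0, 1, 2, 0, 2, 1, 2, 0, 3, 1, 3, 0, 2, 2, 2], 1305), (56, [1, 2,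 0, 3, 1, 3, 0, 3, 3, 1, 3, 0, 2, 1, 2, 0, 2, 1, 3, 0], 207), (34, [1, 2, 0], 700)], 4738), ([(19, [1, 2, 0, 1, 2, 0, 1, 2, 0, 2, 1, 2, 0, 3, 1, 3, 0, 2, 2, 2], 1305), (25, [1, 3, 0, 3, 3, 1, 2, 0, 2, 1, 3, 0, 3, 3], 2523), (49, [1, 2, 0], 129)], 4738), ([(25, [2, 2, 2, 1, 2, 0, 3, 3, 1, 2, 0, 2, 1, 3, 0], 1476), (58, [1, 2, 0, 1, 2, 0, 3, 1, 3, 0, 1, 3, 0, 3, 1, 2, 0, 2, 1, 2, 0, 1, 2, 0], 57), (23, [1, 2, 0, 1, 2, 0, 3, 3, 1, 3, 0, 2, 2, 1, 3, 0], 1331)], 1827), ([(25, [3, 3, 1, 2, 0, 1, 2, 0, 1, 2, 0, 2, 1, 3, 0, 3], 515), (56, [2, 1, 2, 0, 2, 2, 1, 3, 0, 1, 3, 0, 3, 1, 3, 0, 1, 3, 0, 2], 120), (30, [2, 2, 1, 2, 0, 2, 2, 1, 3, 0, 1, 3, 0], 1378)], 4437), ([(24, [2, 1, 3, 0, 3, 1,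 2, 0, 3, 1, 3, 0, 1, 3, 0, 3, 1, 2, 0], 2246), (88, [2, 1, 3, 0, 2, 2, 2, 1, 3, 0, 2, 2, 1, 3, 0, 3, 3, 1, 3, 0, 3], 256), (80, [2, 2, 1, 2, 0, 2, 1, 3, 0, 1, 3, 0, 3, 1, 2, 0, 1, 2, 0, 1, 2, 0], 86)], 1073), ([(21, [1, 3, 0, 1, 3, 0, 3, 1, 2, 0, 1, 2, 0, 3, 1, 3, 0, 1, 3, 0], 4074), (44, [1, 2, 0, 2, 1, 2, 0, 2, 2, 1, 2, 0, 3, 3, 1, 2, 0], 389), (58, [3, 1, 3, 0, 3], 105)], 3486), ([(28, [1, 3, 0, 2], 50364), (31, [3, 1, 2, 0], 752), (7, [1, 2, 0], 93538)], 49325), ([(29, [1, 3, 0, 2], 43111), (47, [2, 2, 1, 3, 0, 2, 1, 2, 0, 1, 2, 0, 2, 2, 1, 3, 0, 1, 3, 0], 102), (13, [1, 2, 0], 3811)], 47463), ([(28, [2, 2, 1, 2, 0, 3, 1, 3, 0, 3, 3, 1, 2, 0, 2, 2], 64095), (43, [2, 1, 3, 0, 2,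 2, 1, 2, 0, 3, 1, 3, 0, 1, 3, 0, 3, 3], 1145), (36, [1, 2, 0], 658)], 43734), ([(29, [2, 2, 1, 2, 0, 3, 1, 3, 0, 3, 3, 1, 2, 0, 2, 2], 70599), (64, [2, 1, 2, 0, 2, 2, 1, 3, 0, 3, 3, 1, 2, 0, 1, 2, 0, 3, 1, 3, 0, 1, 3, 0], 124), (50, [1, 2, 0], 71)], 49437), ([(36, [2, 2, 1, 3, 0, 3, 1, 2, 0, 2, 2, 2, 1, 2, 0], 997), (26, [1, 3, 0, 1, 3, 0, 3, 1, 2, 0, 2, 1, 3, 0], 46300), (10, [1, 2, 0], 94616)], 1061), ([(34, [1, 2, 0, 1, 2, 0, 1, 2, 0, 3, 3, 1, 3, 0, 2, 2, 1, 3, 0], 626), (23, [2, 2, 1, 3, 0, 3, 1, 2, 0, 2, 1, 3, 0], 2752), (22, [1, 3, 0, 2, 1, 2, 0], 4976)], 965), ([(39, [2, 2, 1, 3, 0, 3, 1, 2, 0, 2, 2, 2, 1, 2, 0], 1079), (33, [2, 2, 2, 1, 2, 0, 3, 3, 1, 2, 0, 2, 1, 3, 0], 618),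 (16, [1, 2, 0], 4643)], 1258), ([(37, [1, 2, 0, 1, 2, 0, 1, 2, 0, 3, 3, 1, 3, 0, 2, 2, 1, 3, 0], 655), (51, [2, 2, 1, 3, 0, 3, 1, 2, 0, 2, 2, 2, 1, 2, 0], 132), (32, [1, 2, 0], 850)], 883), ([(40, [1, 2, 0, 3, 1, 3, 0, 3, 3, 1, 3, 0, 2, 1, 2, 0, 2, 1, 3, 0], 44), (80, [1, 2, 0, 2, 1, 2, 0, 3, 3, 1, 3, 0, 3, 1, 2, 0, 2, 2, 2], 86), (21, [2, 1, 2, 0, 2, 2, 2, 1, 2, 0, 2, 2, 1, 2, 0], 4966)], 481), ([(43, [1, 2, 0, 3, 1, 3, 0, 3, 3, 1, 3, 0, 2, 1, 2, 0, 2, 1, 3, 0], 1224), (36, [2, 2, 1, 2, 0, 3, 1, 3, 0, 3, 3, 1, 2, 0, 2, 2], 722), (28, [1, 2, 0], 65022)], 686), ([(42, [1, 2, 0, 2, 2, 1, 3, 0, 1, 3, 0, 3, 1, 3, 0, 2, 1, 2, 0, 2, 2], 1366), (84, [2, 2, 1, 3, 0, 1, 3, 0, 2, 2, 1, 2, 0,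 2], 207), (53, [1, 2, 0], 132)], 1018), ([(43, [1, 2, 0, 2, 2, 1, 3, 0, 1, 3, 0, 3, 1, 3, 0, 2, 1, 2, 0, 2, 2], 320), (41, [2, 1, 2, 0, 1, 2, 0, 2, 1, 3, 0, 1, 3, 0, 3, 1, 2, 0, 2, 1, 3, 0, 1, 3, 0], 1016), (46, [1, 2, 0], 60)], 862), ([(41, [1, 2, 0, 3, 1, 3, 0, 3, 3, 1, 3, 0, 2, 1, 2, 0, 2, 1, 3, 0], 1296), (56, [1, 2, 0, 2, 2, 1, 3, 0, 1, 3, 0, 3, 1, 3, 0, 2, 1, 2, 0, 2, 2], 94), (39, [1, 2, 0], 823)], 384), ([(40, [1, 2, 0, 2, 2, 1, 3, 0, 1, 3, 0, 3, 1, 3, 0, 2, 1, 2, 0, 2, 2], 1112), (81, [1, 2, 0, 2, 1, 2, 0, 3, 3, 1, 3, 0, 3, 1, 2, 0, 2, 2, 2], 22), (51, [1, 2, 0], 76)], 838), ([(44, [3, 3, 1, 2, 0, 3, 3, 1, 3, 0, 1, 3, 0, 3, 1, 3, 0, 2], 848), (73, [1, 2, 0, 2, 1, 2, 0, 1,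 2, 0, 2, 2, 1, 3, 0, 2, 1, 2, 0, 2, 1, 3, 0, 1, 3, 0], 56), (56, [3, 1, 3, 0, 3], 69)], 1334), ([(44, [2, 1, 2, 0, 3, 1, 3, 0, 2, 1, 2, 0, 3, 1, 3, 0, 3, 1, 2, 0, 2], 855), (54, [2, 1, 3, 0, 3, 3, 1, 3, 0, 1, 3, 0, 3, 1, 3, 0, 2], 89), (82, [3, 1, 3, 0, 3], 159)], 1035), ([(45, [3, 3, 1, 2, 0, 3, 3, 1, 3, 0, 1, 3, 0, 3, 1, 3, 0, 2], 943), (94, [3, 1, 2, 0, 3, 1, 3, 0, 1, 3, 0, 3, 1, 3, 0, 1, 3, 0], 67), (43, [1, 2, 0, 2, 1, 2, 0, 3, 1, 3, 0, 3, 1, 2, 0, 2, 2, 1, 2, 0, 2], 473)], 82), ([(45, [2, 1, 2, 0, 3, 1, 3, 0, 2, 1, 2, 0, 3, 1, 3, 0, 3, 1, 2, 0, 2], 809), (95, [2, 1, 2, 0, 3, 3, 1, 2, 0, 3, 3, 1, 3, 0, 2, 2, 1, 3, 0, 1, 3, 0, 3], 178), (87, [3, 1, 2, 0, 2, 2, 1, 2, 0, 3, 3, 1,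 2, 0, 1, 2, 0, 2, 1, 3, 0], 53)], 807), ([(41, [1, 3, 0, 2, 1, 2, 0, 1, 2, 0, 3, 1, 3, 0, 2, 1, 2, 0, 2, 2], 829), (73, [2, 2, 1, 2, 0, 3, 3, 1, 2, 0, 3, 3, 1, 3, 0, 1, 3, 0, 2, 2], 79), (67, [2, 1, 3, 0, 3, 1, 2, 0, 2, 2, 1, 2, 0, 2, 1, 2, 0], 129)], 587), ([(43, [1, 3, 0, 2, 1, 2, 0, 1, 2, 0, 3, 1, 3, 0, 2, 1, 2, 0, 2, 2], 1042), (45, [1, 3, 0, 1, 3, 0, 2, 2, 2, 1, 2, 0, 3, 1, 3, 0, 3, 3], 173), (94, [3, 1, 3, 0, 3], 60)], 783), ([(56, [2, 1, 3, 0, 2, 2, 1, 2, 0, 3, 1, 3, 0, 1, 3, 0, 3, 3], 198), (34, [1, 2, 0, 1, 2, 0, 1, 2, 0, 2, 1, 2, 0, 3, 1, 3, 0, 2, 2, 2], 470), (18, [1, 2, 0], 1056)], 161), ([(56, [1, 2, 0, 2, 1, 2, 0, 3, 3, 1, 3, 0, 3, 1, 2, 0, 2, 2, 2], 59), (43, [3, 1,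 2, 0, 3, 3, 1, 2, 0, 1, 2, 0], 443), (37, [2, 1, 2, 0, 2, 2, 2, 1, 2, 0, 2, 2, 1, 2, 0], 375)], 161), ([(58, [1, 2, 0, 2, 2, 2, 1, 2, 0, 1, 2, 0, 1, 2, 0, 3, 1, 3, 0], 64), (19, [2, 2, 1, 2, 0, 3, 1, 3, 0, 3, 3, 1, 2, 0, 2, 2], 3649), (20, [1, 2, 0], 1118)], 158), ([(57, [1, 3, 0, 3, 3, 1, 2, 0, 2, 1, 3, 0, 3, 3], 187), (86, [2, 1, 3, 0, 2, 2, 1, 2, 0, 3, 1, 3, 0, 1, 3, 0, 3, 3], 36), (48, [2, 1, 2, 0, 2, 2, 2, 1, 2, 0, 2, 2, 1, 2, 0], 111)], 124), ([(63, [2, 1, 2, 0, 1, 2, 0, 2, 1, 3, 0, 1, 3, 0, 3, 1, 2, 0, 2, 1, 3, 0, 1, 3, 0], 5), (82, [1, 2, 0, 3, 1, 3, 0, 3, 3, 1, 3, 0, 2, 1, 2, 0, 2, 1, 3, 0], 205), (38, [1, 2, 0], 1125)], 161), ([(64, [1, 2, 0, 2, 1, 2, 0, 3, 3, 1, 3, 0, 3,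 1, 2, 0, 2, 2, 2], 117), (50, [2, 2, 1, 2, 0, 3, 1, 3, 0, 3, 3, 1, 2, 0, 2, 2], 178), (29, [1, 2, 0], 67137)], 161), ([(57, [2, 1, 3, 0, 1, 3, 0, 2, 2, 1, 2, 0, 2, 2, 2], 123), (87, [2, 1, 3, 0, 2, 2, 1, 2, 0, 3, 1, 3, 0, 1, 3, 0, 3, 3], 246), (35, [1, 2, 0], 1193)], 33), ([(58, [1, 2, 0, 1, 2, 0, 3, 3, 1, 3, 0, 2, 2, 1, 2, 0, 1, 2, 0, 3, 1, 3, 0], 11), (25, [2, 1, 3, 0, 1, 3, 0, 2, 2, 1, 2, 0, 2, 2, 2], 129), (52, [1, 2, 0], 185)], 158), ([(67, [1, 2, 0, 1, 2, 0, 2, 1, 2, 0, 2, 2, 1, 3, 0, 1, 3, 0, 3, 1, 3, 0, 1, 3, 0], 69), (45, [2, 2, 2, 1, 2, 0, 3, 1, 3, 0, 3, 1, 2, 0, 1, 2, 0, 2, 2, 1, 2, 0], 1391), (92, [3, 1, 3, 0, 3], 306)], 143), ([(66, [1, 2, 0, 1, 2, 0, 2, 1, 2, 0, 2, 2,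 1, 3, 0, 1, 3, 0, 3, 1, 3, 0, 1, 3, 0], 69), (95, [2, 1, 2, 0, 1, 2, 0, 2, 1, 2, 0, 1, 2, 0, 1, 2, 0, 2, 1, 2, 0, 2, 1, 3, 0], 340), (89, [3, 1, 3, 0, 3], 258)], 143), ([(73, [2, 1, 2, 0, 3, 1, 3, 0, 2, 2, 1, 2, 0, 2, 2, 2], 18), (67, [2, 2, 1, 3, 0, 2, 2, 1, 3, 0, 2, 1, 2, 0, 3, 1, 3, 0, 2, 1, 2, 0], 159), (41, [1, 2, 0, 2, 1, 2, 0, 3, 1, 3, 0, 3, 1, 2, 0, 2, 2, 1, 2, 0, 2], 987)], 3), ([(59, [2, 2, 2, 1, 2, 0, 3, 3, 1, 2, 0, 2, 1, 3, 0], 103), (49, [1, 3, 0, 1, 3, 0, 3, 1, 2, 0, 1, 2, 0, 3, 1, 3, 0, 1, 3, 0], 210), (25, [3, 1, 3, 0, 3], 3393)], 187), ([(66, [3, 1, 2, 0, 1, 2, 0, 3, 1, 3, 0, 1, 3, 0, 3, 1, 2, 0, 1, 2, 0, 2, 2], 171), (95, [1, 3, 0, 3, 3, 1, 2, 0, 3, 3, 1, 2, 0, 2,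 1, 3, 0], 246), (84, [2, 1, 3, 0, 1, 3, 0, 2, 1, 2, 0, 1, 2, 0, 2, 1, 3, 0, 1, 3, 0, 3, 3], 161)], 26), ([(59, [2, 2, 1, 2, 0, 3, 1, 3, 0, 3, 3, 1, 2, 0, 1, 2, 0, 2, 1, 3, 0, 2], 36), (60, [2, 2, 1, 2, 0, 1, 2, 0, 2, 1, 3, 0, 1, 3, 0, 3, 3, 1, 3, 0, 2], 78), (90, [3, 1, 3, 0, 3], 412)], 143), ([(60, [2, 2, 1, 2, 0, 3, 1, 3, 0, 3, 3, 1, 2, 0, 1, 2, 0, 2, 1, 3, 0, 2], 36), (90, [1, 2, 0, 1, 2, 0, 1, 2, 0, 2, 2, 1, 2, 0, 3, 3, 1, 3, 0, 1, 3, 0], 412), (59, [1, 3, 0, 2, 2, 1, 3, 0, 2, 2, 1, 2, 0, 2, 2, 1, 3, 0, 3, 1, 3, 0], 39)], 208), ([(60, [2, 1, 3, 0, 1, 3, 0, 3, 1, 2, 0, 2, 2, 1, 2, 0, 2, 1, 2, 0, 1, 2, 0, 2, 1, 3, 0], 193), (89, [2, 1, 2, 0, 1, 2, 0, 2, 1, 2, 0, 1, 2, 0, 2, 1, 3,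 0, 2, 1, 2, 0, 3, 1, 3, 0], 424), (68, [2, 1, 3, 0, 1, 3, 0, 3, 1, 2, 0, 2, 1, 3, 0, 3, 3], 3)], 146), ([(59, [2, 1, 3, 0, 1, 3, 0, 3, 1, 2, 0, 2, 2, 1, 2, 0, 2, 1, 2, 0, 1, 2, 0, 2, 1, 3, 0], 193), (61, [1, 3, 0, 3], 85), (99, [1, 3, 0, 3, 1, 2, 0, 2, 1, 3, 0, 3, 3], 16450)], 0), ([(73, [2, 1, 2, 0, 2, 1, 2, 0, 1, 2, 0, 2, 2, 2, 1, 3, 0, 2, 2, 1, 3, 0], 87), (73, [3, 1, 2, 0, 1, 2, 0, 1, 2, 0, 2, 1, 3, 0, 3, 1, 2, 0, 2, 1, 2, 0], 155), (64, [3, 1, 3, 0, 2, 2, 1, 2, 0, 1, 2, 0, 2, 2, 1, 3, 0, 1, 3, 0, 2, 2], 81)], 205), ([(73, [3, 1, 2, 0, 2, 1, 2, 0, 1, 2, 0, 1, 2, 0, 2, 2, 2], 183), (54, [3, 1, 2, 0, 1, 2, 0, 2, 1, 3, 0, 1, 3, 0, 3, 1, 3, 0, 2, 1, 2, 0, 3, 3], 44), (81, [3, 1, 3,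 0, 3], 126)], 167), ([(70, [1, 3, 0, 3, 1, 3, 0, 2, 2, 1, 3, 0, 2, 1, 2, 0, 2, 2, 1, 3, 0], 135), (54, [2, 1, 2, 0, 2, 1, 3, 0, 3, 1, 2, 0, 2, 2, 1, 2, 0, 2, 2, 2], 146), (86, [3, 1, 2, 0, 3, 3, 1, 3, 0, 2, 1, 2, 0, 3, 1, 3, 0], 75)], 74), ([(55, [2, 2, 1, 2, 0, 3, 1, 3, 0, 3, 3, 1, 2, 0, 1, 2, 0, 2, 1, 3, 0, 2], 179), (94, [2, 1, 3, 0, 3, 3, 1, 3, 0, 3, 3, 1, 3, 0, 2, 1, 2, 0, 3], 414), (44, [3, 1, 3, 0, 2, 1, 2, 0, 1, 2, 0, 3, 1, 3, 0, 2, 1, 2, 0, 2, 2], 110)], 104), ([(54, [2, 2, 1, 2, 0, 3, 1, 3, 0, 3, 3, 1, 2, 0, 1, 2, 0, 2, 1, 3, 0, 2], 179), (91, [3, 1, 2, 0, 2, 1, 2, 0, 3, 3, 1, 3, 0, 3, 3], 329), (97, [3, 1, 3, 0, 3], 497)], 143), ([(67, [2, 1, 2, 0, 1, 2, 0, 2, 1, 2, 0,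 1, 2, 0, 2, 1, 3, 0, 2, 1, 2, 0, 3, 1, 3, 0], 165), (44, [1, 2, 0, 2, 2, 1, 2, 0, 2, 2, 1, 3, 0, 1, 3, 0, 2, 2, 1, 2, 0, 2], 1270), (69, [1, 3, 0, 3, 1, 2, 0, 2, 1, 3, 0, 3, 3], 164)], 110), ([(66, [2, 1, 2, 0, 1, 2, 0, 2, 1, 2, 0, 1, 2, 0, 2, 1, 3, 0, 2, 1, 2, 0, 3, 1, 3, 0], 165), (93, [1, 2, 0, 2, 2, 1, 2, 0, 2, 2, 1, 3, 0, 1, 3, 0, 2, 2, 1, 2, 0, 2], 588), (62, [1, 2, 0, 3, 1, 3, 0, 3, 1, 2, 0, 2, 1, 3, 0, 3, 3], 28)], 146), ([(59, [1, 2, 0, 1, 2, 0, 2, 1, 2, 0, 2, 2, 1, 3, 0, 1, 3, 0, 3, 1, 3, 0, 1, 3, 0], 78), (55, [1, 2, 0, 1, 2, 0, 2, 1, 2, 0, 3, 1, 3, 0, 2, 2, 2, 1, 3, 0, 2], 125), (93, [3, 1, 3, 0, 2, 1, 2, 0, 1, 2, 0, 3, 1, 3, 0, 2, 1, 2, 0, 2, 2], 209)], 221), ([(60, [1,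 2, 0, 1, 2, 0, 2, 1, 2, 0, 2, 2, 1, 3, 0, 1, 3, 0, 3, 1, 3, 0, 1, 3, 0], 78), (90, [2, 1, 3, 0, 1, 3, 0, 3, 3, 1, 3, 0, 2, 1, 2, 0, 2], 360), (70, [3, 3, 1, 3, 0, 2, 1, 2, 0, 3, 1, 3, 0], 61)], 143), ([(55, [3, 1, 2, 0, 2, 2, 1, 3, 0, 1, 3, 0, 2, 2, 1, 3, 0, 1, 3, 0], 149), (97, [1, 3, 0, 1, 3, 0, 3, 1, 3, 0, 1, 3, 0, 3, 3, 1, 2, 0, 2, 2, 1, 3, 0, 2], 629), (72, [2, 2, 1, 2, 0, 3, 3, 1, 3, 0, 1, 3, 0, 3, 3, 1, 3, 0, 2, 1, 2, 0], 204)], 220), ([(54, [3, 1, 2, 0, 2, 2, 1, 3, 0, 1, 3, 0, 2, 2, 1, 3, 0, 1, 3, 0], 149), (89, [2, 1, 2, 0, 2, 2, 1, 2, 0, 1, 2, 0, 2, 2, 1, 2, 0, 1, 2, 0, 3, 1, 3, 0], 334), (73, [3, 3, 1, 2, 0, 3, 1, 3, 0, 1, 3, 0, 3, 1, 3, 0, 2, 1, 2, 0, 2], 76)], 209), ([(60,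 [3, 1, 2, 0, 2, 2, 1, 3, 0, 1, 3, 0, 2, 2, 1, 3, 0, 1, 3, 0], 122), (86, [3, 1, 2, 0, 3, 1, 3, 0, 3, 3, 1, 3, 0, 2, 2], 50), (74, [2, 1, 3, 0, 3, 3, 1, 2, 0, 2, 1, 2, 0, 1, 2, 0, 3, 1, 3, 0, 3], 143)], 68), ([(59, [3, 1, 2, 0, 2, 2, 1, 3, 0, 1, 3, 0, 2, 2, 1, 3, 0, 1, 3, 0], 122), (70, [1, 3, 0, 1, 3, 0, 3, 1, 3, 0, 2, 2, 1, 2, 0, 3, 1, 3, 0, 3, 3], 200), (75, [1, 2, 0, 2, 1, 3, 0, 3, 1, 3, 0, 1, 3, 0, 3, 1, 2, 0, 1, 2, 0, 2, 1, 3, 0], 229)], 68), ([(80, [2, 1, 2, 0, 2, 2, 1, 3, 0, 2, 1, 2, 0, 3, 1, 3, 0], 207), (17, [2, 1, 2, 0, 3, 3], 3770), (11, [3, 1, 3, 0, 3], 73740)], 185), ([(81, [2, 1, 2, 0, 2, 2, 1, 3, 0, 2, 1, 2, 0, 3, 1, 3, 0], 61), (65, [1, 2, 0, 3, 3, 1, 3, 0, 2, 1, 2,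 0, 3, 1, 3, 0, 3, 1, 2, 0], 104), (78, [2, 2, 2], 11)], 214), ([(84, [1, 2, 0, 1, 2, 0, 2, 1, 2, 0, 1, 2, 0, 1, 2, 0, 2, 1, 2, 0, 3, 1, 3, 0, 3], 227), (57, [1, 2, 0, 2, 1, 2, 0, 1, 2, 0, 1, 2, 0, 2, 2, 1, 2, 0, 3, 3], 215), (79, [3, 1, 2, 0, 3, 1, 3, 0, 3, 1, 2, 0, 2], 437)], 220), ([(85, [1, 2, 0, 1, 2, 0, 2, 1, 2, 0, 1, 2, 0, 1, 2, 0, 2, 1, 2, 0, 3, 1, 3, 0, 3], 227), (83, [1, 2, 0, 2, 1, 2, 0, 3, 3, 1, 3, 0, 1, 3, 0, 2], 201), (76, [3, 1, 2, 0, 2, 2, 2], 328)], 54), ([(89, [1, 3, 0, 3, 3, 1, 2, 0, 1, 2, 0, 2, 1, 2, 0, 2, 2, 1, 2, 0, 1, 2, 0, 2], 93), (73, [1, 2, 0, 2, 2, 1, 3, 0, 3, 1, 3, 0, 2, 1, 2, 0, 3, 3, 1, 3, 0, 2, 2], 110), (63, [3, 1, 3, 0, 3], 197)], 254), ([(88, [3,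 1, 2, 0, 1, 2, 0, 2, 1, 3, 0, 1, 3, 0, 3, 1, 3, 0, 2, 1, 2, 0, 3, 3], 183), (80, [2, 1, 3, 0, 2, 2, 2, 1, 2, 0, 3, 3, 1, 3, 0], 216), (24, [3, 1, 3, 0, 3], 4280)], 388), ([(88, [2, 1, 3, 0, 3, 3, 1, 3, 0, 1, 3, 0, 3, 1, 3, 0, 2], 78), (88, [2, 1, 2, 0, 1, 2, 0, 3, 1, 3, 0, 1, 3, 0, 3, 1, 2, 0, 2, 2, 1, 2, 0], 476), (83, [2, 1, 2, 0, 3, 1, 3, 0, 2, 2, 2, 1, 3, 0, 3, 1, 2, 0], 450)], 449), ([(89, [3, 1, 2, 0, 2, 1, 3, 0, 2, 2, 1, 2, 0, 3], 403), (67, [2, 1, 3, 0, 2, 2, 2, 1, 2, 0, 1, 2, 0, 2, 1, 2, 0, 2, 1, 3, 0], 63), (40, [3, 1, 3, 0, 3], 969)], 185), ([(91, [1, 2, 0, 3, 3, 1, 2, 0, 1, 2, 0, 2, 1, 2, 0, 3, 3, 1, 3, 0, 2, 1, 2, 0], 7), (95, [1, 2, 0, 1, 2, 0, 2, 1, 2, 0, 2, 1, 3, 0,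 3, 1, 2, 0, 3, 1, 3, 0, 2], 66), (85, [2, 2, 2, 1, 2, 0, 2, 2, 1, 2, 0, 3, 3, 1, 2, 0, 3], 29)], 49), ([(90, [1, 2, 0, 3, 3, 1, 2, 0, 1, 2, 0, 2, 1, 2, 0, 3, 3, 1, 3, 0, 2, 1, 2, 0], 7), (75, [1, 2, 0, 1, 2, 0, 2, 1, 2, 0, 2, 2, 2, 1, 2, 0], 62), (57, [1, 2, 0, 2, 2, 1, 3, 0, 1, 3, 0, 2, 2, 1, 2, 0, 3, 3], 215)], 336), ([(91, [2, 2, 1, 3, 0, 2, 2, 2, 1, 2, 0, 3, 3, 1, 2, 0], 111), (94, [1, 2, 0, 2, 1, 2, 0, 2, 1, 3, 0, 2, 1, 2, 0, 2, 1, 2, 0], 318), (42, [1, 2, 0, 2, 2, 1, 2, 0, 1, 2, 0, 2, 1, 2, 0], 840)], 427), ([(90, [2, 2, 1, 2, 0, 2, 2, 1, 2, 0, 1, 2, 0, 1, 2, 0, 2, 1, 3, 0, 3, 1, 2, 0], 47), (75, [1, 3, 0, 3, 1, 2, 0, 2, 2, 1, 3, 0, 3, 1, 2, 0, 2, 1, 2, 0, 2, 2], 122), (65,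 [1, 2, 0, 3, 3, 1, 3, 0, 3, 1, 2, 0, 3, 3, 1, 3, 0, 1, 3, 0], 160)], 241), ([(91, [3, 1, 3, 0, 2, 1, 2, 0, 2, 2, 1, 2, 0, 1, 2, 0, 2, 1, 2, 0], 356), (97, [1, 2, 0, 1, 2, 0, 2, 1, 2, 0, 2, 2, 1, 3, 0, 1, 3, 0, 3, 1, 3, 0, 1, 3, 0], 614), (54, [3, 1, 3, 0, 3], 74)], 216), ([(90, [3, 1, 3, 0, 2, 1, 2, 0, 2, 2, 1, 2, 0, 1, 2, 0, 2, 1, 2, 0], 356), (54, [1, 2, 0, 1, 2, 0, 2, 2, 1, 3, 0, 3, 3, 1, 2, 0, 3, 3, 1, 2, 0, 3], 224), (88, [2, 1, 2, 0, 2, 1, 3, 0, 2, 1, 2, 0, 2, 1, 2, 0, 1, 2, 0, 1, 2, 0], 301)], 238), ([(91, [2, 2, 1, 2, 0, 1, 2, 0, 2, 1, 3, 0, 1, 3, 0, 3, 3, 1, 3, 0, 2], 431), (98, [1, 2, 0, 2, 1, 3, 0, 1, 3, 0, 3, 3, 1, 3, 0, 1, 3, 0, 3, 3], 449), (95, [2, 1, 3, 0, 3, 1, 3,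 0, 2, 2, 1, 2, 0, 2, 2, 1, 3, 0], 186)], 49), ([(90, [2, 2, 1, 2, 0, 1, 2, 0, 2, 1, 3, 0, 1, 3, 0, 3, 3, 1, 3, 0, 2], 431), (59, [2, 2, 1, 3, 0, 3, 1, 2, 0, 2, 1, 2, 0, 1, 2, 0, 1, 2, 0, 2, 1, 2, 0], 50), (60, [3, 1, 3, 0, 3], 61)], 185), ([(93, [2, 2, 2, 1, 2, 0, 3, 1, 3, 0, 3, 1, 2, 0, 1, 2, 0, 2, 2, 1, 2, 0], 420), (59, [2, 1, 3, 0, 2, 2, 1, 2, 0, 2, 2, 1, 2, 0, 1, 2, 0, 3], 18), (55, [2, 1, 2, 0, 2, 1, 3, 0, 2, 1, 2, 0, 2, 1, 2, 0, 1, 2, 0, 1, 2, 0], 125)], 297), ([(95, [1, 2, 0, 3, 1, 3, 0, 3, 3, 1, 3, 0, 3, 1, 2, 0], 3), (87, [2, 1, 3, 0, 2, 2, 2, 1, 2, 0, 2, 2, 1, 2, 0], 70), (45, [3, 1, 3, 0, 3], 815)], 375), ([(93, [1, 3, 0, 1, 3, 0, 2, 2, 2, 1, 2, 0, 3, 1, 3, 0, 3, 3], 600),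 (75, [3, 1, 3, 0, 1, 3, 0, 3, 1, 3, 0, 1, 3, 0, 3, 3, 1, 3, 0, 3, 1, 2, 0, 2], 83), (71, [2, 1, 3, 0, 3, 1, 2, 0, 2, 2, 1, 2, 0, 2, 1, 2, 0], 11)], 282), ([(95, [2, 1, 2, 0, 2, 2, 1, 2, 0, 1, 2, 0, 1, 2, 0, 3, 1, 3, 0, 1, 3, 0], 62), (85, [3, 3, 1, 3, 0, 1, 3, 0, 2, 1, 2, 0, 2], 0), (91, [1, 3, 0, 3, 3], 36)], 297), ([(95, [3, 1, 2, 0, 3, 1, 3, 0, 3, 3, 1, 2, 0, 2, 2, 1, 3, 0], 71), (89, [2, 2, 1, 2, 0, 3, 1, 3, 0, 3, 3, 1, 2, 0, 1, 2, 0, 2, 1, 3, 0, 2], 383), (66, [3, 1, 3, 0, 3], 163)], 621), ([(95, [3, 1, 3, 0, 3, 1, 2, 0, 3, 3, 1, 3, 0, 2, 2, 1, 2, 0, 3], 96), (91, [1, 2, 0, 2, 1, 2, 0, 1, 2, 0, 3, 3, 1, 3, 0, 2, 2, 1, 2, 0], 417), (96, [3, 3, 1, 3, 0, 2, 1, 2, 0, 3, 1, 3, 0],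 539)], 498), ([(94, [3, 1, 3, 0, 2, 1, 2, 0, 1, 2, 0, 2, 2, 2, 1, 2, 0, 3, 1, 3, 0], 146), (45, [3, 1, 2, 0, 1, 2, 0, 1, 2, 0, 3, 3, 1, 3, 0, 2, 1, 2, 0, 2], 1161), (98, [1, 3, 0, 3, 1, 2, 0, 2, 2, 2, 1, 2, 0, 2, 1, 2, 0], 232)], 457), ([(99, [1, 3, 0, 3], 1021), (59, [1, 2, 0, 1, 2, 0, 1, 2, 0, 2, 1, 2, 0, 3, 1, 3, 0, 3, 3, 1, 2, 0, 2, 1, 2, 0], 48), (61, [1, 3, 0, 3, 1, 2, 0, 2, 1, 3, 0, 3, 3], 134)], 2342), ([(99, [3, 1, 3, 0, 2, 2, 1, 2, 0, 1, 2, 0, 2, 1, 2, 0, 1, 2, 0], 276), (61, [3, 1, 3, 0, 2, 2, 1, 2, 0, 1, 2, 0, 2, 1, 2, 0, 1, 2, 0], 191), (100, [2, 1, 2, 0, 2, 2, 2, 1, 2, 0, 1, 2, 0], 18913)], 28256)],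
[([(0, [], 0), (5, [], 0), (2, [], 24400)], 0), ([(5, [], 54894), (2, [], 24400), (0, [], 0)], 38997), ([(6, [], 54894), (14, [], 2300), (3, [], 24400)], 38997), ([(7, [], 113624), (26, [], 9832), (4, [], 24400)], 61836), ([(8, [], 113624), (12, [], 2300), (1, [], 24400)], 61836), ([(9, [], 35786), (19, [2, 1, 2, 0, 2, 2, 2, 1, 2, 0, 2, 2], 2983), (12, [2], 2648)], 94875), ([(9, [2, 2, 2, 1, 3, 0, 2, 1, 2, 0, 3, 3], 28311), (17, [], 4086), (5, [2], 24400)], 94875), ([(10, [], 97086), (34, [], 0), (14, [2], 2983)], 118113), ([(10, [2, 2, 2, 1, 3, 0, 2, 1, 2, 0, 3, 3], 28063), (36, [], 786), (26, [2], 42686)], 118113), ([(11, [1, 2, 0, 2, 1, 2, 0, 2], 24304), (80, [1, 2, 0, 2, 1, 2,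 0, 2], 49), (17, [1, 3, 0, 3, 1, 3, 0], 2679)], 24304), ([(11, [3, 3, 1, 2, 0, 1, 2, 0, 2, 1, 2, 0, 1, 2, 0], 64569), (82, [1, 2, 0, 2, 1, 2, 0, 2], 123), (31, [1, 3, 0, 3, 1, 3, 0], 786)], 105947), ([(9, [1, 2, 0, 2, 1, 3, 0, 3, 3, 1, 3, 0, 3], 58677), (24, [2, 2, 1, 2, 0, 2, 2, 2, 1, 2, 0, 2, 1, 3, 0, 3, 1, 3, 0], 3822), (77, [1, 3, 0, 3, 1, 3, 0], 441)], 113367), ([(18, [], 3024), (50, [], 0), (27, [2], 42686)], 4051), ([(19, [], 3024), (17, [2, 2, 2, 1, 3, 0, 2, 1, 2, 0, 3, 3], 1936), (6, [2], 94337)], 4051), ([(20, [], 4124), (49, [], 14), (15, [2], 2983)], 4682), ([(21, [], 4124), (31, [2, 2, 2, 1, 3, 0, 2, 1, 2, 0, 3, 3], 843), (8, [2], 117107)], 4682), ([(24, [1, 2, 0, 2,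 1, 2, 0, 2], 4122), (77, [1, 2, 0, 2, 1, 2, 0, 2], 300), (9, [1, 3, 0, 3, 1, 3, 0], 24400)], 4106), ([(24, [2, 1, 3, 0, 1, 3, 0, 2, 1, 2, 0, 2, 1, 3, 0, 3, 1, 3, 0, 2, 1, 2, 0, 3], 2428), (87, [1, 2, 0, 2, 1, 2, 0, 1, 2, 0, 3, 1, 3, 0, 1, 3, 0, 3, 1, 2, 0, 2, 2], 118), (33, [1, 3, 0, 3, 1, 3, 0], 770)], 3553), ([(24, [3, 3, 1, 2, 0, 1, 2, 0, 2, 1, 2, 0, 1, 2, 0], 2503), (80, [1, 2, 0, 1, 2, 0, 2, 1, 2, 0, 2, 1, 3, 0, 2, 2, 2, 1, 3, 0, 2], 52), (19, [3, 3, 1, 3, 0, 3, 3, 1, 2, 0, 2], 2936)], 4698), ([(24, [1, 3, 0, 1, 3, 0, 3, 1, 3, 0, 2, 1, 2, 0, 3, 3], 1469), (89, [1, 2, 0, 2, 1, 2, 0, 2], 381), (47, [1, 3, 0, 3, 1, 3, 0], 146)], 2965), ([(25, [1, 2, 0, 2, 1, 2, 0, 2], 2965), (67,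 [2, 1, 3, 0, 3, 1, 2, 0, 2, 2, 1, 2, 0, 2], 146), (34, [1, 3, 0, 3, 1, 3, 0], 537)], 2965), ([(25, [2, 2, 1, 3, 0, 3, 1, 2, 0, 2, 2, 2], 3553), (59, [2, 2, 1, 2, 0, 3, 1, 3, 0, 1, 3, 0, 3, 3, 1, 2, 0, 1, 2, 0, 1, 2, 0, 2], 24), (49, [1, 3, 0, 3, 1, 3, 0], 204)], 2965), ([(22, [2], 12), (34, [1, 2, 0, 1, 2, 0, 2, 1, 3, 0, 2, 2, 1, 2, 0, 1, 2, 0, 3], 502), (23, [2, 1, 2, 0, 3, 3, 1, 3, 0, 3, 1, 2, 0, 2, 1, 3, 0], 2797)], 1024), ([(23, [2], 12), (21, [1, 2, 0, 1, 2, 0, 2, 1, 3, 0, 2, 2, 1, 2, 0, 1, 2, 0, 3], 1970), (30, [2, 2, 1, 3, 0, 3, 1, 2, 0, 2, 1, 3, 0], 488)], 4682), ([(24, [3, 3, 1, 2, 0, 1, 2, 0, 1, 2, 0, 3, 1, 3, 0, 3, 3], 323), (88, [2, 1, 3, 0, 1, 3, 0, 2, 2, 1, 2, 0, 1,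 2, 0, 2, 1, 2, 0, 3, 3], 251), (80, [2, 1, 2, 0, 1, 2, 0, 1, 2, 0, 2, 2, 1, 3, 0, 2, 1, 2, 0, 1, 2, 0, 3], 129)], 1469), ([(24, [1, 2, 0, 1, 2, 0, 1, 2, 0, 2, 2, 1, 3, 0, 1, 3, 0, 3, 1, 3, 0, 2], 3373), (90, [3, 1, 3, 0, 1, 3, 0, 2, 2, 1, 2, 0, 2, 1, 3, 0, 3, 1, 2, 0, 2, 2, 2], 286), (58, [1, 3, 0, 3, 1, 3, 0], 234)], 3486), ([(28, [], 43128), (31, [], 569), (7, [2], 94616)], 47463), ([(29, [], 47728), (47, [], 146), (13, [2], 2983)], 49325), ([(29, [2, 1, 3, 0, 3, 3, 1, 3, 0], 53329), (67, [1, 3, 0, 3, 3, 1, 3, 0], 146), (36, [1, 3, 0, 3, 1, 3, 0], 786)], 42650), ([(28, [2, 1, 3, 0, 3, 3, 1, 3, 0], 61011), (44, [1, 3, 0, 2, 2, 1, 2, 0, 3, 1, 3, 0, 2, 2, 2, 1, 3, 0, 3], 708), (50,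 [1, 3, 0, 3, 1, 3, 0], 132)], 42650), ([(40, [1, 2, 0, 2, 1, 2, 0, 2], 996), (77, [3, 3, 1, 2, 0, 1, 2, 0, 2, 1, 2, 0, 1, 2, 0], 252), (10, [1, 3, 0, 3, 1, 3, 0], 51606)], 996), ([(41, [1, 2, 0, 2, 1, 2, 0, 2], 860), (58, [3, 1, 2, 0, 1, 2, 0, 2, 1, 3, 0, 3, 3, 1, 3, 0, 2, 2, 1, 3, 0], 14), (22, [3, 1, 2, 0, 3, 3, 1, 3, 0], 2318)], 899), ([(42, [1, 2, 0, 2, 1, 2, 0, 2], 996), (80, [2, 2, 1, 2, 0, 2, 1, 3, 0, 1, 3, 0, 3, 1, 2, 0, 1, 2, 0], 196), (16, [1, 3, 0, 3, 1, 3, 0], 2230)], 1245), ([(43, [1, 2, 0, 2, 1, 2, 0, 2], 1067), (43, [3, 1, 3, 0, 3, 3, 1, 3, 0, 2, 2, 1, 3, 0, 3, 3], 670), (32, [1, 3, 0, 3, 1, 3, 0], 4)], 960), ([(44, [1, 2, 0, 2, 1, 2, 0, 2], 996), (58, [1, 2, 0, 2,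 1, 2, 0, 2, 2, 2, 1, 3, 0, 3], 105), (21, [3, 3, 1, 3, 0, 3, 3, 1, 2, 0, 2], 3759)], 455), ([(44, [1, 2, 0, 1, 2, 0, 2, 1, 2, 0, 3, 3, 1, 2, 0, 3, 3, 1, 3, 0, 3], 437), (50, [2, 1, 3, 0, 3, 3, 1, 3, 0], 63), (28, [1, 3, 0, 3, 1, 3, 0], 53297)], 706), ([(44, [1, 2, 0, 3, 1, 3, 0, 2, 1, 2, 0, 3, 1, 3, 0, 3, 3, 1, 3, 0], 595), (70, [3, 3, 1, 3, 0, 2, 1, 2, 0, 3, 1, 3, 0, 1, 3, 0], 221), (53, [1, 3, 0, 3, 1, 3, 0], 146)], 860), ([(45, [1, 2, 0, 2, 1, 2, 0, 2], 996), (92, [1, 2, 0, 2, 1, 2, 0, 2], 291), (46, [1, 3, 0, 3, 1, 3, 0], 146)], 996), ([(45, [1, 2, 0, 1, 2, 0, 2, 1, 2, 0, 3, 3, 1, 2, 0, 3, 3, 1, 3, 0, 3], 708), (94, [1, 2, 0, 3, 1, 3, 0, 2, 1, 2, 0, 3, 1, 3, 0, 3, 3, 1, 3, 0],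 97), (39, [1, 3, 0, 3, 1, 3, 0], 361)], 543), ([(45, [1, 2, 0, 3, 1, 3, 0, 2, 1, 2, 0, 3, 1, 3, 0, 3, 3, 1, 3, 0], 411), (97, [1, 2, 0, 2, 1, 2, 0, 2], 286), (51, [1, 3, 0, 3, 1, 3, 0], 146)], 1067), ([(44, [1, 3, 0, 3, 1, 3, 0, 1, 3, 0, 2, 2, 1, 3, 0, 1, 3, 0, 3], 946), (73, [3, 1, 2, 0, 2, 2, 1, 2, 0, 3, 1, 3, 0, 3, 1, 2, 0, 3, 1, 3, 0], 9), (56, [1, 3, 0, 3, 1, 3, 0], 80)], 1334), ([(44, [1, 2, 0, 1, 2, 0, 2, 2, 1, 3, 0, 1, 3, 0, 3, 1, 3, 0, 2, 2], 517), (54, [1, 2, 0, 2, 2, 1, 3, 0, 1, 3, 0, 2, 2, 1, 2, 0, 2, 1, 3, 0, 2], 176), (82, [1, 3, 0, 3, 1, 3, 0], 100)], 1035), ([(45, [1, 3, 0, 3, 1, 3, 0, 1, 3, 0, 2, 2, 1, 3, 0, 1, 3, 0, 3], 925), (94, [2, 2, 1, 2, 0, 2, 2, 2, 1, 3, 0,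 1, 3, 0, 2, 2, 1, 2, 0], 89), (43, [1, 3, 0, 2, 2, 1, 3, 0, 3, 3, 1, 2, 0, 1, 2, 0, 3, 3], 399)], 114), ([(45, [1, 2, 0, 1, 2, 0, 2, 2, 1, 3, 0, 1, 3, 0, 3, 1, 3, 0, 2, 2], 516), (95, [2, 1, 2, 0, 1, 2, 0, 3, 1, 3, 0, 3, 1, 2, 0, 2, 2, 2, 1, 2, 0], 239), (87, [1, 2, 0, 2, 1, 2, 0, 1, 2, 0, 2, 1, 2, 0, 3, 1, 3, 0, 1, 3, 0, 3, 1, 2, 0], 227)], 798), ([(44, [2, 1, 2, 0, 2, 1, 2, 0, 1, 2, 0, 2, 1, 3, 0, 3, 1, 2, 0], 1410), (75, [3, 1, 2, 0, 1, 2, 0, 1, 2, 0, 2, 2, 2, 1, 2, 0, 3, 1, 3, 0, 3], 38), (67, [2, 1, 3, 0, 3, 1, 2, 0, 2, 1, 3, 0, 1, 3, 0, 3, 1, 3, 0], 46)], 587), ([(45, [1, 2, 0, 2, 1, 3, 0, 3, 1, 3, 0, 1, 3, 0, 2, 2, 1, 3, 0], 186), (96, [2, 2, 1, 2, 0, 2, 1, 3, 0, 3, 3, 1, 3,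 0, 3, 1, 2, 0], 298), (94, [1, 3, 0, 3, 1, 3, 0], 533)], 783), ([(54, [1, 2, 0, 2, 1, 2, 0, 2], 156), (80, [1, 3, 0, 1, 3, 0, 2, 2, 2, 1, 2, 0, 3, 1, 3, 0, 2], 20), (18, [1, 3, 0, 3, 1, 3, 0], 3707)], 156), ([(55, [1, 2, 0, 2, 1, 2, 0, 2], 156), (94, [2, 2, 1, 3, 0, 3, 1, 2, 0, 3, 1, 3, 0, 3], 379), (37, [3, 3, 1, 3, 0, 3, 3, 1, 2, 0, 2], 834)], 156), ([(59, [1, 2, 0, 2, 1, 2, 0, 2], 156), (58, [1, 2, 0, 2, 1, 2, 0, 2], 146), (20, [1, 3, 0, 3, 1, 3, 0], 4816)], 156), ([(60, [1, 2, 0, 2, 1, 2, 0, 2], 156), (90, [2, 2, 1, 3, 0, 3, 1, 2, 0, 3, 1, 3, 0, 3], 491), (48, [3, 3, 1, 3, 0, 3, 3, 1, 2, 0, 2], 133)], 135), ([(66, [1, 2, 0, 2, 1, 2, 0, 2], 156), (94, [1, 2, 0, 1, 2, 0, 2, 1, 2,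 0, 3, 3, 1, 2, 0, 3, 3, 1, 3, 0, 3], 604), (38, [1, 3, 0, 3, 1, 3, 0], 583)], 156), ([(67, [1, 2, 0, 2, 1, 2, 0, 2], 156), (36, [2, 1, 3, 0, 3, 3, 1, 3, 0], 1035), (29, [1, 3, 0, 3, 1, 3, 0], 60961)], 156), ([(70, [1, 2, 0, 2, 1, 2, 0, 2], 156), (67, [2, 2, 2, 1, 2, 0, 2, 2, 1, 2, 0, 3, 3, 1, 2, 0, 2, 1, 2, 0], 11), (35, [1, 3, 0, 3, 1, 3, 0], 872)], 11), ([(71, [1, 2, 0, 2, 1, 2, 0, 2], 156), (93, [1, 3, 0, 2, 2, 1, 2, 0, 3, 1, 3, 0, 2, 2, 2, 1, 3, 0, 3], 534), (52, [1, 3, 0, 3, 1, 3, 0], 9)], 156), ([(72, [1, 2, 0, 2, 1, 2, 0, 2], 143), (55, [1, 2, 0, 2, 1, 2, 0, 1, 2, 0, 2, 2, 2, 1, 3, 0, 3, 3], 57), (92, [1, 3, 0, 3, 1, 3, 0], 545)], 143), ([(73, [1, 2, 0, 2, 1, 2, 0, 2], 143),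 (63, [1, 3, 0, 1, 3, 0, 3, 1, 2, 0, 2, 1, 2, 0, 3, 1, 3, 0, 3], 57), (89, [1, 3, 0, 3, 1, 3, 0], 294)], 143), ([(73, [1, 3, 0, 2, 1, 2, 0, 3, 1, 3, 0, 1, 3, 0, 2, 2, 1, 2, 0, 3, 1, 3, 0, 2, 1, 2, 0], 44), (67, [1, 2, 0, 1, 2, 0, 2, 1, 3, 0, 2, 1, 2, 0, 3, 1, 3, 0, 1, 3, 0, 2, 1, 2, 0], 83), (41, [1, 3, 0, 2, 2, 1, 3, 0, 3, 3, 1, 2, 0, 1, 2, 0, 3, 3], 429)], 16), ([(63, [1, 2, 0, 3, 3, 1, 2, 0, 1, 2, 0, 2, 1, 3, 0, 1, 3, 0, 3, 3], 159), (80, [3, 1, 2, 0, 2, 2, 1, 3, 0, 3, 3, 1, 2, 0, 1, 2, 0], 241), (25, [1, 3, 0, 3, 1, 3, 0], 1604)], 187), ([(59, [3, 1, 3, 0, 1, 3, 0, 2, 2, 1, 2, 0, 2, 1, 3, 0, 3, 1, 2, 0, 2, 2, 2], 186), (57, [3, 1, 3, 0, 3, 1, 2, 0, 2, 2, 1, 2, 0, 2, 1, 3, 0], 56),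 (84, [2, 1, 3, 0, 1, 3, 0, 2, 1, 2, 0, 1, 2, 0, 2, 1, 3, 0, 3, 1, 3, 0, 1, 3, 0], 175)], 35), ([(74, [1, 2, 0, 2, 1, 2, 0, 2], 143), (54, [1, 2, 0, 1, 2, 0, 1, 2, 0, 3, 1, 3, 0, 1, 3, 0, 3, 3], 139), (90, [1, 3, 0, 3, 1, 3, 0], 363)], 143), ([(75, [1, 2, 0, 2, 1, 2, 0, 2], 143), (72, [2, 2, 2, 1, 2, 0, 1, 2, 0, 1, 2, 0, 2, 1, 3, 0, 1, 3, 0, 3, 1, 3, 0, 2], 190), (59, [2, 1, 3, 0, 2, 1, 2, 0, 2, 1, 2, 0, 1, 2, 0, 3, 1, 3, 0, 3], 214)], 204), ([(71, [2, 2, 1, 3, 0, 1, 3, 0, 3, 1, 2, 0, 1, 2, 0, 2, 2, 1, 3, 0, 3], 165), (97, [2, 2, 1, 3, 0, 1, 3, 0, 3, 1, 2, 0, 1, 2, 0, 2, 2, 1, 3, 0, 3], 244), (68, [2, 1, 3, 0, 3, 1, 3, 0, 2, 1, 2, 0, 3, 1, 3, 0, 1, 3, 0], 134)], 146), ([(70, [2, 2,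 1, 3, 0, 1, 3, 0, 3, 1, 2, 0, 1, 2, 0, 2, 2, 1, 3, 0, 3], 165), (61, [2, 2, 2, 1, 3, 0, 3, 3, 1, 3, 0, 2, 1, 2, 0, 2, 2], 77), (99, [3, 1, 3, 0, 2, 1, 2, 0, 3, 1, 3, 0, 1, 3, 0], 64)], 0), ([(73, [2, 2, 2, 1, 2, 0, 3, 1, 3, 0, 1, 3, 0, 3, 1, 2, 0], 97), (73, [2, 1, 2, 0, 1, 2, 0, 1, 2, 0], 155), (64, [1, 2, 0, 2, 2, 1, 3, 0, 1, 3, 0, 3, 1, 3, 0, 2, 1, 2, 0, 2, 1, 3, 0, 1, 3, 0], 66)], 207), ([(73, [1, 2, 0, 2, 2, 1, 2, 0, 2, 2, 1, 3, 0, 2, 2, 2], 215), (54, [3, 1, 2, 0, 2, 2, 1, 2, 0, 3, 1, 3, 0, 2, 2, 1, 2, 0], 44), (81, [1, 3, 0, 3, 1, 3, 0], 116)], 167), ([(74, [1, 3, 0, 1, 3, 0, 3, 1, 2, 0, 1, 2, 0, 1, 2, 0, 2], 68), (60, [1, 2, 0, 3, 3, 1, 2, 0, 2, 1, 2, 0, 1, 2, 0, 2, 1, 3,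 0, 1, 3, 0, 3], 76), (86, [2, 2, 2, 1, 3, 0, 2, 1, 2, 0, 3, 1, 3, 0, 3, 3], 103)], 63), ([(72, [1, 2, 0, 1, 2, 0, 3, 1, 3, 0, 3, 1, 2, 0, 2, 2, 1, 3, 0, 3], 226), (56, [1, 2, 0, 1, 2, 0, 2, 1, 3, 0, 2, 2, 1, 2, 0, 2, 1, 3, 0, 2, 1, 2, 0, 1, 2, 0], 77), (44, [1, 2, 0, 1, 2, 0, 3, 1, 3, 0, 1, 3, 0, 3, 1, 2, 0, 2, 1, 2, 0, 1, 2, 0, 2], 247)], 132), ([(73, [1, 2, 0, 1, 2, 0, 3, 1, 3, 0, 3, 1, 2, 0, 2, 2, 1, 3, 0, 3], 226), (55, [3, 1, 3, 0, 1, 3, 0, 2, 1, 2, 0, 2, 1, 3, 0, 2, 2, 1, 3, 0, 3], 184), (97, [1, 3, 0, 3, 1, 3, 0], 545)], 143), ([(55, [1, 2, 0, 3, 1, 3, 0, 1, 3, 0, 2, 2, 1, 2, 0, 2, 2, 1, 3, 0, 1, 3, 0], 235), (92, [1, 2, 0, 3, 1, 3, 0, 1, 3, 0, 2, 2, 1, 2, 0, 2, 2, 1, 3, 0,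 1, 3, 0], 484), (69, [3, 1, 3, 0, 2, 1, 2, 0, 3, 1, 3, 0, 1, 3, 0], 194)], 110), ([(54, [1, 2, 0, 3, 1, 3, 0, 1, 3, 0, 2, 2, 1, 2, 0, 2, 2, 1, 3, 0, 1, 3, 0], 235), (90, [2, 2, 1, 3, 0, 1, 3, 0, 3, 1, 2, 0, 1, 2, 0, 2, 2, 1, 3, 0, 3], 387), (62, [1, 2, 0, 3, 3, 1, 3, 0, 2, 1, 2, 0, 3, 1, 3, 0, 1, 3, 0], 3)], 146), ([(74, [2, 1, 3, 0, 2, 2, 1, 3, 0, 3, 3, 1, 3, 0, 1, 3, 0, 3, 1, 3, 0], 44), (71, [1, 3, 0, 2, 1, 2, 0, 3, 3, 1, 3, 0, 2, 1, 2, 0, 2, 2, 1, 2, 0], 223), (93, [1, 2, 0, 1, 2, 0, 3, 1, 3, 0, 1, 3, 0, 3, 1, 2, 0, 2, 1, 2, 0, 1, 2, 0, 2], 542)], 9), ([(75, [2, 1, 3, 0, 2, 2, 1, 3, 0, 3, 3, 1, 3, 0, 1, 3, 0, 3, 1, 3, 0], 44), (59, [2, 2, 2, 1, 2, 0, 2, 1, 2, 0, 1, 2, 0, 2, 1,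 3, 0, 3, 1, 2, 0], 158), (70, [1, 3, 0, 3, 3, 1, 2, 0, 1, 2, 0, 2, 1, 2, 0, 3, 1, 3, 0, 3, 3], 200)], 146), ([(54, [3, 1, 3, 0, 1, 3, 0, 2, 1, 2, 0, 3, 1, 3, 0, 3, 1, 2, 0, 2, 2], 70), (81, [3, 1, 3, 0, 1, 3, 0, 2, 1, 2, 0, 1, 2, 0, 2, 1, 2, 0, 1, 2, 0, 3, 3], 132), (72, [2, 1, 2, 0, 2, 2, 1, 2, 0, 1, 2, 0, 2, 2, 1, 3, 0, 2], 210)], 220), ([(55, [3, 1, 3, 0, 1, 3, 0, 2, 1, 2, 0, 3, 1, 3, 0, 3, 1, 2, 0, 2, 2], 70), (92, [3, 1, 2, 0, 2, 1, 3, 0, 3, 1, 3, 0, 2, 1, 2, 0, 3, 3, 1, 3, 0], 62), (73, [2, 1, 3, 0, 2, 1, 2, 0, 2, 2, 1, 2, 0, 3, 1, 3, 0, 2, 2, 2], 79)], 34), ([(70, [3, 1, 3, 0, 1, 3, 0, 2, 1, 2, 0, 3, 1, 3, 0, 3, 1, 2, 0, 2, 2], 187), (59, [2, 1, 2, 0, 1, 2, 0, 2, 1, 2, 0, 1,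 2, 0, 2, 2, 1, 2, 0], 177), (74, [2, 1, 3, 0, 3, 3, 1, 2, 0, 2, 1, 2, 0, 3, 1, 3, 0], 30)], 68), ([(71, [3, 1, 3, 0, 1, 3, 0, 2, 1, 2, 0, 3, 1, 3, 0, 3, 1, 2, 0, 2, 2], 187), (93, [3, 1, 2, 0, 1, 2, 0, 1, 2, 0, 2, 1, 2, 0, 2, 2], 631), (75, [1, 2, 0, 1, 2, 0, 3, 1, 3, 0, 2, 1, 2, 0, 2, 2, 1, 3, 0], 67)], 68), ([(80, [2, 2, 1, 2, 0, 2, 2, 2, 1, 2, 0, 2, 1, 3, 0, 3, 1, 3, 0], 227), (17, [1, 2, 0, 2, 1, 3, 0, 3, 3, 1, 3, 0, 3], 5003), (11, [1, 3, 0, 3, 1, 3, 0], 22505)], 185), ([(81, [2, 2, 1, 2, 0, 2, 2, 2, 1, 2, 0, 2, 1, 3, 0, 3, 1, 3, 0], 136), (65, [1, 2, 0, 1, 2, 0, 1, 2, 0, 3, 3, 1, 3, 0, 2, 2, 1, 2, 0, 1, 2, 0, 2, 1, 2, 0], 88), (78, [3, 1, 2, 0, 3, 1, 3, 0, 1, 3, 0], 148)], 23),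 ([(84, [2, 1, 2, 0, 2, 2, 1, 3, 0, 2, 1, 2, 0, 2, 1, 2, 0], 118), (57, [2, 1, 3, 0, 3, 3, 1, 2, 0, 1, 2, 0, 3, 1, 3, 0], 222), (79, [2, 1, 2, 0, 3, 3, 1, 2, 0, 1, 2, 0], 342)], 146), ([(85, [2, 1, 2, 0, 2, 2, 1, 3, 0, 2, 1, 2, 0, 2, 1, 2, 0], 118), (83, [2, 1, 3, 0, 2, 2, 1, 3, 0, 2, 1, 2, 0, 1, 2, 0, 3], 59), (76, [1, 2, 0, 1, 2, 0, 1, 2, 0], 283)], 51), ([(89, [1, 3, 0, 2, 2, 1, 3, 0, 1, 3, 0, 3, 1, 2, 0, 2, 1, 3, 0, 2, 2, 2, 1, 2, 0], 7), (73, [2, 1, 3, 0, 2, 2, 2, 1, 2, 0, 1, 2, 0, 2, 2, 1, 3, 0, 2, 1, 2, 0, 1, 2, 0], 110), (63, [1, 3, 0, 3, 1, 3, 0], 192)], 254), ([(88, [3, 1, 2, 0, 2, 2, 1, 2, 0, 3, 1, 3, 0, 2, 2, 1, 2, 0], 9), (80, [1, 2, 0, 3, 3, 1, 2, 0, 3, 1, 3, 0, 1, 3,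 0, 3, 1, 2, 0, 2, 1, 3, 0], 26), (24, [1, 3, 0, 3, 1, 3, 0], 4609)], 388), ([(88, [1, 2, 0, 2, 2, 1, 3, 0, 1, 3, 0, 2, 2, 1, 2, 0, 2, 1, 3, 0, 2], 128), (88, [3, 1, 2, 0, 2, 1, 3, 0, 3, 3, 1, 3, 0, 1, 3, 0, 2, 2], 460), (83, [1, 3, 0, 1, 3, 0, 3, 1, 3, 0, 1, 3, 0, 2, 2, 1, 3, 0, 1, 3, 0, 3], 464)], 278), ([(89, [2, 1, 2, 0, 2, 2, 1, 3, 0, 1, 3, 0, 3, 3, 1, 3, 0, 2, 1, 2, 0, 3], 283), (67, [2, 1, 2, 0, 1, 2, 0, 3, 3, 1, 3, 0, 1, 3, 0, 3, 3, 1, 2, 0], 176), (40, [1, 3, 0, 3, 1, 3, 0], 447)], 185), ([(91, [2, 2, 1, 3, 0, 2, 1, 2, 0, 1, 2, 0, 3, 3, 1, 3, 0, 3, 1, 2, 0, 2, 1, 2, 0], 93), (95, [1, 2, 0, 1, 2, 0, 1, 2, 0, 3, 1, 3, 0, 3, 1, 2, 0, 2, 2, 1, 3, 0, 1, 3, 0], 66), (85, [1, 2,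 0, 2, 1, 3, 0, 2, 2, 1, 2, 0, 2, 2, 1, 3, 0, 1, 3, 0, 2], 23)], 248), ([(90, [2, 2, 1, 3, 0, 2, 1, 2, 0, 1, 2, 0, 3, 3, 1, 3, 0, 3, 1, 2, 0, 2, 1, 2, 0], 93), (75, [1, 2, 0, 1, 2, 0, 2, 1, 3, 0, 1, 3, 0, 3, 3, 1, 2, 0, 3, 1, 3, 0, 3, 3], 151), (57, [2, 1, 3, 0, 3, 3, 1, 3, 0, 3, 3, 1, 2, 0, 2], 50)], 336), ([(91, [3, 1, 2, 0, 2, 1, 2, 0, 1, 2, 0, 1, 2, 0, 3, 3, 1, 3, 0, 2, 2], 33), (94, [3, 1, 2, 0, 2, 1, 2, 0, 1, 2, 0, 3, 3, 1, 3, 0, 2], 258), (42, [3, 3, 1, 2, 0, 1, 2, 0, 3, 3, 1, 3, 0], 987)], 403), ([(90, [2, 2, 1, 2, 0, 3, 3, 1, 2, 0, 1, 2, 0, 2, 1, 2, 0, 3], 46), (75, [2, 1, 2, 0, 1, 2, 0, 2, 1, 3, 0, 2, 2, 1, 3, 0, 2, 2, 1, 2, 0, 2, 1, 3, 0, 2], 88), (65, [3, 1, 2, 0, 2, 2,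 2, 1, 2, 0, 2, 1, 3, 0, 3], 103)], 241), ([(81, [2, 1, 3, 0, 3, 1, 2, 0, 1, 2, 0, 2, 1, 2, 0, 2, 1, 3, 0, 3], 73), (72, [3, 1, 2, 0, 1, 2, 0, 2, 2, 1, 3, 0, 2, 1, 2, 0, 3, 3], 224), (54, [1, 3, 0, 3, 1, 3, 0], 40)], 216), ([(80, [1, 3, 0, 1, 3, 0, 3, 1, 2, 0, 2, 1, 2, 0, 3, 1, 3, 0, 3], 134), (24, [3, 1, 3, 0, 2, 2, 1, 2, 0, 2, 1, 3, 0, 3, 1, 2, 0], 2895), (88, [1, 2, 0, 2, 1, 2, 0, 2, 1, 3, 0, 2, 1, 2, 0, 2, 1, 2, 0, 1, 2, 0, 1, 2, 0, 2], 271)], 238), ([(88, [1, 2, 0, 1, 2, 0, 1, 2, 0, 3, 1, 3, 0, 1, 3, 0, 3, 3], 474), (91, [2, 2, 2, 1, 2, 0, 3, 3, 1, 2, 0, 1, 2, 0, 2, 1, 3, 0, 2, 1, 2, 0, 3], 302), (95, [1, 2, 0, 2, 1, 2, 0, 1, 2, 0, 1, 2, 0, 2, 1, 2, 0, 2, 1, 3, 0, 2, 1, 2, 0,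 2], 629)], 185), ([(89, [1, 2, 0, 1, 2, 0, 1, 2, 0, 3, 1, 3, 0, 1, 3, 0, 3, 3], 474), (75, [3, 3, 1, 3, 0, 2, 2, 1, 2, 0, 1, 2, 0, 2, 2], 113), (60, [1, 3, 0, 3, 1, 3, 0], 159)], 185), ([(92, [3, 3, 1, 2, 0, 1, 2, 0, 2, 2, 1, 2, 0, 1, 2, 0, 1, 2, 0, 3, 1, 3, 0], 82), (73, [1, 2, 0, 2, 2, 1, 2, 0, 1, 2, 0, 2, 2, 1, 2, 0, 1, 2, 0, 2, 1, 2, 0, 3], 125), (55, [1, 2, 0, 2, 1, 2, 0, 2, 1, 3, 0, 2, 1, 2, 0, 2, 1, 2, 0, 1, 2, 0, 1, 2, 0, 2], 34)], 297), ([(96, [1, 2, 0, 1, 2, 0, 1, 2, 0, 2, 1, 2, 0, 1, 2, 0, 2, 1, 3, 0, 1, 3, 0, 3], 212), (94, [1, 2, 0, 2, 1, 3, 0, 3, 1, 3, 0, 1, 3, 0, 2, 2, 1, 3, 0], 51), (45, [1, 3, 0, 3, 1, 3, 0], 29)], 375), ([(97, [1, 2, 0, 3, 1, 3, 0, 2, 1, 2, 0, 2,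 2], 142), (72, [3, 3, 1, 2, 0, 2, 1, 2, 0, 1, 2, 0, 3, 1, 3, 0, 3, 3], 220), (71, [2, 1, 3, 0, 3, 1, 2, 0, 2, 1, 3, 0, 1, 3, 0, 3, 1, 3, 0], 61)], 282), ([(96, [1, 2, 0, 1, 2, 0, 1, 2, 0, 2, 1, 2, 0, 2, 1, 3, 0], 614), (95, [2, 2, 1, 2, 0, 1, 2, 0, 3, 1, 3, 0, 3, 1, 2, 0, 3, 3, 1, 2, 0, 3], 185), (91, [3, 1, 3, 0, 1, 3, 0], 273)], 379), ([(92, [3, 1, 3, 0, 1, 3, 0, 2, 1, 2, 0, 2, 1, 3, 0, 2, 2, 1, 3, 0, 3], 55), (72, [1, 2, 0, 2, 1, 2, 0, 3, 1, 3, 0, 1, 3, 0, 2, 2, 1, 2, 0, 3, 3, 1, 2, 0, 3], 129), (66, [1, 3, 0, 3, 1, 3, 0], 144)], 621), ([(92, [1, 2, 0, 2, 1, 2, 0, 3, 3, 1, 2, 0, 3, 3, 1, 2, 0, 1, 2, 0], 29), (66, [1, 2, 0, 2, 2, 1, 3, 0, 3, 1, 2, 0, 2, 1, 2, 0, 2], 102), (96, [1,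 3, 0, 3, 3, 1, 2, 0, 1, 2, 0, 2, 1, 2, 0, 3, 1, 3, 0, 3, 3], 140)], 517), ([(92, [2, 2, 1, 3, 0, 2, 2, 2, 1, 2, 0, 2, 1, 3, 0, 3, 1, 3, 0, 2, 2], 504), (55, [2, 1, 3, 0, 1, 3, 0, 3, 1, 2, 0, 1, 2, 0, 2, 1, 3, 0, 3, 1, 2, 0, 3], 5), (98, [1, 3, 0, 3, 1, 2, 0, 2, 2, 1, 3, 0, 1, 3, 0, 3, 1, 3, 0], 612)], 457), ([(99, [2, 2, 2, 1, 3, 0, 3, 3, 1, 3, 0, 2, 1, 2, 0, 2, 2], 3638), (70, [1, 2, 0, 3, 3, 1, 2, 0, 1, 2, 0, 2, 1, 2, 0, 1, 2, 0, 1, 2, 0], 125), (61, [3, 1, 3, 0, 2, 1, 2, 0, 3, 1, 3, 0, 1, 3, 0], 116)], 2342), ([(99, [3, 1, 2, 0, 2, 1, 2, 0, 1, 2, 0, 3, 3, 1, 3, 0, 3, 1, 2, 0], 3928), (61, [3, 1, 2, 0, 2, 1, 2, 0, 1, 2, 0, 3, 3, 1, 3, 0, 3, 1, 2, 0], 184), (100, [2, 2, 1, 3, 0,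 3, 1, 3, 0, 2, 2], 13051)], 20143)],
[([(0, [], 0), (5, [], 0), (2, [], 24400)], 0), ([(5, [], 125012), (2, [], 24400), (0, [], 0)], 43183), ([(6, [], 125012), (14, [], 2300), (3, [], 24400)], 43183), ([(7, [], 117672), (26, [], 9832), (4, [], 24400)], 22528), ([(8, [], 117672), (12, [], 2300), (1, [], 24400)], 22528), ([(10, [2, 2, 2, 1, 2, 0, 2, 1, 3, 0, 3, 3], 64237), (33, [2, 2, 2, 1, 2, 0, 2, 1, 3, 0, 3, 1, 2, 0], 1350), (12, [2, 1, 2, 0], 2983)], 69178), ([(10, [2, 2, 2, 1, 2, 0, 2, 1, 3, 0, 3, 1, 2, 0], 78818), (31, [2, 2, 2, 1, 2, 0, 2, 1, 3, 0, 3, 3], 278), (5, [2, 1, 2, 0], 55398)], 69178), ([(9, [2, 2, 2, 1, 2, 0, 2, 1, 3, 0, 3, 1, 2, 0], 12029), (23, [2, 2, 1, 2, 0, 1,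 2, 0, 2, 1, 2, 0, 1, 2, 0, 3], 1249), (14, [2, 1, 2, 0], 4132)], 118293), ([(9, [2, 2, 2, 1, 2, 0, 2, 1, 3, 0, 3, 3], 30061), (13, [2, 1, 2, 0], 1321), (26, [2, 1, 2, 0], 64047)], 118293), ([(8, [2, 2, 1, 2, 0, 3, 1, 3, 0, 2, 2], 96537), (23, [1, 2, 0, 1, 2, 0, 3, 1, 3, 0, 2, 1, 2, 0, 1, 2, 0], 1818), (17, [2, 2, 1, 3, 0, 3, 1, 2, 0, 2, 2], 512)], 0), ([(5, [2, 2, 1, 2, 0, 3, 1, 3, 0, 2, 2], 115255), (10, [3], 73659), (31, [2, 2, 1, 3, 0, 3, 1, 2, 0, 2, 2], 154)], 94616), ([(10, [1, 2, 0, 2, 1, 3, 0, 2, 1, 2, 0, 1, 2, 0, 3, 1, 3, 0], 69062), (40, [1, 2, 0, 3, 3, 1, 2, 0, 2, 2, 1, 2, 0, 1, 2, 0, 1, 2, 0, 3], 969), (77, [2, 2, 1, 3, 0, 1, 3, 0], 473)], 78277), ([(17, [2, 2, 2, 1, 2,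 0, 2, 1, 3, 0, 3, 1, 2, 0], 3013), (7, [2, 1, 2, 0], 43151), (27, [2, 1, 2, 0], 64047)], 3789), ([(16, [2, 2, 2, 1, 2, 0, 2, 1, 3, 0, 3, 3], 277), (31, [2, 2, 2, 1, 2, 0, 2, 1, 3, 0, 3, 1, 2, 0], 1019), (6, [2, 1, 2, 0], 59371)], 3789), ([(22, [2, 2, 1, 2, 0, 1, 2, 0, 2, 1, 2, 0, 1, 2, 0, 1, 2, 0], 1410), (30, [2, 2, 2, 1, 2, 0, 2, 1, 3, 0, 3, 1, 2, 0], 93), (15, [2, 1, 2, 0], 2129)], 4713), ([(23, [2, 2, 1, 2, 0, 1, 2, 0, 2, 1, 2, 0, 1, 2, 0, 1, 2, 0], 1410), (17, [2, 2, 2, 1, 2, 0, 2, 1, 3, 0, 3, 3], 450), (8, [2, 1, 2, 0], 68717)], 4713), ([(13, [2, 2, 1, 2, 0, 3, 1, 3, 0, 2, 2], 1756), (26, [2, 2, 1, 2, 0, 3, 1, 3, 0, 2, 2], 64047), (9, [2, 2, 1, 3, 0, 3, 1, 2, 0, 2, 2], 109884)],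 2985), ([(22, [1, 3, 0], 3650), (32, [2, 2, 1, 3, 0, 3, 1, 2, 0, 2, 2], 1239), (33, [2, 2, 1, 3, 0, 3, 1, 2, 0, 2, 2], 170)], 4192), ([(19, [1, 3, 0, 2, 1, 2, 0, 1, 2, 0, 3, 1, 3, 0, 2, 1, 2, 0, 1, 2, 0], 2246), (19, [1, 3, 0, 2, 1, 2, 0, 1, 2, 0, 3, 1, 3, 0, 2, 1, 2, 0, 1, 2, 0], 56), (19, [1, 3, 0, 2, 1, 2, 0, 1, 2, 0, 3, 1, 3, 0, 2, 1, 2, 0, 1, 2, 0], 56)], 3501), ([(18, [1, 3, 0, 2, 1, 2, 0, 1, 2, 0, 3, 1, 3, 0, 2, 1, 2, 0, 1, 2, 0], 2246), (48, [2, 2, 1, 3, 0, 3, 1, 2, 0, 2, 2], 228), (47, [2, 2, 1, 3, 0, 3, 1, 2, 0, 2, 2], 218)], 0), ([(20, [1, 3, 0, 2, 1, 2, 0, 1, 2, 0, 3, 1, 3, 0, 2, 1, 2, 0, 1, 2, 0], 2401), (46, [2, 2, 1, 3, 0, 3, 1, 2, 0, 2, 2], 191), (34, [2, 2, 1, 3,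 0, 3, 1, 2, 0, 2, 2], 1302)], 0), ([(21, [1, 3, 0, 2, 1, 2, 0, 1, 2, 0, 3, 1, 3, 0, 2, 1, 2, 0, 1, 2, 0], 2401), (37, [2, 2, 1, 3, 0, 3, 1, 2, 0, 2, 2], 257), (49, [2, 2, 1, 3, 0, 3, 1, 2, 0, 2, 2], 230)], 0), ([(14, [2, 2, 2, 1, 3, 0, 3], 2148), (9, [1, 2, 0, 1, 2, 0, 2], 45243), (23, [2, 2, 2, 1, 3, 0], 1305)], 755), ([(15, [2, 2, 2, 1, 3, 0, 3], 2148), (22, [2, 2, 1, 3, 0, 3, 1, 2, 0, 2, 2], 925), (30, [1, 2, 0, 1, 2, 0, 2], 167)], 2983), ([(25, [2, 1, 3, 0, 2, 2, 1, 2, 0, 1, 2, 0, 3], 4195), (63, [2, 1, 3, 0, 1, 3, 0, 2, 2, 1, 3, 0, 2, 1, 2, 0, 1, 2, 0, 3, 3], 201), (80, [2, 1, 3, 0, 3, 1, 2, 0, 2, 1, 3, 0, 2, 1, 2, 0, 3, 1, 3, 0], 178)], 1555), ([(18, [2, 2, 2, 1, 2, 0, 3, 1,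 3, 0, 3, 3, 1, 2, 0, 1, 2, 0], 2727), (64, [2, 1, 3, 0, 1, 3, 0, 3, 3, 1, 3, 0, 1, 3, 0, 2, 1, 2, 0, 1, 2, 0], 209), (58, [2, 2, 1, 3, 0, 3, 1, 2, 0, 2, 2], 176)], 4816), ([(27, [2, 1, 2, 0], 70847), (17, [2, 2, 2, 1, 2, 0, 2, 1, 3, 0, 3, 1, 2, 0], 4192), (7, [2, 1, 2, 0], 43151)], 46098), ([(26, [2, 1, 2, 0], 65960), (9, [2, 2, 2, 1, 2, 0, 2, 1, 3, 0, 3, 3], 75854), (13, [2, 1, 2, 0], 1321)], 49386), ([(29, [2, 2, 1, 3, 0, 3, 1, 2, 0, 2, 2], 75805), (53, [2, 2, 1, 3, 0, 3, 1, 2, 0, 2, 2], 48), (36, [2, 2, 1, 3, 0, 3, 1, 2, 0, 2, 2], 154)], 0), ([(28, [2, 2, 1, 3, 0, 3, 1, 2, 0, 2, 2], 75805), (35, [2, 2, 1, 3, 0, 3, 1, 2, 0, 2, 2], 1314), (50, [2, 2, 1, 3, 0, 3, 1, 2, 0, 2, 2], 146)],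 0), ([(33, [3], 1288), (12, [2, 2, 1, 2, 0, 3, 1, 3, 0, 2, 2], 2983), (10, [2, 2, 1, 3, 0, 3, 1, 2, 0, 2, 2], 96587)], 0), ([(30, [3], 154), (15, [2, 2, 1, 2, 0, 3, 1, 3, 0, 2, 2], 2129), (22, [1, 2, 0, 1, 2, 0, 3, 1, 3, 0, 2, 1, 2, 0, 1, 2, 0], 1818)], 786), ([(31, [3], 1128), (6, [2, 2, 1, 2, 0, 3, 1, 3, 0, 2, 2], 59371), (16, [2, 2, 1, 3, 0, 3, 1, 2, 0, 2, 2], 219)], 1337), ([(33, [2, 2, 1, 3, 0, 3, 1, 2, 0, 2, 2], 154), (22, [1, 3, 0], 4804), (32, [2, 2, 1, 3, 0, 3, 1, 2, 0, 2, 2], 1239)], 752), ([(37, [2, 2, 1, 3, 0, 3, 1, 2, 0, 2, 2], 1302), (49, [2, 2, 1, 3, 0, 3, 1, 2, 0, 2, 2], 230), (21, [1, 3, 0, 2, 1, 2, 0, 1, 2, 0, 3, 1, 3, 0, 2, 1, 2, 0, 1, 2, 0], 2401)], 385), ([(35,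 [2, 2, 1, 3, 0, 3, 1, 2, 0, 2, 2], 154), (50, [2, 2, 1, 3, 0, 3, 1, 2, 0, 2, 2], 146), (28, [2, 2, 1, 3, 0, 3, 1, 2, 0, 2, 2], 75805)], 569), ([(36, [2, 2, 1, 3, 0, 3, 1, 2, 0, 2, 2], 154), (29, [2, 2, 1, 3, 0, 3, 1, 2, 0, 2, 2], 75805), (53, [2, 2, 1, 3, 0, 3, 1, 2, 0, 2, 2], 48)], 0), ([(34, [2, 2, 1, 3, 0, 3, 1, 2, 0, 2, 2], 1302), (20, [1, 3, 0, 2, 1, 2, 0, 1, 2, 0, 3, 1, 3, 0, 2, 1, 2, 0, 1, 2, 0], 2401), (46, [2, 2, 1, 3, 0, 3, 1, 2, 0, 2, 2], 191)], 0), ([(39, [2, 2, 1, 3, 0, 3, 1, 2, 0, 2, 2], 154), (39, [2, 2, 1, 3, 0, 3, 1, 2, 0, 2, 2], 1090), (39, [2, 2, 1, 3, 0, 3, 1, 2, 0, 2, 2], 1090)], 668), ([(38, [2, 2, 1, 3, 0, 3, 1, 2, 0, 2, 2], 154), (52, [2, 2, 1, 3, 0, 3, 1,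 2, 0, 2, 2], 48), (51, [2, 2, 1, 3, 0, 3, 1, 2, 0, 2, 2], 48)], 0), ([(45, [1, 3, 0, 2, 2, 2, 1, 2, 0, 1, 2, 0, 2, 1, 3, 0, 1, 3, 0, 3, 3], 994), (97, [2, 2, 1, 2, 0, 1, 2, 0, 2, 1, 2, 0, 1, 2, 0, 3, 3, 1, 3, 0, 1, 3, 0, 3], 410), (56, [2, 2, 1, 3, 0, 3, 1, 2, 0, 2, 2], 12)], 1341), ([(45, [1, 3, 0, 2, 2, 2, 1, 3, 0, 3, 1, 2, 0, 2, 2], 928), (95, [3, 1, 3, 0, 3, 1, 2, 0, 1, 2, 0, 2, 1, 3, 0, 1, 3, 0, 2, 1, 2, 0, 1, 2, 0], 163), (82, [2, 2, 1, 3, 0, 3, 1, 2, 0, 2, 2], 116)], 0), ([(44, [3, 3, 1, 3, 0, 2, 1, 2, 0, 1, 2, 0, 2, 1, 2, 0, 2, 2, 1, 3, 0, 1, 3, 0], 808), (56, [2, 2, 1, 2, 0, 3, 1, 3, 0, 2, 1, 2, 0, 1, 2, 0], 36), (43, [2, 1, 3, 0, 3, 3, 1, 2, 0, 3, 1, 3, 0, 2, 2, 1, 3, 0],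 941)], 94), ([(44, [1, 3, 0, 3, 1, 2, 0, 3, 3, 1, 3, 0, 2, 1, 2, 0, 2, 2, 2], 666), (60, [3, 1, 3, 0, 3, 3, 1, 3, 0, 3, 1, 2, 0, 2, 2], 132), (87, [2, 1, 2, 0, 1, 2, 0, 3, 1, 3, 0, 2, 1, 2, 0, 2, 2, 1, 3, 0], 243)], 893), ([(42, [3, 3, 1, 3, 0, 2, 1, 2, 0, 2, 1, 3, 0, 3, 1, 3, 0, 2, 1, 2, 0], 732), (90, [1, 2, 0, 2, 1, 3, 0, 2, 2, 2, 1, 2, 0, 2, 1, 3, 0, 3, 3], 284), (67, [3, 1, 3, 0, 3, 1, 2, 0, 1, 2, 0, 2, 1, 3, 0, 1, 3, 0, 2, 1, 2, 0, 1, 2, 0], 143)], 587), ([(41, [1, 2, 0, 1, 2, 0, 2, 1, 3, 0, 3, 1, 3, 0, 1, 3, 0, 2, 1, 2, 0], 945), (66, [3, 3, 1, 2, 0, 1, 2, 0, 2, 1, 2, 0, 3, 1, 3, 0], 171), (94, [2, 2, 1, 3, 0, 3, 1, 2, 0, 2, 2], 6)], 0), ([(48, [1, 3, 0, 2, 1, 2, 0, 1, 2, 0,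 3, 1, 3, 0, 2, 1, 2, 0, 1, 2, 0], 191), (47, [1, 3, 0, 2, 1, 2, 0, 1, 2, 0, 3, 1, 3, 0, 2, 1, 2, 0, 1, 2, 0], 218), (18, [2, 2, 1, 3, 0, 3, 1, 2, 0, 2, 2], 701)], 0), ([(49, [1, 3, 0, 2, 1, 2, 0, 1, 2, 0, 3, 1, 3, 0, 2, 1, 2, 0, 1, 2, 0], 191), (21, [2, 2, 1, 3, 0, 3, 1, 2, 0, 2, 2], 1788), (37, [1, 3, 0, 2, 1, 2, 0, 1, 2, 0, 3, 1, 3, 0, 2, 1, 2, 0, 1, 2, 0], 4)], 122), ([(46, [1, 3, 0, 2, 1, 2, 0, 1, 2, 0, 3, 1, 3, 0, 2, 1, 2, 0, 1, 2, 0], 228), (34, [1, 3, 0, 2, 1, 2, 0, 1, 2, 0, 3, 1, 3, 0, 2, 1, 2, 0, 1, 2, 0], 1302), (20, [2, 2, 1, 3, 0, 3, 1, 2, 0, 2, 2], 1788)], 0), ([(47, [1, 3, 0, 2, 1, 2, 0, 1, 2, 0, 3, 1, 3, 0, 2, 1, 2, 0, 1, 2, 0], 228), (18, [2, 2, 1, 3, 0, 3, 1, 2, 0,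 2, 2], 701), (48, [1, 3, 0, 2, 1, 2, 0, 1, 2, 0, 3, 1, 3, 0, 2, 1, 2, 0, 1, 2, 0], 191)], 162), ([(52, [2, 2, 1, 3, 0, 3, 1, 2, 0, 2, 2], 48), (51, [2, 2, 1, 3, 0, 3, 1, 2, 0, 2, 2], 48), (38, [2, 2, 1, 3, 0, 3, 1, 2, 0, 2, 2], 154)], 0), ([(53, [2, 2, 1, 3, 0, 3, 1, 2, 0, 2, 2], 48), (36, [2, 2, 1, 3, 0, 3, 1, 2, 0, 2, 2], 154), (29, [2, 2, 1, 3, 0, 3, 1, 2, 0, 2, 2], 75805)], 0), ([(50, [2, 2, 1, 3, 0, 3, 1, 2, 0, 2, 2], 48), (28, [2, 2, 1, 3, 0, 3, 1, 2, 0, 2, 2], 75805), (35, [2, 2, 1, 3, 0, 3, 1, 2, 0, 2, 2], 1314)], 48), ([(51, [2, 2, 1, 3, 0, 3, 1, 2, 0, 2, 2], 48), (38, [2, 2, 1, 3, 0, 3, 1, 2, 0, 2, 2], 154), (52, [2, 2, 1, 3, 0, 3, 1, 2, 0, 2, 2], 48)], 0), ([(71, [2, 1,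 3, 0, 3, 1, 3, 0, 2, 1, 2, 0, 3, 1, 3, 0, 1, 3, 0, 2, 1, 2, 0, 3], 143), (96, [3, 1, 2, 0, 2, 1, 2, 0, 3, 1, 3, 0], 122), (92, [2, 2, 1, 3, 0, 3, 1, 2, 0, 2, 2], 347)], 0), ([(70, [2, 1, 3, 0, 3, 1, 3, 0, 2, 1, 2, 0, 3, 1, 3, 0, 1, 3, 0, 2, 1, 2, 0, 3], 143), (65, [3, 1, 2, 0, 2, 1, 2, 0, 3, 1, 3, 0], 93), (89, [2, 2, 1, 3, 0, 3, 1, 2, 0, 2, 2], 153)], 0), ([(67, [2, 2, 1, 2, 0, 1, 2, 0, 2, 1, 2, 0, 1, 2, 0, 3, 3, 1, 3, 0, 1, 3, 0, 3], 13), (43, [1, 3, 0, 3, 3, 1, 3, 0, 1, 3, 0, 2, 2], 570), (41, [2, 1, 3, 0, 3, 3, 1, 2, 0, 3, 1, 3, 0, 2, 2, 1, 3, 0], 453)], 32), ([(49, [3, 1, 2, 0, 1, 2, 0, 2, 1, 3, 0, 3, 1, 3, 0, 2], 187), (19, [2, 1, 2, 0, 3, 3, 1, 3, 0, 1, 3, 0, 3, 3, 1, 2, 0,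 1, 2, 0], 2285), (25, [2, 2, 1, 3, 0, 3, 1, 2, 0, 2, 2], 3145)], 184), ([(63, [2, 1, 3, 0, 3, 3, 1, 3, 0, 3, 1, 2, 0, 2, 1, 3, 0, 3, 1, 3, 0], 228), (83, [2, 1, 3, 0, 1, 3, 0, 3, 3, 1, 3, 0, 1, 3, 0, 2, 1, 2, 0, 1, 2, 0], 331), (84, [1, 2, 0, 1, 2, 0, 2, 2, 1, 3, 0, 3, 1, 2, 0], 198)], 26), ([(55, [2, 1, 3, 0, 3, 1, 3, 0, 2, 1, 2, 0, 3, 1, 3, 0, 1, 3, 0, 2, 1, 2, 0, 3], 11), (95, [3, 1, 3, 0, 3, 3, 1, 3, 0, 3, 1, 2, 0, 2, 2], 490), (90, [2, 2, 1, 3, 0, 3, 1, 2, 0, 2, 2], 325)], 146), ([(54, [2, 1, 3, 0, 3, 1, 3, 0, 2, 1, 2, 0, 3, 1, 3, 0, 1, 3, 0, 2, 1, 2, 0, 3], 11), (89, [1, 3, 0, 2, 1, 2, 0, 3, 1, 3, 0, 1, 3, 0, 2, 1, 2, 0, 1, 2, 0, 2, 1, 2, 0, 1, 2, 0], 485), (59, [2, 2, 2, 1,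 3, 0, 2, 1, 2, 0, 2, 2, 2], 14)], 204), ([(60, [2, 1, 2, 0, 1, 2, 0, 2, 1, 2, 0, 1, 2, 0, 1, 2, 0, 3, 1, 3, 0, 2, 1, 2, 0], 35), (89, [3, 1, 3, 0, 1, 3, 0, 3, 1, 2, 0, 1, 2, 0, 2, 1, 3, 0, 1, 3, 0, 2, 1, 2, 0, 1, 2, 0], 327), (68, [1, 2, 0, 1, 2, 0, 2], 235)], 143), ([(59, [2, 1, 2, 0, 1, 2, 0, 2, 1, 2, 0, 1, 2, 0, 1, 2, 0, 3, 1, 3, 0, 2, 1, 2, 0], 35), (61, [1, 3, 0, 3, 1, 2, 0, 1, 2, 0, 3, 1, 3, 0, 1, 3, 0, 2, 2, 2], 134), (99, [2, 1, 3, 0, 2, 1, 2, 0, 2], 10960)], 143), ([(54, [2, 2, 1, 3, 0, 3, 3, 1, 2, 0, 2, 2, 1, 2, 0, 2, 1, 3, 0], 18), (84, [2, 1, 2, 0, 1, 2, 0, 3, 1, 3, 0, 1, 3, 0, 2, 1, 2, 0, 1, 2, 0, 2, 1, 3, 0], 34), (64, [3, 1, 3, 0, 2, 2, 1, 2, 0, 1, 2, 0, 2, 2, 1, 2,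 0], 187)], 193), ([(55, [2, 2, 1, 2, 0, 1, 2, 0, 2, 1, 2, 0, 1, 2, 0, 3, 3, 1, 3, 0, 1, 3, 0, 3], 104), (95, [1, 3, 0, 1, 3, 0, 2, 2, 1, 2, 0, 3, 1, 3, 0, 2, 1, 2, 0, 1, 2, 0, 3, 1, 3, 0], 604), (81, [2, 2, 1, 3, 0, 3, 1, 2, 0, 2, 2], 132)], 0), ([(64, [2, 1, 2, 0, 3, 1, 3, 0], 97), (63, [2, 1, 2, 0, 1, 2, 0, 3, 3, 1, 2, 0, 1, 2, 0, 1, 2, 0], 163), (86, [2, 1, 3, 0, 3, 1, 3, 0, 2, 1, 2, 0, 1, 2, 0, 2, 1, 2, 0, 1, 2, 0], 166)], 74), ([(60, [2, 1, 3, 0, 3, 1, 3, 0, 2, 1, 2, 0, 3, 1, 3, 0, 1, 3, 0, 2, 1, 2, 0, 3], 143), (87, [3, 1, 3, 0, 2, 2, 2, 1, 2, 0, 3, 1, 3, 0], 238), (44, [1, 3, 0, 2, 2, 1, 2, 0, 3, 1, 3, 0], 903)], 104), ([(59, [2, 1, 3, 0, 3, 1, 3, 0, 2, 1, 2, 0, 3, 1, 3, 0,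 1, 3, 0, 2, 1, 2, 0, 3], 143), (55, [1, 2, 0, 2, 2, 1, 3, 0, 1, 3, 0, 3, 3, 1, 2, 0, 2, 1, 2, 0], 143), (97, [2, 2, 1, 3, 0, 3, 1, 2, 0, 2, 2], 522)], 0), ([(55, [2, 1, 2, 0, 1, 2, 0, 2, 1, 2, 0, 1, 2, 0, 1, 2, 0, 3, 1, 3, 0, 2, 1, 2, 0], 26), (92, [2, 1, 2, 0, 1, 2, 0, 2, 1, 2, 0, 1, 2, 0, 1, 2, 0, 3, 1, 3, 0, 2, 1, 2, 0], 484), (69, [2, 1, 3, 0, 2, 1, 2, 0, 2], 59)], 70), ([(54, [2, 1, 2, 0, 1, 2, 0, 2, 1, 2, 0, 1, 2, 0, 1, 2, 0, 3, 1, 3, 0, 2, 1, 2, 0], 26), (90, [3, 1, 3, 0, 1, 3, 0, 3, 1, 2, 0, 1, 2, 0, 2, 1, 3, 0, 1, 3, 0, 2, 1, 2, 0, 1, 2, 0], 348), (62, [2, 1, 2, 0, 2], 235)], 143), ([(55, [3, 3, 1, 3, 0, 2, 1, 2, 0, 1, 2, 0, 2, 1, 2, 0, 2, 2, 1, 3, 0, 1, 3, 0], 91), (96,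 [2, 1, 3, 0, 1, 3, 0, 3, 1, 3, 0, 1, 3, 0, 2, 2, 1, 2, 0, 2, 2, 1, 3, 0, 1, 3, 0], 48), (93, [1, 3, 0, 2, 2, 1, 2, 0, 3, 1, 3, 0], 489)], 221), ([(54, [3, 3, 1, 3, 0, 2, 1, 2, 0, 1, 2, 0, 2, 1, 2, 0, 2, 2, 1, 3, 0, 1, 3, 0], 91), (86, [2, 1, 3, 0, 1, 3, 0, 2, 2, 1, 2, 0, 3, 3, 1, 3, 0, 2, 1, 2, 0], 186), (70, [1, 2, 0, 3, 1, 3, 0, 2, 1, 2, 0, 1, 2, 0, 3, 1, 3, 0], 103)], 91), ([(60, [1, 3, 0, 2, 1, 2, 0, 2, 1, 3, 0, 3, 1, 2, 0, 2, 2, 2, 1, 2, 0], 174), (89, [2, 2, 1, 2, 0, 2, 2, 1, 3, 0, 1, 3, 0, 3, 3, 1, 3, 0, 2, 1, 2, 0], 484), (72, [2, 1, 2, 0, 2, 2, 2, 1, 3, 0, 1, 3, 0, 2, 2, 1, 2, 0, 2], 109)], 40), ([(59, [1, 3, 0, 2, 1, 2, 0, 2, 1, 3, 0, 3, 1, 2, 0, 2, 2, 2, 1, 2, 0], 174),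 (74, [2, 2, 2, 1, 2, 0, 1, 2, 0, 3, 3, 1, 3, 0, 3, 1, 2, 0, 2, 1, 3, 0, 3], 188), (73, [3, 1, 2, 0, 1, 2, 0, 1, 2, 0, 3, 1, 3, 0, 1, 3, 0, 3, 1, 2, 0, 2, 2, 1, 3, 0, 1, 3, 0], 225)], 34), ([(54, [1, 3, 0, 2, 1, 2, 0, 2, 1, 3, 0, 3, 1, 2, 0, 2, 2, 2, 1, 2, 0], 150), (90, [2, 1, 3, 0, 1, 3, 0, 2, 1, 2, 0, 3, 1, 3, 0, 1, 3, 0, 3, 1, 3, 0], 363), (74, [1, 3, 0, 1, 3, 0, 2, 1, 2, 0, 3, 1, 3, 0, 1, 3, 0, 3, 1, 3, 0], 146)], 159), ([(55, [1, 3, 0, 2, 1, 2, 0, 2, 1, 3, 0, 3, 1, 2, 0, 2, 2, 2, 1, 2, 0], 150), (92, [1, 3, 0, 3, 1, 2, 0, 1, 2, 0, 1, 2, 0], 23), (75, [1, 2, 0, 2, 1, 3, 0, 3, 1, 2, 0, 2, 2, 1, 3, 0, 2, 1, 2, 0, 2, 1, 2, 0], 71)], 159), ([(82, [1, 2, 0, 3, 3, 1, 2, 0, 2, 2, 1,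 2, 0, 1, 2, 0, 1, 2, 0, 3], 156), (31, [1, 2, 0, 2, 1, 3, 0, 2, 1, 2, 0, 1, 2, 0, 3, 1, 3, 0], 1047), (11, [2, 2, 1, 3, 0, 1, 3, 0], 54680)], 12), ([(83, [1, 2, 0, 3, 3, 1, 2, 0, 2, 2, 1, 2, 0, 1, 2, 0, 1, 2, 0, 3], 492), (85, [2, 1, 3, 0, 1, 3, 0, 3, 1, 2, 0, 2, 1, 3, 0, 2, 1, 2, 0, 1, 2, 0, 2, 1, 3, 0], 39), (78, [2, 1, 2, 0, 1, 2, 0, 1, 2, 0], 214)], 29), ([(87, [1, 2, 0, 3, 3, 1, 3, 0, 3], 224), (42, [1, 2, 0, 2, 1, 3, 0, 2, 2, 1, 3, 0, 3], 1293), (79, [1, 2, 0, 1, 2, 0, 3, 1, 3, 0, 3], 294)], 244), ([(86, [1, 2, 0, 2, 1, 2, 0, 1, 2, 0, 2, 1, 3, 0, 3, 1, 2, 0, 1, 2, 0], 184), (63, [1, 2, 0, 2, 1, 2, 0, 1, 2, 0, 2, 1, 3, 0, 3, 1, 2, 0, 1, 2, 0], 50), (76, [1, 2, 0, 1, 2, 0, 3,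 1, 3, 0, 3, 3], 360)], 209), ([(91, [1, 2, 0, 1, 2, 0, 2, 1, 2, 0, 3, 3, 1, 3, 0, 2, 2, 1, 3, 0, 3], 182), (92, [2, 2, 1, 3, 0, 3, 3, 1, 2, 0, 2, 2, 1, 2, 0, 2, 1, 3, 0], 606), (63, [2, 2, 1, 3, 0, 3, 1, 2, 0, 2, 2], 18)], 462), ([(90, [1, 2, 0, 1, 2, 0, 3, 1, 3, 0, 1, 3, 0, 3, 1, 2, 0, 2, 1, 2, 0, 3, 3, 1, 3, 0], 33), (58, [2, 1, 3, 0, 2, 2, 1, 2, 0, 1, 2, 0, 3], 237), (24, [2, 2, 1, 3, 0, 3, 1, 2, 0, 2, 2], 3771)], 300), ([(90, [1, 3, 0, 2, 2, 1, 2, 0, 3, 3, 1, 3, 0, 1, 3, 0, 2, 1, 2, 0, 1, 2, 0, 2, 1, 3, 0], 53), (54, [3, 3, 1, 2, 0, 2, 2, 2, 1, 3, 0, 3, 1, 2, 0, 2, 2], 208), (83, [2, 2, 1, 3, 0, 1, 3, 0, 3, 1, 2, 0, 2, 1, 3, 0, 3], 415)], 254), ([(91, [3, 3, 1, 2, 0, 1, 2, 0,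 2, 2, 1, 3, 0, 3, 1, 2, 0, 2, 2], 413), (94, [1, 3, 0, 2, 2, 2, 1, 2, 0, 1, 2, 0, 2, 1, 3, 0, 1, 3, 0, 3, 3], 246), (40, [2, 2, 1, 3, 0, 3, 1, 2, 0, 2, 2], 994)], 0), ([(88, [2, 2, 1, 2, 0, 1, 2, 0, 2, 1, 2, 0, 1, 2, 0, 3, 3, 1, 3, 0, 1, 3, 0, 3], 169), (85, [3, 1, 3, 0, 2, 2, 1, 2, 0, 1, 2, 0, 2, 1, 2, 0], 12), (85, [1, 2, 0, 3, 1, 3, 0, 2, 1, 2, 0, 1, 2, 0, 3, 1, 3, 0], 432)], 86), ([(89, [2, 2, 1, 2, 0, 1, 2, 0, 2, 1, 2, 0, 1, 2, 0, 3, 3, 1, 3, 0, 1, 3, 0, 3], 169), (64, [2, 2, 1, 3, 0, 3, 1, 2, 0, 2, 2], 94), (57, [3, 1, 2, 0, 1, 2, 0, 2, 1, 2, 0, 1, 2, 0, 3, 3, 1, 3, 0], 207)], 329), ([(88, [3, 1, 2, 0, 2, 2, 1, 3, 0, 3, 1, 2, 0, 2, 2], 15), (82, [2, 1, 3, 0, 3, 1, 3, 0, 2, 1,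 2, 0, 2, 2, 1, 3, 0], 21), (42, [1, 2, 0, 1, 2, 0, 1, 2, 0, 3, 1, 3, 0, 3, 1, 2, 0, 1, 2, 0], 1301)], 295), ([(89, [2, 1, 3, 0, 2, 1, 2, 0, 2, 1, 2, 0, 3, 1, 3, 0, 2, 1, 2, 0, 2, 1, 3, 0], 34), (70, [3, 1, 2, 0, 2, 2, 1, 3, 0, 3, 1, 2, 0, 2, 2], 91), (65, [2, 2, 1, 2, 0, 2, 2, 1, 2, 0, 3, 1, 3, 0, 2], 122)], 170), ([(86, [1, 3, 0, 2, 2, 2, 1, 3, 0, 3, 1, 2, 0, 2, 2], 239), (70, [2, 2, 1, 2, 0, 2, 1, 3, 0, 2], 110), (54, [2, 2, 1, 3, 0, 3, 1, 2, 0, 2, 2], 146)], 26), ([(87, [2, 1, 3, 0, 1, 3, 0, 2, 2, 1, 2, 0, 3, 3, 1, 3, 0, 2, 1, 2, 0], 128), (40, [3, 1, 2, 0, 1, 2, 0, 3, 3, 1, 3, 0, 1, 3, 0, 2, 1, 2, 0, 1, 2, 0], 1096), (88, [3, 3, 1, 2, 0, 3, 3, 1, 3, 0, 2, 1, 2, 0, 2, 2, 2], 415)],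 194), ([(90, [1, 2, 0, 1, 2, 0, 2, 2, 1, 2, 0, 3, 1, 3, 0, 3, 1, 2, 0, 1, 2, 0], 499), (55, [1, 2, 0, 3, 3, 1, 2, 0, 2, 2, 1, 3, 0, 1, 3, 0, 3, 3, 1, 2, 0, 3, 1, 3, 0], 11), (95, [1, 3, 0, 3, 1, 2, 0, 3, 3, 1, 3, 0, 2, 1, 2, 0, 2, 2, 2], 588)], 49), ([(91, [1, 2, 0, 1, 2, 0, 2, 2, 1, 2, 0, 3, 1, 3, 0, 3, 1, 2, 0, 1, 2, 0], 499), (92, [2, 1, 3, 0, 3, 1, 3, 0, 2, 1, 2, 0, 3, 1, 3, 0, 1, 3, 0, 2, 1, 2, 0, 3], 588), (60, [2, 2, 1, 3, 0, 3, 1, 2, 0, 2, 2], 11)], 0), ([(97, [1, 2, 0, 1, 2, 0, 2, 2, 1, 2, 0, 3, 1, 3, 0, 3, 1, 2, 0, 1, 2, 0], 556), (59, [1, 2, 0, 3, 3, 1, 2, 0, 2, 2, 1, 3, 0, 1, 3, 0, 3, 3, 1, 2, 0, 3, 1, 3, 0], 143), (55, [3, 3, 1, 2, 0, 3, 3, 1, 3, 0, 2, 1, 2, 0, 2, 2,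 2], 143)], 379), ([(95, [2, 1, 3, 0, 1, 3, 0, 3, 1, 3, 0, 1, 3, 0, 2, 2, 1, 2, 0, 2, 2, 1, 3, 0, 1, 3, 0], 115), (82, [1, 2, 0, 1, 2, 0, 2, 1, 3, 0, 3, 1, 3, 0, 1, 3, 0, 2, 1, 2, 0], 181), (45, [2, 2, 1, 3, 0, 3, 1, 2, 0, 2, 2], 937)], 0), ([(96, [3, 3, 1, 2, 0, 1, 2, 0, 2, 1, 2, 0, 3, 1, 3, 0], 301), (92, [1, 3, 0, 3, 3, 1, 3, 0, 2, 1, 2, 0, 2, 2, 2], 149), (71, [3, 1, 3, 0, 3, 1, 2, 0, 1, 2, 0, 2, 1, 3, 0, 1, 3, 0, 2, 1, 2, 0, 1, 2, 0], 91)], 282), ([(93, [3, 1, 2, 0, 1, 2, 0, 2, 2, 1, 2, 0, 2, 2, 2, 1, 3, 0, 3], 152), (65, [2, 1, 3, 0, 2, 1, 2, 0, 2, 1, 3, 0, 2, 2, 1, 2, 0, 1, 2, 0, 1, 2, 0], 31), (91, [1, 2, 0, 2, 1, 3, 0, 2, 2, 2, 1, 2, 0, 2, 1, 3, 0, 3, 3], 46)], 379), ([(92,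 [1, 2, 0, 2, 2, 1, 3, 0, 1, 3, 0, 3, 3, 1, 2, 0, 2, 1, 2, 0], 38), (59, [1, 2, 0, 3, 1, 3, 0, 1, 3, 0, 2, 1, 2, 0, 1, 2, 0, 2, 1, 2, 0, 1, 2, 0], 204), (66, [2, 2, 1, 3, 0, 3, 1, 2, 0, 2, 2], 204)], 522), ([(92, [1, 2, 0, 1, 2, 0, 2, 2, 1, 2, 0, 3, 1, 3, 0, 3, 1, 2, 0, 1, 2, 0], 18), (71, [2, 1, 3, 0, 1, 3, 0, 3, 1, 3, 0, 1, 3, 0, 2, 2, 1, 2, 0, 2, 2, 1, 3, 0, 1, 3, 0], 93), (96, [1, 2, 0, 3, 1, 3, 0, 2, 1, 2, 0, 1, 2, 0, 3, 1, 3, 0], 2)], 569), ([(97, [1, 2, 0, 3, 1, 3, 0, 3, 1, 2, 0, 2, 1, 2, 0, 1, 2, 0, 3, 3, 1, 3, 0, 1, 3, 0], 543), (71, [3, 1, 2, 0, 2, 1, 2, 0, 3, 1, 3, 0, 3, 1, 2, 0, 2, 2], 194), (98, [3, 1, 2, 0, 3, 1, 3, 0, 3, 1, 2, 0, 2, 1, 2, 0, 1, 2, 0, 1, 2, 0], 313)],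 518), ([(99, [1, 3, 0, 3, 1, 2, 0, 1, 2, 0, 3, 1, 3, 0, 1, 3, 0, 2, 2, 2], 25826), (59, [2, 1, 2, 0, 3, 3, 1, 3, 0, 2, 1, 2, 0, 2, 2, 1, 3, 0, 3, 3], 193), (61, [2, 1, 3, 0, 2, 1, 2, 0, 2], 76)], 3256), ([(99, [1, 3, 0, 3, 3, 1, 2, 0, 1, 2, 0, 3, 1, 3, 0, 3], 22835), (61, [1, 3, 0, 3, 3, 1, 2, 0, 1, 2, 0, 3, 1, 3, 0, 3], 184), (100, [3, 1, 2, 0, 1, 2, 0, 3], 11060)], 22173)],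
[([(0, [], 0), (5, [], 0), (2, [], 24400)], 0), ([(5, [], 90053), (2, [], 24400), (0, [], 0)], 85098), ([(6, [], 90053), (14, [], 2300), (3, [], 24400)], 85098), ([(7, [], 71508), (26, [], 9832), (4, [], 24400)], 2687), ([(8, [], 71508), (12, [], 2300), (1, [], 24400)], 2687), ([(10, [1, 2, 0, 1, 2, 0, 3, 1, 3, 0, 2, 1, 2, 0, 1, 2, 0], 5063), (33, [1, 2, 0, 1, 2, 0, 1, 2, 0, 3], 1420), (12, [2, 2, 2, 1, 2, 0, 2], 4200)], 15056), ([(10, [1, 2, 0, 1, 2, 0, 1, 2, 0, 3], 111136), (31, [1, 2, 0, 1, 2, 0, 3, 1, 3, 0, 2, 1, 2, 0, 1, 2, 0], 238), (5, [2, 2, 2, 1, 2, 0, 2], 100414)], 15056), ([(9, [1, 2, 0, 1, 2, 0, 1, 2, 0, 3], 53887), (23, [2, 2, 1, 2, 0], 270), (14, [2, 2, 2, 1, 2, 0, 2],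 3762)], 16153), ([(9, [1, 2, 0, 1, 2, 0, 3, 1, 3, 0, 2, 1, 2, 0, 1, 2, 0], 62906), (13, [2, 2, 2, 1, 2, 0, 2], 2058), (26, [2, 2, 2, 1, 2, 0, 2], 64047)], 16153), ([(11, [3, 1, 3, 0, 3, 1, 2, 0, 2, 2], 100153), (80, [3, 1, 2, 0, 3, 3, 1, 3, 0, 2, 2, 1, 3, 0], 56), (17, [1, 2, 0, 1, 2, 0, 2, 1, 3, 0, 2], 3587)], 84826), ([(11, [1, 2, 0, 3, 3, 1, 3, 0, 1, 3, 0], 64726), (82, [3, 1, 2, 0, 3, 3, 1, 3, 0, 2, 2, 1, 3, 0], 103), (31, [1, 2, 0, 1, 2, 0, 2, 1, 3, 0, 2], 978)], 68039), ([(9, [2, 2, 1, 2, 0, 2, 2, 1, 3, 0, 1, 3, 0], 92959), (24, [2, 1, 2, 0, 2, 2, 1, 3, 0, 1, 3, 0, 3, 1, 3, 0, 1, 3, 0, 2], 4727), (77, [2, 1, 2, 0, 2, 2, 1, 3, 0, 3], 407)], 113691), ([(17, [1, 2, 0, 1, 2, 0,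 1, 2, 0, 3], 3481), (7, [2, 2, 2, 1, 2, 0, 2], 60574), (27, [2, 2, 2, 1, 2, 0, 2], 64047)], 2812), ([(16, [1, 2, 0, 1, 2, 0, 3, 1, 3, 0, 2, 1, 2, 0, 1, 2, 0], 2274), (31, [1, 2, 0, 1, 2, 0, 1, 2, 0, 3], 853), (6, [2, 2, 2, 1, 2, 0, 2], 36174)], 2812), ([(22, [2, 2, 2, 1, 2, 0, 2, 1, 3, 0, 3, 3], 975), (30, [1, 2, 0, 1, 2, 0, 1, 2, 0, 3], 188), (15, [2, 2, 2, 1, 2, 0, 2], 2361)], 2933), ([(23, [2, 2, 2, 1, 2, 0, 2, 1, 3, 0, 3, 3], 975), (17, [1, 2, 0, 1, 2, 0, 3, 1, 3, 0, 2, 1, 2, 0, 1, 2, 0], 1622), (8, [2, 2, 2, 1, 2, 0, 2], 96600)], 2933), ([(24, [3, 1, 2, 0, 3, 3, 1, 3, 0, 2, 2, 1, 3, 0], 5037), (77, [3, 1, 3, 0, 3, 1, 2, 0, 2, 2], 494), (9, [1, 2, 0, 1, 2, 0, 2, 1, 3, 0, 2], 16036)],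 3165), ([(24, [1, 2, 0, 2, 2, 1, 3, 0, 2, 2, 1, 2, 0, 2, 2], 1777), (87, [3, 1, 3, 0, 1, 3, 0, 2, 2, 1, 2, 0, 2, 1, 3, 0, 3, 3], 31), (33, [1, 2, 0, 1, 2, 0, 2, 1, 3, 0, 2], 1061)], 3619), ([(25, [1, 2, 0, 2, 1, 3, 0, 1, 3, 0, 3, 1, 2, 0, 1, 2, 0, 3, 1, 3, 0, 1, 3, 0], 2744), (49, [2, 2, 1, 3, 0, 3, 1, 2, 0, 2, 1, 2, 0, 1, 2, 0, 3], 154), (19, [2, 1, 2, 0, 3, 3, 1, 2, 0, 1, 2, 0], 2044)], 3631), ([(25, [1, 2, 0, 2, 1, 3, 0, 2, 2, 1, 3, 0, 1, 3, 0], 4143), (64, [3, 3, 1, 2, 0, 3, 1, 3, 0, 2, 2, 1, 3, 0], 69), (47, [1, 2, 0, 1, 2, 0, 2, 1, 3, 0, 3, 3], 230)], 3338), ([(24, [2, 2, 1, 2, 0, 3, 3, 1, 2, 0, 1, 2, 0, 2, 1, 2, 0, 3, 1, 3, 0], 2194), (82, [1, 2, 0, 2, 2, 1, 3, 0, 2, 2, 1,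 2, 0, 2, 2], 117), (34, [1, 2, 0, 1, 2, 0, 2, 1, 3, 0, 3, 3], 1142)], 2664), ([(24, [1, 2, 0, 3, 1, 3, 0, 3, 3, 1, 3, 0, 2, 2, 1, 3, 0, 2, 2], 2014), (86, [3, 1, 3, 0, 1, 3, 0, 2, 2, 1, 2, 0, 2, 1, 3, 0, 3, 3], 135), (49, [1, 2, 0, 1, 2, 0, 2, 1, 3, 0, 3, 3], 176)], 2664), ([(25, [2, 1, 3, 0, 3, 1, 2, 0, 2, 1, 2, 0, 1, 2, 0, 3], 1381), (58, [2, 1, 2, 0, 1, 2, 0, 2, 2, 1, 3, 0, 1, 3, 0, 3, 1, 3, 0, 1, 3, 0], 20), (23, [1, 3, 0, 1, 3, 0, 2, 1, 2, 0, 1, 2, 0, 3], 1343)], 2138), ([(25, [1, 2, 0, 1, 2, 0, 2, 1, 2, 0, 3, 1, 3, 0, 1, 3, 0, 3, 1, 3, 0], 1943), (56, [2, 1, 2, 0, 2, 1, 2, 0], 145), (30, [2, 2, 1, 2, 0, 2, 1, 2, 0], 1341)], 4410), ([(24, [3, 1, 3, 0, 3, 1, 2, 0, 2, 1, 3, 0,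 3, 3], 7), (83, [2, 2, 2, 1, 3, 0, 3, 1, 3, 0, 1, 3, 0, 2, 2, 1, 2, 0, 1, 2, 0, 3], 493), (80, [2, 1, 2, 0, 1, 2, 0, 2, 1, 2, 0, 2, 1, 3, 0, 3, 1, 2, 0, 2], 230)], 1115), ([(24, [3, 3, 1, 3, 0, 3], 3419), (81, [1, 2, 0, 3, 1, 3, 0, 2, 1, 2, 0, 2, 1, 3, 0, 3, 3, 1, 3, 0], 66), (58, [3, 1, 3, 0, 3, 1, 2, 0, 2, 1, 3, 0, 3, 3], 107)], 4816), ([(27, [2, 2, 2, 1, 2, 0, 2], 70823), (17, [1, 2, 0, 1, 2, 0, 1, 2, 0, 3], 3715), (7, [2, 2, 2, 1, 2, 0, 2], 60574)], 41745), ([(26, [2, 2, 2, 1, 2, 0, 2], 70821), (9, [1, 2, 0, 1, 2, 0, 3, 1, 3, 0, 2, 1, 2, 0, 1, 2, 0], 83490), (13, [2, 2, 2, 1, 2, 0, 2], 2058)], 41987), ([(28, [2, 2, 1, 3, 0, 3, 1, 2, 0, 2, 1, 2, 0, 1, 2, 0, 3], 65688), (43, [2,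 1, 3, 0, 1, 3, 0, 2, 1, 2, 0, 1, 2, 0, 2, 2, 2], 97), (36, [2, 1, 2, 0, 3, 3, 1, 2, 0, 1, 2, 0], 658)], 31372), ([(29, [2, 2, 1, 3, 0, 3, 1, 2, 0, 2, 1, 2, 0, 1, 2, 0, 3], 54426), (64, [2, 1, 3, 0, 3, 3, 1, 2, 0, 1, 2, 0, 2, 1, 2, 0, 1, 2, 0, 2, 1, 3, 0], 61), (50, [2, 1, 2, 0, 3, 3, 1, 2, 0, 1, 2, 0], 105)], 37501), ([(40, [3, 1, 2, 0, 3, 3, 1, 3, 0, 2, 2, 1, 3, 0], 1059), (77, [1, 2, 0, 3, 3, 1, 3, 0, 1, 3, 0], 313), (10, [1, 2, 0, 1, 2, 0, 2, 1, 3, 0, 2], 117869)], 926), ([(41, [3, 1, 2, 0, 3, 3, 1, 3, 0, 2, 2, 1, 3, 0], 766), (58, [3, 1, 2, 0, 3, 1, 3, 0, 1, 3, 0, 3], 57), (22, [2, 2, 1, 2, 0, 1, 2, 0], 1649)], 729), ([(42, [3, 1, 2, 0, 3, 3, 1, 3, 0, 2, 2, 1, 3, 0], 1020), (80,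 [2, 1, 3, 0, 1, 3, 0, 2, 1, 2, 0, 1, 2, 0, 2, 2, 2], 243), (16, [1, 2, 0, 1, 2, 0, 2, 1, 3, 0, 2], 2403)], 1143), ([(43, [3, 1, 2, 0, 3, 3, 1, 3, 0, 2, 2, 1, 3, 0], 818), (43, [2, 1, 3, 0, 3, 3, 1, 2, 0, 1, 2, 0, 2, 1, 2, 0, 1, 2, 0, 2, 1, 3, 0], 521), (32, [1, 2, 0, 1, 2, 0, 2, 1, 3, 0, 2], 5)], 749), ([(41, [1, 2, 0, 2, 2, 1, 3, 0, 2, 2, 1, 2, 0, 2, 2], 1194), (47, [2, 2, 1, 3, 0, 3, 1, 2, 0, 2, 1, 2, 0, 1, 2, 0, 3], 127), (21, [2, 1, 2, 0, 3, 3, 1, 2, 0, 1, 2, 0], 511)], 509), ([(43, [1, 2, 0, 3, 1, 3, 0, 3, 3, 1, 3, 0, 2, 2, 1, 3, 0, 2, 2], 151), (36, [2, 2, 1, 3, 0, 3, 1, 2, 0, 2, 1, 2, 0, 1, 2, 0, 3], 558), (28, [2, 1, 2, 0, 3, 3, 1, 2, 0, 1, 2, 0], 631)], 1068), ([(42, [1,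 2, 0, 2, 2, 1, 3, 0, 2, 2, 1, 2, 0, 2, 2], 119), (84, [2, 1, 2, 0, 2, 1, 3, 0, 1, 3, 0, 3, 1, 3, 0], 119), (53, [2, 1, 2, 0, 3, 3, 1, 2, 0, 1, 2, 0], 173)], 618), ([(42, [1, 2, 0, 3, 1, 3, 0, 3, 3, 1, 3, 0, 2, 2, 1, 3, 0, 2, 2], 1091), (81, [2, 1, 3, 0, 1, 3, 0, 2, 1, 2, 0, 1, 2, 0, 2, 2, 2], 55), (46, [1, 2, 0, 1, 2, 0, 2, 1, 3, 0, 3, 3], 180)], 948), ([(41, [1, 2, 0, 3, 1, 3, 0, 3, 3, 1, 3, 0, 2, 2, 1, 3, 0, 2, 2], 183), (56, [1, 2, 0, 2, 2, 1, 3, 0, 2, 2, 1, 2, 0, 2, 2], 77), (39, [2, 1, 2, 0, 3, 3, 1, 2, 0, 1, 2, 0], 905)], 1053), ([(40, [1, 2, 0, 2, 2, 1, 3, 0, 2, 2, 1, 2, 0, 2, 2], 258), (81, [3, 1, 3, 0, 1, 3, 0, 2, 2, 1, 2, 0, 2, 1, 3, 0, 3, 3], 65), (51, [2, 1, 2, 0, 3, 3,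 1, 2, 0, 1, 2, 0], 63)], 562), ([(43, [2, 1, 2, 0, 1, 2, 0, 2, 1, 2, 0, 2, 1, 3, 0, 3, 1, 2, 0, 2], 279), (37, [3, 1, 2, 0, 3, 1, 3, 0, 3], 694), (56, [3, 1, 3, 0, 3, 1, 2, 0, 2, 1, 3, 0, 3, 3], 34)], 1341), ([(41, [2, 1, 3, 0, 3, 1, 3, 0, 1, 3, 0, 3, 1, 2, 0, 1, 2, 0, 2, 1, 3, 0], 1217), (57, [1, 2, 0, 1, 2, 0, 3, 1, 3, 0, 1, 3, 0, 3, 1, 2, 0, 2, 1, 2, 0, 1, 2, 0], 76), (82, [3, 1, 3, 0, 3, 1, 2, 0, 2, 1, 3, 0, 3, 3], 61)], 0), ([(41, [2, 1, 2, 0, 1, 2, 0, 2, 1, 2, 0, 2, 1, 3, 0, 3, 1, 2, 0, 2], 110), (46, [1, 2, 0, 1, 2, 0, 1, 2, 0, 2, 2, 1, 2, 0, 3, 3, 1, 3, 0, 1, 3, 0], 85), (43, [2, 1, 3, 0, 3, 1, 3, 0, 2, 2, 1, 2, 0, 1, 2, 0, 2, 1, 3, 0], 263)], 61), ([(42, [2, 1, 2, 0, 1, 2,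 0, 2, 1, 2, 0, 2, 1, 3, 0, 3, 1, 2, 0, 2], 1213), (79, [3, 1, 2, 0, 1, 2, 0, 2, 2], 359), (87, [1, 3, 0, 3, 1, 3, 0, 1, 3, 0, 2, 2, 1, 3, 0, 2], 190)], 841), ([(43, [2, 2, 1, 2, 0, 2, 2, 1, 2, 0, 3, 1, 3, 0, 3, 1, 2, 0], 441), (41, [2, 1, 3, 0, 3, 3, 1, 2, 0, 3, 1, 3, 0, 3, 3, 1, 2, 0], 392), (67, [1, 3, 0, 2, 1, 2, 0, 2, 1, 3, 0, 3, 1, 2, 0, 1, 2, 0, 1, 2, 0, 3, 1, 3, 0], 119)], 587), ([(40, [1, 2, 0, 2, 1, 3, 0, 1, 3, 0, 3, 1, 2, 0, 1, 2, 0, 3, 1, 3, 0, 1, 3, 0], 368), (91, [2, 2, 1, 2, 0, 2, 1, 3, 0, 3, 1, 2, 0, 3, 3, 1, 2, 0, 2, 1, 2, 0, 3], 379), (94, [3, 1, 3, 0, 3, 1, 2, 0, 2, 1, 3, 0, 3, 3], 211)], 0), ([(64, [2, 1, 3, 0, 1, 3, 0, 2, 1, 2, 0, 1, 2, 0, 2, 2, 2], 214), (58,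 [1, 2, 0, 2, 1, 3, 0, 1, 3, 0, 3, 1, 2, 0, 1, 2, 0, 3, 1, 3, 0, 1, 3, 0], 176), (18, [1, 2, 0, 1, 2, 0, 2, 1, 3, 0, 3, 3], 4205)], 122), ([(63, [2, 2, 1, 3, 0, 1, 3, 0, 2, 1, 2, 0, 1, 2, 0, 2, 2], 160), (87, [3, 3, 1, 2, 0, 3, 1, 3, 0, 2, 2, 1, 3, 0], 19), (37, [2, 1, 2, 0, 3, 3, 1, 2, 0, 1, 2, 0], 308)], 132), ([(65, [2, 2, 1, 2, 0, 1, 2, 0, 1, 2, 0, 2, 2, 2, 1, 3, 0, 3, 3], 139), (80, [1, 2, 0, 2, 2, 1, 3, 0, 2, 2, 1, 2, 0, 2, 2], 334), (20, [1, 2, 0, 1, 2, 0, 2, 1, 3, 0, 3, 3], 4585)], 149), ([(65, [2, 2, 1, 3, 0, 2, 1, 2, 0, 2, 2, 1, 2, 0, 1, 2, 0, 3, 1, 3, 0], 83), (84, [2, 1, 3, 0, 3, 1, 3, 0, 1, 3, 0, 3, 1, 2, 0, 2, 1, 3, 0, 2, 2], 268), (48, [2, 1, 2, 0, 3, 3, 1, 2, 0, 1,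 2, 0], 186)], 151), ([(63, [2, 2, 1, 2, 0, 3, 3, 1, 2, 0, 1, 2, 0, 2, 1, 2, 0, 3, 1, 3, 0], 185), (82, [1, 2, 0, 3, 1, 3, 0, 3, 3, 1, 3, 0, 2, 2, 1, 3, 0, 2, 2], 49), (38, [2, 1, 2, 0, 3, 3, 1, 2, 0, 1, 2, 0], 1125)], 82), ([(64, [3, 1, 3, 0, 1, 3, 0, 2, 2, 1, 2, 0, 2, 1, 3, 0, 3, 3], 156), (50, [2, 2, 1, 3, 0, 3, 1, 2, 0, 2, 1, 2, 0, 1, 2, 0, 3], 71), (29, [2, 1, 2, 0, 3, 3, 1, 2, 0, 1, 2, 0], 9277)], 82), ([(57, [1, 2, 0, 3, 1, 3, 0, 2, 1, 2, 0, 2, 2, 1, 3, 0, 1, 3, 0, 2], 63), (87, [2, 1, 3, 0, 1, 3, 0, 2, 1, 2, 0, 1, 2, 0, 2, 2, 2], 87), (35, [2, 1, 2, 0, 3, 3, 1, 2, 0, 1, 2, 0], 1193)], 205), ([(58, [2, 2, 2, 1, 2, 0, 1, 2, 0, 2, 1, 2, 0, 3, 1, 3, 0, 1, 3, 0], 185), (25, [1,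 2, 0, 3, 1, 3, 0, 2, 1, 2, 0, 2, 2, 1, 3, 0, 1, 3, 0, 2], 895), (52, [2, 1, 2, 0, 3, 3, 1, 2, 0, 1, 2, 0], 195)], 79), ([(60, [1, 2, 0, 2, 1, 3, 0, 1, 3, 0, 3, 1, 2, 0, 1, 2, 0, 3, 1, 3, 0, 1, 3, 0], 14), (91, [1, 2, 0, 1, 2, 0, 2, 2, 1, 2, 0, 3, 3, 1, 2, 0, 3, 1, 3, 0], 499), (92, [3, 1, 3, 0, 3, 1, 2, 0, 2, 1, 3, 0, 3, 3], 490)], 0), ([(59, [1, 2, 0, 2, 1, 3, 0, 1, 3, 0, 3, 1, 2, 0, 1, 2, 0, 3, 1, 3, 0, 1, 3, 0], 14), (54, [3, 1, 3, 0, 3, 3, 1, 2, 0, 2, 2, 1, 2, 0, 3, 1, 3, 0, 3, 1, 2, 0], 91), (89, [3, 1, 3, 0, 3, 1, 2, 0, 2, 1, 3, 0, 3, 3], 485)], 0), ([(47, [1, 3, 0, 2, 1, 2, 0, 2, 1, 2, 0, 1, 2, 0, 1, 2, 0], 7), (21, [1, 2, 0, 1, 2, 0, 1, 2, 0, 2, 2, 1, 2, 0, 3, 3, 1, 3, 0,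 1, 3, 0], 1053), (41, [2, 1, 3, 0, 3, 1, 3, 0, 2, 2, 1, 2, 0, 1, 2, 0, 2, 1, 3, 0], 302)], 12), ([(60, [1, 2, 0, 1, 2, 0, 2, 1, 2, 0, 3, 1, 3, 0, 1, 3, 0, 3, 1, 3, 0], 68), (80, [2, 2, 1, 2, 0, 2, 2, 1, 2, 0, 3, 1, 3, 0, 3, 1, 2, 0], 198), (25, [3, 1, 3, 0, 3, 1, 2, 0, 2, 1, 3, 0, 3, 3], 227)], 184), ([(64, [1, 2, 0, 3, 1, 3, 0, 2, 1, 2, 0, 2, 1, 3, 0, 3, 3, 1, 3, 0], 115), (54, [1, 2, 0, 3, 1, 3, 0, 2, 1, 2, 0, 1, 2, 0, 2, 1, 2, 0], 85), (84, [2, 2, 1, 2, 0, 3, 1, 3, 0, 1, 3, 0, 3, 1, 3, 0, 2, 1, 2, 0, 2], 107)], 31), ([(67, [2, 1, 3, 0, 3, 1, 3, 0, 1, 3, 0, 3, 1, 2, 0, 1, 2, 0, 2, 1, 3, 0], 91), (42, [1, 2, 0, 3, 1, 3, 0, 3, 1, 2, 0, 2, 1, 3, 0, 1, 3, 0], 1048), (90, [3, 1, 3, 0,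 3, 1, 2, 0, 2, 1, 3, 0, 3, 3], 362)], 146), ([(66, [2, 1, 3, 0, 3, 1, 3, 0, 1, 3, 0, 3, 1, 2, 0, 1, 2, 0, 2, 1, 3, 0], 91), (92, [1, 2, 0, 2, 2, 1, 2, 0, 2, 2, 1, 3, 0, 3, 1, 3, 0, 2, 1, 2, 0, 3, 1, 3, 0], 376), (59, [2, 1, 3, 0, 3, 3, 1, 3, 0, 3, 3, 1, 3, 0, 1, 3, 0, 3, 1, 3, 0], 204)], 204), ([(60, [2, 1, 3, 0, 2, 2, 1, 3, 0, 3, 3, 1, 2, 0, 3, 3, 1, 2, 0, 2], 11), (89, [2, 1, 2, 0, 3, 1, 3, 0, 3, 3, 1, 3, 0, 2, 2, 1, 2, 0, 3, 1, 3, 0], 327), (68, [1, 3, 0, 3, 1, 2, 0, 3, 3, 1, 2, 0, 1, 2, 0, 2, 1, 3, 0], 204)], 143), ([(59, [2, 1, 3, 0, 2, 2, 1, 3, 0, 3, 3, 1, 2, 0, 3, 3, 1, 2, 0, 2], 11), (61, [3, 3, 1, 3, 0, 3, 1, 2, 0, 2, 1, 3, 0, 3, 3], 134), (99, [2, 2, 2, 1, 3, 0, 2, 1, 2,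 0, 3, 1, 3, 0], 7222)], 76), ([(58, [2, 2, 1, 2, 0, 1, 2, 0, 2, 1, 3, 0, 3, 1, 3, 0, 2, 2], 199), (18, [2, 2, 1, 3, 0, 2, 1, 2, 0, 2, 2, 1, 3, 0], 4081), (64, [2, 2, 1, 2, 0, 3, 3, 1, 2, 0, 1, 2, 0, 2, 1, 3, 0, 1, 3, 0], 221)], 207), ([(51, [3, 1, 2, 0, 3, 1, 3, 0, 3], 177), (40, [2, 2, 2, 1, 3, 0, 3, 1, 3, 0, 1, 3, 0, 2, 2, 1, 2, 0, 1, 2, 0, 3], 65), (81, [3, 1, 3, 0, 3, 1, 2, 0, 2, 1, 3, 0, 3, 3], 65)], 0), ([(54, [3, 1, 3, 0, 2, 1, 2, 0, 2, 1, 3, 0, 3, 1, 2, 0, 2, 1, 2, 0, 1, 2, 0, 3], 48), (83, [3, 3, 1, 3, 0, 3, 3, 1, 3, 0, 1, 3, 0, 2], 261), (86, [3, 1, 2, 0, 3, 3, 1, 3, 0, 3], 170)], 113), ([(60, [2, 1, 3, 0, 3, 1, 3, 0, 1, 3, 0, 3, 1, 2, 0, 1, 2, 0, 2, 1, 3, 0], 93), (87,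 [1, 2, 0, 1, 2, 0, 2, 1, 2, 0, 3, 1, 3, 0, 1, 3, 0, 3, 1, 3, 0], 238), (44, [2, 1, 3, 0, 3, 1, 2, 0, 2, 1, 3, 0, 2, 1, 2, 0, 2, 1, 2, 0], 968)], 177), ([(59, [2, 1, 3, 0, 3, 1, 3, 0, 1, 3, 0, 3, 1, 2, 0, 1, 2, 0, 2, 1, 3, 0], 93), (55, [1, 2, 0, 1, 2, 0, 2, 1, 2, 0, 1, 2, 0, 2, 2, 2, 1, 2, 0, 2, 1, 2, 0, 1, 2, 0], 143), (97, [3, 1, 3, 0, 3, 1, 2, 0, 2, 1, 3, 0, 3, 3], 53)], 0), ([(55, [2, 1, 3, 0, 2, 2, 1, 3, 0, 3, 3, 1, 2, 0, 3, 3, 1, 2, 0, 2], 11), (92, [2, 1, 3, 0, 2, 2, 1, 3, 0, 3, 3, 1, 2, 0, 3, 3, 1, 2, 0, 2], 484), (69, [1, 2, 0, 2, 2, 1, 3, 0, 2, 1, 2, 0, 3, 1, 3, 0], 235)], 152), ([(54, [2, 1, 3, 0, 2, 2, 1, 3, 0, 3, 3, 1, 2, 0, 3, 3, 1, 2, 0, 2], 11), (90, [2, 1, 2, 0, 3,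 1, 3, 0, 3, 3, 1, 3, 0, 2, 2, 1, 2, 0, 3, 1, 3, 0], 348), (62, [2, 1, 3, 0, 2, 2, 2, 1, 3, 0, 2, 1, 2, 0, 3, 1, 3, 0], 51)], 76), ([(55, [1, 2, 0, 2, 1, 3, 0, 1, 3, 0, 3, 1, 2, 0, 1, 2, 0, 3, 1, 3, 0, 1, 3, 0], 146), (96, [1, 2, 0, 1, 2, 0, 2, 2, 1, 2, 0, 3, 3, 1, 2, 0, 3, 1, 3, 0], 556), (93, [2, 1, 3, 0, 3, 1, 2, 0, 2, 1, 3, 0, 2, 1, 2, 0, 2, 1, 2, 0], 424)], 56), ([(54, [1, 2, 0, 2, 1, 3, 0, 1, 3, 0, 3, 1, 2, 0, 1, 2, 0, 3, 1, 3, 0, 1, 3, 0], 146), (86, [1, 3, 0, 2, 1, 2, 0, 2, 1, 3, 0, 3, 1, 2, 0, 1, 2, 0, 2], 126), (70, [3, 3, 1, 3, 0, 3], 77)], 146), ([(55, [2, 1, 3, 0, 3, 3, 1, 3, 0, 1, 3, 0, 3, 3, 1, 2, 0, 1, 2, 0], 105), (92, [1, 3, 0, 2, 2, 1, 3, 0, 2, 1, 2, 0, 2, 2, 1,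 3, 0, 3, 1, 2, 0, 3], 480), (72, [2, 1, 3, 0, 2, 2, 1, 3, 0, 1, 3, 0, 3, 3, 1, 2, 0, 3, 1, 3, 0, 2, 1, 2, 0], 146)], 220), ([(54, [2, 1, 3, 0, 3, 3, 1, 3, 0, 1, 3, 0, 3, 3, 1, 2, 0, 1, 2, 0], 105), (81, [3, 1, 3, 0, 1, 3, 0, 2, 2, 1, 2, 0, 2, 2, 1, 2, 0, 3], 23), (73, [1, 3, 0, 2, 1, 2, 0, 2, 2, 1, 2, 0, 1, 2, 0, 1, 2, 0, 3, 1, 3, 0, 3, 1, 2, 0], 55)], 34), ([(71, [2, 1, 3, 0, 3, 3, 1, 3, 0, 1, 3, 0, 3, 3, 1, 2, 0, 1, 2, 0], 217), (93, [2, 1, 2, 0, 2, 1, 2, 0, 3, 1, 3, 0, 1, 3, 0, 2, 1, 2, 0, 1, 2, 0], 536), (74, [1, 2, 0, 2, 1, 3, 0, 2, 2, 1, 3, 0, 2, 1, 2, 0, 2, 1, 2, 0, 3, 3, 1, 2, 0], 145)], 159), ([(70, [2, 1, 3, 0, 3, 3, 1, 3, 0, 1, 3, 0, 3, 3, 1, 2, 0, 1, 2, 0], 217), (59,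 [1, 2, 0, 3, 1, 3, 0, 3, 1, 2, 0, 2, 1, 2, 0, 1, 2, 0, 1, 2, 0, 3, 1, 3, 0], 122), (75, [2, 2, 1, 3, 0, 1, 3, 0, 3, 1, 2, 0, 2, 1, 2, 0, 1, 2, 0, 1, 2, 0, 2], 183)], 68), ([(80, [2, 1, 2, 0, 2, 2, 1, 3, 0, 1, 3, 0, 3, 1, 3, 0, 1, 3, 0, 2], 179), (17, [2, 2, 1, 2, 0, 2, 2, 1, 3, 0, 1, 3, 0], 3150), (11, [2, 1, 2, 0, 2, 2, 1, 3, 0, 3], 120802)], 220), ([(81, [2, 1, 2, 0, 2, 2, 1, 3, 0, 1, 3, 0, 3, 1, 3, 0, 1, 3, 0, 2], 132), (65, [1, 2, 0, 1, 2, 0, 2, 1, 3, 0, 2, 2, 1, 2, 0, 1, 2, 0, 1, 2, 0], 108), (78, [3, 1, 2, 0, 1, 2, 0, 2, 2], 13)], 17), ([(84, [1, 2, 0, 2, 1, 2, 0, 1, 2, 0, 1, 2, 0, 2, 2, 1, 3, 0], 240), (57, [1, 3, 0, 3, 1, 2, 0, 3, 3, 1, 3, 0, 3, 3, 1, 2, 0], 222), (79, [2,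 1, 3, 0, 1, 3, 0, 2, 2, 1, 2, 0], 447)], 121), ([(85, [1, 2, 0, 2, 1, 2, 0, 1, 2, 0, 1, 2, 0, 2, 2, 1, 3, 0], 240), (83, [2, 1, 3, 0, 3, 1, 3, 0, 2, 1, 2, 0, 2, 1, 3, 0, 3, 1, 3, 0, 1, 3, 0], 211), (76, [2, 2, 1, 3, 0, 2, 2, 1, 2, 0], 485)], 113), ([(83, [2, 2, 1, 2, 0, 3, 3, 1, 2, 0, 1, 2, 0, 2, 1, 3, 0, 1, 3, 0], 180), (84, [1, 2, 0, 1, 2, 0, 2, 2, 1, 3, 0, 3, 3, 1, 2, 0, 1, 2, 0, 3], 5), (63, [3, 1, 3, 0, 3, 1, 2, 0, 2, 1, 3, 0, 3, 3], 119)], 462), ([(83, [2, 2, 2, 1, 3, 0, 3, 1, 3, 0, 1, 3, 0, 2, 2, 1, 2, 0, 1, 2, 0, 3], 76), (80, [2, 1, 2, 0, 1, 2, 0, 2, 1, 2, 0, 2, 1, 3, 0, 3, 1, 2, 0, 2], 230), (24, [3, 1, 3, 0, 3, 1, 2, 0, 2, 1, 3, 0, 3, 3], 3873)], 300), ([(85, [1, 2, 0,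 2, 1, 3, 0, 2, 2, 1, 2, 0, 2, 2, 1, 3, 0, 1, 3, 0], 253), (78, [2, 1, 2, 0, 2, 1, 2, 0], 79), (83, [2, 1, 2, 0, 2, 2, 1, 3, 0, 1, 3, 0, 3, 1, 3, 0, 1, 3, 0, 2], 474)], 383), ([(85, [2, 1, 2, 0, 2, 1, 3, 0, 3, 3, 1, 2, 0, 1, 2, 0, 2, 1, 2, 0, 2, 1, 3, 0], 84), (87, [2, 2, 2, 1, 3, 0, 3, 1, 3, 0, 1, 3, 0, 2, 2, 1, 2, 0, 1, 2, 0, 3], 395), (40, [3, 1, 3, 0, 3, 1, 2, 0, 2, 1, 3, 0, 3, 3], 241)], 0), ([(87, [1, 3, 0, 3, 1, 2, 0, 3, 1, 3, 0, 3], 386), (40, [2, 1, 3, 0, 2, 2, 1, 2, 0, 1, 2, 0, 3, 1, 3, 0, 2, 1, 2, 0, 1, 2, 0], 225), (85, [3, 1, 2, 0, 2, 2, 2, 1, 3, 0, 3, 3, 1, 2, 0], 177)], 212), ([(86, [1, 2, 0, 3, 1, 3, 0, 2, 1, 2, 0, 2, 2, 1, 3, 0, 3, 3, 1, 2, 0], 423), (48, [1, 2, 0,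 1, 2, 0, 3, 1, 3, 0, 3, 1, 2, 0, 2], 87), (57, [2, 1, 3, 0, 1, 3, 0, 3, 3, 1, 2, 0, 3, 1, 3, 0, 2, 2, 2], 221)], 279), ([(81, [2, 2, 1, 2, 0, 3, 3, 1, 2, 0, 1, 2, 0, 2, 1, 3, 0, 1, 3, 0], 452), (46, [2, 2, 1, 3, 0, 2, 1, 2, 0, 2, 2, 1, 3, 0], 202), (42, [3, 1, 2, 0, 1, 2, 0, 2, 2, 1, 2, 0, 2, 2, 2], 1415)], 402), ([(81, [2, 2, 2, 1, 3, 0, 3, 1, 3, 0, 1, 3, 0, 2, 2, 1, 2, 0, 1, 2, 0, 3], 281), (64, [2, 1, 3, 0, 3, 1, 3, 0, 2, 2, 1, 2, 0, 1, 2, 0, 2, 1, 3, 0], 188), (65, [1, 2, 0, 1, 2, 0, 1, 2, 0, 2, 1, 3, 0, 3, 1, 2, 0, 2, 1, 3, 0], 130)], 244), ([(89, [3, 1, 3, 0, 3, 3, 1, 2, 0, 2, 2, 1, 2, 0, 3, 1, 3, 0, 3, 1, 2, 0], 325), (59, [1, 2, 0, 3, 1, 3, 0, 1, 3, 0, 3, 1, 3, 0, 2, 1, 2,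 0, 3, 1, 3, 0, 3, 1, 2, 0], 11), (54, [3, 1, 3, 0, 3, 1, 2, 0, 2, 1, 3, 0, 3, 3], 93)], 26), ([(88, [3, 1, 3, 0, 3, 3, 1, 2, 0, 2, 2, 1, 2, 0, 3, 1, 3, 0, 3, 1, 2, 0], 325), (88, [1, 2, 0, 2, 1, 2, 0, 3, 1, 3, 0, 2, 2, 2, 1, 3, 0, 3, 1, 2, 0], 478), (88, [2, 1, 2, 0, 2, 1, 3, 0, 2, 1, 2, 0, 2, 1, 3, 0, 3, 1, 2, 0, 2, 2, 2], 478)], 194), ([(86, [2, 1, 2, 0, 1, 2, 0, 3, 1, 3, 0, 1, 3, 0, 2, 1, 2, 0, 3, 1, 3, 0, 1, 3, 0], 227), (71, [1, 2, 0, 3, 1, 3, 0, 2, 1, 2, 0, 1, 2, 0, 2, 1, 2, 0], 120), (95, [2, 2, 1, 2, 0, 3, 3, 1, 2, 0, 2, 2, 2, 1, 2, 0, 1, 2, 0, 2], 161)], 185), ([(87, [3, 3, 1, 3, 0, 3, 3, 1, 3, 0, 1, 3, 0, 2], 25), (44, [2, 1, 2, 0, 1, 2, 0, 1, 2, 0, 2, 2, 2, 1, 2, 0, 1,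 2, 0, 1, 2, 0, 2, 2], 1049), (60, [3, 1, 3, 0, 3, 1, 2, 0, 2, 1, 3, 0, 3, 3], 104)], 0), ([(95, [2, 1, 2, 0, 1, 2, 0, 2, 1, 2, 0, 2, 2, 1, 3, 0, 3, 1, 2, 0, 2, 1, 2, 0, 3], 580), (90, [2, 1, 3, 0, 1, 3, 0, 3, 3, 1, 2, 0, 3, 1, 3, 0, 2, 2, 2], 325), (55, [2, 1, 2, 0, 2, 1, 3, 0, 2, 1, 2, 0, 2, 1, 3, 0, 3, 1, 2, 0, 2, 2, 2], 11)], 379), ([(97, [2, 1, 2, 0, 2, 1, 3, 0, 1, 3, 0, 2, 1, 2, 0, 1, 2, 0, 2, 2, 1, 2, 0, 1, 2, 0], 403), (56, [1, 2, 0, 2, 1, 3, 0, 1, 3, 0, 3, 1, 2, 0, 1, 2, 0, 3, 1, 3, 0, 1, 3, 0], 195), (45, [3, 1, 3, 0, 3, 1, 2, 0, 2, 1, 3, 0, 3, 3], 95)], 0), ([(95, [1, 2, 0, 3, 1, 3, 0, 3, 1, 2, 0, 3, 3, 1, 3, 0, 2, 2, 2], 329), (86, [2, 2, 2, 1, 3, 0, 3, 3, 1, 2, 0, 1, 2,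 0], 141), (71, [1, 3, 0, 2, 1, 2, 0, 2, 1, 3, 0, 3, 1, 2, 0, 1, 2, 0, 1, 2, 0, 3, 1, 3, 0], 89)], 282), ([(92, [2, 1, 2, 0, 1, 2, 0, 2, 1, 2, 0, 2, 2, 1, 3, 0, 3, 1, 2, 0, 2, 1, 2, 0, 3], 510), (60, [3, 1, 2, 0, 2, 2, 1, 2, 0, 2, 2, 1, 2, 0, 3, 1, 3, 0, 3, 1, 2, 0], 11), (91, [1, 3, 0, 3, 3, 1, 2, 0, 2, 1, 3, 0, 3, 3], 499)], 379), ([(92, [1, 2, 0, 1, 2, 0, 2, 1, 2, 0, 1, 2, 0, 2, 2, 2, 1, 2, 0, 2, 1, 2, 0, 1, 2, 0], 629), (59, [2, 1, 3, 0, 3, 3, 1, 2, 0, 1, 2, 0, 2, 1, 2, 0, 1, 2, 0, 3, 3], 204), (66, [3, 1, 3, 0, 3, 1, 2, 0, 2, 1, 3, 0, 3, 3], 11)], 522), ([(92, [3, 1, 2, 0, 2, 2, 2, 1, 2, 0, 2, 1, 3, 0, 3, 3], 633), (71, [1, 2, 0, 1, 2, 0, 2, 2, 1, 2, 0, 3, 3, 1, 2, 0, 3, 1, 3,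 0], 93), (96, [3, 3, 1, 3, 0, 3], 169)], 517), ([(96, [2, 1, 3, 0, 3, 1, 2, 0, 3, 1, 3, 0, 2, 1, 2, 0, 1, 2, 0], 609), (98, [1, 3, 0, 1, 3, 0, 2, 2, 2, 1, 2, 0, 2, 1, 3, 0, 2], 231), (98, [1, 3, 0, 1, 3, 0, 2, 1, 2, 0, 1, 2, 0], 206)], 518), ([(99, [3, 3, 1, 3, 0, 3, 1, 2, 0, 2, 1, 3, 0, 3, 3], 24842), (59, [2, 2, 1, 2, 0, 3, 1, 3, 0, 3, 1, 2, 0, 2, 1, 3, 0, 2, 2, 2], 193), (61, [2, 2, 2, 1, 3, 0, 2, 1, 2, 0, 3, 1, 3, 0], 172)], 3089), ([(99, [3, 1, 2, 0, 2, 1, 2, 0, 1, 2, 0, 2, 1, 3, 0, 3, 1, 3, 0], 30719), (61, [3, 1, 2, 0, 2, 1, 2, 0, 1, 2, 0, 2, 1, 3, 0, 3, 1, 3, 0], 228), (100, [2, 1, 3, 0, 2, 2, 2], 5595)], 25728)]]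

end CfsgLib.InvChar.SporHN
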